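import Cfsg.Agent.Lib.Presented.Fi24Mult.Double

/-!
The kernel of a finite stem extension of Fi24' is an image of the cyclic group of order three.
-/
set_option autoImplicit false
set_option maxRecDepth 8000
set_option linter.constructorNameAsVariable false

namespace CfsgLib.Fi24Mult

open CfsgLib.Presented Cfsg.Spor
open scoped commutatorElement

theorem stem_bound (I : Input) {Γ : Type*} [Group Γ] [Finite Γ] (σ : Γ →* Cfsg.Spor.Fi24')
    (hσ : Cfsg.IsStemExtension σ) :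
    ∃ f : Multiplicative (ZMod 3) →* σ.ker, Function.Surjective f := by
  obtain ⟨hsur, hc, hder⟩ := hσ
  have hl : ev 0 * ev 0 = 1 := ev_sq (by decide)
  let s : Γ →* Cfsg.Spor.Fi24 := (commutator Cfsg.Spor.Fi24).subtype.comp σ
  have hsrange : s.range = commutator Cfsg.Spor.Fi24 := by
    rw [MonoidHom.range_comp, MonoidHom.range_eq_top.2 hsur, ← MonoidHom.range_eq_map, Subgroup.range_subtype]
  have hsker : s.ker = σ.ker := by
    ext g
    simp [s, MonoidHom.mem_ker]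
  have hΓ : commutator Γ = ⊤ := by
    refine eq_top_iff.2 fun g _ => ?_
    have h : s g ∈ (commutator Γ).map s := by
      rw [commutator_def, Subgroup.map_commutator, ← MonoidHom.range_eq_map, hsrange, derived_perfect I]
      exact hsrange ▸ ⟨g, rfl⟩
    obtain ⟨g', hg', e⟩ := h
    have hk : g'⁻¹ * g ∈ σ.ker := by
      rw [← hsker, MonoidHom.mem_ker, map_mul, map_inv, e, inv_mul_cancel]
    have := mul_mem hg' (hder hk)
    rwa [mul_inv_cancel_left] at this
  let P : Subgroup (Γ × Γ) :=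
    { carrier := {q | s q.2 = ev 0 * s q.1 * ev 0}
      one_mem' := by simp [hl]
      mul_mem' := fun {q r} hq hr => by
        simp only [Set.mem_setOf_eq, Prod.fst_mul, Prod.snd_mul, map_mul] at *
        rw [hq, hr]
        calc _ = ev 0 * s q.1 * (ev 0 * ev 0) * s r.1 * ev 0 := by simp only [mul_assoc]
          _ = _ := by rw [hl, mul_one, mul_assoc (ev 0)]
      inv_mem' := fun {q} hq => by
        simp only [Set.mem_setOf_eq, Prod.fst_inv, Prod.snd_inv, map_inv] at *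
        rw [hq, mul_inv_rev, mul_inv_rev, inv_eq_of_mul_eq_one_right hl, mul_assoc] }
  have hPmem : ∀ g : Γ, ∃ h, (g, h) ∈ P := fun g => by
    have h : ev 0 * s g * (ev 0)⁻¹ ∈ commutator Cfsg.Spor.Fi24 :=
      (inferInstance : (commutator Cfsg.Spor.Fi24).Normal).conj_mem _ (hsrange ▸ ⟨g, rfl⟩) _
    rw [inv_eq_of_mul_eq_one_right hl] at h
    obtain ⟨x, hx⟩ := (hsrange ▸ h : ev 0 * s g * ev 0 ∈ s.range)
    exact ⟨x, hx⟩
  let V := ⁅P, P⁆
  have hVP : V ≤ P := Subgroup.commutator_le_self P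
  have hV1 : ∀ g : Γ, ∃ h, (g, h) ∈ V := by
    intro g
    have hP : P.map (MonoidHom.fst Γ Γ) = ⊤ :=
      eq_top_iff.2 fun a _ => by
        obtain ⟨h, hh⟩ := hPmem a
        exact ⟨(a, h), hh, rfl⟩
    have hg : g ∈ V.map (MonoidHom.fst Γ Γ) := by
      rw [Subgroup.map_commutator, hP, ← commutator_def, hΓ]
      trivial
    obtain ⟨⟨a, b⟩, hab, rfl⟩ := hg
    exact ⟨b, hab⟩
  have hcen : ∀ q : Γ × Γ, s q.1 = 1 → s q.2 = 1 → ∀ r : Γ × Γ, Commute q r := fun q h1 h2 r => by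
    have h1' := (Subgroup.mem_center_iff.1 (hc (hsker.le (MonoidHom.mem_ker.2 h1))) r.1).symm
    have h2' := (Subgroup.mem_center_iff.1 (hc (hsker.le (MonoidHom.mem_ker.2 h2))) r.2).symm
    exact Prod.ext h1' h2'
  have hVV : ⁅V, V⁆ = V := by
    refine le_antisymm (Subgroup.commutator_le_self V) ?_
    have hsplit : ∀ q ∈ P, ∃ v ∈ V, ∀ r, Commute (v⁻¹ * q) r := by
      intro q hq
      obtain ⟨h, hh⟩ := hV1 q.1
      refine ⟨(q.1, h), hh, hcen _ ?_ ?_⟩
      · simp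
      · have := mul_mem (inv_mem (hVP hh)) hq
        have e : s ((q.1, h)⁻¹ * q).2 = ev 0 * s ((q.1, h)⁻¹ * q).1 * ev 0 := this
        simpa [hl] using e
    rw [Subgroup.commutator_le]
    intro q hq r hr
    obtain ⟨v, hv, hvc⟩ := hsplit q hq
    obtain ⟨w, hw, hwc⟩ := hsplit r hr
    have e : ⁅q, r⁆ = ⁅v, w⁆ := by
      obtain ⟨z, rfl⟩ : ∃ z, q = v * z := ⟨v⁻¹ * q, (mul_inv_cancel_left _ _).symm⟩
      obtain ⟨y, rfl⟩ : ∃ y, r = w * y := ⟨w⁻¹ * r, (mul_inv_cancel_left _ _).symm⟩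
      simp only [inv_mul_cancel_left] at hvc hwc
      calc ⁅v * z, w * y⁆ = v * (z * (w * y) * z⁻¹) * v⁻¹ * (w * y)⁻¹ := by
            rw [commutatorElement_def]; group
        _ = v * w * (y * v⁻¹ * y⁻¹) * w⁻¹ := by
            rw [(hvc (w * y)).eq, mul_inv_cancel_right]; group
        _ = ⁅v, w⁆ := by rw [(hwc v⁻¹).eq, mul_inv_cancel_right, commutatorElement_def]
    rw [e]
    exact Subgroup.commutator_mem_commutator hv hw
  let sw : Γ × Γ ≃* Γ × Γ := MulEquiv.prodComm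
  have hPsw : P.map sw.toMonoidHom = P := by
    have h : ∀ q ∈ P, sw q ∈ P := by
      intro q (hq : s q.2 = ev 0 * s q.1 * ev 0)
      show s q.1 = ev 0 * s q.2 * ev 0
      rw [hq]
      calc s q.1 = ev 0 * ev 0 * s q.1 * (ev 0 * ev 0) := by rw [hl, one_mul, mul_one]
        _ = _ := by simp only [mul_assoc]
    refine le_antisymm (by rintro _ ⟨q, hq, rfl⟩; exact h q hq) fun q hq => ⟨sw q, h q hq, ?_⟩
    exact Prod.ext rfl rfl
  have hVsw : V.map sw.toMonoidHom = V := by rw [Subgroup.map_commutator, hPsw]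
  let τ : MulAut V :=
    { toFun := fun v => ⟨sw v, hVsw.le ⟨v, v.2, rfl⟩⟩
      invFun := fun v => ⟨sw v, hVsw.le ⟨v, v.2, rfl⟩⟩
      left_inv := fun v => Subtype.ext (Prod.ext rfl rfl)
      right_inv := fun v => Subtype.ext (Prod.ext rfl rfl)
      map_mul' := fun _ _ => Subtype.ext (map_mul sw _ _) }
  let p : V →* Cfsg.Spor.Fi24 := s.comp ((MonoidHom.fst Γ Γ).comp V.subtype)
  have hVperf : commutator V = ⊤ := by
    refine Subgroup.map_injective V.subtype_injective ?_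
    rw [commutator_def, Subgroup.map_commutator, ← MonoidHom.range_eq_map, Subgroup.range_subtype, hVV]
  have hp : p.range = commutator Cfsg.Spor.Fi24 := by
    refine le_antisymm ?_ fun g hg => ?_
    · rintro _ ⟨v, rfl⟩; exact hsrange.le ⟨v.1.1, rfl⟩
    · obtain ⟨a, rfl⟩ := (hsrange ▸ hg : g ∈ s.range)
      obtain ⟨b, hb⟩ := hV1 a
      exact ⟨⟨_, hb⟩, rfl⟩
  have hpc : p.ker ≤ Subgroup.center V := by
    intro v (hv : s v.1.1 = 1)
    rw [Subgroup.mem_center_iff]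
    intro w
    refine Subtype.ext ((hcen v.1 hv ?_ w.1).eq.symm)
    have e : s v.1.2 = ev 0 * s v.1.1 * ev 0 := hVP v.2
    rw [e, hv, mul_one, hl]
  obtain ⟨z, hz, hz3, hzle⟩ := ker_bound I hVperf p hp hpc τ
    (MulEquiv.ext fun v => Subtype.ext (Prod.ext rfl rfl)) (fun v => by
      show s v.1.2 = ev 0 * s v.1.1 * ev 0
      exact hVP v.2)
  have hzσ : z.1.1 ∈ σ.ker := hsker.le hz
  let ζ : σ.ker := ⟨z.1.1, hzσ⟩
  have hζ : ζ ^ 3 = 1 := Subtype.ext (by
    have e : (z ^ 3).1.1 = (1 : Γ) := by rw [hz3]; rfl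
    simpa [ζ] using e)
  refine ⟨⟨⟨fun a => ζ ^ a.toAdd.val, by simp⟩, fun a b => ?_⟩, fun w => ?_⟩
  · show ζ ^ (a.toAdd + b.toAdd).val = ζ ^ a.toAdd.val * ζ ^ b.toAdd.val
    rw [ZMod.val_add, ← pow_add, ← pow_eq_pow_mod _ hζ]
  · obtain ⟨b, hb⟩ := hV1 w.1
    obtain ⟨k, hk⟩ := hzle ⟨_, hb⟩ (show s w.1 = 1 by rw [← MonoidHom.mem_ker, hsker]; exact w.2)
    refine ⟨Multiplicative.ofAdd (k : ZMod 3), Subtype.ext ?_⟩
    have e : z.1.1 ^ k = w.1 := by
      have := congrArg (fun v : V => v.1.1) hk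
      simpa using this
    show z.1.1 ^ ((k : ZMod 3)).val = w.1
    rw [← e, ← zpow_natCast, ZMod.val_intCast]
    exact (zpow_eq_zpow_emod' k (by simpa using congrArg (fun v : V => v.1.1) hz3)).symm

end CfsgLib.Fi24Mult
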