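import Cfsg.Agent.Lib.Presented.Fi24Mult.Twist

/-! Generated enumeration facts (data). -/
set_option autoImplicit false
set_option maxRecDepth 20000

namespace CfsgLib.Fi24Mult

open CfsgLib.Presented

def factsPart0 : ATree TFact :=
  .node (.node (.node (.node (.node (.node (.leaf ⟨1, 0, 1, 0, 0, 0, 0, 93, 0, 0, []⟩) (.leaf ⟨3, 131, 131, 1, 0, (-1), 0, 36, 0, 131, [551, 692, 550]⟩)) (.node (.leaf ⟨8, 311, 760, 0, 0, 0, 0, 47, 3, 311, [1801, 1799, 4746]⟩) (.leaf ⟨4, 4107, 4108, 0, 0, 0, 0, 93, 0, 0, []⟩))) (.node (.node (.leaf ⟨5, 676, 655, (-27), 0, (-1), 0, 68, 33, 658, [3665, 3670, 3858, 3663, 3867, 3868, 3880, 3886, 3869, 3865, 3861, 3818, 3748, 3746, 3676, 3756, 3752, 3677, 3666, 3656, 3936, 3658, 3940, 3856, 3792, 3791, 375, 3944, 2911, 2966, 2895, 2948, 2964,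 2989, 2473, 2454, 3952, 3954, 2455, 2532, 2534, 2536, 3958, 2538, 2563, 3968, 2594, 2562, 3976, 2544, 3982, 3984, 4008, 4010, 4020, 3986, 3856, 3791, 3901, 3781, 400, 3896, 3784, 3894, 4024, 2590, 4028, 4034, 3618, 4038, 4042, 3619, 3622, 4046, 2536, 2538, 2976, 2985, 4054, 4064, 2984, 4066, 4068, 4074, 4086, 4081, 4088, 4092, 4094]⟩) (.leaf ⟨5, 3386, 3387, 0, 0, 0, 0, 93, 0, 0, []⟩)) (.node (.leaf ⟨6, 2109, 2110, 0, 0, 0, 0, 93, 0, 0, []⟩) (.leaf ⟨3, 1748, 2629, (-3), 0, 3, 0, 31, 0, 2629, [15755, 10368, 10322]⟩)))) (.node (.node (.node (.leaf ⟨4, 370, 370, (-1), 0, (-1), 0, 43, 0, 370, [1993, 2046, 1992]⟩) (.leaf ⟨9, 3049, 796, 0, 0, 0, 0, 57, 3, 3049, [18431, 4860, 5108]⟩)) (.node (.leaf ⟨1, 1711, 688, 0, 0, 0, 0, 13, 0, 688, [4165, 10239, 10046]⟩) (.leaf ⟨0,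 4432, 4432, (-1), 0, (-1), 0, 4, 0, 4432, [26219, 26622, 26218]⟩))) (.node (.node (.leaf ⟨5, 967, 968, 0, 0, 0, 0, 93, 0, 0, []⟩) (.leaf ⟨10, 3782, 3771, 50, 0, 6, 0, 36, 1, 3776, [22497, 22512, 22527]⟩)) (.node (.leaf ⟨2, 1699, 2427, 0, 0, 0, 0, 29, 0, 2427, [14335, 10594, 9990]⟩) (.leaf ⟨1, 1559, 5117, 0, 0, 0, 0, 93, 0, 0, []⟩))))) (.node (.node (.node (.node (.leaf ⟨4, 126, 126, 1, 0, 1, 0, 39, 0, 126, [521, 1022, 520]⟩) (.leaf ⟨9, 210, 2840, 0, 0, 0, 0, 93, 0, 0, []⟩)) (.node (.leaf ⟨11, 180, 621, 0, 0, 0, 0, 55, 3, 180, [1221, 9214, 3400]⟩) (.leaf ⟨9, 435, 4319, 0, 0, 0, 0, 93, 0, 0, []⟩))) (.node (.node (.leaf ⟨0, 104, 104, (-1), 0, (-1), 0, 4, 0, 104, [445, 5118, 444]⟩) (.leaf ⟨7, 3639, 3640, 0, 0, 0, 0, 93, 0, 0, []⟩)) (.node (.leaf ⟨10, 269, 269, (-1),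 0, (-1), 0, 58, 3, 269, [1699, 13310, 1698]⟩) (.leaf ⟨2, 4962, 2502, 0, 0, 0, 0, 28, 2, 2590, [29694, 15471, 15028]⟩)))) (.node (.node (.node (.leaf ⟨4, 515, 574, 0, 0, 0, 0, 93, 0, 0, []⟩) (.leaf ⟨6, 3200, 3187, 0, 0, 0, 0, 39, 3, 3200, [19403, 19454, 19356]⟩)) (.node (.leaf ⟨0, 1898, 1864, 0, 0, 0, 0, 3, 0, 1864, [11077, 11263, 11204]⟩) (.leaf ⟨4, 4660, 4654, 0, 0, 0, 0, 39, 0, 4654, [27615, 27647, 27636]⟩))) (.node (.node (.leaf ⟨8, 1159, 1105, 0, 0, 0, 0, 34, 3, 1159, [7141, 7166, 6898]⟩) (.leaf ⟨4, 388, 3946, 0, 0, 0, 0, 42, 2, 387, [2086, 2085, 23530]⟩)) (.node (.leaf ⟨5, 2571, 2572, 0, 0, 0, 0, 93, 0, 0, []⟩) (.leaf ⟨0, 0, 0, 0, 0, 0, 0, 0, 0, 0, []⟩)))))) (.node (.node (.node (.node (.node (.leaf ⟨5, 7, 122, 0, 0, 0, 0, 93, 0, 0, []⟩) (.leaf ⟨6, 2783, 2783,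 (-1), 0, 1, 0, 51, 0, 2783, [16883, 16891, 16894, 16890, 16882]⟩)) (.node (.leaf ⟨10, 1535, 1535, (-1), 0, (-1), 0, 54, 3, 1535, [8649, 8702, 8648]⟩) (.leaf ⟨10, 4215, 4216, 0, 0, 0, 0, 93, 0, 0, []⟩))) (.node (.node (.leaf ⟨4, 695, 461, 0, 0, 0, 0, 30, 5, 695, [4193, 4141, 2616, 2420, 2422]⟩) (.leaf ⟨6, 3518, 3519, 0, 0, 0, 0, 93, 0, 0, []⟩)) (.node (.leaf ⟨11, 2197, 2197, 1, 0, (-1), 0, 62, 3, 2197, [12765, 12798, 12764]⟩) (.leaf ⟨3, 709, 709, (-1), 0, 1, 0, 33, 0, 709, [4285, 10374, 4284]⟩)))) (.node (.node (.node (.leaf ⟨4, 492, 487, 0, 0, 0, 0, 39, 0, 487, [2535, 2559, 2552]⟩) (.leaf ⟨5, 818, 818, (-1), 0, (-1), 0, 48, 0, 818, [5225, 1364, 5224]⟩)) (.node (.leaf ⟨9, 1792, 1796, 0, 0, 0, 0, 48, 3, 1792, [10743, 8620, 10750]⟩) (.leaf ⟨4, 3513, 3513, (-1), 0, (-1),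 0, 30, 5, 3513, [20967, 20965, 27134, 20964, 20966]⟩))) (.node (.node (.leaf ⟨4, 1053, 1054, 0, 0, 0, 0, 93, 0, 0, []⟩) (.leaf ⟨10, 3858, 3859, 0, 0, 0, 0, 93, 0, 0, []⟩)) (.node (.leaf ⟨3, 1386, 1386, (-1), 0, 1, 0, 34, 0, 1386, [8079, 14628, 8078]⟩) (.leaf ⟨1, 75, 75, (-1), 0, (-1), 0, 19, 0, 75, [287, 31230, 286]⟩))))) (.node (.node (.node (.node (.leaf ⟨11, 223, 219, 0, 0, 0, 0, 44, 3, 223, [1529, 1534, 1520]⟩) (.leaf ⟨2, 1995, 1995, 1, 0, (-1), 0, 23, 0, 1995, [11845, 17918, 11844]⟩)) (.node (.leaf ⟨3, 1584, 1664, 0, 0, 0, 0, 36, 2, 1583, [8936, 8927, 9724]⟩) (.leaf ⟨9, 4392, 4384, 0, 0, 0, 0, 35, 3, 4392, [26093, 26110, 26066]⟩))) (.node (.node (.leaf ⟨5, 886, 889, 0, 0, 0, 0, 48, 2, 877, [5618, 5573, 5630]⟩) (.leaf ⟨7, 3734, 3735, 0, 0, 0, 0, 93, 0, 0, []⟩))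 (.node (.leaf ⟨11, 2392, 2386, (-1), 0, 5, 0, 37, 1, 2387, [13813, 13820, 13823]⟩) (.leaf ⟨7, 5022, 5023, 0, 0, 0, 0, 93, 0, 0, []⟩)))) (.node (.node (.node (.leaf ⟨0, 605, 605, 1, 0, 1, 0, 10, 0, 605, [3275, 3582, 3274]⟩) (.leaf ⟨2, 3296, 3302, 0, 0, 0, 0, 25, 0, 3302, [19959, 19967, 19936]⟩)) (.node (.leaf ⟨6, 1991, 1204, 0, 0, 0, 0, 54, 0, 1204, [7353, 11775, 11750]⟩) (.leaf ⟨1, 71, 71, (-1), 0, (-1), 0, 11, 4, 70, [278, 277, 628, 276, 278]⟩))) (.node (.node (.leaf ⟨6, 1289, 1283, 0, 0, 0, 0, 45, 5, 1289, [7643, 7646, 7676, 7679, 7630]⟩) (.leaf ⟨8, 619, 619, 1, 0, (-1), 0, 17, 3, 619, [3397, 24062, 3396]⟩)) (.node (.leaf ⟨1, 2635, 2646, 0, 0, 0, 0, 18, 0, 2646, [15857, 15871, 15830]⟩) (.leaf ⟨0, 0, 0, 0, 0, 0, 0, 0, 0, 0, []⟩))))))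

def factsPart1 : ATree TFact :=
  .node (.node (.node (.node (.node (.node (.leaf ⟨2, 1, 2, 0, 0, 0, 0, 93, 0, 0, []⟩) (.leaf ⟨4, 1593, 1593, 1, 0, 1, 0, 40, 0, 1593, [8971, 9666, 8970]⟩)) (.node (.leaf ⟨8, 761, 312, 0, 0, 0, 0, 41, 3, 761, [4749, 8193, 1802]⟩) (.leaf ⟨8, 3560, 4107, 0, 0, 0, 0, 47, 3, 3560, [21125, 21123, 24574]⟩))) (.node (.node (.leaf ⟨6, 551, 675, 0, 0, 0, 0, 32, 3, 551, [2977, 2544, 3984]⟩) (.leaf ⟨10, 3387, 3388, 0, 0, 0, 0, 93, 0, 0, []⟩)) (.node (.leaf ⟨8, 2107, 2110, 0, 0, 0, 0, 52, 3, 2107, [12275, 12286, 12288]⟩) (.leaf ⟨8, 1748, 4815, 0, 0, 0, 0, 17, 3, 1748, [10309, 8284, 28612]⟩)))) (.node (.node (.node (.leaf ⟨4, 371, 371, 1, 0, 1, 0, 44, 0, 371, [1995, 2048, 1994]⟩) (.leaf ⟨10, 2644, 3050, 0, 0, 0, 0, 93, 0, 0, []⟩)) (.node (.leaf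 ⟨1, 1712, 732, 0, 0, 0, 0, 19, 0, 732, [4425, 10241, 10048]⟩) (.leaf ⟨0, 4433, 4433, 1, 0, 1, 0, 5, 0, 4433, [26221, 26624, 26220]⟩))) (.node (.node (.leaf ⟨4, 409, 409, (-1), 0, (-1), 0, 41, 0, 409, [2227, 4106, 2226]⟩) (.leaf ⟨8, 928, 3783, 0, 0, 0, 0, 93, 0, 0, []⟩)) (.node (.leaf ⟨3, 2361, 2427, (-21), 0, 1, 0, 21, 5, 2361, [13605, 13615, 14333, 9992, 14336]⟩) (.leaf ⟨4, 5117, 4900, 0, 0, 0, 0, 13, 3, 5117, [30721, 13590, 29198]⟩))))) (.node (.node (.node (.node (.leaf ⟨5, 169, 169, 1, 0, 1, 0, 38, 5, 169, [1001, 523, 1024, 522, 1000]⟩) (.leaf ⟨3, 2840, 2838, 0, 0, 0, 0, 35, 0, 2838, [17401, 15139, 17408]⟩)) (.node (.leaf ⟨11, 184, 622, 0, 0, 0, 0, 50, 3, 184, [1229, 9216, 3402]⟩) (.leaf ⟨5, 3066, 4319, 0, 0, 0, 0, 48, 2, 436, [18526, 2345, 25600]⟩))) (.node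 (.node (.leaf ⟨0, 369, 369, 1, 0, 1, 0, 8, 0, 369, [1991, 5120, 1990]⟩) (.leaf ⟨6, 3640, 3641, 0, 0, 0, 0, 93, 0, 0, []⟩)) (.node (.leaf ⟨10, 270, 270, (-1), 0, 1, 0, 54, 3, 270, [1701, 13312, 1700]⟩) (.leaf ⟨5, 4961, 4962, 17, 0, (-1), 0, 23, 3, 4961, [29693, 15106, 29697]⟩)))) (.node (.node (.node (.leaf ⟨10, 574, 575, 0, 0, 0, 0, 93, 0, 0, []⟩) (.leaf ⟨6, 3201, 3188, 0, 0, 0, 0, 54, 0, 3188, [19359, 19457, 19404]⟩)) (.node (.leaf ⟨0, 1899, 1865, 0, 0, 0, 0, 2, 0, 1865, [11081, 11265, 11206]⟩) (.leaf ⟨5, 4662, 4656, 0, 0, 0, 0, 38, 5, 4662, [27641, 27639, 27648, 27616, 27618]⟩))) (.node (.node (.leaf ⟨8, 1160, 1118, 0, 0, 0, 0, 26, 3, 1160, [7143, 7168, 6988]⟩) (.leaf ⟨4, 3947, 3949, 0, 0, 0, 0, 43, 0, 3949, [23543, 23552, 23534]⟩)) (.node (.leaf ⟨4, 2572, 2573,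 0, 0, 0, 0, 93, 0, 0, []⟩) (.leaf ⟨0, 0, 0, 0, 0, 0, 0, 0, 0, 0, []⟩)))))) (.node (.node (.node (.node (.node (.leaf ⟨4, 122, 123, 0, 0, 0, 0, 93, 0, 0, []⟩) (.leaf ⟨5, 2781, 2786, 0, 0, 0, 0, 93, 0, 0, []⟩)) (.node (.leaf ⟨5, 1544, 1544, (-1), 0, (-1), 0, 49, 4, 1536, [8694, 8651, 8704, 8650, 8694]⟩) (.leaf ⟨7, 2131, 4217, 0, 0, 0, 0, 93, 0, 0, []⟩))) (.node (.node (.leaf ⟨4, 697, 587, 0, 0, 0, 0, 43, 0, 587, [3209, 4609, 4224]⟩) (.leaf ⟨5, 3519, 3520, 0, 0, 0, 0, 93, 0, 0, []⟩)) (.node (.leaf ⟨11, 2198, 2198, 1, 0, 1, 0, 50, 3, 2198, [12767, 12800, 12766]⟩) (.leaf ⟨3, 710, 710, 1, 0, (-1), 0, 32, 0, 710, [4287, 29184, 4286]⟩)))) (.node (.node (.node (.leaf ⟨5, 494, 489, 0, 0, 0, 0, 38, 5, 494, [2557, 2555, 2560, 2536, 2538]⟩) (.leaf ⟨5, 802, 802, (-1), 0, 1, 0,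 49, 0, 802, [5139, 5218, 5844, 5219, 5138]⟩)) (.node (.leaf ⟨4, 1796, 1797, 0, 0, 0, 0, 93, 0, 0, []⟩) (.leaf ⟨2, 3499, 2128, 0, 0, 0, 0, 27, 2, 3289, [20938, 19867, 12338]⟩))) (.node (.node (.leaf ⟨3, 1054, 1055, 0, 0, 0, 0, 93, 0, 0, []⟩) (.leaf ⟨7, 3859, 3860, 0, 0, 0, 0, 93, 0, 0, []⟩)) (.node (.leaf ⟨3, 1387, 1387, 1, 0, (-1), 0, 31, 0, 1387, [8081, 14848, 8080]⟩) (.leaf ⟨1, 537, 537, 1, 0, 1, 0, 20, 0, 537, [2881, 31232, 2880]⟩))))) (.node (.node (.node (.node (.leaf ⟨10, 223, 224, 0, 0, 0, 0, 93, 0, 0, []⟩) (.leaf ⟨2, 1996, 1996, (-1), 0, 1, 0, 22, 0, 1996, [11847, 17920, 11846]⟩)) (.node (.leaf ⟨2, 1583, 1665, 0, 0, 0, 0, 93, 0, 0, []⟩) (.leaf ⟨9, 4393, 4385, 0, 0, 0, 0, 27, 3, 4393, [26095, 26112, 26068]⟩))) (.node (.node (.leaf ⟨10, 876, 876, (-1), 0, (-1),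 0, 61, 3, 876, [5571, 4494, 5570]⟩) (.leaf ⟨5, 3735, 3732, 0, 0, 0, 0, 46, 0, 3732, [22005, 22014, 22016]⟩)) (.node (.leaf ⟨5, 1988, 2393, 0, 0, 0, 0, 93, 0, 0, []⟩) (.leaf ⟨3, 5023, 4730, 0, 0, 0, 0, 33, 0, 4730, [28063, 30207, 30208]⟩)))) (.node (.node (.node (.leaf ⟨10, 475, 646, 0, 0, 0, 0, 93, 0, 0, []⟩) (.leaf ⟨2, 3297, 3303, 0, 0, 0, 0, 24, 0, 3303, [19961, 19969, 19940]⟩)) (.node (.leaf ⟨6, 1992, 1922, 0, 0, 0, 0, 55, 0, 1922, [11335, 11777, 11752]⟩) (.leaf ⟨1, 88, 88, 1, 0, 1, 0, 19, 0, 88, [385, 28160, 384]⟩))) (.node (.node (.leaf ⟨1, 1284, 1292, 0, 0, 0, 0, 93, 0, 0, []⟩) (.leaf ⟨7, 3285, 3285, 1, 0, (-1), 0, 56, 4, 620, [19842, 3399, 24064, 3398, 19842]⟩)) (.node (.leaf ⟨1, 2636, 2647, 0, 0, 0, 0, 19, 0, 2647, [15859, 15873, 15832]⟩) (.leaf ⟨0, 0, 0,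 0, 0, 0, 0, 0, 0, 0, []⟩))))))

def factsPart2 : ATree TFact :=
  .node (.node (.node (.node (.node (.node (.leaf ⟨3, 2, 3, 0, 0, 0, 0, 93, 0, 0, []⟩) (.leaf ⟨3, 1593, 1593, (-1), 0, 1, 0, 33, 0, 1593, [8971, 9148, 8970]⟩)) (.node (.leaf ⟨8, 1411, 322, 0, 0, 0, 0, 34, 3, 1411, [8149, 8194, 1822]⟩) (.leaf ⟨8, 4108, 3561, 0, 0, 0, 0, 41, 3, 4108, [24577, 24579, 21126]⟩))) (.node (.node (.leaf ⟨6, 679, 676, 0, 0, 0, 0, 54, 0, 676, [3987, 4099, 4066]⟩) (.leaf ⟨9, 2522, 3365, 0, 0, 0, 0, 63, 2, 2521, [15146, 15143, 20394]⟩)) (.node (.leaf ⟨3, 773, 2111, 0, 0, 0, 0, 93, 0, 0, []⟩) (.leaf ⟨3, 4821, 4815, 3, 0, (-3), 0, 34, 2, 2629, [28670, 28673, 28674]⟩)))) (.node (.node (.node (.leaf ⟨4, 372, 372, (-1), 0, (-1), 0, 40, 0, 372, [1997, 2050, 1996]⟩) (.leaf ⟨5, 3050, 3051,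 0, 0, 0, 0, 93, 0, 0, []⟩)) (.node (.leaf ⟨1, 1713, 733, 0, 0, 0, 0, 20, 0, 733, [4427, 10243, 10050]⟩) (.leaf ⟨0, 4434, 4434, (-1), 0, (-1), 0, 6, 0, 4434, [26223, 26626, 26222]⟩))) (.node (.node (.leaf ⟨5, 417, 417, (-1), 0, (-1), 0, 38, 5, 417, [2261, 2229, 6146, 2228, 2260]⟩) (.leaf ⟨6, 3779, 3783, 0, 0, 0, 0, 52, 2, 932, [22498, 5965, 22530]⟩)) (.node (.leaf ⟨11, 569, 569, 1, 0, 1, 0, 59, 3, 569, [3053, 9972, 3052]⟩) (.leaf ⟨10, 5117, 5118, 0, 0, 0, 0, 93, 0, 0, []⟩))))) (.node (.node (.node (.node (.leaf ⟨7, 144, 144, (-1), 0, (-1), 0, 58, 0, 144, [765, 762, 764]⟩) (.leaf ⟨7, 2840, 2841, 0, 0, 0, 0, 93, 0, 0, []⟩)) (.node (.leaf ⟨11, 185, 849, 0, 0, 0, 0, 44, 3, 185, [1237, 3354, 5382]⟩) (.leaf ⟨7, 4319, 4320, 0, 0, 0, 0, 93, 0, 0, []⟩))) (.node (.node (.leaf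 ⟨0, 370, 370, (-1), 0, (-1), 0, 9, 0, 370, [1993, 5122, 1992]⟩) (.leaf ⟨8, 3641, 3642, 0, 0, 0, 0, 93, 0, 0, []⟩)) (.node (.leaf ⟨10, 271, 271, (-1), 0, (-1), 0, 61, 3, 271, [1703, 13314, 1702]⟩) (.leaf ⟨1, 4957, 4962, 0, 0, 0, 0, 19, 2, 2591, [29674, 15473, 29694]⟩)))) (.node (.node (.node (.leaf ⟨2, 569, 513, 0, 0, 0, 0, 25, 0, 513, [2685, 2672, 3052]⟩) (.leaf ⟨5, 3176, 3188, 38, 0, (-10), 0, 45, 2, 2733, [16523, 19394, 19322, 19435, 19458]⟩)) (.node (.leaf ⟨0, 1900, 1866, 0, 0, 0, 0, 1, 0, 1866, [11085, 11267, 11224]⟩) (.leaf ⟨5, 4663, 4657, 0, 0, 0, 0, 31, 3, 4663, [27643, 27650, 27620]⟩))) (.node (.node (.leaf ⟨8, 1161, 1163, 0, 0, 0, 0, 61, 0, 1163, [7163, 7171, 7144]⟩) (.leaf ⟨4, 3950, 3948, (-17), 0, 1, 0, 44, 2, 3949, [23551, 23555, 23538]⟩)) (.node (.leaf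 ⟨3, 2573, 2574, 0, 0, 0, 0, 93, 0, 0, []⟩) (.leaf ⟨0, 0, 0, 0, 0, 0, 0, 0, 0, 0, []⟩)))))) (.node (.node (.node (.node (.node (.leaf ⟨3, 123, 124, 0, 0, 0, 0, 93, 0, 0, []⟩) (.leaf ⟨9, 2786, 2787, 0, 0, 0, 0, 93, 0, 0, []⟩)) (.node (.leaf ⟨4, 1543, 1543, 1, 0, (-1), 0, 38, 0, 1543, [8691, 8696, 8706, 8697, 8690]⟩) (.leaf ⟨2, 4217, 4213, 0, 0, 0, 0, 25, 0, 4213, [25075, 24421, 25090]⟩))) (.node (.node (.leaf ⟨4, 588, 741, 0, 0, 0, 0, 93, 0, 0, []⟩) (.leaf ⟨4, 3520, 3521, 0, 0, 0, 0, 93, 0, 0, []⟩)) (.node (.leaf ⟨10, 2200, 2200, 1, 0, 1, 0, 65, 4, 2199, [12778, 12769, 12802, 12768, 12778]⟩) (.leaf ⟨3, 711, 711, (-1), 0, 1, 0, 31, 0, 711, [4289, 29186, 4288]⟩)))) (.node (.node (.node (.leaf ⟨7, 468, 495, 0, 0, 0, 0, 93, 0, 0, []⟩) (.leaf ⟨5, 803, 803, 1, 0, (-1), 0,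 50, 0, 803, [5141, 18946, 5140]⟩)) (.node (.leaf ⟨9, 1793, 1797, 0, 0, 0, 0, 42, 3, 1793, [10745, 10752, 10754]⟩) (.leaf ⟨7, 2128, 4573, 0, 0, 0, 0, 93, 0, 0, []⟩))) (.node (.node (.leaf ⟨9, 1055, 1056, 0, 0, 0, 0, 93, 0, 0, []⟩) (.leaf ⟨6, 3860, 3861, 0, 0, 0, 0, 93, 0, 0, []⟩)) (.node (.leaf ⟨4, 1389, 1389, 1, 0, (-1), 0, 30, 5, 1389, [8085, 8083, 14850, 8082, 8084]⟩) (.leaf ⟨1, 538, 538, (-1), 0, (-1), 0, 14, 0, 538, [2883, 31234, 2882]⟩))))) (.node (.node (.node (.node (.leaf ⟨5, 224, 225, 0, 0, 0, 0, 93, 0, 0, []⟩) (.leaf ⟨3, 1998, 1998, (-1), 0, 1, 0, 21, 5, 1998, [11851, 11849, 17922, 11848, 11850]⟩)) (.node (.leaf ⟨10, 1665, 1666, 0, 0, 0, 0, 93, 0, 0, []⟩) (.leaf ⟨9, 4394, 4386, 0, 0, 0, 0, 63, 0, 4386, [26079, 26115, 26096]⟩))) (.node (.node (.leaf ⟨10,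 889, 889, (-1), 0, 1, 0, 63, 3, 889, [5631, 5634, 5630]⟩) (.leaf ⟨9, 153, 3736, 0, 0, 0, 0, 93, 0, 0, []⟩)) (.node (.leaf ⟨6, 2393, 2394, 0, 0, 0, 0, 93, 0, 0, []⟩) (.leaf ⟨10, 4724, 5024, 0, 0, 0, 0, 93, 0, 0, []⟩)))) (.node (.node (.node (.leaf ⟨11, 646, 647, 0, 0, 0, 0, 93, 0, 0, []⟩) (.leaf ⟨2, 3298, 3304, 0, 0, 0, 0, 23, 0, 3304, [19963, 19971, 19944]⟩)) (.node (.leaf ⟨6, 1246, 1923, (-21), 0, 1, 0, 45, 5, 1246, [7529, 11741, 11771, 11778, 11336]⟩) (.leaf ⟨1, 467, 467, (-1), 0, (-1), 0, 20, 0, 467, [2447, 28162, 2446]⟩))) (.node (.node (.leaf ⟨10, 1292, 1293, 0, 0, 0, 0, 93, 0, 0, []⟩) (.leaf ⟨7, 4026, 4026, (-1), 0, 1, 0, 57, 0, 4026, [24057, 24066, 24056]⟩)) (.node (.leaf ⟨1, 2640, 2648, 0, 0, 0, 0, 14, 0, 2648, [15861, 15875, 15840]⟩) (.leaf ⟨0, 0, 0, 0,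 0, 0, 0, 0, 0, 0, []⟩))))))

def factsPart3 : ATree TFact :=
  .node (.node (.node (.node (.node (.node (.leaf ⟨4, 3, 4, 0, 0, 0, 0, 93, 0, 0, []⟩) (.leaf ⟨7, 1592, 1592, 1, 0, 1, 0, 51, 5, 1592, [8965, 8963, 6776, 8962, 8964]⟩)) (.node (.leaf ⟨8, 1412, 1243, 0, 0, 0, 0, 26, 3, 1412, [8151, 8196, 7522]⟩) (.leaf ⟨10, 4108, 4109, 0, 0, 0, 0, 93, 0, 0, []⟩))) (.node (.node (.leaf ⟨7, 551, 551, (-1), 0, (-1), 0, 33, 3, 551, [2977, 3976, 2976]⟩) (.leaf ⟨9, 3366, 2523, 0, 0, 0, 0, 64, 0, 2523, [15151, 20484, 20396]⟩)) (.node (.leaf ⟨9, 2111, 2112, 0, 0, 0, 0, 93, 0, 0, []⟩) (.leaf ⟨3, 4828, 4832, (-3), 0, 3, 0, 33, 2, 4815, [28652, 28677, 28664]⟩)))) (.node (.node (.node (.leaf ⟨4, 373, 373, 1, 0, 1, 0, 39, 0, 373, [1999, 2052, 1998]⟩) (.leaf ⟨7, 3051, 3052, 0, 0, 0, 0,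 93, 0, 0, []⟩)) (.node (.leaf ⟨1, 731, 1714, (-27), 0, 1, 0, 14, 0, 1714, [10063, 10244, 4434]⟩) (.leaf ⟨2, 4397, 4397, 1, 0, (-1), 0, 25, 2, 4396, [26122, 26316, 26122]⟩))) (.node (.node (.leaf ⟨5, 418, 418, 1, 0, 1, 0, 48, 0, 418, [2263, 6148, 2262]⟩) (.leaf ⟨8, 929, 3784, 0, 0, 0, 0, 93, 0, 0, []⟩)) (.node (.leaf ⟨11, 570, 570, 1, 0, (-1), 0, 55, 3, 570, [3057, 14340, 3056]⟩) (.leaf ⟨4, 5118, 4901, 0, 0, 0, 0, 43, 0, 4901, [29205, 30723, 30724]⟩))))) (.node (.node (.node (.node (.leaf ⟨6, 144, 144, 1, 0, (-1), 0, 54, 0, 144, [765, 748, 764]⟩) (.leaf ⟨3, 2841, 2839, 0, 0, 0, 0, 33, 0, 2839, [17405, 17411, 17412]⟩)) (.node (.leaf ⟨11, 626, 850, 1, 0, 5, 0, 65, 5, 626, [3453, 9219, 1240, 9220, 5384]⟩) (.leaf ⟨5, 4320, 4317, 0, 0, 0, 0, 46, 0, 4317, [25593, 25602,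 25604]⟩))) (.node (.node (.leaf ⟨0, 371, 371, 1, 0, 1, 0, 10, 0, 371, [1995, 5124, 1994]⟩) (.leaf ⟨5, 3642, 3643, 0, 0, 0, 0, 93, 0, 0, []⟩)) (.node (.leaf ⟨10, 2318, 2318, (-1), 0, 1, 0, 63, 3, 2318, [13307, 13316, 13306]⟩) (.leaf ⟨5, 4959, 4957, 17, 0, 1, 0, 14, 3, 4959, [29689, 29698, 29701]⟩)))) (.node (.node (.node (.leaf ⟨2, 570, 514, 0, 0, 0, 0, 24, 0, 514, [2687, 3077, 3056]⟩) (.leaf ⟨5, 3196, 3180, (-38), 0, 10, 0, 46, 2, 3188, [19388, 19461, 19340]⟩)) (.node (.leaf ⟨0, 1874, 1867, 13, 0, 21, 0, 0, 4, 1887, [11166, 11192, 11253, 11268, 11088]⟩) (.leaf ⟨6, 2667, 2667, (-1), 0, 1, 0, 39, 3, 2667, [15957, 2210, 15956]⟩))) (.node (.node (.leaf ⟨5, 1163, 1164, 0, 0, 0, 0, 93, 0, 0, []⟩) (.leaf ⟨9, 2497, 3951, 0, 0, 0, 0, 93, 0, 0, []⟩)) (.node (.leaf ⟨2, 2574,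 2575, 0, 0, 0, 0, 93, 0, 0, []⟩) (.leaf ⟨0, 0, 0, 0, 0, 0, 0, 0, 0, 0, []⟩)))))) (.node (.node (.node (.node (.node (.leaf ⟨7, 124, 125, 0, 0, 0, 0, 93, 0, 0, []⟩) (.leaf ⟨7, 2787, 2788, 0, 0, 0, 0, 93, 0, 0, []⟩)) (.node (.leaf ⟨3, 1541, 1541, (-1), 0, (-1), 0, 30, 0, 1541, [8685, 8693, 8708, 8692, 8684]⟩) (.leaf ⟨6, 4217, 4218, 0, 0, 0, 0, 93, 0, 0, []⟩))) (.node (.node (.leaf ⟨5, 740, 741, 0, 0, 0, 0, 38, 5, 740, [4607, 4603, 4610, 3210, 4612]⟩) (.leaf ⟨3, 3521, 3522, 0, 0, 0, 0, 93, 0, 0, []⟩)) (.node (.leaf ⟨11, 2194, 2201, 0, 0, 0, 0, 93, 0, 0, []⟩) (.leaf ⟨4, 1700, 1700, (-1), 0, 1, 0, 30, 5, 1700, [9995, 4291, 29188, 4290, 9994]⟩)))) (.node (.node (.node (.leaf ⟨6, 495, 496, 0, 0, 0, 0, 93, 0, 0, []⟩) (.leaf ⟨5, 804, 804, (-1), 0, 1, 0, 46, 0, 804, [5143,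 18948, 5142]⟩)) (.node (.leaf ⟨3, 1797, 1798, 0, 0, 0, 0, 93, 0, 0, []⟩) (.leaf ⟨2, 4573, 3500, 0, 0, 0, 0, 25, 0, 3500, [20941, 27138, 27140]⟩))) (.node (.node (.leaf ⟨10, 1056, 1057, 0, 0, 0, 0, 93, 0, 0, []⟩) (.leaf ⟨5, 3861, 3862, 0, 0, 0, 0, 93, 0, 0, []⟩)) (.node (.leaf ⟨4, 1390, 1390, 1, 0, 1, 0, 22, 3, 1390, [8087, 14852, 8086]⟩) (.leaf ⟨1, 539, 539, 1, 0, 1, 0, 19, 0, 539, [2893, 31236, 2892]⟩))))) (.node (.node (.node (.node (.leaf ⟨9, 213, 226, 0, 0, 0, 0, 93, 0, 0, []⟩) (.leaf ⟨3, 2922, 2922, (-1), 0, (-1), 0, 12, 3, 2922, [17819, 17924, 17818]⟩)) (.node (.leaf ⟨2, 1666, 1584, 0, 0, 0, 0, 28, 2, 1665, [9732, 9731, 8936]⟩) (.leaf ⟨9, 4395, 4387, 0, 0, 0, 0, 48, 3, 4395, [26099, 26116, 26082]⟩))) (.node (.node (.leaf ⟨5, 887, 887, 1, 0, 1, 0, 49, 0, 887,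 [5623, 5632, 5636, 5633, 5622]⟩) (.leaf ⟨6, 3736, 3734, 0, 0, 0, 0, 53, 0, 3734, [22013, 884, 22020]⟩)) (.node (.leaf ⟨2, 2391, 2393, 0, 0, 0, 0, 23, 0, 2393, [13827, 11758, 13814]⟩) (.leaf ⟨4, 5021, 5024, 0, 0, 0, 0, 43, 2, 4725, [30200, 28053, 30212]⟩)))) (.node (.node (.node (.leaf ⟨2, 525, 472, 0, 0, 0, 0, 24, 0, 472, [2457, 2631, 2758]⟩) (.leaf ⟨2, 3300, 3305, 0, 0, 0, 0, 22, 0, 3305, [19965, 19973, 19952]⟩)) (.node (.leaf ⟨7, 1925, 1248, 21, 0, 1, 0, 51, 3, 1923, [11338, 11340, 11781, 7530, 7532]⟩) (.leaf ⟨1, 468, 468, 1, 0, 1, 0, 14, 0, 468, [2449, 28164, 2448]⟩))) (.node (.node (.leaf ⟨5, 1293, 1294, 0, 0, 0, 0, 93, 0, 0, []⟩) (.leaf ⟨6, 4025, 4025, 1, 0, 1, 0, 51, 0, 4025, [24053, 24059, 24068, 24058, 24052]⟩)) (.node (.leaf ⟨1, 2641, 2649, 0, 0, 0, 0, 13,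 0, 2649, [15863, 15877, 15842]⟩) (.leaf ⟨0, 0, 0, 0, 0, 0, 0, 0, 0, 0, []⟩))))))

def factsPart4 : ATree TFact :=
  .node (.node (.node (.node (.node (.node (.leaf ⟨5, 4, 5, 0, 0, 0, 0, 93, 0, 0, []⟩) (.leaf ⟨11, 1585, 1585, 1, 0, (-1), 0, 65, 5, 1585, [8941, 2710, 544, 2711, 8940]⟩)) (.node (.leaf ⟨8, 1413, 1401, 0, 0, 0, 0, 61, 0, 1401, [8117, 8199, 8152]⟩) (.leaf ⟨8, 4109, 3623, 0, 0, 0, 0, 61, 0, 3623, [21403, 24581, 24582]⟩))) (.node (.node (.leaf ⟨7, 679, 679, 1, 0, 1, 0, 58, 0, 679, [4067, 4102, 4066]⟩) (.leaf ⟨9, 3367, 3383, 0, 0, 0, 0, 48, 3, 3367, [20399, 20486, 20472]⟩)) (.node (.leaf ⟨10, 2112, 2113, 0, 0, 0, 0, 93, 0, 0, []⟩) (.leaf ⟨3, 4833, 4829, 3, 0, (-3), 0, 32, 2, 4832, [28666, 28679, 28654]⟩)))) (.node (.node (.node (.leaf ⟨9, 109, 378, 0, 0,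 0, 0, 93, 0, 0, []⟩) (.leaf ⟨5, 979, 3053, 0, 0, 0, 0, 93, 0, 0, []⟩)) (.node (.leaf ⟨1, 698, 1742, 0, 0, 0, 0, 93, 0, 0, []⟩) (.leaf ⟨2, 4398, 4398, 1, 0, 1, 0, 24, 2, 4397, [26124, 26630, 26124]⟩))) (.node (.node (.leaf ⟨5, 966, 966, (-1), 0, (-1), 0, 46, 0, 966, [6137, 6150, 6136]⟩) (.leaf ⟨8, 930, 3785, 0, 0, 0, 0, 93, 0, 0, []⟩)) (.node (.leaf ⟨11, 571, 571, 1, 0, 1, 0, 50, 3, 571, [3061, 14342, 3060]⟩) (.leaf ⟨3, 5117, 5117, 1, 0, 1, 0, 12, 3, 5117, [30721, 29866, 30720]⟩))))) (.node (.node (.node (.node (.leaf ⟨10, 122, 122, 1, 0, 1, 0, 49, 5, 122, [513, 13, 540, 12, 512]⟩) (.leaf ⟨7, 2524, 2842, 0, 0, 0, 0, 93, 0, 0, []⟩)) (.node (.leaf ⟨5, 850, 1616, 0, 0, 0, 0, 93, 0, 0, []⟩) (.leaf ⟨9, 444, 4321, 0, 0, 0, 0, 93, 0, 0, []⟩))) (.node (.node (.leaf ⟨0, 372,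 372, (-1), 0, (-1), 0, 6, 0, 372, [1997, 5126, 1996]⟩) (.leaf ⟨4, 3643, 3644, 0, 0, 0, 0, 93, 0, 0, []⟩)) (.node (.leaf ⟨5, 2317, 2317, 1, 0, 1, 0, 49, 0, 2317, [13303, 13308, 13318, 13309, 13302]⟩) (.leaf ⟨9, 4851, 4958, 0, 0, 0, 0, 63, 2, 4850, [28832, 28831, 29678]⟩)))) (.node (.node (.node (.leaf ⟨2, 571, 515, 0, 0, 0, 0, 23, 0, 515, [2689, 3079, 3060]⟩) (.leaf ⟨10, 250, 3205, 0, 0, 0, 0, 93, 0, 0, []⟩)) (.node (.leaf ⟨0, 1846, 1875, (-13), 0, (-21), 0, 7, 2, 1867, [11100, 11271, 11120]⟩) (.leaf ⟨6, 3638, 3638, 1, 0, (-1), 0, 53, 0, 3638, [21501, 27654, 21500]⟩))) (.node (.node (.leaf ⟨8, 1162, 1164, 0, 0, 0, 0, 47, 3, 1162, [7159, 7172, 7174]⟩) (.leaf ⟨10, 3951, 3952, 0, 0, 0, 0, 93, 0, 0, []⟩)) (.node (.leaf ⟨1, 2575, 2576, 0, 0, 0, 0, 93, 0, 0, []⟩) (.leaf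 ⟨0, 0, 0, 0, 0, 0, 0, 0, 0, 0, []⟩)))))) (.node (.node (.node (.node (.node (.leaf ⟨6, 125, 126, 0, 0, 0, 0, 93, 0, 0, []⟩) (.leaf ⟨5, 2787, 2782, 0, 0, 0, 0, 48, 2, 2786, [16900, 16899, 16870]⟩)) (.node (.leaf ⟨2, 1538, 1545, 0, 0, 0, 0, 93, 0, 0, []⟩) (.leaf ⟨2, 4218, 4214, 0, 0, 0, 0, 24, 0, 4214, [25077, 25093, 25094]⟩))) (.node (.node (.leaf ⟨4, 727, 742, 0, 0, 0, 0, 93, 0, 0, []⟩) (.leaf ⟨10, 3522, 3523, 0, 0, 0, 0, 93, 0, 0, []⟩)) (.node (.leaf ⟨5, 2200, 2201, 0, 0, 0, 0, 50, 0, 2201, [12807, 12777, 12778]⟩) (.leaf ⟨4, 1765, 1765, (-1), 0, (-1), 0, 22, 3, 1765, [10463, 29190, 10462]⟩)))) (.node (.node (.node (.leaf ⟨10, 491, 495, 0, 0, 0, 0, 58, 3, 491, [2551, 2471, 2564]⟩) (.leaf ⟨4, 97, 97, (-1), 0, 1, 0, 38, 0, 97, [419, 407, 5262, 406, 418]⟩)) (.node (.leaf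 ⟨9, 1794, 1798, 0, 0, 0, 0, 35, 3, 1794, [10747, 10756, 10758]⟩) (.leaf ⟨6, 4573, 4574, 0, 0, 0, 0, 93, 0, 0, []⟩))) (.node (.node (.leaf ⟨7, 1057, 1058, 0, 0, 0, 0, 93, 0, 0, []⟩) (.leaf ⟨7, 3610, 3863, 0, 0, 0, 0, 93, 0, 0, []⟩)) (.node (.leaf ⟨4, 1395, 1395, (-1), 0, (-1), 0, 42, 0, 1395, [8097, 14854, 8096]⟩) (.leaf ⟨1, 540, 540, (-1), 0, (-1), 0, 16, 0, 540, [2895, 31238, 2894]⟩))))) (.node (.node (.node (.node (.leaf ⟨10, 226, 227, 0, 0, 0, 0, 93, 0, 0, []⟩) (.leaf ⟨3, 2930, 2930, 1, 0, 1, 0, 35, 0, 2930, [17867, 17926, 17866]⟩)) (.node (.leaf ⟨6, 245, 245, (-1), 0, 1, 0, 54, 0, 245, [1603, 6778, 1602]⟩) (.leaf ⟨11, 3050, 4396, 0, 0, 0, 0, 93, 0, 0, []⟩))) (.node (.node (.leaf ⟨5, 888, 888, (-1), 0, (-1), 0, 50, 0, 888, [5627, 5638, 5626]⟩) (.leaf ⟨7, 3736,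 3736, 1, 0, (-1), 0, 57, 0, 3736, [22021, 890, 22020]⟩)) (.node (.leaf ⟨2, 2392, 2394, 0, 0, 0, 0, 24, 0, 2394, [13829, 13831, 13816]⟩) (.leaf ⟨11, 5024, 5025, 0, 0, 0, 0, 93, 0, 0, []⟩)))) (.node (.node (.node (.leaf ⟨2, 526, 473, 0, 0, 0, 0, 25, 0, 473, [2459, 3591, 2760]⟩) (.leaf ⟨11, 895, 3306, 0, 0, 0, 0, 93, 0, 0, []⟩)) (.node (.leaf ⟨7, 1275, 1980, (-21), 0, (-1), 0, 46, 3, 1275, [7615, 11783, 11722]⟩) (.leaf ⟨1, 469, 469, (-1), 0, (-1), 0, 13, 0, 469, [2451, 28166, 2450]⟩))) (.node (.node (.leaf ⟨6, 1294, 1295, 0, 0, 0, 0, 93, 0, 0, []⟩) (.leaf ⟨5, 4024, 4024, (-1), 0, 1, 0, 45, 0, 4024, [24047, 24055, 24070, 24054, 24046]⟩)) (.node (.leaf ⟨4, 435, 2642, 0, 0, 0, 0, 41, 0, 2642, [15849, 3231, 2342]⟩) (.leaf ⟨0, 0, 0, 0, 0, 0, 0, 0, 0, 0, []⟩))))))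

def factsPart5 : ATree TFact :=
  .node (.node (.node (.node (.node (.node (.leaf ⟨6, 5, 6, 0, 0, 0, 0, 93, 0, 0, []⟩) (.leaf ⟨11, 1586, 1586, 1, 0, 1, 0, 59, 3, 1586, [8943, 16392, 8942]⟩)) (.node (.leaf ⟨8, 1414, 1402, 0, 0, 0, 0, 47, 3, 1414, [8155, 8200, 8118]⟩) (.leaf ⟨11, 4109, 4110, 0, 0, 0, 0, 93, 0, 0, []⟩))) (.node (.node (.leaf ⟨4, 408, 408, 1, 0, 1, 0, 39, 0, 408, [2225, 2850, 2224]⟩) (.leaf ⟨9, 3371, 3384, 0, 0, 0, 0, 42, 3, 3371, [20419, 20488, 20474]⟩)) (.node (.leaf ⟨5, 2113, 2114, 0, 0, 0, 0, 93, 0, 0, []⟩) (.leaf ⟨9, 4823, 4832, 0, 0, 0, 0, 57, 3, 4823, [28639, 28637, 28664]⟩)))) (.node (.node (.node (.leaf ⟨10, 378, 379, 0, 0, 0, 0, 93, 0, 0, []⟩) (.leaf ⟨7, 3053, 3054, 0, 0, 0, 0, 93, 0, 0, []⟩)) (.node (.leaf ⟨10, 1742, 1743, 0, 0, 0, 0, 93,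 0, 0, []⟩) (.leaf ⟨2, 4399, 4399, 1, 0, (-1), 0, 23, 2, 4398, [26126, 26632, 26126]⟩))) (.node (.node (.leaf ⟨6, 968, 968, (-1), 0, (-1), 0, 45, 5, 968, [6145, 6139, 6152, 6138, 6144]⟩) (.leaf ⟨5, 3785, 3784, 0, 0, 0, 0, 47, 0, 3784, [22535, 5937, 22536]⟩)) (.node (.leaf ⟨11, 572, 572, 1, 0, (-1), 0, 44, 3, 572, [3065, 14344, 3064]⟩) (.leaf ⟨3, 5118, 5118, (-1), 0, (-1), 0, 36, 0, 5118, [30725, 30728, 30724]⟩))))) (.node (.node (.node (.node (.leaf ⟨10, 123, 123, 1, 0, (-1), 0, 43, 3, 123, [515, 1032, 514]⟩) (.leaf ⟨4, 2524, 2840, 0, 0, 0, 0, 42, 2, 211, [15154, 1505, 17408]⟩)) (.node (.leaf ⟨11, 632, 1616, 1, 0, (-5), 0, 50, 3, 632, [3507, 9222, 9224]⟩) (.leaf ⟨6, 4321, 4319, 0, 0, 0, 0, 53, 0, 4319, [25601, 2368, 25608]⟩))) (.node (.node (.leaf ⟨0, 373, 373, 1,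 0, 1, 0, 5, 0, 373, [1999, 5128, 1998]⟩) (.leaf ⟨3, 3644, 3645, 0, 0, 0, 0, 93, 0, 0, []⟩)) (.node (.leaf ⟨4, 2314, 2314, (-1), 0, 1, 0, 38, 0, 2314, [13291, 13305, 13320, 13304, 13290]⟩) (.leaf ⟨9, 4959, 4956, 0, 0, 0, 0, 64, 0, 4956, [29671, 29704, 29680]⟩)))) (.node (.node (.node (.leaf ⟨2, 572, 574, 0, 0, 0, 0, 22, 0, 574, [3073, 3081, 3064]⟩) (.leaf ⟨11, 3205, 3206, 0, 0, 0, 0, 93, 0, 0, []⟩)) (.node (.leaf ⟨0, 1883, 1847, 13, 0, 21, 0, 6, 2, 1875, [11150, 11273, 11010]⟩) (.leaf ⟨6, 3639, 3639, (-1), 0, 1, 0, 54, 0, 3639, [21503, 27656, 21502]⟩))) (.node (.node (.leaf ⟨7, 1164, 1165, 0, 0, 0, 0, 93, 0, 0, []⟩) (.leaf ⟨9, 2496, 3953, 0, 0, 0, 0, 93, 0, 0, []⟩)) (.node (.leaf ⟨9, 2576, 2577, 0, 0, 0, 0, 93, 0, 0, []⟩) (.leaf ⟨0, 0, 0, 0, 0, 0, 0, 0, 0, 0, []⟩))))))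 (.node (.node (.node (.node (.node (.leaf ⟨5, 126, 127, 0, 0, 0, 0, 93, 0, 0, []⟩) (.leaf ⟨5, 2783, 2788, 0, 0, 0, 0, 46, 0, 2788, [16903, 16904, 16882]⟩)) (.node (.leaf ⟨10, 1545, 1546, 0, 0, 0, 0, 93, 0, 0, []⟩) (.leaf ⟨5, 4218, 4219, 0, 0, 0, 0, 93, 0, 0, []⟩))) (.node (.node (.leaf ⟨6, 742, 741, 0, 0, 0, 0, 39, 3, 742, [4617, 4393, 4612]⟩) (.leaf ⟨11, 3523, 3524, 0, 0, 0, 0, 93, 0, 0, []⟩)) (.node (.leaf ⟨7, 2000, 2202, 0, 0, 0, 0, 93, 0, 0, []⟩) (.leaf ⟨4, 4898, 4898, (-1), 0, 1, 0, 13, 3, 4898, [29177, 29192, 29176]⟩)))) (.node (.node (.node (.leaf ⟨10, 496, 492, 0, 0, 0, 0, 54, 3, 496, [2567, 2569, 2552]⟩) (.leaf ⟨4, 801, 801, 1, 0, (-1), 0, 42, 0, 801, [5137, 18952, 5136]⟩)) (.node (.leaf ⟨2, 1798, 1799, 0, 0, 0, 0, 93, 0, 0, []⟩) (.leaf ⟨2, 4574, 3501, 0,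 0, 0, 0, 24, 0, 3501, [20943, 27143, 27144]⟩))) (.node (.node (.leaf ⟨6, 1058, 1059, 0, 0, 0, 0, 93, 0, 0, []⟩) (.leaf ⟨6, 3863, 3864, 0, 0, 0, 0, 93, 0, 0, []⟩)) (.node (.leaf ⟨4, 1396, 1396, 1, 0, 1, 0, 43, 0, 1396, [8099, 14856, 8098]⟩) (.leaf ⟨1, 541, 541, 1, 0, 1, 0, 15, 0, 541, [2897, 31240, 2896]⟩))))) (.node (.node (.node (.node (.leaf ⟨7, 227, 228, 0, 0, 0, 0, 93, 0, 0, []⟩) (.leaf ⟨3, 2931, 2931, 1, 0, (-1), 0, 2, 3, 2931, [17869, 17928, 17868]⟩)) (.node (.leaf ⟨7, 1580, 1580, (-1), 0, 1, 0, 51, 5, 1580, [8921, 8919, 9736, 8918, 8920]⟩) (.leaf ⟨7, 4396, 4397, 0, 0, 0, 0, 93, 0, 0, []⟩))) (.node (.node (.leaf ⟨7, 889, 890, 0, 0, 0, 0, 93, 0, 0, []⟩) (.leaf ⟨6, 3735, 3735, (-1), 0, (-1), 0, 51, 0, 3735, [22017, 22023, 22024, 22022, 22016]⟩)) (.node (.leaf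 ⟨2, 1401, 2386, 0, 0, 0, 0, 28, 2, 1243, [8116, 7523, 13784]⟩) (.leaf ⟨4, 5025, 5022, 0, 0, 0, 0, 44, 0, 5022, [30205, 30214, 30216]⟩)))) (.node (.node (.node (.leaf ⟨2, 527, 474, 0, 0, 0, 0, 24, 0, 474, [2461, 3593, 2762]⟩) (.leaf ⟨7, 876, 3307, 0, 0, 0, 0, 93, 0, 0, []⟩)) (.node (.leaf ⟨7, 1981, 1276, 21, 0, 1, 0, 40, 3, 1981, [11725, 11785, 7616]⟩) (.leaf ⟨1, 470, 470, 1, 0, 1, 0, 19, 0, 470, [2453, 28168, 2452]⟩))) (.node (.node (.leaf ⟨4, 1295, 1296, 0, 0, 0, 0, 93, 0, 0, []⟩) (.leaf ⟨4, 4022, 4022, (-1), 0, (-1), 0, 38, 4, 382, [24040, 24051, 24072, 24050, 24040]⟩)) (.node (.leaf ⟨5, 437, 2644, 0, 0, 0, 0, 38, 5, 437, [2347, 2345, 15880, 15850, 15852]⟩) (.leaf ⟨0, 0, 0, 0, 0, 0, 0, 0, 0, 0, []⟩))))))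

def factsPart6 : ATree TFact :=
  .node (.node (.node (.node (.node (.node (.leaf ⟨10, 6, 7, 0, 0, 0, 0, 93, 0, 0, []⟩) (.leaf ⟨11, 1587, 1587, 1, 0, (-1), 0, 55, 3, 1587, [8945, 16394, 8944]⟩)) (.node (.leaf ⟨8, 1393, 1403, 17, 0, (-9), 0, 56, 3, 1410, [8146, 8092, 8191, 8202, 8120]⟩) (.leaf ⟨8, 4110, 3624, 0, 0, 0, 0, 62, 0, 3624, [21405, 24585, 24586]⟩))) (.node (.node (.leaf ⟨5, 563, 563, 1, 0, 1, 0, 38, 5, 563, [3027, 3025, 4106, 3024, 3026]⟩) (.leaf ⟨9, 3379, 3385, 0, 0, 0, 0, 57, 3, 3379, [20459, 20490, 20476]⟩)) (.node (.leaf ⟨7, 2114, 2115, 0, 0, 0, 0, 93, 0, 0, []⟩) (.leaf ⟨9, 4833, 4824, 0, 0, 0, 0, 53, 3, 4833, [28667, 28683, 28640]⟩)))) (.node (.node (.node (.leaf ⟨11, 379, 380, 0, 0, 0, 0, 93, 0, 0, []⟩) (.leaf ⟨10, 3053, 3051, 0, 0, 0, 0, 49, 5, 3053,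 [18441, 6189, 15882, 18434, 18436]⟩)) (.node (.leaf ⟨1, 1743, 699, 0, 0, 0, 0, 19, 2, 1742, [10250, 10249, 4230]⟩) (.leaf ⟨2, 4400, 4400, 1, 0, 1, 0, 22, 2, 4399, [26128, 26634, 26128]⟩))) (.node (.node (.leaf ⟨9, 437, 969, 0, 0, 0, 0, 93, 0, 0, []⟩) (.leaf ⟨4, 3785, 3783, 0, 0, 0, 0, 41, 0, 3783, [22531, 5943, 22536]⟩)) (.node (.leaf ⟨11, 1575, 1575, 1, 0, 1, 0, 37, 3, 1575, [8905, 14346, 8904]⟩) (.leaf ⟨1, 1554, 1554, 1, 0, 1, 0, 16, 0, 1554, [8769, 17892, 8768]⟩))))) (.node (.node (.node (.node (.leaf ⟨10, 140, 140, 1, 0, 1, 0, 58, 3, 140, [733, 1034, 732]⟩) (.leaf ⟨4, 2841, 2842, 0, 0, 0, 0, 40, 0, 2842, [17417, 17418, 17412]⟩)) (.node (.leaf ⟨4, 1616, 702, 0, 0, 0, 0, 38, 0, 702, [4269, 4930, 4925, 5387, 9224]⟩) (.leaf ⟨7, 4321, 4321, 1, 0, 1, 0, 57, 0, 4321,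 [25609, 24946, 25608]⟩))) (.node (.node (.leaf ⟨0, 374, 374, (-1), 0, (-1), 0, 4, 0, 374, [2001, 5130, 2000]⟩) (.leaf ⟨7, 3645, 3646, 0, 0, 0, 0, 93, 0, 0, []⟩)) (.node (.leaf ⟨4, 2315, 2315, 1, 0, (-1), 0, 39, 0, 2315, [13295, 13322, 13294]⟩) (.leaf ⟨5, 4956, 2597, 17, 0, (-1), 0, 48, 0, 2597, [29676, 29703, 29706]⟩)))) (.node (.node (.node (.leaf ⟨2, 573, 575, 0, 0, 0, 0, 28, 0, 575, [3075, 3083, 3068]⟩) (.leaf ⟨7, 3206, 3207, 0, 0, 0, 0, 93, 0, 0, []⟩)) (.node (.leaf ⟨5, 1628, 1901, 0, 0, 0, 0, 93, 0, 0, []⟩) (.leaf ⟨5, 4658, 4658, (-1), 0, 1, 0, 45, 4, 3682, [27632, 21673, 27658, 21672, 27632]⟩))) (.node (.node (.leaf ⟨8, 1151, 1165, 0, 0, 0, 0, 56, 5, 1151, [7105, 7135, 7160, 7176, 7178]⟩) (.leaf ⟨5, 3951, 3953, 0, 0, 0, 0, 48, 2, 2497, [23558, 15019, 23562]⟩))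 (.node (.leaf ⟨0, 2577, 2578, 0, 0, 0, 0, 93, 0, 0, []⟩) (.leaf ⟨0, 0, 0, 0, 0, 0, 0, 0, 0, 0, []⟩)))))) (.node (.node (.node (.node (.node (.leaf ⟨10, 127, 128, 0, 0, 0, 0, 93, 0, 0, []⟩) (.leaf ⟨8, 139, 2789, 0, 0, 0, 0, 93, 0, 0, []⟩)) (.node (.leaf ⟨5, 1546, 1547, 0, 0, 0, 0, 93, 0, 0, []⟩) (.leaf ⟨2, 4219, 4215, 0, 0, 0, 0, 23, 0, 4215, [25079, 25097, 25098]⟩))) (.node (.node (.leaf ⟨7, 693, 742, (-9), 0, (-3), 0, 66, 20, 694, [4191, 4197, 4199, 3173, 4208, 3109, 3120, 2594, 4062, 4052, 2562, 2539, 3958, 3015, 3300, 4210, 3302, 4218, 4223, 4227, 4233, 4231, 4234, 4240, 4246, 4176, 4252, 3257, 4118, 4255, 4257, 4258, 4266, 4271, 4378, 4380, 4382, 4384, 4388, 4390, 4394, 4398, 4400, 4406, 4411, 4447, 4452, 4443, 4459, 4462, 4472, 4474, 4080, 4086, 4074, 4592,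 2531, 4594, 4601, 4604, 4606, 4614, 4619]⟩) (.leaf ⟨6, 3499, 2657, 0, 0, 0, 0, 53, 0, 2657, [15923, 19881, 20938]⟩)) (.node (.leaf ⟨6, 2202, 2203, 0, 0, 0, 0, 93, 0, 0, []⟩) (.leaf ⟨4, 4899, 4899, 1, 0, (-1), 0, 43, 0, 4899, [29179, 29194, 29178]⟩)))) (.node (.node (.node (.leaf ⟨7, 467, 497, 0, 0, 0, 0, 93, 0, 0, []⟩) (.leaf ⟨4, 802, 802, (-1), 0, 1, 0, 43, 0, 802, [5139, 18954, 5138]⟩)) (.node (.leaf ⟨9, 1795, 1799, 0, 0, 0, 0, 27, 3, 1795, [10749, 10760, 10762]⟩) (.leaf ⟨5, 4574, 4575, 0, 0, 0, 0, 93, 0, 0, []⟩))) (.node (.node (.leaf ⟨8, 1059, 1060, 0, 0, 0, 0, 93, 0, 0, []⟩) (.leaf ⟨5, 3864, 3865, 0, 0, 0, 0, 93, 0, 0, []⟩)) (.node (.leaf ⟨5, 2395, 2395, 1, 0, 1, 0, 38, 5, 2395, [13869, 8103, 14858, 8102, 13868]⟩) (.leaf ⟨1, 832, 832, (-1), 0, (-1), 0, 17, 0,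 832, [5313, 31242, 5312]⟩))))) (.node (.node (.node (.node (.leaf ⟨6, 228, 229, 0, 0, 0, 0, 93, 0, 0, []⟩) (.leaf ⟨3, 2934, 2934, (-1), 0, 1, 0, 33, 0, 2934, [17889, 17930, 17888]⟩)) (.node (.leaf ⟨7, 1581, 1581, (-1), 0, (-1), 0, 46, 3, 1581, [8923, 9738, 8922]⟩) (.leaf ⟨6, 4397, 4398, 0, 0, 0, 0, 93, 0, 0, []⟩))) (.node (.node (.leaf ⟨8, 473, 891, 0, 0, 0, 0, 93, 0, 0, []⟩) (.leaf ⟨5, 3733, 3733, 1, 0, (-1), 0, 45, 0, 3733, [22009, 22019, 22026, 22018, 22008]⟩)) (.node (.leaf ⟨11, 2394, 1401, (-1), 0, (-5), 0, 29, 1, 2386, [13825, 13832, 13835]⟩) (.leaf ⟨7, 5025, 5026, 0, 0, 0, 0, 93, 0, 0, []⟩)))) (.node (.node (.node (.leaf ⟨2, 528, 475, 0, 0, 0, 0, 23, 0, 475, [2463, 3595, 2766]⟩) (.leaf ⟨6, 3307, 3307, 1, 0, 1, 0, 51, 0, 3307, [19979, 5646, 5664, 5647, 19978]⟩))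 (.node (.leaf ⟨7, 1277, 1982, (-21), 0, (-1), 0, 33, 3, 1277, [7619, 11787, 11726]⟩) (.leaf ⟨1, 486, 486, (-1), 0, (-1), 0, 16, 0, 486, [2533, 28170, 2532]⟩))) (.node (.node (.leaf ⟨5, 1296, 1297, 0, 0, 0, 0, 93, 0, 0, []⟩) (.leaf ⟨4, 4018, 4018, (-1), 0, 1, 0, 41, 2, 4022, [24043, 24074, 24043]⟩)) (.node (.leaf ⟨5, 438, 2645, 0, 0, 0, 0, 31, 3, 438, [2349, 15882, 15854]⟩) (.leaf ⟨0, 0, 0, 0, 0, 0, 0, 0, 0, 0, []⟩))))))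

def factsPart7 : ATree TFact :=
  .node (.node (.node (.node (.node (.node (.leaf ⟨11, 7, 8, 0, 0, 0, 0, 93, 0, 0, []⟩) (.leaf ⟨3, 1738, 1738, (-1), 0, 1, 0, 12, 1, 463, [4986, 13669, 13669]⟩)) (.node (.leaf ⟨8, 1404, 1394, (-17), 0, 9, 0, 52, 3, 1404, [8123, 8205, 8094]⟩) (.leaf ⟨4, 977, 4111, 0, 0, 0, 0, 93, 0, 0, []⟩))) (.node (.node (.leaf ⟨5, 564, 564, 1, 0, (-1), 0, 31, 3, 564, [3029, 4108, 3028]⟩) (.leaf ⟨9, 3380, 3386, 0, 0, 0, 0, 53, 3, 3380, [20461, 20492, 20478]⟩)) (.node (.leaf ⟨6, 2115, 2116, 0, 0, 0, 0, 93, 0, 0, []⟩) (.leaf ⟨3, 4831, 4824, (-3), 0, 3, 0, 35, 2, 4829, [28662, 28681, 28684]⟩)))) (.node (.node (.node (.leaf ⟨7, 380, 381, 0, 0, 0, 0, 93, 0, 0, []⟩) (.leaf ⟨10, 3054, 3052, 0, 0, 0, 0, 58, 3, 3054, [18443, 18444, 18438]⟩)) (.node (.leaf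 ⟨3, 1714, 1743, 27, 0, 1, 0, 12, 3, 1714, [10247, 4423, 10253]⟩) (.leaf ⟨2, 4431, 4431, 1, 0, (-1), 0, 28, 2, 4400, [26216, 26636, 26216]⟩))) (.node (.node (.leaf ⟨6, 418, 969, 0, 0, 0, 0, 53, 0, 969, [6157, 2373, 2262]⟩) (.leaf ⟨8, 931, 3786, 0, 0, 0, 0, 93, 0, 0, []⟩)) (.node (.leaf ⟨10, 1699, 1699, 1, 0, 1, 0, 65, 4, 1576, [9990, 8907, 14348, 8906, 9990]⟩) (.leaf ⟨1, 1555, 1555, (-1), 0, (-1), 0, 15, 0, 1555, [8771, 30732, 8770]⟩))))) (.node (.node (.node (.node (.leaf ⟨10, 141, 141, 1, 0, (-1), 0, 54, 3, 141, [735, 1036, 734]⟩) (.leaf ⟨4, 207, 207, 1, 0, (-1), 0, 40, 0, 207, [1497, 8734, 1496]⟩)) (.node (.leaf ⟨11, 702, 634, (-1), 0, 5, 0, 44, 1, 632, [9226, 9228, 3513]⟩) (.leaf ⟨6, 4320, 4320, (-1), 0, 1, 0, 51, 0, 4320, [25605, 25611, 25612, 25610, 25604]⟩)))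 (.node (.node (.leaf ⟨0, 375, 375, 1, 0, 1, 0, 9, 0, 375, [2003, 5132, 2002]⟩) (.leaf ⟨6, 3646, 3647, 0, 0, 0, 0, 93, 0, 0, []⟩)) (.node (.leaf ⟨3, 2309, 2309, (-1), 0, (-1), 0, 30, 0, 2309, [13273, 13297, 13324, 13296, 13272]⟩) (.leaf ⟨6, 2597, 4933, 0, 0, 0, 0, 54, 0, 4933, [29555, 15553, 15502]⟩)))) (.node (.node (.node (.leaf ⟨4, 575, 516, 0, 0, 0, 0, 43, 2, 574, [3074, 3073, 2694]⟩) (.leaf ⟨6, 3207, 3208, 0, 0, 0, 0, 93, 0, 0, []⟩)) (.node (.leaf ⟨4, 1901, 1902, 0, 0, 0, 0, 93, 0, 0, []⟩) (.leaf ⟨5, 4659, 4659, 1, 0, (-1), 0, 46, 0, 4659, [27635, 27660, 27634]⟩))) (.node (.node (.leaf ⟨6, 1165, 1166, 0, 0, 0, 0, 93, 0, 0, []⟩) (.leaf ⟨9, 2509, 3954, 0, 0, 0, 0, 93, 0, 0, []⟩)) (.node (.leaf ⟨7, 2578, 2579, 0, 0, 0, 0, 93, 0, 0, []⟩) (.leaf ⟨0, 0, 0, 0, 0, 0,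 0, 0, 0, 0, []⟩)))))) (.node (.node (.node (.node (.node (.leaf ⟨7, 112, 129, 0, 0, 0, 0, 93, 0, 0, []⟩) (.leaf ⟨4, 2789, 2781, 0, 0, 0, 0, 41, 0, 2781, [16867, 739, 16908]⟩)) (.node (.leaf ⟨4, 1547, 1548, 0, 0, 0, 0, 93, 0, 0, []⟩) (.leaf ⟨10, 4219, 4220, 0, 0, 0, 0, 93, 0, 0, []⟩))) (.node (.node (.leaf ⟨5, 683, 743, 0, 0, 0, 0, 93, 0, 0, []⟩) (.leaf ⟨7, 3501, 3519, 0, 0, 0, 0, 51, 5, 3501, [20943, 20941, 21004, 20990, 20992]⟩)) (.node (.leaf ⟨8, 2203, 2204, 0, 0, 0, 0, 93, 0, 0, []⟩) (.leaf ⟨1, 2359, 4900, 0, 0, 0, 0, 93, 0, 0, []⟩)))) (.node (.node (.node (.leaf ⟨5, 495, 497, 0, 0, 0, 0, 46, 2, 468, [2564, 2449, 2572]⟩) (.leaf ⟨4, 803, 803, 1, 0, (-1), 0, 44, 0, 803, [5141, 18956, 5140]⟩)) (.node (.leaf ⟨5, 1517, 1800, 0, 0, 0, 0, 93, 0, 0, []⟩) (.leaf ⟨2, 4575,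 3511, 0, 0, 0, 0, 23, 0, 3511, [20963, 27147, 27148]⟩))) (.node (.node (.leaf ⟨5, 1060, 1061, 0, 0, 0, 0, 93, 0, 0, []⟩) (.leaf ⟨10, 3865, 3866, 0, 0, 0, 0, 93, 0, 0, []⟩)) (.node (.leaf ⟨5, 2396, 2396, (-1), 0, (-1), 0, 46, 0, 2396, [13871, 14860, 13870]⟩) (.leaf ⟨1, 853, 853, 1, 0, 1, 0, 14, 0, 853, [5435, 31244, 5434]⟩))))) (.node (.node (.node (.node (.leaf ⟨5, 229, 230, 0, 0, 0, 0, 93, 0, 0, []⟩) (.leaf ⟨0, 2610, 2935, 0, 0, 0, 0, 93, 0, 0, []⟩)) (.node (.leaf ⟨7, 1582, 1582, (-1), 0, 1, 0, 40, 3, 1582, [8925, 9740, 8924]⟩) (.leaf ⟨5, 4398, 4399, 0, 0, 0, 0, 93, 0, 0, []⟩))) (.node (.node (.leaf ⟨6, 876, 891, 0, 0, 0, 0, 52, 2, 474, [5570, 2461, 5644]⟩) (.leaf ⟨1, 392, 392, (-1), 0, (-1), 0, 13, 0, 392, [2095, 1208, 2094]⟩)) (.node (.leaf ⟨1, 2383, 1988, 0,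 0, 0, 0, 19, 2, 2382, [13772, 13771, 11744]⟩) (.leaf ⟨4, 5026, 5023, 0, 0, 0, 0, 40, 0, 5023, [30209, 30219, 30220]⟩)))) (.node (.node (.node (.leaf ⟨2, 604, 646, 0, 0, 0, 0, 28, 0, 646, [3587, 3597, 3272]⟩) (.leaf ⟨7, 877, 3308, 0, 0, 0, 0, 93, 0, 0, []⟩)) (.node (.leaf ⟨7, 1983, 1278, 21, 0, 1, 0, 25, 3, 1983, [11729, 11789, 7620]⟩) (.leaf ⟨1, 487, 487, 1, 0, 1, 0, 15, 0, 487, [2535, 28172, 2534]⟩))) (.node (.node (.leaf ⟨1, 1293, 1285, 0, 0, 0, 0, 19, 2, 1292, [7684, 7683, 7634]⟩) (.leaf ⟨4, 4021, 4021, (-1), 0, (-1), 0, 40, 2, 4018, [24036, 24076, 24036]⟩)) (.node (.leaf ⟨5, 981, 2646, 0, 0, 0, 0, 48, 0, 2646, [15857, 15885, 6214]⟩) (.leaf ⟨0, 0, 0, 0, 0, 0, 0, 0, 0, 0, []⟩))))))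

def factsPart8 : ATree TFact :=
  .node (.node (.node (.node (.node (.node (.leaf ⟨5, 8, 9, 0, 0, 0, 0, 93, 0, 0, []⟩) (.leaf ⟨4, 2451, 2694, 27, 0, (-1), 0, 39, 2, 1783, [14638, 10661, 16104]⟩)) (.node (.leaf ⟨9, 1245, 1401, 0, 0, 0, 0, 63, 2, 1244, [7526, 7525, 8116]⟩) (.leaf ⟨10, 4111, 4112, 0, 0, 0, 0, 93, 0, 0, []⟩))) (.node (.node (.leaf ⟨5, 565, 565, 1, 0, 1, 0, 23, 3, 565, [3031, 4110, 3030]⟩) (.leaf ⟨9, 3381, 3387, 0, 0, 0, 0, 48, 3, 3381, [20463, 20494, 20480]⟩)) (.node (.leaf ⟨5, 2116, 2117, 0, 0, 0, 0, 93, 0, 0, []⟩) (.leaf ⟨10, 4818, 4830, 0, 0, 0, 0, 58, 3, 4818, [28619, 28617, 28656]⟩)))) (.node (.node (.node (.leaf ⟨6, 381, 382, 0, 0, 0, 0, 93, 0, 0, []⟩) (.leaf ⟨8, 585, 979, 0, 0, 0, 0, 61, 0, 979, [6189, 2437, 3188]⟩)) (.node (.leaf ⟨0, 1743, 1735,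 (-27), 0, 1, 0, 2, 0, 1735, [10223, 10230, 10254]⟩) (.leaf ⟨2, 4432, 4432, 1, 0, 1, 0, 23, 2, 4431, [26218, 26638, 26218]⟩))) (.node (.node (.leaf ⟨7, 969, 970, 0, 0, 0, 0, 93, 0, 0, []⟩) (.leaf ⟨10, 3784, 3786, 0, 0, 0, 0, 61, 3, 3784, [22535, 5947, 22542]⟩)) (.node (.leaf ⟨7, 572, 572, (-1), 0, (-1), 0, 40, 3, 572, [3065, 14318, 3064]⟩) (.leaf ⟨1, 1556, 1556, 1, 0, 1, 0, 14, 0, 1556, [8773, 30734, 8772]⟩))))) (.node (.node (.node (.node (.leaf ⟨5, 144, 144, 1, 0, (-1), 0, 49, 4, 142, [764, 741, 1038, 740, 764]⟩) (.leaf ⟨4, 208, 208, (-1), 0, 1, 0, 39, 0, 208, [1499, 17422, 1498]⟩)) (.node (.leaf ⟨11, 700, 636, (-1), 0, (-5), 0, 37, 1, 634, [9231, 4270, 3519]⟩) (.leaf ⟨5, 4318, 4318, 1, 0, 1, 0, 45, 0, 4318, [25595, 25607, 25614, 25606, 25594]⟩))) (.node (.node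 (.leaf ⟨9, 97, 801, 0, 0, 0, 0, 93, 0, 0, []⟩) (.leaf ⟨5, 3647, 3648, 0, 0, 0, 0, 93, 0, 0, []⟩)) (.node (.leaf ⟨3, 2310, 2310, 1, 0, 1, 0, 33, 0, 2310, [13275, 13326, 13274]⟩) (.leaf ⟨6, 4953, 4934, 17, 0, (-1), 0, 45, 5, 4953, [29657, 29673, 29708, 29710, 29558]⟩)))) (.node (.node (.node (.leaf ⟨1, 575, 575, (-1), 0, 1, 0, 13, 2, 516, [3087, 2750, 3087]⟩) (.leaf ⟨5, 3208, 3209, 0, 0, 0, 0, 93, 0, 0, []⟩)) (.node (.leaf ⟨3, 1902, 1903, 0, 0, 0, 0, 93, 0, 0, []⟩) (.leaf ⟨6, 4661, 4661, 1, 0, (-1), 0, 45, 5, 4661, [27639, 27637, 27662, 27636, 27638]⟩))) (.node (.node (.leaf ⟨8, 1152, 1166, 0, 0, 0, 0, 52, 3, 1152, [7107, 7180, 7182]⟩) (.leaf ⟨10, 3954, 3953, 0, 0, 0, 0, 63, 3, 3954, [23567, 15056, 23562]⟩)) (.node (.leaf ⟨6, 2579, 2580, 0, 0, 0, 0, 93, 0, 0, []⟩)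 (.leaf ⟨0, 0, 0, 0, 0, 0, 0, 0, 0, 0, []⟩)))))) (.node (.node (.node (.node (.node (.leaf ⟨6, 129, 130, 0, 0, 0, 0, 93, 0, 0, []⟩) (.leaf ⟨5, 2789, 2789, 1, 0, (-1), 0, 47, 0, 2789, [16909, 1050, 16908]⟩)) (.node (.leaf ⟨2, 1546, 1539, 0, 0, 0, 0, 28, 2, 1545, [8714, 8713, 8656]⟩) (.leaf ⟨2, 4220, 4216, 0, 0, 0, 0, 28, 0, 4216, [25089, 25101, 25102]⟩))) (.node (.node (.leaf ⟨7, 588, 743, 0, 0, 0, 0, 46, 3, 588, [3211, 4254, 4622]⟩) (.leaf ⟨7, 3511, 3520, 0, 0, 0, 0, 46, 3, 3511, [20963, 21006, 20994]⟩)) (.node (.leaf ⟨5, 2204, 2205, 0, 0, 0, 0, 93, 0, 0, []⟩) (.leaf ⟨3, 2359, 1765, 0, 0, 0, 0, 21, 5, 2359, [13571, 10545, 4358, 9994, 10462]⟩)))) (.node (.node (.node (.leaf ⟨10, 80, 498, 0, 0, 0, 0, 93, 0, 0, []⟩) (.leaf ⟨4, 804, 804, (-1), 0, 1, 0, 40, 0, 804, [5143,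 18958, 5142]⟩)) (.node (.leaf ⟨8, 1800, 1796, 0, 0, 0, 0, 47, 3, 1800, [10767, 8605, 10750]⟩) (.leaf ⟨4, 4575, 4576, 0, 0, 0, 0, 93, 0, 0, []⟩))) (.node (.node (.leaf ⟨4, 1061, 1062, 0, 0, 0, 0, 93, 0, 0, []⟩) (.leaf ⟨6, 3564, 3867, 0, 0, 0, 0, 93, 0, 0, []⟩)) (.node (.leaf ⟨4, 2396, 1398, 0, 0, 0, 0, 40, 2, 2395, [13870, 13869, 8106]⟩) (.leaf ⟨1, 920, 920, (-1), 0, (-1), 0, 13, 0, 920, [5871, 31246, 5870]⟩))))) (.node (.node (.node (.node (.leaf ⟨4, 230, 231, 0, 0, 0, 0, 93, 0, 0, []⟩) (.leaf ⟨7, 2935, 2936, 0, 0, 0, 0, 93, 0, 0, []⟩)) (.node (.leaf ⟨7, 1583, 1583, (-1), 0, (-1), 0, 33, 3, 1583, [8927, 9742, 8926]⟩) (.leaf ⟨4, 4399, 4400, 0, 0, 0, 0, 93, 0, 0, []⟩))) (.node (.node (.leaf ⟨9, 891, 892, 0, 0, 0, 0, 93, 0, 0, []⟩) (.leaf ⟨1, 393, 393, 1, 0, 1, 0, 18,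 0, 393, [2097, 22030, 2096]⟩)) (.node (.leaf ⟨1, 2393, 2384, 0, 0, 0, 0, 14, 0, 2384, [13775, 13838, 13826]⟩) (.leaf ⟨10, 4720, 5027, 0, 0, 0, 0, 93, 0, 0, []⟩)))) (.node (.node (.node (.leaf ⟨2, 605, 647, 0, 0, 0, 0, 29, 0, 647, [3589, 3599, 3274]⟩) (.leaf ⟨5, 3308, 3307, 0, 0, 0, 0, 46, 2, 877, [19982, 5573, 19978]⟩)) (.node (.leaf ⟨1, 1983, 1322, 8, 0, 22, 0, 16, 2, 1278, [11791, 11243, 7773]⟩) (.leaf ⟨1, 834, 834, (-1), 0, (-1), 0, 17, 0, 834, [5321, 28174, 5320]⟩))) (.node (.node (.leaf ⟨1, 1286, 1294, 0, 0, 0, 0, 14, 0, 1294, [7687, 7694, 7636]⟩) (.leaf ⟨4, 4020, 4020, (-1), 0, 1, 0, 43, 2, 4021, [24039, 24078, 24039]⟩)) (.node (.leaf ⟨10, 1950, 2648, 0, 0, 0, 0, 49, 5, 1950, [11457, 11371, 15886, 15858, 15860]⟩) (.leaf ⟨0, 0, 0, 0, 0, 0, 0, 0, 0, 0, []⟩))))))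

def factsPart9 : ATree TFact :=
  .node (.node (.node (.node (.node (.node (.leaf ⟨4, 9, 10, 0, 0, 0, 0, 93, 0, 0, []⟩) (.leaf ⟨7, 2694, 2702, (-23), 0, 9, 0, 40, 3, 2694, [16401, 14644, 16228]⟩)) (.node (.leaf ⟨9, 1402, 1246, 0, 0, 0, 0, 48, 3, 1402, [8119, 8209, 7528]⟩) (.leaf ⟨11, 4112, 4113, 0, 0, 0, 0, 93, 0, 0, []⟩))) (.node (.node (.leaf ⟨6, 564, 461, 0, 0, 0, 0, 32, 3, 564, [3029, 3192, 2422]⟩) (.leaf ⟨9, 3382, 3388, 0, 0, 0, 0, 63, 0, 3388, [20483, 20497, 20464]⟩)) (.node (.leaf ⟨4, 2117, 2118, 0, 0, 0, 0, 93, 0, 0, []⟩) (.leaf ⟨10, 4831, 4819, 0, 0, 0, 0, 54, 3, 4831, [28661, 28689, 28620]⟩)))) (.node (.node (.node (.leaf ⟨3, 369, 378, 0, 0, 0, 0, 35, 0, 378, [2057, 465, 1990]⟩) (.leaf ⟨8, 586, 3053, 0, 0, 0, 0, 47, 3, 586, [3197, 18448, 18440]⟩)) (.node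 (.leaf ⟨4, 1742, 1737, 0, 0, 0, 0, 13, 3, 1742, [10249, 4668, 10210]⟩) (.leaf ⟨2, 4433, 4433, 1, 0, (-1), 0, 24, 2, 4432, [26220, 26640, 26220]⟩))) (.node (.node (.leaf ⟨6, 970, 971, 0, 0, 0, 0, 93, 0, 0, []⟩) (.leaf ⟨4, 3786, 3786, (-1), 0, 11, 0, 41, 2, 931, [22542, 5950, 22542]⟩)) (.node (.leaf ⟨7, 1575, 1575, (-1), 0, 1, 0, 33, 3, 1575, [8905, 14352, 8904]⟩) (.leaf ⟨1, 1557, 1557, (-1), 0, (-1), 0, 13, 0, 1557, [8775, 30736, 8774]⟩))))) (.node (.node (.node (.node (.leaf ⟨7, 7, 170, 0, 0, 0, 0, 93, 0, 0, []⟩) (.leaf ⟨4, 209, 209, 1, 0, (-1), 0, 41, 0, 209, [1501, 17424, 1500]⟩)) (.node (.leaf ⟨5, 566, 1617, 0, 0, 0, 0, 93, 0, 0, []⟩) (.leaf ⟨10, 4315, 4315, 1, 0, 1, 0, 49, 5, 4315, [25583, 25599, 25616, 25598, 25582]⟩))) (.node (.node (.leaf ⟨10, 801, 802, 0,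 0, 0, 0, 93, 0, 0, []⟩) (.leaf ⟨4, 3648, 3649, 0, 0, 0, 0, 93, 0, 0, []⟩)) (.node (.leaf ⟨3, 2311, 2311, (-1), 0, (-1), 0, 32, 0, 2311, [13277, 13328, 13276]⟩) (.leaf ⟨7, 4952, 4955, (-17), 0, (-1), 0, 51, 3, 4934, [29648, 29650, 29713, 29658, 29660]⟩)))) (.node (.node (.node (.leaf ⟨2, 567, 567, (-1), 0, 1, 0, 11, 5, 567, [3071, 3084, 3088, 3085, 3070]⟩) (.leaf ⟨4, 3209, 3210, 0, 0, 0, 0, 93, 0, 0, []⟩)) (.node (.leaf ⟨2, 1903, 1904, 0, 0, 0, 0, 93, 0, 0, []⟩) (.leaf ⟨6, 4662, 4662, 1, 0, 1, 0, 39, 3, 4662, [27641, 27664, 27640]⟩))) (.node (.node (.leaf ⟨9, 1120, 1163, 0, 0, 0, 0, 63, 2, 1119, [6992, 6991, 7162]⟩) (.leaf ⟨5, 3756, 3954, 0, 0, 0, 0, 48, 2, 2510, [22326, 15053, 23566]⟩)) (.node (.leaf ⟨8, 1592, 2581, 0, 0, 0, 0, 93, 0, 0, []⟩) (.leaf ⟨0, 0, 0, 0,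 0, 0, 0, 0, 0, 0, []⟩)))))) (.node (.node (.node (.node (.node (.leaf ⟨6, 0, 0, 1, 0, 1, 0, 86, 0, 0, []⟩) (.leaf ⟨4, 2786, 2786, (-1), 0, (-1), 0, 38, 0, 2786, [16899, 16911, 16912, 16910, 16898]⟩)) (.node (.leaf ⟨2, 1540, 1547, 0, 0, 0, 0, 23, 0, 1547, [8717, 8720, 8682]⟩) (.leaf ⟨3, 4166, 4217, 0, 0, 0, 0, 33, 0, 4217, [25091, 12405, 24768]⟩))) (.node (.node (.leaf ⟨4, 743, 744, 0, 0, 0, 0, 93, 0, 0, []⟩) (.leaf ⟨7, 3512, 3521, 0, 0, 0, 0, 40, 3, 3512, [20965, 21008, 20996]⟩)) (.node (.leaf ⟨10, 2205, 2206, 0, 0, 0, 0, 93, 0, 0, []⟩) (.leaf ⟨3, 4900, 4898, 0, 0, 0, 0, 12, 3, 4900, [29199, 29200, 29176]⟩)))) (.node (.node (.node (.leaf ⟨6, 498, 88, 0, 0, 0, 0, 54, 0, 88, [385, 335, 2576]⟩) (.leaf ⟨6, 802, 802, 1, 0, 1, 0, 54, 0, 802, [5139, 5242, 5138]⟩)) (.node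 (.leaf ⟨4, 1800, 1801, 0, 0, 0, 0, 93, 0, 0, []⟩) (.leaf ⟨2, 4576, 3512, 0, 0, 0, 0, 22, 0, 3512, [20965, 27151, 27152]⟩))) (.node (.node (.leaf ⟨10, 1062, 1063, 0, 0, 0, 0, 93, 0, 0, []⟩) (.leaf ⟨5, 3867, 3868, 0, 0, 0, 0, 93, 0, 0, []⟩)) (.node (.leaf ⟨3, 1149, 1401, 0, 0, 0, 0, 36, 0, 1401, [8117, 7655, 7100]⟩) (.leaf ⟨1, 926, 926, 1, 0, 1, 0, 12, 0, 926, [5923, 31248, 5922]⟩))))) (.node (.node (.node (.node (.leaf ⟨10, 231, 232, 0, 0, 0, 0, 93, 0, 0, []⟩) (.leaf ⟨4, 2922, 2606, 0, 0, 0, 0, 13, 3, 2922, [17819, 11888, 15560]⟩)) (.node (.leaf ⟨7, 1665, 1665, (-1), 0, 1, 0, 25, 3, 1665, [9731, 9744, 9730]⟩) (.leaf ⟨3, 4400, 4401, 0, 0, 0, 0, 93, 0, 0, []⟩))) (.node (.node (.leaf ⟨6, 892, 889, 0, 0, 0, 0, 53, 0, 889, [5631, 5646, 5648]⟩) (.leaf ⟨2, 379, 379, 1, 0,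 (-1), 0, 11, 3, 393, [2108, 2132, 22032, 2108, 2132]⟩)) (.node (.leaf ⟨1, 2394, 2385, 0, 0, 0, 0, 15, 0, 2385, [13777, 13841, 13828]⟩) (.leaf ⟨7, 5027, 5028, 0, 0, 0, 0, 93, 0, 0, []⟩)))) (.node (.node (.node (.leaf ⟨7, 500, 646, 0, 0, 0, 0, 58, 0, 646, [3587, 2525, 2600]⟩) (.leaf ⟨7, 895, 3309, 0, 0, 0, 0, 93, 0, 0, []⟩)) (.node (.leaf ⟨8, 1927, 1980, 0, 0, 0, 0, 47, 3, 1927, [11345, 11343, 11722]⟩) (.leaf ⟨1, 836, 836, 1, 0, 1, 0, 14, 0, 836, [5329, 28176, 5328]⟩))) (.node (.node (.leaf ⟨1, 1287, 1295, 0, 0, 0, 0, 15, 0, 1295, [7689, 7697, 7638]⟩) (.leaf ⟨3, 3698, 4017, 0, 0, 0, 0, 34, 0, 4017, [24023, 2075, 21730]⟩)) (.node (.leaf ⟨10, 1951, 2649, 0, 0, 0, 0, 43, 3, 1951, [11459, 15888, 15862]⟩) (.leaf ⟨0, 0, 0, 0, 0, 0, 0, 0, 0, 0, []⟩))))))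

def factsPart10 : ATree TFact :=
  .node (.node (.node (.node (.node (.node (.leaf ⟨3, 10, 11, 0, 0, 0, 0, 93, 0, 0, []⟩) (.leaf ⟨5, 2707, 2702, 91, 0, 11, 0, 68, 69, 1576, [9990, 14350, 10000, 16246, 10004, 8874, 10553, 10550, 4753, 9013, 16254, 10152, 16264, 16335, 16348, 16356, 15612, 15609, 16358, 16362, 8908, 8988, 8995, 4329, 4790, 9960, 16128, 16133, 16257, 10153, 9009, 16368, 16372, 9003, 16376, 4307, 4305, 4317, 16378, 1141, 999, 995, 967, 951, 938, 698, 2712, 9668, 1601, 9150, 1599, 6773, 8974, 6774, 16380, 6771, 570, 16382, 16384, 570, 552, 576, 579, 546, 16154, 8972, 16386, 16388, 8973, 8964, 16390, 8978, 8968, 16396, 8946, 8948, 8950, 8960, 9754, 10120, 10436, 10100, 10646, 10654, 10260, 16398, 10618, 16104, 16402]⟩)) (.node (.leaf ⟨9, 1403, 1247, 0,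 0, 0, 0, 57, 3, 1403, [8121, 8210, 7530]⟩) (.leaf ⟨7, 3558, 976, 0, 0, 0, 0, 51, 5, 3558, [21121, 21119, 18518, 6174, 6176]⟩))) (.node (.node (.leaf ⟨6, 565, 462, 0, 0, 0, 0, 24, 3, 565, [3031, 4114, 2424]⟩) (.leaf ⟨8, 3386, 3389, 0, 0, 0, 0, 93, 0, 0, []⟩)) (.node (.leaf ⟨3, 2118, 2119, 0, 0, 0, 0, 93, 0, 0, []⟩) (.leaf ⟨3, 4827, 4819, 3, 0, (-3), 0, 36, 2, 4824, [28650, 28687, 28690]⟩)))) (.node (.node (.node (.leaf ⟨3, 370, 379, 0, 0, 0, 0, 36, 0, 379, [2059, 2067, 1992]⟩) (.leaf ⟨7, 751, 3055, 0, 0, 0, 0, 93, 0, 0, []⟩)) (.node (.leaf ⟨4, 1743, 1738, 0, 0, 0, 0, 43, 0, 1738, [10213, 10259, 10250]⟩) (.leaf ⟨2, 4434, 4434, 1, 0, 1, 0, 25, 2, 4433, [26222, 26642, 26222]⟩))) (.node (.node (.leaf ⟨7, 967, 971, 0, 0, 0, 0, 51, 5, 967, [6139, 6137, 6158, 6160, 6162]⟩)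 (.leaf ⟨4, 3784, 3784, (-1), 0, (-11), 0, 43, 2, 3786, [22545, 22546, 22545]⟩)) (.node (.leaf ⟨7, 1576, 1576, 1, 0, (-1), 0, 58, 0, 1576, [8907, 14354, 8906]⟩) (.leaf ⟨1, 1558, 1558, 1, 0, 1, 0, 12, 0, 1558, [8777, 30738, 8776]⟩))))) (.node (.node (.node (.node (.leaf ⟨5, 138, 170, 0, 0, 0, 0, 46, 2, 122, [708, 513, 1042]⟩) (.leaf ⟨5, 211, 211, 1, 0, (-1), 0, 38, 5, 211, [1505, 1503, 17426, 1502, 1504]⟩)) (.node (.leaf ⟨2, 700, 1617, 0, 0, 0, 0, 23, 0, 1617, [9235, 3050, 4258]⟩) (.leaf ⟨10, 4316, 4316, 1, 0, (-1), 0, 43, 3, 4316, [25585, 25618, 25584]⟩))) (.node (.node (.leaf ⟨11, 802, 803, 0, 0, 0, 0, 93, 0, 0, []⟩) (.leaf ⟨7, 3063, 3650, 0, 0, 0, 0, 93, 0, 0, []⟩)) (.node (.leaf ⟨4, 1206, 2319, 0, 0, 0, 0, 93, 0, 0, []⟩) (.leaf ⟨2, 2909, 2909, (-1), 0, (-1), 0,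 11, 5, 2909, [17771, 73, 238, 72, 17770]⟩)))) (.node (.node (.node (.leaf ⟨3, 566, 566, (-1), 0, 1, 0, 21, 3, 567, [3049, 3051, 3090, 3049, 3051]⟩) (.leaf ⟨9, 3190, 3205, 0, 0, 0, 0, 63, 2, 3189, [19362, 19361, 19464]⟩)) (.node (.leaf ⟨1, 1904, 1905, 0, 0, 0, 0, 93, 0, 0, []⟩) (.leaf ⟨6, 4663, 4663, 1, 0, (-1), 0, 32, 3, 4663, [27643, 27666, 27642]⟩))) (.node (.node (.leaf ⟨9, 1164, 1121, 0, 0, 0, 0, 48, 3, 1164, [7175, 7187, 6994]⟩) (.leaf ⟨5, 3950, 3952, 0, 0, 0, 0, 49, 0, 3952, [23561, 23564, 23569, 23571, 23544]⟩)) (.node (.leaf ⟨10, 2581, 2571, 0, 0, 0, 0, 61, 3, 2581, [15379, 8968, 15358]⟩) (.leaf ⟨0, 0, 0, 0, 0, 0, 0, 0, 0, 0, []⟩)))))) (.node (.node (.node (.node (.node (.leaf ⟨6, 1, 1, 1, 0, (-1), 0, 15, 3, 1, [1, 530, 0]⟩) (.leaf ⟨4, 2787, 2787, 1, 0, 1,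 0, 42, 0, 2787, [16901, 16914, 16900]⟩)) (.node (.leaf ⟨2, 1541, 1548, 0, 0, 0, 0, 22, 0, 1548, [8719, 8723, 8684]⟩) (.leaf ⟨3, 4167, 4218, 0, 0, 0, 0, 32, 0, 4218, [25095, 25107, 24770]⟩))) (.node (.node (.leaf ⟨7, 741, 744, 0, 0, 0, 0, 40, 3, 741, [4613, 4624, 4626]⟩) (.leaf ⟨7, 3513, 3522, 0, 0, 0, 0, 33, 3, 3513, [20967, 21010, 20998]⟩)) (.node (.leaf ⟨11, 2206, 2207, 0, 0, 0, 0, 93, 0, 0, []⟩) (.leaf ⟨10, 4900, 4901, 0, 0, 0, 0, 93, 0, 0, []⟩)))) (.node (.node (.node (.leaf ⟨11, 498, 499, 0, 0, 0, 0, 93, 0, 0, []⟩) (.leaf ⟨6, 803, 803, (-1), 0, (-1), 0, 55, 0, 803, [5141, 18962, 5140]⟩)) (.node (.leaf ⟨8, 1797, 1801, 0, 0, 0, 0, 41, 3, 1797, [10755, 10769, 10770]⟩) (.leaf ⟨10, 4576, 4577, 0, 0, 0, 0, 93, 0, 0, []⟩))) (.node (.node (.leaf ⟨10, 274, 1064, 0, 0,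 0, 0, 93, 0, 0, []⟩) (.leaf ⟨7, 3867, 3864, 0, 0, 0, 0, 51, 5, 3867, [23057, 21145, 21432, 23048, 23050]⟩)) (.node (.leaf ⟨3, 1150, 1402, 0, 0, 0, 0, 31, 0, 1402, [8119, 14867, 7102]⟩) (.leaf ⟨2, 5182, 5182, 1, 0, 1, 0, 11, 5, 5182, [31217, 5981, 31250, 5980, 31216]⟩))))) (.node (.node (.node (.node (.leaf ⟨9, 227, 214, 0, 0, 0, 0, 63, 2, 226, [1544, 1543, 1510]⟩) (.leaf ⟨4, 2930, 2610, 0, 0, 0, 0, 42, 0, 2610, [15569, 17939, 17866]⟩)) (.node (.leaf ⟨5, 247, 1579, 0, 0, 0, 0, 46, 2, 246, [1606, 1605, 8918]⟩) (.leaf ⟨10, 4401, 4402, 0, 0, 0, 0, 93, 0, 0, []⟩))) (.node (.node (.leaf ⟨8, 467, 467, 1, 0, (-1), 0, 62, 0, 467, [2447, 5228, 2446]⟩) (.leaf ⟨7, 369, 3737, 0, 0, 0, 0, 93, 0, 0, []⟩)) (.node (.leaf ⟨1, 2378, 1401, 0, 0, 0, 0, 19, 2, 1630, [13754, 9535, 8116]⟩)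 (.leaf ⟨6, 5028, 5029, 0, 0, 0, 0, 93, 0, 0, []⟩)))) (.node (.node (.node (.leaf ⟨11, 500, 648, 0, 0, 0, 0, 93, 0, 0, []⟩) (.leaf ⟨10, 3309, 3308, 0, 0, 0, 0, 58, 3, 3309, [19987, 5679, 19982]⟩)) (.node (.leaf ⟨8, 1981, 1928, 0, 0, 0, 0, 41, 3, 1981, [11725, 11795, 11346]⟩) (.leaf ⟨1, 863, 863, (-1), 0, (-1), 0, 13, 0, 863, [5501, 28178, 5500]⟩))) (.node (.node (.leaf ⟨1, 1288, 1296, 0, 0, 0, 0, 13, 0, 1296, [7691, 7699, 7640]⟩) (.leaf ⟨3, 3699, 4018, 0, 0, 0, 0, 31, 0, 4018, [24025, 24083, 21732]⟩)) (.node (.leaf ⟨2, 451, 2650, 0, 0, 0, 0, 93, 0, 0, []⟩) (.leaf ⟨0, 0, 0, 0, 0, 0, 0, 0, 0, 0, []⟩))))))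

def factsPart11 : ATree TFact :=
  .node (.node (.node (.node (.node (.node (.leaf ⟨10, 11, 12, 0, 0, 0, 0, 93, 0, 0, []⟩) (.leaf ⟨6, 2619, 2619, (-1), 0, (-1), 0, 15, 3, 2619, [15603, 14088, 15602]⟩)) (.node (.leaf ⟨9, 1404, 1248, 0, 0, 0, 0, 53, 3, 1404, [8123, 8212, 7532]⟩) (.leaf ⟨7, 4107, 977, 0, 0, 0, 0, 46, 3, 4107, [24575, 24596, 6178]⟩))) (.node (.node (.leaf ⟨10, 600, 683, 0, 0, 0, 0, 93, 0, 0, []⟩) (.leaf ⟨5, 3389, 3390, 0, 0, 0, 0, 93, 0, 0, []⟩)) (.node (.leaf ⟨5, 1936, 2120, 0, 0, 0, 0, 93, 0, 0, []⟩) (.leaf ⟨1, 2476, 2476, (-1), 0, (-1), 0, 17, 0, 2476, [14903, 15772, 14902]⟩)))) (.node (.node (.node (.leaf ⟨3, 371, 380, 0, 0, 0, 0, 37, 0, 380, [2061, 2069, 1994]⟩) (.leaf ⟨8, 3054, 3055, 0, 0, 0, 0, 56, 5, 3054, [18443, 18451, 4728, 4724, 18452]⟩))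 (.node (.leaf ⟨0, 1736, 1738, 27, 0, (-1), 0, 3, 2, 1735, [10206, 10257, 10260]⟩) (.leaf ⟨3, 4430, 4434, 22, 0, (-2), 0, 66, 2, 4434, [26265, 26249, 26247, 26245, 26268, 26284, 26326, 26267, 26342, 26352, 26239, 26256, 26360, 26368, 26384, 26396, 26365, 26401, 26435, 26445, 26450, 26459, 26455, 26453, 18441, 6194, 18843, 18840, 18835, 26460, 26462, 26470, 26478, 26486, 26494, 26504, 26515, 26511, 26518, 26524, 26533, 26541, 26544, 26543, 26546, 26552, 6250, 2349, 26554, 6188, 20894, 20896, 26556, 26558, 26560, 26562, 26564, 26591, 26602, 26182, 26214, 26628, 26644]⟩))) (.node (.node (.leaf ⟨5, 971, 972, 0, 0, 0, 0, 93, 0, 0, []⟩) (.leaf ⟨5, 3783, 3783, (-1), 0, (-11), 0, 38, 3, 3784, [22539, 22540, 22548, 22539, 22540]⟩)) (.node (.leaf ⟨7, 1699, 1699, (-1), 0, 1,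 0, 59, 0, 1699, [9991, 14356, 9990]⟩) (.leaf ⟨2, 5117, 5117, 1, 0, 1, 0, 11, 5, 5117, [30721, 8779, 30740, 8778, 30720]⟩))))) (.node (.node (.node (.node (.leaf ⟨7, 143, 143, (-1), 0, 1, 0, 58, 0, 143, [751, 352, 750]⟩) (.leaf ⟨5, 2524, 2524, (-1), 0, 1, 0, 48, 0, 2524, [15155, 17428, 15154]⟩)) (.node (.leaf ⟨11, 1617, 638, (-1), 0, 5, 0, 29, 1, 636, [9233, 9236, 3525]⟩) (.leaf ⟨5, 4112, 4112, (-1), 0, (-1), 0, 49, 0, 4112, [24593, 25591, 25620, 25590, 24592]⟩))) (.node (.node (.leaf ⟨7, 803, 804, 0, 0, 0, 0, 93, 0, 0, []⟩) (.leaf ⟨6, 3650, 3651, 0, 0, 0, 0, 93, 0, 0, []⟩)) (.node (.leaf ⟨7, 2319, 2320, 0, 0, 0, 0, 93, 0, 0, []⟩) (.leaf ⟨2, 2910, 2910, 1, 0, 1, 0, 27, 0, 2910, [17775, 29716, 17774]⟩)))) (.node (.node (.node (.leaf ⟨4, 555, 555, (-1), 0, 1, 0, 30,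 5, 555, [3023, 3042, 3092, 3043, 3022]⟩) (.leaf ⟨9, 3206, 3191, 0, 0, 0, 0, 64, 0, 3191, [19365, 19476, 19466]⟩)) (.node (.leaf ⟨7, 1905, 1906, 0, 0, 0, 0, 93, 0, 0, []⟩) (.leaf ⟨3, 3846, 4664, 0, 0, 0, 0, 93, 0, 0, []⟩))) (.node (.node (.leaf ⟨9, 1165, 1122, 0, 0, 0, 0, 57, 3, 1165, [7179, 7188, 6996]⟩) (.leaf ⟨4, 3926, 3951, 0, 0, 0, 0, 42, 2, 2498, [23458, 15021, 23558]⟩)) (.node (.leaf ⟨5, 2581, 2581, (-1), 0, (-1), 0, 47, 0, 2581, [15379, 8978, 15378]⟩) (.leaf ⟨0, 0, 0, 0, 0, 0, 0, 0, 0, 0, []⟩)))))) (.node (.node (.node (.node (.node (.leaf ⟨6, 2, 2, 1, 0, 1, 0, 24, 3, 2, [3, 532, 2]⟩) (.leaf ⟨4, 2788, 2788, (-1), 0, (-1), 0, 40, 0, 2788, [16903, 16916, 16902]⟩)) (.node (.leaf ⟨10, 9, 1549, 0, 0, 0, 0, 93, 0, 0, []⟩) (.leaf ⟨3, 4168, 4219, 0, 0, 0, 0, 31, 0,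 4219, [25099, 25109, 24772]⟩))) (.node (.node (.leaf ⟨6, 744, 692, 6, 0, 0, 0, 51, 2, 693, [4620, 4618, 4628, 4189, 4187]⟩) (.leaf ⟨7, 3514, 3523, 0, 0, 0, 0, 58, 0, 3523, [21001, 21013, 20968]⟩)) (.node (.leaf ⟨8, 210, 1529, 0, 0, 0, 0, 47, 3, 210, [1503, 1501, 8636]⟩) (.leaf ⟨3, 4901, 4899, 0, 0, 0, 0, 36, 0, 4899, [29179, 29203, 29204]⟩)))) (.node (.node (.node (.leaf ⟨6, 499, 467, 0, 0, 0, 0, 55, 0, 467, [2447, 2579, 2580]⟩) (.leaf ⟨7, 805, 805, (-1), 0, (-1), 0, 51, 5, 805, [5145, 5143, 18964, 5142, 5144]⟩)) (.node (.leaf ⟨3, 1801, 1802, 0, 0, 0, 0, 93, 0, 0, []⟩) (.leaf ⟨10, 4563, 4578, 0, 0, 0, 0, 93, 0, 0, []⟩))) (.node (.node (.leaf ⟨7, 1064, 1065, 0, 0, 0, 0, 93, 0, 0, []⟩) (.leaf ⟨7, 3868, 3865, 0, 0, 0, 0, 46, 3, 3868, [23059, 23060, 23052]⟩)) (.node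 (.leaf ⟨3, 1151, 1403, 0, 0, 0, 0, 33, 0, 1403, [8121, 14869, 7104]⟩) (.leaf ⟨2, 5183, 5183, (-1), 0, (-1), 0, 27, 0, 5183, [31219, 31252, 31218]⟩))))) (.node (.node (.node (.node (.leaf ⟨9, 220, 228, 0, 0, 0, 0, 57, 3, 220, [1523, 1557, 1546]⟩) (.leaf ⟨4, 2931, 2935, 0, 0, 0, 0, 3, 3, 2931, [17869, 17940, 17934]⟩)) (.node (.leaf ⟨6, 1581, 1609, 0, 0, 0, 0, 45, 5, 1581, [8923, 8921, 9749, 1608, 9102]⟩) (.leaf ⟨5, 4402, 4403, 0, 0, 0, 0, 93, 0, 0, []⟩))) (.node (.node (.leaf ⟨8, 468, 468, 1, 0, 1, 0, 47, 3, 468, [2449, 5652, 2448]⟩) (.leaf ⟨10, 3708, 3737, 0, 0, 0, 0, 58, 3, 3708, [21787, 1993, 22036]⟩)) (.node (.leaf ⟨11, 2385, 2378, (-1), 0, 5, 0, 20, 1, 1401, [13837, 13842, 13845]⟩) (.leaf ⟨8, 5029, 5030, 0, 0, 0, 0, 93, 0, 0, []⟩)))) (.node (.node (.node (.leaf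 ⟨7, 648, 647, 0, 0, 0, 0, 59, 0, 647, [3589, 3603, 3604]⟩) (.leaf ⟨3, 3309, 3309, 1, 0, (-1), 0, 33, 2, 895, [19986, 5684, 19986]⟩)) (.node (.leaf ⟨8, 1982, 1929, 0, 0, 0, 0, 34, 3, 1982, [11727, 11796, 11348]⟩) (.leaf ⟨1, 900, 900, 1, 0, 1, 0, 12, 0, 900, [5725, 28180, 5724]⟩))) (.node (.node (.leaf ⟨1, 1289, 1297, 0, 0, 0, 0, 14, 0, 1297, [7693, 7701, 7642]⟩) (.leaf ⟨3, 3700, 4019, 0, 0, 0, 0, 36, 0, 4019, [24027, 24085, 21734]⟩)) (.node (.leaf ⟨9, 2650, 2651, 0, 0, 0, 0, 93, 0, 0, []⟩) (.leaf ⟨0, 0, 0, 0, 0, 0, 0, 0, 0, 0, []⟩))))))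

def factsPart12 : ATree TFact :=
  .node (.node (.node (.node (.node (.node (.leaf ⟨5, 12, 13, 0, 0, 0, 0, 93, 0, 0, []⟩) (.leaf ⟨6, 2620, 2620, 1, 0, 1, 0, 54, 0, 2620, [15607, 16406, 15606]⟩)) (.node (.leaf ⟨9, 1400, 1249, 17, 0, 9, 0, 60, 3, 1394, [8112, 8114, 8207, 8214, 7534]⟩) (.leaf ⟨7, 4108, 4111, 0, 0, 0, 0, 40, 3, 4108, [24577, 24598, 24590]⟩))) (.node (.node (.leaf ⟨2, 602, 683, 0, 0, 0, 0, 28, 2, 601, [3258, 3257, 4118]⟩) (.leaf ⟨10, 3390, 3391, 0, 0, 0, 0, 93, 0, 0, []⟩)) (.node (.leaf ⟨4, 2120, 2121, 0, 0, 0, 0, 93, 0, 0, []⟩) (.leaf ⟨1, 2477, 2477, 1, 0, 1, 0, 14, 0, 2477, [14905, 28694, 14904]⟩)))) (.node (.node (.node (.leaf ⟨3, 372, 381, 0, 0, 0, 0, 33, 0, 381, [2063, 2071, 1996]⟩) (.leaf ⟨8, 2643, 593, 0, 0, 0, 0, 47, 3, 2643, [15851, 15849, 3232]⟩))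 (.node (.leaf ⟨10, 1739, 1736, (-27), 0, (-1), 0, 9, 1, 1738, [10213, 10214, 10263]⟩) (.leaf ⟨7, 4404, 4430, (-22), 0, (-2), 0, 33, 1, 4434, [26223, 26228, 26647]⟩))) (.node (.node (.leaf ⟨7, 968, 972, 0, 0, 0, 0, 46, 3, 968, [6145, 6164, 6166]⟩) (.leaf ⟨6, 3780, 3780, (-1), 0, (-11), 0, 45, 3, 3783, [22533, 22500, 22550, 22533, 22500]⟩)) (.node (.leaf ⟨6, 1699, 1703, 0, 0, 0, 0, 55, 0, 1703, [10011, 8915, 9990]⟩) (.leaf ⟨2, 5118, 5118, (-1), 0, (-1), 0, 28, 0, 5118, [30725, 30742, 30724]⟩))))) (.node (.node (.node (.node (.leaf ⟨6, 170, 170, 1, 0, 1, 0, 51, 0, 170, [1043, 752, 1046, 753, 1042]⟩) (.leaf ⟨5, 2842, 2842, 1, 0, (-1), 0, 46, 0, 2842, [17417, 17430, 17416]⟩)) (.node (.leaf ⟨10, 1617, 1617, 1, 0, 1, 0, 49, 5, 1617, [9235, 3033, 4112, 3032, 9234]⟩) (.leaf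 ⟨4, 4112, 978, 0, 0, 0, 0, 43, 2, 4111, [24592, 24591, 6180]⟩))) (.node (.node (.leaf ⟨6, 804, 805, 0, 0, 0, 0, 93, 0, 0, []⟩) (.leaf ⟨8, 3651, 3652, 0, 0, 0, 0, 93, 0, 0, []⟩)) (.node (.leaf ⟨6, 2320, 2321, 0, 0, 0, 0, 93, 0, 0, []⟩) (.leaf ⟨2, 2911, 2911, (-1), 0, (-1), 0, 28, 0, 2911, [17779, 29718, 17778]⟩)))) (.node (.node (.node (.leaf ⟨4, 552, 552, (-1), 0, (-1), 0, 43, 2, 555, [3001, 3094, 3001]⟩) (.leaf ⟨9, 3207, 3192, 0, 0, 0, 0, 57, 3, 3207, [19469, 19478, 19366]⟩)) (.node (.leaf ⟨10, 1877, 1907, 0, 0, 0, 0, 93, 0, 0, []⟩) (.leaf ⟨7, 4660, 3684, 0, 0, 0, 0, 51, 3, 4658, [27634, 27636, 27633, 21674, 21676]⟩))) (.node (.node (.leaf ⟨9, 1166, 1123, 0, 0, 0, 0, 53, 3, 1166, [7183, 7190, 6998]⟩) (.leaf ⟨4, 3952, 3927, 0, 0, 0, 0, 43, 0, 3927, [23461, 23574,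 23560]⟩)) (.node (.leaf ⟨10, 2572, 2572, (-1), 0, (-1), 0, 49, 5, 2572, [15361, 15381, 15382, 15380, 15360]⟩) (.leaf ⟨0, 0, 0, 0, 0, 0, 0, 0, 0, 0, []⟩)))))) (.node (.node (.node (.node (.node (.leaf ⟨6, 3, 3, 1, 0, (-1), 0, 32, 3, 3, [5, 534, 4]⟩) (.leaf ⟨3, 2786, 158, 0, 0, 0, 0, 31, 0, 158, [913, 16869, 16898]⟩)) (.node (.leaf ⟨4, 205, 1549, 0, 0, 0, 0, 43, 2, 10, [1492, 19, 8726]⟩) (.leaf ⟨10, 4168, 4221, 0, 0, 0, 0, 93, 0, 0, []⟩))) (.node (.node (.leaf ⟨0, 88, 88, 1, 0, 1, 0, 9, 0, 88, [385, 1484, 384]⟩) (.leaf ⟨7, 3515, 3524, 0, 0, 0, 0, 59, 0, 3524, [21003, 21015, 20970]⟩)) (.node (.leaf ⟨8, 1530, 211, 0, 0, 0, 0, 41, 3, 1530, [8639, 12823, 1504]⟩) (.leaf ⟨1, 1768, 1768, (-1), 0, (-1), 0, 12, 0, 1768, [10545, 4372, 10544]⟩)))) (.node (.node (.node (.leaf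 ⟨7, 498, 498, (-1), 0, (-1), 0, 58, 0, 498, [2577, 358, 2576]⟩) (.leaf ⟨5, 813, 3122, 0, 0, 0, 0, 93, 0, 0, []⟩)) (.node (.leaf ⟨8, 1798, 1802, 0, 0, 0, 0, 34, 3, 1798, [10759, 10772, 10774]⟩) (.leaf ⟨7, 4574, 4561, 0, 0, 0, 0, 51, 5, 4574, [27145, 27141, 12340, 27036, 27040]⟩))) (.node (.node (.leaf ⟨6, 1065, 1066, 0, 0, 0, 0, 93, 0, 0, []⟩) (.leaf ⟨7, 3553, 3869, 0, 0, 0, 0, 93, 0, 0, []⟩)) (.node (.leaf ⟨3, 1165, 1393, (-17), 0, (-9), 0, 34, 2, 1151, [7180, 14870, 8205]⟩) (.leaf ⟨2, 5184, 5184, 1, 0, 1, 0, 25, 0, 5184, [31221, 31254, 31220]⟩))))) (.node (.node (.node (.node (.leaf ⟨9, 221, 229, 0, 0, 0, 0, 53, 3, 221, [1525, 1558, 1548]⟩) (.leaf ⟨4, 2934, 2936, 0, 0, 0, 0, 40, 0, 2936, [17937, 17943, 17888]⟩)) (.node (.leaf ⟨6, 1582, 1610, 0, 0, 0, 0, 39, 3, 1582,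 [8925, 9750, 9104]⟩) (.leaf ⟨6, 4403, 4404, 0, 0, 0, 0, 93, 0, 0, []⟩))) (.node (.node (.leaf ⟨8, 469, 469, 1, 0, (-1), 0, 41, 3, 469, [2451, 5654, 2450]⟩) (.leaf ⟨2, 3737, 814, 0, 0, 0, 0, 25, 0, 814, [5209, 5151, 22036]⟩)) (.node (.leaf ⟨11, 2373, 2379, (-1), 0, (-5), 0, 50, 3, 2373, [13783, 13846, 13756]⟩) (.leaf ⟨5, 5030, 5031, 0, 0, 0, 0, 93, 0, 0, []⟩)))) (.node (.node (.node (.leaf ⟨10, 488, 649, 0, 0, 0, 0, 93, 0, 0, []⟩) (.leaf ⟨3, 3308, 3308, 1, 0, 1, 0, 36, 2, 3309, [19988, 19990, 19988]⟩)) (.node (.leaf ⟨8, 1983, 1979, 0, 0, 0, 0, 26, 3, 1983, [11729, 11798, 11720]⟩) (.leaf ⟨2, 3161, 3161, 1, 0, 1, 0, 11, 5, 3161, [19255, 6011, 28182, 6010, 19254]⟩))) (.node (.node (.leaf ⟨4, 1294, 1298, 0, 0, 0, 0, 93, 0, 0, []⟩) (.leaf ⟨7, 3700, 4027, 0, 0, 0, 0, 93,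 0, 0, []⟩)) (.node (.leaf ⟨10, 2651, 2652, 0, 0, 0, 0, 93, 0, 0, []⟩) (.leaf ⟨0, 0, 0, 0, 0, 0, 0, 0, 0, 0, []⟩))))))

def factsPart13 : ATree TFact :=
  .node (.node (.node (.node (.node (.node (.leaf ⟨7, 13, 14, 0, 0, 0, 0, 93, 0, 0, []⟩) (.leaf ⟨6, 2707, 2707, (-1), 0, (-1), 0, 55, 0, 2707, [16359, 16408, 16358]⟩)) (.node (.leaf ⟨8, 1309, 1417, 0, 0, 0, 0, 93, 0, 0, []⟩) (.leaf ⟨7, 4109, 4112, 0, 0, 0, 0, 58, 0, 4112, [24593, 24601, 24582]⟩))) (.node (.node (.leaf ⟨10, 599, 684, 0, 0, 0, 0, 93, 0, 0, []⟩) (.leaf ⟨8, 3390, 3387, 0, 0, 0, 0, 47, 3, 3390, [20503, 20501, 20480]⟩)) (.node (.leaf ⟨8, 630, 2122, 0, 0, 0, 0, 93, 0, 0, []⟩) (.leaf ⟨1, 2478, 2478, (-1), 0, (-1), 0, 13, 0, 2478, [14907, 28696, 14906]⟩)))) (.node (.node (.node (.leaf ⟨3, 373, 382, 0, 0, 0,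 0, 32, 0, 382, [2065, 2073, 1998]⟩) (.leaf ⟨8, 594, 2644, 0, 0, 0, 0, 41, 3, 594, [3235, 18457, 15852]⟩)) (.node (.leaf ⟨1, 1422, 1744, 0, 0, 0, 0, 93, 0, 0, []⟩) (.leaf ⟨4, 4429, 4404, 22, 0, (-2), 0, 40, 2, 4421, [26212, 26214, 26649]⟩))) (.node (.node (.leaf ⟨10, 972, 973, 0, 0, 0, 0, 93, 0, 0, []⟩) (.leaf ⟨7, 3782, 3782, (-1), 0, (-11), 0, 51, 3, 3780, [22502, 22504, 22552, 22502, 22504]⟩)) (.node (.leaf ⟨4, 1704, 2428, 0, 0, 0, 0, 93, 0, 0, []⟩) (.leaf ⟨7, 1559, 1559, 1, 0, (-1), 0, 25, 3, 1559, [8779, 29884, 8778]⟩))))) (.node (.node (.node (.node (.leaf ⟨5, 139, 139, (-1), 0, 1, 0, 45, 0, 139, [713, 1044, 1048, 1045, 712]⟩) (.leaf ⟨6, 2842, 2843, 0, 0, 0, 0, 93, 0, 0, []⟩)) (.node (.leaf ⟨7, 566, 566, 1, 0, (-1), 0, 58, 0, 566, [3033, 4970, 3032]⟩) (.leaf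 ⟨7, 1932, 4322, 0, 0, 0, 0, 93, 0, 0, []⟩))) (.node (.node (.leaf ⟨5, 805, 806, 0, 0, 0, 0, 93, 0, 0, []⟩) (.leaf ⟨5, 3652, 3653, 0, 0, 0, 0, 93, 0, 0, []⟩)) (.node (.leaf ⟨2, 2304, 1205, 0, 0, 0, 0, 23, 0, 1205, [7355, 11357, 13256]⟩) (.leaf ⟨2, 2912, 2912, 1, 0, 1, 0, 29, 0, 2912, [17783, 29720, 17782]⟩)))) (.node (.node (.node (.leaf ⟨5, 545, 545, (-1), 0, (-1), 0, 38, 3, 552, [2987, 2998, 3096, 2987, 2998]⟩) (.leaf ⟨9, 3208, 3193, 0, 0, 0, 0, 53, 3, 3208, [19471, 19480, 19368]⟩)) (.node (.leaf ⟨5, 1907, 1908, 0, 0, 0, 0, 93, 0, 0, []⟩) (.leaf ⟨7, 3845, 4661, 0, 0, 0, 0, 46, 3, 3845, [22947, 27673, 27638]⟩))) (.node (.node (.leaf ⟨9, 43, 1124, 0, 0, 0, 0, 60, 5, 43, [85, 7115, 7184, 7192, 7000]⟩) (.leaf ⟨5, 2284, 3927, 17, 0, 1, 0, 38, 5, 2284, [23521, 23541,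 23557, 23572, 23576]⟩)) (.node (.leaf ⟨10, 2573, 2573, (-1), 0, 1, 0, 43, 3, 2573, [15363, 15384, 15362]⟩) (.leaf ⟨0, 0, 0, 0, 0, 0, 0, 0, 0, 0, []⟩)))))) (.node (.node (.node (.node (.node (.leaf ⟨6, 4, 4, 1, 0, 1, 0, 39, 3, 4, [7, 536, 6]⟩) (.leaf ⟨3, 2787, 2775, 0, 0, 0, 0, 35, 0, 2775, [16833, 16921, 16900]⟩)) (.node (.leaf ⟨10, 8, 8, 1, 0, 1, 0, 65, 4, 7, [14, 13, 2486, 12, 14]⟩) (.leaf ⟨3, 4221, 4220, 0, 0, 0, 0, 36, 0, 4220, [25103, 25111, 25112]⟩))) (.node (.node (.leaf ⟨0, 467, 467, (-1), 0, (-1), 0, 10, 0, 467, [2447, 4632, 2446]⟩) (.leaf ⟨5, 3524, 3525, 0, 0, 0, 0, 93, 0, 0, []⟩)) (.node (.leaf ⟨8, 1531, 212, 0, 0, 0, 0, 34, 3, 1531, [8641, 12824, 1506]⟩) (.leaf ⟨2, 4900, 4900, (-1), 0, (-1), 0, 11, 5, 4900, [29199, 13571, 29208, 13570, 29198]⟩)))) (.node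 (.node (.node (.leaf ⟨7, 499, 499, 1, 0, 1, 0, 59, 0, 499, [2581, 2584, 2580]⟩) (.leaf ⟨11, 3122, 806, 0, 0, 0, 0, 50, 3, 3122, [18969, 5206, 5146]⟩)) (.node (.leaf ⟨2, 1802, 1803, 0, 0, 0, 0, 93, 0, 0, []⟩) (.leaf ⟨7, 4575, 4562, 0, 0, 0, 0, 46, 3, 4575, [27149, 27160, 27044]⟩))) (.node (.node (.leaf ⟨9, 276, 1064, 0, 0, 0, 0, 63, 2, 275, [1712, 1711, 6676]⟩) (.leaf ⟨6, 3869, 3870, 0, 0, 0, 0, 93, 0, 0, []⟩)) (.node (.leaf ⟨3, 1398, 1122, 17, 0, 9, 0, 35, 2, 1393, [8108, 14873, 7190]⟩) (.leaf ⟨2, 5185, 5185, (-1), 0, (-1), 0, 26, 0, 5185, [31223, 31256, 31222]⟩))))) (.node (.node (.node (.node (.leaf ⟨9, 222, 230, 0, 0, 0, 0, 48, 3, 222, [1527, 1560, 1550]⟩) (.leaf ⟨0, 2606, 2937, 0, 0, 0, 0, 93, 0, 0, []⟩)) (.node (.leaf ⟨6, 1583, 1611, 0, 0, 0, 0, 32, 3, 1583,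 [8927, 9752, 9106]⟩) (.leaf ⟨5, 4396, 4405, 0, 0, 0, 0, 93, 0, 0, []⟩))) (.node (.node (.leaf ⟨8, 470, 470, (-1), 0, 1, 0, 61, 0, 470, [2453, 5656, 2452]⟩) (.leaf ⟨9, 814, 195, 0, 0, 0, 0, 57, 3, 814, [5209, 5137, 1346]⟩)) (.node (.leaf ⟨11, 2380, 2374, 1, 0, 5, 0, 59, 3, 2380, [13759, 13849, 13730]⟩) (.leaf ⟨10, 5031, 5032, 0, 0, 0, 0, 93, 0, 0, []⟩)))) (.node (.node (.node (.leaf ⟨6, 649, 500, 0, 0, 0, 0, 54, 0, 500, [2601, 2543, 3608]⟩) (.leaf ⟨7, 878, 3310, 0, 0, 0, 0, 93, 0, 0, []⟩)) (.node (.leaf ⟨1, 1831, 1979, (-8), 0, (-22), 0, 17, 2, 1322, [10904, 11793, 11800]⟩) (.leaf ⟨2, 3165, 3165, (-1), 0, (-1), 0, 27, 0, 3165, [19263, 28184, 19262]⟩))) (.node (.node (.leaf ⟨6, 1296, 1298, 0, 0, 0, 0, 39, 3, 1296, [7691, 7689, 7704]⟩) (.leaf ⟨3, 4027, 4020, 0, 0, 0,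 0, 33, 0, 4020, [24033, 24087, 24088]⟩)) (.node (.leaf ⟨5, 2652, 2653, 0, 0, 0, 0, 93, 0, 0, []⟩) (.leaf ⟨0, 0, 0, 0, 0, 0, 0, 0, 0, 0, []⟩))))))

def factsPart14 : ATree TFact :=
  .node (.node (.node (.node (.node (.node (.leaf ⟨6, 14, 15, 0, 0, 0, 0, 93, 0, 0, []⟩) (.leaf ⟨10, 1750, 2708, 0, 0, 0, 0, 93, 0, 0, []⟩)) (.node (.leaf ⟨4, 1384, 269, 0, 0, 0, 0, 40, 2, 1383, [8074, 8073, 1698]⟩) (.leaf ⟨7, 4110, 4113, 0, 0, 0, 0, 59, 0, 4113, [24595, 24603, 24586]⟩))) (.node (.node (.leaf ⟨3, 683, 684, 0, 0, 0, 0, 36, 2, 600, [4118, 3255, 4122]⟩) (.leaf ⟨8, 3388, 3391, 0, 0, 0, 0, 61, 0, 3391, [20505, 20506, 20482]⟩)) (.node (.leaf ⟨5, 2122, 2123, 0, 0, 0, 0, 93, 0, 0, []⟩) (.leaf ⟨1, 2479, 2479, 1, 0, 1, 0, 12, 0, 2479, [14909, 28698, 14908]⟩)))) (.node (.node (.node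 (.leaf ⟨7, 11, 383, 0, 0, 0, 0, 93, 0, 0, []⟩) (.leaf ⟨8, 782, 3050, 0, 0, 0, 0, 61, 0, 3050, [18435, 18459, 4916]⟩)) (.node (.leaf ⟨0, 1744, 1745, 0, 0, 0, 0, 93, 0, 0, []⟩) (.leaf ⟨3, 4422, 4388, 0, 0, 0, 0, 33, 0, 4388, [26085, 15995, 26184]⟩))) (.node (.node (.leaf ⟨10, 969, 974, 0, 0, 0, 0, 93, 0, 0, []⟩) (.leaf ⟨7, 3779, 3787, 0, 0, 0, 0, 93, 0, 0, []⟩)) (.node (.leaf ⟨3, 770, 1704, 0, 0, 0, 0, 31, 0, 1704, [10013, 10135, 4794]⟩) (.leaf ⟨7, 5117, 5117, 1, 0, 1, 0, 16, 3, 5117, [30721, 30746, 30720]⟩))))) (.node (.node (.node (.node (.leaf ⟨4, 142, 142, 1, 0, 1, 0, 38, 0, 142, [741, 739, 1050, 738, 740]⟩) (.leaf ⟨9, 2244, 2844, 0, 0, 0, 0, 93, 0, 0, []⟩)) (.node (.leaf ⟨6, 566, 463, 0, 0, 0, 0, 54, 0, 463, [2427, 4117, 3032]⟩) (.leaf ⟨6, 4322, 4323, 0, 0, 0,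 0, 93, 0, 0, []⟩))) (.node (.node (.leaf ⟨10, 806, 807, 0, 0, 0, 0, 93, 0, 0, []⟩) (.leaf ⟨4, 3653, 3654, 0, 0, 0, 0, 93, 0, 0, []⟩)) (.node (.leaf ⟨2, 2305, 1206, 0, 0, 0, 0, 24, 0, 1206, [7357, 13339, 13258]⟩) (.leaf ⟨2, 4953, 4953, (-1), 0, (-1), 0, 23, 0, 4953, [29657, 29722, 29656]⟩)))) (.node (.node (.node (.leaf ⟨7, 531, 576, 0, 0, 0, 0, 93, 0, 0, []⟩) (.leaf ⟨9, 3209, 3194, 0, 0, 0, 0, 48, 3, 3209, [19473, 19482, 19370]⟩)) (.node (.leaf ⟨6, 1908, 1909, 0, 0, 0, 0, 93, 0, 0, []⟩) (.leaf ⟨7, 3846, 4662, 0, 0, 0, 0, 40, 3, 3846, [22949, 27674, 27640]⟩))) (.node (.node (.leaf ⟨9, 44, 1125, 0, 0, 0, 0, 48, 3, 44, [87, 7194, 7002]⟩) (.leaf ⟨5, 3928, 3935, (-17), 0, (-1), 0, 46, 2, 3927, [23462, 23579, 23494]⟩)) (.node (.leaf ⟨10, 2574, 2574, (-1), 0, (-1), 0, 36,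 3, 2574, [15365, 15386, 15364]⟩) (.leaf ⟨0, 0, 0, 0, 0, 0, 0, 0, 0, 0, []⟩)))))) (.node (.node (.node (.node (.node (.leaf ⟨5, 6, 6, 1, 0, 1, 0, 45, 4, 5, [10, 9, 538, 8, 10]⟩) (.leaf ⟨3, 2788, 2778, 0, 0, 0, 0, 33, 0, 2778, [16845, 16923, 16902]⟩)) (.node (.leaf ⟨5, 1549, 1549, 1, 0, 1, 0, 49, 4, 9, [8726, 17, 8730, 16, 8726]⟩) (.leaf ⟨4, 4170, 4221, 0, 0, 0, 0, 43, 2, 4169, [24776, 24775, 25112]⟩))) (.node (.node (.leaf ⟨0, 468, 468, 1, 0, 1, 0, 4, 0, 468, [2449, 4634, 2448]⟩) (.leaf ⟨7, 3516, 3525, 0, 0, 0, 0, 46, 3, 3516, [20973, 21016, 21018]⟩)) (.node (.leaf ⟨8, 1550, 213, 0, 0, 0, 0, 26, 3, 1550, [8753, 12826, 1508]⟩) (.leaf ⟨2, 4901, 4901, 1, 0, 1, 0, 28, 0, 4901, [29205, 29210, 29204]⟩)))) (.node (.node (.node (.leaf ⟨6, 497, 497, (-1), 0, 1, 0, 51, 0, 497,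 [2573, 2583, 2586, 2582, 2572]⟩) (.leaf ⟨10, 3122, 3122, 1, 0, (-1), 0, 49, 5, 3122, [18969, 5215, 5240, 5214, 18968]⟩)) (.node (.leaf ⟨8, 1799, 1803, 0, 0, 0, 0, 26, 3, 1799, [10763, 10776, 10778]⟩) (.leaf ⟨7, 4576, 4563, 0, 0, 0, 0, 40, 3, 4576, [27153, 27162, 27048]⟩))) (.node (.node (.leaf ⟨9, 1065, 1038, 0, 0, 0, 0, 57, 3, 1065, [6679, 6683, 6606]⟩) (.leaf ⟨5, 3870, 3871, 0, 0, 0, 0, 93, 0, 0, []⟩)) (.node (.leaf ⟨10, 1105, 2466, 0, 0, 0, 0, 93, 0, 0, []⟩) (.leaf ⟨3, 5182, 5182, (-1), 0, 1, 0, 12, 3, 5182, [31217, 5998, 31216]⟩))))) (.node (.node (.node (.node (.leaf ⟨9, 223, 231, 0, 0, 0, 0, 42, 3, 223, [1529, 1562, 1552]⟩) (.leaf ⟨7, 2937, 2938, 0, 0, 0, 0, 93, 0, 0, []⟩)) (.node (.leaf ⟨6, 1665, 1612, 0, 0, 0, 0, 24, 3, 1665, [9731, 9754, 9114]⟩) (.leaf ⟨7,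 4405, 4406, 0, 0, 0, 0, 93, 0, 0, []⟩))) (.node (.node (.leaf ⟨8, 471, 471, (-1), 0, (-1), 0, 47, 3, 471, [2455, 5658, 2454]⟩) (.leaf ⟨3, 195, 195, 1, 0, 1, 0, 33, 2, 97, [1346, 806, 1346]⟩)) (.node (.leaf ⟨11, 2375, 2381, (-1), 0, (-5), 0, 55, 3, 2375, [13733, 13851, 13760]⟩) (.leaf ⟨11, 5032, 5033, 0, 0, 0, 0, 93, 0, 0, []⟩)))) (.node (.node (.node (.leaf ⟨11, 649, 650, 0, 0, 0, 0, 93, 0, 0, []⟩) (.leaf ⟨4, 3310, 3308, 0, 0, 0, 0, 40, 2, 878, [19994, 5575, 19982]⟩)) (.node (.leaf ⟨2, 1911, 1829, 0, 0, 0, 0, 28, 2, 1910, [11302, 11301, 10892]⟩) (.leaf ⟨5, 3811, 4754, 0, 0, 0, 0, 93, 0, 0, []⟩))) (.node (.node (.leaf ⟨7, 1204, 1299, 0, 0, 0, 0, 93, 0, 0, []⟩) (.leaf ⟨7, 3902, 4028, 0, 0, 0, 0, 93, 0, 0, []⟩)) (.node (.leaf ⟨10, 2650, 2654, 0, 0, 0, 0, 93, 0, 0, []⟩)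 (.leaf ⟨0, 0, 0, 0, 0, 0, 0, 0, 0, 0, []⟩))))))

def factsPart15 : ATree TFact :=
  .node (.node (.node (.node (.node (.node (.leaf ⟨8, 15, 16, 0, 0, 0, 0, 93, 0, 0, []⟩) (.leaf ⟨1, 2708, 691, 0, 0, 0, 0, 19, 2, 1750, [16412, 10313, 4180]⟩)) (.node (.leaf ⟨4, 270, 1385, 0, 0, 0, 0, 39, 0, 1385, [8077, 8220, 1700]⟩) (.leaf ⟨8, 3485, 977, 0, 0, 0, 0, 47, 3, 3485, [20879, 20877, 6178]⟩))) (.node (.node (.leaf ⟨4, 684, 533, 0, 0, 0, 0, 43, 2, 599, [4122, 3253, 2820]⟩) (.leaf ⟨7, 3391, 3392, 0, 0, 0, 0, 93, 0, 0, []⟩)) (.node (.leaf ⟨4, 2123, 2124, 0, 0, 0, 0, 93, 0, 0, []⟩) (.leaf ⟨2, 4821, 4821, 1, 0, 1, 0, 11, 5, 4821, [28635, 28633, 28700, 28632, 28634]⟩)))) (.node (.node (.node (.leaf ⟨6, 383, 384, 0, 0, 0, 0, 93, 0, 0, []⟩) (.leaf ⟨8, 783, 3051, 0, 0, 0, 0, 47,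 3, 783, [4919, 18460, 18436]⟩)) (.node (.leaf ⟨1, 1037, 461, 0, 0, 0, 0, 12, 0, 461, [2423, 4815, 6544]⟩) (.leaf ⟨3, 4423, 4389, 0, 0, 0, 0, 32, 0, 4389, [26087, 26653, 26186]⟩))) (.node (.node (.leaf ⟨7, 974, 975, 0, 0, 0, 0, 93, 0, 0, []⟩) (.leaf ⟨5, 3781, 3787, 0, 0, 0, 0, 46, 2, 3780, [22502, 22501, 22556]⟩)) (.node (.leaf ⟨5, 1623, 1623, 1, 0, (-1), 0, 50, 0, 1623, [9313, 14314, 9312]⟩) (.leaf ⟨6, 5117, 2925, 0, 0, 0, 0, 15, 3, 5117, [30721, 8788, 17830]⟩))))) (.node (.node (.node (.node (.leaf ⟨4, 144, 144, (-1), 0, (-1), 0, 43, 0, 144, [765, 1052, 764]⟩) (.leaf ⟨7, 2844, 2845, 0, 0, 0, 0, 93, 0, 0, []⟩)) (.node (.leaf ⟨3, 589, 589, (-1), 0, 1, 0, 21, 5, 589, [3221, 3215, 4834, 3214, 3220]⟩) (.leaf ⟨5, 4323, 4324, 0, 0, 0, 0, 93, 0, 0, []⟩))) (.node (.node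 (.leaf ⟨2, 369, 801, 0, 0, 0, 0, 27, 0, 801, [5137, 447, 1990]⟩) (.leaf ⟨3, 3654, 3655, 0, 0, 0, 0, 93, 0, 0, []⟩)) (.node (.leaf ⟨2, 2309, 2319, 0, 0, 0, 0, 22, 0, 2319, [13333, 13341, 13272]⟩) (.leaf ⟨2, 4954, 4954, 1, 0, 1, 0, 25, 0, 4954, [29659, 29724, 29658]⟩)))) (.node (.node (.node (.leaf ⟨6, 576, 577, 0, 0, 0, 0, 93, 0, 0, []⟩) (.leaf ⟨9, 3210, 3195, 0, 0, 0, 0, 42, 3, 3210, [19475, 19484, 19372]⟩)) (.node (.leaf ⟨1, 1879, 1907, 0, 0, 0, 0, 19, 2, 1878, [11128, 11127, 11288]⟩) (.leaf ⟨7, 4664, 4663, 0, 0, 0, 0, 33, 3, 4664, [27671, 27676, 27642]⟩))) (.node (.node (.leaf ⟨9, 45, 1126, 0, 0, 0, 0, 42, 3, 45, [89, 7196, 7004]⟩) (.leaf ⟨6, 3937, 3942, 17, 0, (-1), 0, 45, 3, 3935, [23496, 23498, 23581, 23464, 23512]⟩)) (.node (.leaf ⟨10, 2575, 2575, (-1), 0,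 1, 0, 28, 3, 2575, [15367, 15388, 15366]⟩) (.leaf ⟨0, 0, 0, 0, 0, 0, 0, 0, 0, 0, []⟩)))))) (.node (.node (.node (.node (.node (.leaf ⟨5, 69, 69, 1, 0, (-1), 0, 4, 3, 69, [275, 540, 274]⟩) (.leaf ⟨9, 164, 2790, 0, 0, 0, 0, 93, 0, 0, []⟩)) (.node (.leaf ⟨4, 206, 206, (-1), 0, 1, 0, 38, 0, 206, [1495, 8728, 8732, 8729, 1494]⟩) (.leaf ⟨5, 4200, 4170, 56, 0, (-38), 0, 66, 18, 4177, [24806, 24803, 24811, 20025, 24814, 24822, 24827, 24829, 19936, 19940, 19944, 19952, 24840, 19974, 20192, 24846, 24848, 20187, 24853, 24859, 24867, 24870, 24878, 24865, 24882, 24886, 24888, 24896, 24893, 24891, 24898, 24902, 6195, 24905, 24907, 2431, 24732, 24734, 24736, 24738, 24740, 24956, 24742, 24979, 24988, 25002, 25011, 25018, 25022, 25025, 24722, 25032, 25046, 25050, 25062, 25068, 25070,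 25072, 25087, 25088, 25105, 25115, 25117]⟩))) (.node (.node (.leaf ⟨0, 469, 469, (-1), 0, (-1), 0, 3, 0, 469, [2451, 4636, 2450]⟩) (.leaf ⟨4, 3525, 3526, 0, 0, 0, 0, 93, 0, 0, []⟩)) (.node (.leaf ⟨8, 1551, 214, 0, 0, 0, 0, 61, 0, 214, [1511, 12829, 8754]⟩) (.leaf ⟨7, 4900, 4900, 1, 0, (-1), 0, 16, 3, 4900, [29199, 29082, 29198]⟩)))) (.node (.node (.node (.leaf ⟨5, 496, 496, 1, 0, 1, 0, 45, 0, 496, [2567, 2574, 2588, 2575, 2566]⟩) (.leaf ⟨11, 807, 807, 1, 0, (-1), 0, 65, 5, 807, [5149, 18971, 18972, 18970, 5148]⟩)) (.node (.leaf ⟨5, 1527, 1804, 0, 0, 0, 0, 93, 0, 0, []⟩) (.leaf ⟨7, 4577, 4578, 0, 0, 0, 0, 58, 0, 4578, [27159, 27165, 27156]⟩))) (.node (.node (.leaf ⟨9, 1066, 1039, 0, 0, 0, 0, 53, 3, 1066, [6681, 6684, 6608]⟩) (.leaf ⟨5, 3869, 3564, 0, 0, 0, 0, 46,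 0, 3564, [21145, 21139, 23064]⟩)) (.node (.leaf ⟨5, 2466, 2467, 0, 0, 0, 0, 93, 0, 0, []⟩) (.leaf ⟨3, 5183, 5183, 1, 0, (-1), 0, 35, 0, 5183, [31219, 31260, 31218]⟩))))) (.node (.node (.node (.node (.leaf ⟨9, 224, 232, 0, 0, 0, 0, 63, 0, 232, [1555, 1565, 1538]⟩) (.leaf ⟨9, 2935, 2937, 0, 0, 0, 0, 8, 3, 2935, [17935, 15569, 17946]⟩)) (.node (.leaf ⟨10, 242, 242, 1, 0, (-1), 0, 65, 4, 111, [1596, 471, 2488, 470, 1596]⟩) (.leaf ⟨6, 4406, 4407, 0, 0, 0, 0, 93, 0, 0, []⟩))) (.node (.node (.leaf ⟨8, 472, 472, (-1), 0, 1, 0, 52, 3, 472, [2457, 5660, 2456]⟩) (.leaf ⟨3, 814, 814, 1, 0, (-1), 0, 35, 2, 195, [22043, 22044, 22043]⟩)) (.node (.leaf ⟨8, 2331, 2375, (-2), 0, (-2), 0, 62, 2, 2377, [13752, 13769, 13853]⟩) (.leaf ⟨7, 5033, 5034, 0, 0, 0, 0, 93, 0, 0, []⟩)))) (.node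 (.node (.node (.leaf ⟨6, 650, 648, 0, 0, 0, 0, 55, 0, 648, [3605, 3611, 3612]⟩) (.leaf ⟨5, 3310, 3310, 1, 0, 1, 0, 46, 0, 3310, [19995, 5698, 19994]⟩)) (.node (.leaf ⟨2, 1830, 1912, 0, 0, 0, 0, 23, 0, 1912, [11305, 11804, 10898]⟩) (.leaf ⟨1, 3165, 939, 0, 0, 0, 0, 18, 2, 3161, [19262, 19255, 6012]⟩))) (.node (.node (.leaf ⟨6, 1299, 1300, 0, 0, 0, 0, 93, 0, 0, []⟩) (.leaf ⟨11, 103, 845, 0, 0, 0, 0, 62, 3, 103, [441, 13988, 5358]⟩)) (.node (.leaf ⟨5, 2654, 2655, 0, 0, 0, 0, 93, 0, 0, []⟩) (.leaf ⟨0, 0, 0, 0, 0, 0, 0, 0, 0, 0, []⟩))))))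

def factsPart16 : ATree TFact :=
  .node (.node (.node (.node (.node (.node (.leaf ⟨5, 16, 17, 0, 0, 0, 0, 93, 0, 0, []⟩) (.leaf ⟨1, 2620, 597, 0, 0, 0, 0, 19, 2, 2619, [15606, 15603, 3246]⟩)) (.node (.leaf ⟨4, 271, 1386, 0, 0, 0, 0, 41, 0, 1386, [8079, 8223, 1702]⟩) (.leaf ⟨8, 4111, 3486, 0, 0, 0, 0, 41, 3, 4111, [24591, 24607, 20880]⟩))) (.node (.node (.leaf ⟨5, 533, 533, (-1), 0, 1, 0, 49, 4, 532, [2820, 2819, 2840, 2818, 2820]⟩) (.leaf ⟨6, 3392, 3393, 0, 0, 0, 0, 93, 0, 0, []⟩)) (.node (.leaf ⟨3, 2124, 2125, 0, 0, 0, 0, 93, 0, 0, []⟩) (.leaf ⟨2, 4822, 4822, (-1), 0, (-1), 0, 27, 0, 4822, [28637, 28702, 28636]⟩)))) (.node (.node (.node (.leaf ⟨8, 384, 385, 0, 0, 0, 0, 93, 0, 0, []⟩) (.leaf ⟨8, 3049, 3052, 47, 0, 11, 0, 56, 3, 780, [5102, 18430, 5091, 18462, 18438]⟩))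 (.node (.leaf ⟨2, 1744, 1737, 0, 0, 0, 0, 11, 5, 1744, [10267, 8259, 10270, 2424, 10210]⟩) (.leaf ⟨3, 4424, 4390, 0, 0, 0, 0, 31, 0, 4390, [26089, 26655, 26188]⟩))) (.node (.node (.leaf ⟨6, 975, 976, 0, 0, 0, 0, 93, 0, 0, []⟩) (.leaf ⟨4, 3098, 932, 0, 0, 0, 0, 39, 0, 932, [5965, 5943, 18742]⟩)) (.node (.leaf ⟨4, 770, 770, (-1), 0, (-1), 0, 38, 0, 770, [4795, 13623, 14366, 13622, 4794]⟩) (.leaf ⟨5, 1530, 1530, (-1), 0, 1, 0, 38, 5, 1530, [8639, 8637, 17424, 8636, 8638]⟩))))) (.node (.node (.node (.node (.leaf ⟨10, 168, 171, 0, 0, 0, 0, 93, 0, 0, []⟩) (.leaf ⟨6, 2845, 2846, 0, 0, 0, 0, 93, 0, 0, []⟩)) (.node (.leaf ⟨11, 683, 1618, 0, 0, 0, 0, 93, 0, 0, []⟩) (.leaf ⟨10, 4324, 4325, 0, 0, 0, 0, 93, 0, 0, []⟩))) (.node (.node (.leaf ⟨2, 370, 802, 0, 0, 0, 0, 28, 0, 802,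 [5139, 5151, 1992]⟩) (.leaf ⟨7, 3655, 3656, 0, 0, 0, 0, 93, 0, 0, []⟩)) (.node (.leaf ⟨2, 2310, 2320, 0, 0, 0, 0, 25, 0, 2320, [13335, 13343, 13274]⟩) (.leaf ⟨2, 4955, 4955, (-1), 0, (-1), 0, 24, 0, 4955, [29661, 29726, 29660]⟩)))) (.node (.node (.node (.leaf ⟨5, 577, 578, 0, 0, 0, 0, 93, 0, 0, []⟩) (.leaf ⟨10, 3210, 3211, 0, 0, 0, 0, 93, 0, 0, []⟩)) (.node (.leaf ⟨1, 1908, 1880, 0, 0, 0, 0, 14, 0, 1880, [11139, 11294, 11290]⟩) (.leaf ⟨10, 4664, 4665, 0, 0, 0, 0, 93, 0, 0, []⟩))) (.node (.node (.leaf ⟨9, 54, 1131, 0, 0, 0, 0, 35, 3, 54, [139, 7198, 7038]⟩) (.leaf ⟨6, 3943, 3938, (-17), 0, 1, 0, 39, 3, 3943, [23515, 23583, 23500]⟩)) (.node (.leaf ⟨10, 2576, 2576, (-1), 0, (-1), 0, 19, 3, 2576, [15369, 15390, 15368]⟩) (.leaf ⟨0, 0, 0, 0, 0, 0, 0, 0, 0, 0, []⟩))))))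 (.node (.node (.node (.node (.node (.leaf ⟨10, 112, 112, 1, 0, (-1), 0, 49, 5, 112, [475, 471, 542, 470, 474]⟩) (.leaf ⟨7, 2790, 2791, 0, 0, 0, 0, 93, 0, 0, []⟩)) (.node (.leaf ⟨4, 1533, 1533, 1, 0, (-1), 0, 39, 0, 1533, [8645, 8734, 8644]⟩) (.leaf ⟨5, 4175, 4158, (-56), 0, 38, 0, 46, 2, 4170, [24798, 25119, 24978]⟩))) (.node (.node (.leaf ⟨0, 470, 470, 1, 0, 1, 0, 9, 0, 470, [2453, 4638, 2452]⟩) (.leaf ⟨7, 3517, 3526, 0, 0, 0, 0, 40, 3, 3517, [20975, 21020, 21022]⟩)) (.node (.leaf ⟨10, 1998, 2208, 0, 0, 0, 0, 93, 0, 0, []⟩) (.leaf ⟨6, 4900, 1754, 0, 0, 0, 0, 15, 3, 4900, [29199, 13584, 10350]⟩)))) (.node (.node (.node (.leaf ⟨10, 493, 493, 1, 0, 1, 0, 49, 5, 493, [2555, 2571, 2590, 2570, 2554]⟩) (.leaf ⟨10, 803, 911, 0, 0, 0, 0, 65, 4, 802, [5140, 5139, 18850, 5350,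 5792]⟩)) (.node (.leaf ⟨4, 1804, 1805, 0, 0, 0, 0, 93, 0, 0, []⟩) (.leaf ⟨7, 455, 4579, 0, 0, 0, 0, 93, 0, 0, []⟩))) (.node (.node (.leaf ⟨10, 1037, 1067, 0, 0, 0, 0, 93, 0, 0, []⟩) (.leaf ⟨6, 3871, 3868, 0, 0, 0, 0, 45, 5, 3871, [23069, 23067, 23070, 23056, 23058]⟩)) (.node (.leaf ⟨7, 2467, 2468, 0, 0, 0, 0, 93, 0, 0, []⟩) (.leaf ⟨3, 5184, 5184, (-1), 0, 1, 0, 33, 0, 5184, [31221, 31262, 31220]⟩))))) (.node (.node (.node (.node (.leaf ⟨5, 232, 233, 0, 0, 0, 0, 93, 0, 0, []⟩) (.leaf ⟨9, 2938, 2936, 0, 0, 0, 0, 57, 3, 2938, [17949, 17951, 17936]⟩)) (.node (.leaf ⟨5, 1585, 1585, 1, 0, (-1), 0, 49, 4, 243, [8940, 1599, 9758, 1598, 8940]⟩) (.leaf ⟨5, 4407, 4408, 0, 0, 0, 0, 93, 0, 0, []⟩))) (.node (.node (.leaf ⟨7, 891, 891, (-1), 0, 1, 0, 56, 4, 473, [5644, 2459, 5662,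 2458, 5644]⟩) (.leaf ⟨2, 377, 816, 0, 0, 0, 0, 27, 0, 816, [5217, 443, 2026]⟩)) (.node (.leaf ⟨10, 2335, 2331, 7, 0, (-25), 0, 61, 3, 2335, [13725, 13743, 13855]⟩) (.leaf ⟨10, 5028, 4721, 0, 0, 0, 0, 58, 3, 5028, [30227, 30225, 28044]⟩)))) (.node (.node (.node (.leaf ⟨6, 535, 651, 0, 0, 0, 0, 93, 0, 0, []⟩) (.leaf ⟨11, 3310, 3310, 1, 0, 1, 0, 59, 3, 3310, [19995, 5708, 19994]⟩)) (.node (.leaf ⟨2, 1831, 1913, 0, 0, 0, 0, 24, 0, 1913, [11307, 11807, 10902]⟩) (.leaf ⟨1, 3809, 3166, 0, 0, 0, 0, 19, 0, 3166, [19265, 28190, 22780]⟩))) (.node (.node (.leaf ⟨5, 1300, 1301, 0, 0, 0, 0, 93, 0, 0, []⟩) (.leaf ⟨11, 104, 846, 0, 0, 0, 0, 50, 3, 104, [445, 24094, 5362]⟩)) (.node (.leaf ⟨9, 2652, 2654, 0, 0, 0, 0, 63, 2, 2651, [15896, 15895, 15900]⟩) (.leaf ⟨0, 0, 0, 0, 0, 0, 0,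 0, 0, 0, []⟩))))))

def factsPart17 : ATree TFact :=
  .node (.node (.node (.node (.node (.node (.leaf ⟨4, 17, 18, 0, 0, 0, 0, 93, 0, 0, []⟩) (.leaf ⟨7, 2708, 2620, 61, 0, 19, 0, 16, 3, 2708, [16414, 15661, 16417]⟩)) (.node (.leaf ⟨5, 273, 1388, 0, 0, 0, 0, 38, 5, 273, [1707, 1705, 8224, 8080, 8082]⟩) (.leaf ⟨8, 4112, 3487, 0, 0, 0, 0, 61, 0, 3487, [20883, 24609, 24592]⟩))) (.node (.node (.leaf ⟨5, 445, 445, (-1), 0, 1, 0, 45, 4, 432, [2384, 2337, 3178, 2336, 2384]⟩) (.leaf ⟨5, 3393, 3394, 0, 0, 0, 0, 93, 0, 0, []⟩)) (.node (.leaf ⟨8, 629, 2126, 0, 0, 0, 0, 93, 0, 0, []⟩) (.leaf ⟨2, 4825, 4825, 1, 0, 1, 0, 28, 0, 4825, [28643, 28704, 28642]⟩)))) (.node (.node (.node (.leaf ⟨5, 385, 386, 0, 0, 0, 0, 93, 0, 0, []⟩) (.leaf ⟨10, 3055, 3049, (-47), 0, 11, 0, 61, 1, 3052,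 [18447, 18454, 18465]⟩)) (.node (.leaf ⟨2, 1745, 1739, 0, 0, 0, 0, 1, 3, 1745, [10269, 10272, 10214]⟩) (.leaf ⟨4, 4426, 4392, 0, 0, 0, 0, 30, 5, 4426, [26193, 26191, 26656, 26090, 26092]⟩))) (.node (.node (.leaf ⟨5, 976, 977, 0, 0, 0, 0, 93, 0, 0, []⟩) (.leaf ⟨8, 3098, 3788, 0, 0, 0, 0, 93, 0, 0, []⟩)) (.node (.leaf ⟨3, 2428, 2428, 1, 0, (-1), 0, 30, 0, 2428, [14363, 14365, 14368, 14364, 14362]⟩) (.leaf ⟨5, 1531, 1531, (-1), 0, (-1), 0, 31, 3, 1531, [8641, 30752, 8640]⟩))))) (.node (.node (.node (.node (.leaf ⟨7, 167, 167, (-1), 0, 1, 0, 51, 5, 167, [967, 951, 932, 950, 966]⟩) (.leaf ⟨8, 1554, 2847, 0, 0, 0, 0, 93, 0, 0, []⟩)) (.node (.leaf ⟨5, 1618, 1619, 0, 0, 0, 0, 93, 0, 0, []⟩) (.leaf ⟨3, 975, 4322, 0, 0, 0, 0, 33, 0, 4322, [25627, 25501, 6174]⟩))) (.node (.node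 (.leaf ⟨2, 371, 803, 0, 0, 0, 0, 29, 0, 803, [5141, 5153, 1994]⟩) (.leaf ⟨6, 3656, 3657, 0, 0, 0, 0, 93, 0, 0, []⟩)) (.node (.leaf ⟨2, 2311, 2321, 0, 0, 0, 0, 24, 0, 2321, [13337, 13345, 13276]⟩) (.leaf ⟨2, 4952, 4952, (-1), 0, (-1), 0, 25, 2, 4955, [29715, 29728, 29715]⟩)))) (.node (.node (.node (.leaf ⟨4, 578, 579, 0, 0, 0, 0, 93, 0, 0, []⟩) (.leaf ⟨9, 3211, 3196, 0, 0, 0, 0, 63, 0, 3196, [19375, 19487, 19488]⟩)) (.node (.leaf ⟨1, 1909, 1881, 0, 0, 0, 0, 15, 0, 1881, [11143, 11297, 11292]⟩) (.leaf ⟨2, 4664, 4666, 0, 0, 0, 0, 93, 0, 0, []⟩))) (.node (.node (.leaf ⟨9, 55, 1132, 0, 0, 0, 0, 63, 0, 1132, [7041, 7201, 140]⟩) (.leaf ⟨8, 3931, 3942, 0, 0, 0, 0, 47, 3, 3931, [23469, 23467, 23512]⟩)) (.node (.leaf ⟨10, 2577, 2577, (-1), 0, 1, 0, 63, 3, 2577, [15371, 15392,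 15370]⟩) (.leaf ⟨0, 0, 0, 0, 0, 0, 0, 0, 0, 0, []⟩)))))) (.node (.node (.node (.node (.node (.leaf ⟨10, 129, 129, 1, 0, 1, 0, 58, 3, 129, [527, 544, 526]⟩) (.leaf ⟨2, 2775, 2790, 0, 0, 0, 0, 27, 0, 2790, [16927, 1197, 16832]⟩)) (.node (.leaf ⟨4, 1534, 1534, (-1), 0, 1, 0, 40, 0, 1534, [8647, 8736, 8646]⟩) (.leaf ⟨6, 4173, 4149, 0, 0, 0, 0, 45, 5, 4173, [24783, 24781, 25025, 24722, 24724]⟩))) (.node (.node (.leaf ⟨0, 471, 471, (-1), 0, (-1), 0, 4, 0, 471, [2455, 4640, 2454]⟩) (.leaf ⟨8, 3519, 3527, 0, 0, 0, 0, 93, 0, 0, []⟩)) (.node (.leaf ⟨8, 1995, 1536, 0, 0, 0, 0, 47, 3, 1995, [11845, 11843, 8650]⟩) (.leaf ⟨3, 1673, 1673, 1, 0, 1, 0, 32, 0, 1673, [9791, 10506, 9790]⟩)))) (.node (.node (.node (.leaf ⟨10, 494, 494, 1, 0, (-1), 0, 43, 3, 494, [2557, 2592, 2556]⟩)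 (.leaf ⟨10, 804, 3083, 0, 0, 0, 0, 58, 3, 804, [5143, 18976, 18632]⟩)) (.node (.leaf ⟨3, 1805, 1806, 0, 0, 0, 0, 93, 0, 0, []⟩) (.leaf ⟨6, 4579, 4580, 0, 0, 0, 0, 93, 0, 0, []⟩))) (.node (.node (.leaf ⟨8, 1067, 1064, 0, 0, 0, 0, 61, 0, 1064, [6677, 6551, 6688]⟩) (.leaf ⟨7, 3552, 3872, 0, 0, 0, 0, 93, 0, 0, []⟩)) (.node (.leaf ⟨9, 1107, 2466, 0, 0, 0, 0, 63, 2, 1106, [6906, 6903, 14876]⟩) (.leaf ⟨3, 5185, 5185, 1, 0, (-1), 0, 34, 0, 5185, [31223, 31264, 31222]⟩))))) (.node (.node (.node (.node (.leaf ⟨9, 225, 233, 0, 0, 0, 0, 48, 3, 225, [1541, 1566, 1568]⟩) (.leaf ⟨7, 2616, 2939, 0, 0, 0, 0, 93, 0, 0, []⟩)) (.node (.leaf ⟨4, 246, 246, (-1), 0, (-1), 0, 38, 0, 246, [1605, 8952, 9760, 8953, 1604]⟩) (.leaf ⟨4, 4408, 4409, 0, 0, 0, 0, 93, 0, 0, []⟩))) (.node (.node (.leaf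 ⟨7, 892, 892, 1, 0, (-1), 0, 57, 0, 892, [5649, 5664, 5648]⟩) (.leaf ⟨3, 377, 3734, 0, 0, 0, 0, 35, 0, 3734, [22013, 463, 2026]⟩)) (.node (.leaf ⟨9, 2332, 1206, 0, 0, 0, 0, 53, 3, 2332, [13379, 8252, 7356]⟩) (.leaf ⟨10, 4722, 5029, 0, 0, 0, 0, 54, 3, 4722, [28047, 30241, 30228]⟩)))) (.node (.node (.node (.leaf ⟨5, 651, 652, 0, 0, 0, 0, 93, 0, 0, []⟩) (.leaf ⟨10, 3017, 3310, 0, 0, 0, 0, 58, 3, 3017, [18295, 5577, 19994]⟩)) (.node (.leaf ⟨1, 1921, 1913, (-51), 0, (-9), 0, 11, 4, 1920, [11332, 11719, 11720, 11803, 11808]⟩) (.leaf ⟨1, 3810, 3167, 0, 0, 0, 0, 16, 0, 3167, [19269, 28193, 22782]⟩))) (.node (.node (.leaf ⟨4, 1301, 1302, 0, 0, 0, 0, 93, 0, 0, []⟩) (.leaf ⟨11, 369, 3076, 0, 0, 0, 0, 64, 3, 369, [1991, 24096, 18604]⟩)) (.node (.leaf ⟨9, 2655, 2653, 0, 0, 0,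 0, 48, 3, 2655, [15903, 15905, 15898]⟩) (.leaf ⟨0, 0, 0, 0, 0, 0, 0, 0, 0, 0, []⟩))))))

def factsPart18 : ATree TFact :=
  .node (.node (.node (.node (.node (.node (.leaf ⟨3, 18, 19, 0, 0, 0, 0, 93, 0, 0, []⟩) (.leaf ⟨5, 2443, 2709, 0, 0, 0, 0, 93, 0, 0, []⟩)) (.node (.leaf ⟨5, 274, 1389, 0, 0, 0, 0, 31, 3, 274, [1709, 8226, 8084]⟩) (.leaf ⟨8, 4113, 3488, 0, 0, 0, 0, 62, 0, 3488, [20885, 24611, 24594]⟩))) (.node (.node (.leaf ⟨5, 446, 446, 1, 0, (-1), 0, 46, 0, 446, [2387, 4130, 2386]⟩) (.leaf ⟨5, 2560, 3395, 0, 0, 0, 0, 93, 0, 0, []⟩)) (.node (.leaf ⟨6, 2122, 2126, 0, 0, 0, 0, 52, 2, 630, [12314, 3499, 12322]⟩) (.leaf ⟨2, 4826, 4826, (-1), 0, (-1), 0, 25, 0, 4826, [28645, 28706, 28644]⟩)))) (.node (.node (.node (.leaf ⟨4, 386, 387, 0, 0, 0, 0, 93, 0, 0, []⟩) (.leaf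 ⟨9, 3055, 3048, 0, 0, 0, 0, 57, 3, 3055, [18453, 4718, 18424]⟩)) (.node (.leaf ⟨1, 1669, 1746, 0, 0, 0, 0, 93, 0, 0, []⟩) (.leaf ⟨4, 4427, 4393, 0, 0, 0, 0, 22, 3, 4427, [26195, 26658, 26094]⟩))) (.node (.node (.leaf ⟨10, 977, 978, 0, 0, 0, 0, 93, 0, 0, []⟩) (.leaf ⟨4, 3788, 3779, 0, 0, 0, 0, 41, 0, 3779, [22499, 22561, 22562]⟩)) (.node (.leaf ⟨7, 1704, 1783, 0, 0, 0, 0, 46, 3, 1704, [10013, 13656, 10638]⟩) (.leaf ⟨5, 1550, 1550, (-1), 0, 1, 0, 23, 3, 1550, [8753, 30754, 8752]⟩))))) (.node (.node (.node (.node (.leaf ⟨7, 168, 168, (-1), 0, (-1), 0, 46, 3, 168, [995, 1058, 994]⟩) (.leaf ⟨6, 2242, 2847, 0, 0, 0, 0, 52, 2, 1555, [13022, 8771, 17442]⟩)) (.node (.leaf ⟨4, 694, 683, 0, 0, 0, 0, 43, 0, 683, [4119, 4175, 4190]⟩) (.leaf ⟨3, 976, 4323, 0, 0, 0, 0, 32, 0, 4323,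 [25629, 25635, 6176]⟩))) (.node (.node (.leaf ⟨2, 372, 804, 0, 0, 0, 0, 25, 0, 804, [5143, 5155, 1996]⟩) (.leaf ⟨5, 3657, 3658, 0, 0, 0, 0, 93, 0, 0, []⟩)) (.node (.leaf ⟨10, 1496, 2322, 0, 0, 0, 0, 93, 0, 0, []⟩) (.leaf ⟨2, 4937, 4937, (-1), 0, 1, 0, 22, 2, 4952, [29654, 29730, 29654]⟩)))) (.node (.node (.node (.leaf ⟨3, 579, 580, 0, 0, 0, 0, 93, 0, 0, []⟩) (.leaf ⟨10, 1466, 3212, 0, 0, 0, 0, 93, 0, 0, []⟩)) (.node (.leaf ⟨2, 1828, 1910, 0, 0, 0, 0, 93, 0, 0, []⟩) (.leaf ⟨10, 4666, 4667, 0, 0, 0, 0, 93, 0, 0, []⟩))) (.node (.node (.leaf ⟨9, 56, 1140, 0, 0, 0, 0, 64, 0, 1140, [7069, 7203, 142]⟩) (.leaf ⟨8, 3943, 3932, 0, 0, 0, 0, 41, 3, 3943, [23515, 23587, 23470]⟩)) (.node (.leaf ⟨10, 2578, 2578, (-1), 0, (-1), 0, 9, 3, 2578, [15373, 15394, 15372]⟩) (.leaf ⟨0, 0,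 0, 0, 0, 0, 0, 0, 0, 0, []⟩)))))) (.node (.node (.node (.node (.node (.leaf ⟨10, 130, 130, 1, 0, (-1), 0, 54, 3, 130, [529, 546, 528]⟩) (.leaf ⟨2, 2778, 2791, 0, 0, 0, 0, 25, 0, 2791, [16929, 16931, 16844]⟩)) (.node (.leaf ⟨4, 1535, 1535, 1, 0, (-1), 0, 39, 0, 1535, [8649, 8738, 8648]⟩) (.leaf ⟨6, 4174, 4150, 0, 0, 0, 0, 39, 3, 4174, [24785, 25122, 24726]⟩))) (.node (.node (.leaf ⟨0, 472, 472, 1, 0, 1, 0, 5, 0, 472, [2457, 4642, 2456]⟩) (.leaf ⟨5, 3527, 3528, 0, 0, 0, 0, 93, 0, 0, []⟩)) (.node (.leaf ⟨8, 1537, 1996, 0, 0, 0, 0, 41, 3, 1537, [8653, 12835, 11846]⟩) (.leaf ⟨3, 1674, 1674, (-1), 0, (-1), 0, 31, 0, 1674, [9793, 29218, 9792]⟩)))) (.node (.node (.node (.leaf ⟨5, 490, 490, (-1), 0, (-1), 0, 49, 0, 490, [2547, 2563, 2594, 2562, 2546]⟩) (.leaf ⟨10, 805, 3084,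 0, 0, 0, 0, 54, 3, 805, [5145, 18978, 18634]⟩)) (.node (.leaf ⟨2, 1806, 1807, 0, 0, 0, 0, 93, 0, 0, []⟩) (.leaf ⟨5, 4580, 4581, 0, 0, 0, 0, 93, 0, 0, []⟩))) (.node (.node (.leaf ⟨5, 1051, 1068, 0, 0, 0, 0, 93, 0, 0, []⟩) (.leaf ⟨4, 3869, 3872, 0, 0, 0, 0, 40, 2, 3553, [23064, 21105, 23074]⟩)) (.node (.leaf ⟨9, 2467, 1108, 0, 0, 0, 0, 48, 3, 2467, [14879, 14883, 6910]⟩) (.leaf ⟨4, 2730, 5182, 0, 0, 0, 0, 13, 3, 2730, [16517, 6004, 31216]⟩))))) (.node (.node (.node (.node (.leaf ⟨8, 229, 234, 0, 0, 0, 0, 93, 0, 0, []⟩) (.leaf ⟨8, 1753, 2937, 0, 0, 0, 0, 7, 3, 1753, [10329, 15806, 17946]⟩)) (.node (.leaf ⟨4, 247, 247, 1, 0, 1, 0, 40, 0, 247, [1607, 9762, 1606]⟩) (.leaf ⟨3, 4409, 4410, 0, 0, 0, 0, 93, 0, 0, []⟩))) (.node (.node (.leaf ⟨6, 890, 890, (-1), 0, (-1), 0,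 51, 0, 890, [5643, 5651, 5666, 5650, 5642]⟩) (.leaf ⟨4, 108, 108, (-1), 0, (-1), 0, 41, 0, 108, [455, 3716, 454]⟩)) (.node (.leaf ⟨9, 2333, 2319, 0, 0, 0, 0, 42, 3, 2333, [13381, 13858, 13332]⟩) (.leaf ⟨10, 4723, 5030, 0, 0, 0, 0, 61, 3, 4723, [28049, 30242, 30230]⟩)))) (.node (.node (.node (.leaf ⟨10, 652, 653, 0, 0, 0, 0, 93, 0, 0, []⟩) (.leaf ⟨5, 901, 901, 1, 0, (-1), 0, 49, 0, 901, [5727, 5763, 5768, 5762, 5726]⟩)) (.node (.leaf ⟨0, 1118, 1358, 0, 0, 0, 0, 1, 0, 1358, [8015, 6901, 6988]⟩) (.leaf ⟨1, 3811, 3168, 0, 0, 0, 0, 15, 0, 3168, [19273, 28195, 22786]⟩))) (.node (.node (.leaf ⟨3, 1302, 1303, 0, 0, 0, 0, 93, 0, 0, []⟩) (.leaf ⟨10, 371, 3078, 0, 0, 0, 0, 65, 4, 370, [1994, 1993, 24098, 18608, 18612]⟩)) (.node (.leaf ⟨11, 603, 741, 65, 0, 3, 0, 50, 3, 603,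 [3269, 14093, 4614]⟩) (.leaf ⟨0, 0, 0, 0, 0, 0, 0, 0, 0, 0, []⟩))))))

def factsPart19 : ATree TFact :=
  .node (.node (.node (.node (.node (.node (.leaf ⟨9, 19, 20, 0, 0, 0, 0, 93, 0, 0, []⟩) (.leaf ⟨6, 2709, 2710, 0, 0, 0, 0, 93, 0, 0, []⟩)) (.node (.leaf ⟨5, 1202, 1390, 0, 0, 0, 0, 23, 3, 1202, [7349, 8228, 8086]⟩) (.leaf ⟨8, 3625, 3489, 0, 0, 0, 0, 56, 5, 3625, [21407, 24589, 24604, 24612, 20886]⟩))) (.node (.node (.leaf ⟨6, 532, 532, 1, 0, (-1), 0, 45, 5, 532, [2819, 2389, 4132, 2388, 2818]⟩) (.leaf ⟨4, 3395, 3396, 0, 0, 0, 0, 93, 0, 0, []⟩)) (.node (.leaf ⟨8, 640, 2127, 0, 0, 0, 0, 93, 0, 0, []⟩) (.leaf ⟨2, 4827, 4827, 1, 0, 1, 0, 24, 0, 4827, [28649, 28708, 28648]⟩)))) (.node (.node (.node (.leaf ⟨9, 387, 388, 0, 0, 0, 0, 93, 0, 0, []⟩) (.leaf ⟨10, 796, 3048,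 47, 0, (-11), 0, 63, 3, 796, [18433, 18467, 18468]⟩)) (.node (.leaf ⟨3, 1744, 1746, 0, 0, 0, 0, 12, 3, 1744, [10267, 9782, 10276]⟩) (.leaf ⟨4, 4428, 4394, 0, 0, 0, 0, 43, 0, 4394, [26097, 26661, 26196]⟩))) (.node (.node (.leaf ⟨10, 975, 970, 0, 0, 0, 0, 58, 3, 975, [6175, 6173, 6160]⟩) (.leaf ⟨7, 3788, 3789, 0, 0, 0, 0, 93, 0, 0, []⟩)) (.node (.leaf ⟨7, 2428, 1777, 27, 0, 1, 0, 40, 1, 1783, [14373, 14362, 10661]⟩) (.leaf ⟨5, 2925, 2925, (-1), 0, (-1), 0, 14, 3, 2925, [17831, 30756, 17830]⟩))))) (.node (.node (.node (.node (.leaf ⟨7, 171, 171, 1, 0, 1, 0, 58, 0, 171, [1057, 1060, 1056]⟩) (.leaf ⟨8, 207, 2848, 0, 0, 0, 0, 93, 0, 0, []⟩)) (.node (.leaf ⟨4, 795, 1618, 0, 0, 0, 0, 44, 0, 1618, [9249, 9253, 5064]⟩) (.leaf ⟨3, 977, 4324, 0, 0, 0, 0, 31, 0, 4324, [25631,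 25637, 6178]⟩))) (.node (.node (.leaf ⟨2, 373, 805, 0, 0, 0, 0, 24, 0, 805, [5145, 5157, 1998]⟩) (.leaf ⟨4, 3658, 3659, 0, 0, 0, 0, 93, 0, 0, []⟩)) (.node (.leaf ⟨11, 2322, 2323, 0, 0, 0, 0, 93, 0, 0, []⟩) (.leaf ⟨10, 4820, 4963, 0, 0, 0, 0, 93, 0, 0, []⟩)))) (.node (.node (.node (.leaf ⟨2, 580, 581, 0, 0, 0, 0, 93, 0, 0, []⟩) (.leaf ⟨11, 3212, 3213, 0, 0, 0, 0, 93, 0, 0, []⟩)) (.node (.leaf ⟨10, 1910, 1911, 0, 0, 0, 0, 93, 0, 0, []⟩) (.leaf ⟨2, 4667, 4665, 0, 0, 0, 0, 28, 2, 4666, [27684, 27683, 27680]⟩))) (.node (.node (.leaf ⟨9, 57, 1141, 0, 0, 0, 0, 48, 3, 57, [145, 7204, 7070]⟩) (.leaf ⟨6, 3941, 3932, 17, 0, (-1), 0, 52, 2, 3938, [23510, 23585, 23588]⟩)) (.node (.leaf ⟨10, 2579, 2579, (-1), 0, 1, 0, 58, 3, 2579, [15375, 15396, 15374]⟩) (.leaf ⟨0, 0, 0, 0, 0,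 0, 0, 0, 0, 0, []⟩)))))) (.node (.node (.node (.node (.node (.leaf ⟨10, 78, 131, 0, 0, 0, 0, 93, 0, 0, []⟩) (.leaf ⟨9, 155, 2792, 0, 0, 0, 0, 93, 0, 0, []⟩)) (.node (.leaf ⟨5, 1537, 1537, 1, 0, (-1), 0, 38, 5, 1537, [8653, 8651, 8740, 8650, 8652]⟩) (.leaf ⟨6, 4175, 4151, 0, 0, 0, 0, 54, 0, 4151, [24729, 25125, 24786]⟩))) (.node (.node (.leaf ⟨0, 473, 473, (-1), 0, (-1), 0, 6, 0, 473, [2459, 4644, 2458]⟩) (.leaf ⟨4, 3528, 3529, 0, 0, 0, 0, 93, 0, 0, []⟩)) (.node (.leaf ⟨8, 1538, 1997, 0, 0, 0, 0, 34, 3, 1538, [8655, 12836, 11848]⟩) (.leaf ⟨4, 1676, 1676, (-1), 0, (-1), 0, 30, 5, 1676, [9797, 9795, 29220, 9794, 9796]⟩)))) (.node (.node (.node (.leaf ⟨6, 485, 485, (-1), 0, (-1), 0, 45, 5, 485, [2521, 2549, 2596, 2548, 2520]⟩) (.leaf ⟨5, 807, 3086, 0, 0, 0, 0, 49, 4,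 806, [5148, 5147, 18980, 18636, 18638]⟩)) (.node (.leaf ⟨8, 1792, 1804, (-4), 0, 34, 0, 47, 3, 1792, [10743, 9495, 10782]⟩) (.leaf ⟨4, 4581, 4582, 0, 0, 0, 0, 93, 0, 0, []⟩))) (.node (.node (.leaf ⟨4, 1068, 1069, 0, 0, 0, 0, 93, 0, 0, []⟩) (.leaf ⟨6, 3872, 3873, 0, 0, 0, 0, 93, 0, 0, []⟩)) (.node (.leaf ⟨9, 2468, 1109, 0, 0, 0, 0, 57, 3, 2468, [14881, 14884, 6914]⟩) (.leaf ⟨4, 2731, 5183, 0, 0, 0, 0, 42, 0, 5183, [31219, 31269, 16518]⟩))))) (.node (.node (.node (.node (.leaf ⟨5, 234, 235, 0, 0, 0, 0, 93, 0, 0, []⟩) (.leaf ⟨5, 2937, 2616, (-3), 0, (-3), 0, 47, 2, 1753, [17956, 10341, 15594]⟩)) (.node (.leaf ⟨4, 248, 248, (-1), 0, (-1), 0, 39, 0, 248, [1609, 9764, 1608]⟩) (.leaf ⟨10, 4410, 4411, 0, 0, 0, 0, 93, 0, 0, []⟩))) (.node (.node (.leaf ⟨7, 886, 893, 0, 0,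 0, 0, 93, 0, 0, []⟩) (.leaf ⟨4, 3734, 3734, 1, 0, 1, 0, 42, 0, 3734, [22013, 22052, 22012]⟩)) (.node (.leaf ⟨9, 2334, 2320, 0, 0, 0, 0, 57, 3, 2334, [13383, 13860, 13334]⟩) (.leaf ⟨5, 5024, 5032, 0, 0, 0, 0, 49, 4, 4724, [30212, 28051, 30244, 30232, 30234]⟩)))) (.node (.node (.node (.leaf ⟨10, 651, 487, 0, 0, 0, 0, 54, 3, 651, [3617, 2861, 2534]⟩) (.leaf ⟨5, 902, 902, (-1), 0, 1, 0, 50, 0, 902, [5729, 20004, 5728]⟩)) (.node (.leaf ⟨0, 1119, 1359, 0, 0, 0, 0, 8, 0, 1359, [8017, 11813, 6990]⟩) (.leaf ⟨9, 2535, 4755, 0, 0, 0, 0, 93, 0, 0, []⟩))) (.node (.node (.leaf ⟨10, 1303, 1304, 0, 0, 0, 0, 93, 0, 0, []⟩) (.leaf ⟨10, 372, 3079, 0, 0, 0, 0, 58, 3, 372, [1997, 24100, 18616]⟩)) (.node (.leaf ⟨8, 601, 2650, 0, 0, 0, 0, 26, 3, 601, [3257, 4684, 15892]⟩) (.leaf ⟨0, 0,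 0, 0, 0, 0, 0, 0, 0, 0, []⟩))))))

def factsPart20 : ATree TFact :=
  .node (.node (.node (.node (.node (.node (.leaf ⟨10, 20, 21, 0, 0, 0, 0, 93, 0, 0, []⟩) (.leaf ⟨1, 1617, 2709, 0, 0, 0, 0, 14, 0, 2709, [16421, 14486, 9234]⟩)) (.node (.leaf ⟨5, 1203, 1395, 0, 0, 0, 0, 48, 0, 1395, [8097, 8231, 7350]⟩) (.leaf ⟨8, 3626, 3490, 0, 0, 0, 0, 52, 3, 3626, [21409, 24614, 20888]⟩))) (.node (.node (.leaf ⟨6, 533, 533, (-1), 0, 1, 0, 54, 0, 533, [2821, 4134, 2820]⟩) (.leaf ⟨7, 3396, 3397, 0, 0, 0, 0, 93, 0, 0, []⟩)) (.node (.leaf ⟨5, 2126, 2127, 0, 0, 0, 0, 47, 0, 2127, [12327, 3542, 12322]⟩) (.leaf ⟨8, 1672, 4834, 0, 0, 0, 0, 93, 0, 0, []⟩)))) (.node (.node (.node (.leaf ⟨9, 176, 389, 0, 0, 0, 0, 93, 0, 0, []⟩) (.leaf ⟨9, 2124, 3056, 0, 0, 0, 0, 93, 0, 0, []⟩)) (.node (.leaf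 ⟨0, 1746, 1747, 0, 0, 0, 0, 93, 0, 0, []⟩) (.leaf ⟨4, 4413, 4395, (-22), 0, 2, 0, 38, 4, 4404, [26166, 26651, 26211, 26662, 26098]⟩))) (.node (.node (.leaf ⟨10, 971, 976, 0, 0, 0, 0, 54, 3, 971, [6163, 6183, 6176]⟩) (.leaf ⟨4, 3789, 3787, 0, 0, 0, 0, 40, 0, 3787, [22557, 22565, 22566]⟩)) (.node (.leaf ⟨2, 2345, 2428, (-27), 0, 1, 0, 25, 2, 1779, [13416, 10626, 14375]⟩) (.leaf ⟨4, 2925, 1754, 0, 0, 0, 0, 13, 3, 2925, [17831, 8860, 10350]⟩))))) (.node (.node (.node (.node (.leaf ⟨5, 166, 166, (-1), 0, (-1), 0, 46, 0, 166, [951, 938, 950]⟩) (.leaf ⟨5, 2847, 2848, 0, 0, 0, 0, 47, 0, 2848, [17447, 8780, 17442]⟩)) (.node (.leaf ⟨4, 1619, 589, 27, 0, (-1), 0, 38, 4, 1618, [9250, 9255, 5079, 4670, 3216]⟩) (.leaf ⟨3, 978, 4325, 0, 0, 0, 0, 36, 0, 4325, [25633, 25639, 6180]⟩)))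 (.node (.node (.leaf ⟨2, 374, 806, 0, 0, 0, 0, 23, 0, 806, [5147, 5159, 2000]⟩) (.leaf ⟨8, 404, 3660, 0, 0, 0, 0, 93, 0, 0, []⟩)) (.node (.leaf ⟨5, 2323, 2324, 0, 0, 0, 0, 93, 0, 0, []⟩) (.leaf ⟨11, 4963, 4964, 0, 0, 0, 0, 93, 0, 0, []⟩)))) (.node (.node (.node (.leaf ⟨2, 531, 479, 0, 0, 0, 0, 28, 0, 479, [2471, 2625, 2796]⟩) (.leaf ⟨7, 3213, 3214, 0, 0, 0, 0, 93, 0, 0, []⟩)) (.node (.leaf ⟨5, 1911, 1912, 0, 0, 0, 0, 93, 0, 0, []⟩) (.leaf ⟨3, 4666, 4666, (-1), 0, (-11), 0, 21, 3, 3846, [27670, 27682, 23006, 27670, 27682]⟩))) (.node (.node (.leaf ⟨9, 62, 1142, 0, 0, 0, 0, 42, 3, 62, [169, 7206, 7074]⟩) (.leaf ⟨7, 3941, 3955, 0, 0, 0, 0, 93, 0, 0, []⟩)) (.node (.leaf ⟨10, 2580, 2580, (-1), 0, (-1), 0, 54, 3, 2580, [15377, 15398, 15376]⟩) (.leaf ⟨0, 0, 0, 0, 0, 0, 0,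 0, 0, 0, []⟩)))))) (.node (.node (.node (.node (.node (.leaf ⟨6, 131, 111, 0, 0, 0, 0, 54, 0, 111, [471, 330, 550]⟩) (.leaf ⟨9, 182, 2793, 0, 0, 0, 0, 93, 0, 0, []⟩)) (.node (.leaf ⟨5, 1538, 1538, 1, 0, 1, 0, 31, 3, 1538, [8655, 8742, 8654]⟩) (.leaf ⟨6, 4165, 4152, 56, 0, 38, 0, 45, 3, 4158, [24764, 24766, 25121, 25126, 24730]⟩))) (.node (.node (.leaf ⟨0, 474, 474, 1, 0, 1, 0, 5, 0, 474, [2461, 4646, 2460]⟩) (.leaf ⟨3, 3529, 3530, 0, 0, 0, 0, 93, 0, 0, []⟩)) (.node (.leaf ⟨8, 1545, 1998, 0, 0, 0, 0, 26, 3, 1545, [8713, 12838, 11850]⟩) (.leaf ⟨4, 1683, 1683, (-1), 0, 1, 0, 22, 3, 1683, [9877, 29222, 9876]⟩)))) (.node (.node (.node (.leaf ⟨10, 482, 500, 0, 0, 0, 0, 93, 0, 0, []⟩) (.leaf ⟨4, 3099, 3086, 38, 0, (-10), 0, 68, 64, 3075, [18661, 18686, 18655, 6093, 6087,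 18691, 18692, 18696, 18690, 18701, 18706, 18709, 18633, 18718, 5794, 18734, 5790, 18736, 5781, 5523, 5509, 5494, 18738, 18740, 18752, 18571, 18758, 18766, 18278, 18773, 18786, 18771, 18791, 18792, 18794, 18802, 18818, 18811, 18809, 18807, 18822, 18824, 18832, 5569, 6065, 18846, 6078, 6091, 6084, 18691, 18848, 18853, 5223, 5261, 18860, 18864, 18872, 18857, 18862, 18874, 18880, 18882, 18890, 18893, 18894, 18903, 18906, 18915, 18920, 18929, 18934, 18938, 18942, 18944, 5226, 5220, 5222, 5213, 5205, 18950, 18960, 5190, 18950, 5144, 18966, 5146, 5148, 18974, 18982]⟩)) (.node (.leaf ⟨8, 1805, 1793, 4, 0, (-34), 0, 41, 3, 1805, [10785, 10791, 10744]⟩) (.leaf ⟨10, 4582, 4583, 0, 0, 0, 0, 93, 0, 0, []⟩))) (.node (.node (.leaf ⟨3, 1069, 1070, 0, 0, 0, 0, 93, 0, 0, []⟩) (.leaf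 ⟨4, 3873, 3870, 0, 0, 0, 0, 39, 0, 3870, [23067, 23076, 23078]⟩)) (.node (.leaf ⟨8, 510, 2469, 0, 0, 0, 0, 93, 0, 0, []⟩) (.leaf ⟨4, 2732, 5184, 0, 0, 0, 0, 40, 0, 5184, [31221, 31271, 16520]⟩))))) (.node (.node (.node (.node (.leaf ⟨4, 235, 236, 0, 0, 0, 0, 93, 0, 0, []⟩) (.leaf ⟨5, 2939, 2938, 3, 0, 3, 0, 46, 2, 2616, [17954, 17959, 17948]⟩)) (.node (.leaf ⟨5, 1610, 1610, (-1), 0, (-1), 0, 38, 5, 1610, [9105, 9103, 9766, 9102, 9104]⟩) (.leaf ⟨5, 4406, 4397, 0, 0, 0, 0, 46, 2, 4405, [26140, 26139, 26122]⟩))) (.node (.node (.leaf ⟨5, 890, 893, 0, 0, 0, 0, 46, 0, 893, [5671, 5632, 5642]⟩) (.leaf ⟨6, 378, 378, (-1), 0, (-1), 0, 53, 0, 378, [2057, 19792, 2056]⟩)) (.node (.leaf ⟨9, 2335, 2321, 0, 0, 0, 0, 53, 3, 2335, [13385, 13862, 13336]⟩) (.leaf ⟨5, 5025, 5033, 0,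 0, 0, 0, 50, 0, 5033, [30237, 30247, 30216]⟩)))) (.node (.node (.node (.leaf ⟨5, 653, 649, 0, 0, 0, 0, 49, 4, 652, [3620, 3619, 3622, 2536, 3608]⟩) (.leaf ⟨10, 863, 3311, 0, 0, 0, 0, 93, 0, 0, []⟩)) (.node (.leaf ⟨0, 1120, 1360, 0, 0, 0, 0, 9, 0, 1360, [8019, 11815, 6992]⟩) (.leaf ⟨10, 4755, 4756, 0, 0, 0, 0, 93, 0, 0, []⟩))) (.node (.node (.leaf ⟨5, 1304, 1305, 0, 0, 0, 0, 93, 0, 0, []⟩) (.leaf ⟨10, 373, 3080, 0, 0, 0, 0, 54, 3, 373, [1999, 24102, 18620]⟩)) (.node (.leaf ⟨8, 602, 2654, 0, 0, 0, 0, 61, 0, 2654, [15901, 15911, 3258]⟩) (.leaf ⟨0, 0, 0, 0, 0, 0, 0, 0, 0, 0, []⟩))))))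

def factsPart21 : ATree TFact :=
  .node (.node (.node (.node (.node (.node (.leaf ⟨5, 21, 22, 0, 0, 0, 0, 93, 0, 0, []⟩) (.leaf ⟨1, 2414, 2710, 0, 0, 0, 0, 15, 0, 2710, [16423, 16425, 14118]⟩)) (.node (.leaf ⟨10, 1205, 1397, 0, 0, 0, 0, 49, 5, 1205, [7355, 7353, 8232, 8098, 8102]⟩) (.leaf ⟨8, 3627, 3491, 0, 0, 0, 0, 47, 3, 3627, [21411, 24616, 20890]⟩))) (.node (.node (.leaf ⟨2, 459, 459, 1, 0, (-1), 0, 28, 2, 501, [2605, 2754, 2605]⟩) (.leaf ⟨6, 3397, 3398, 0, 0, 0, 0, 93, 0, 0, []⟩)) (.node (.leaf ⟨6, 771, 2127, 0, 0, 0, 0, 52, 2, 641, [4842, 3545, 12326]⟩) (.leaf ⟨6, 2476, 4834, 0, 0, 0, 0, 52, 2, 1673, [14902, 9791, 28712]⟩)))) (.node (.node (.node (.leaf ⟨10, 389, 390, 0, 0, 0, 0, 93, 0, 0, []⟩) (.leaf ⟨6, 3056, 774, 0, 0, 0, 0, 53, 0, 774, [4849, 12335, 18472]⟩))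 (.node (.leaf ⟨3, 1745, 1747, 0, 0, 0, 0, 2, 3, 1745, [10269, 10278, 10280]⟩) (.leaf ⟨5, 4265, 4495, 0, 0, 0, 0, 93, 0, 0, []⟩))) (.node (.node (.leaf ⟨5, 973, 978, 0, 0, 0, 0, 49, 4, 972, [6170, 6167, 6184, 6178, 6180]⟩) (.leaf ⟨8, 3096, 3790, 0, 0, 0, 0, 93, 0, 0, []⟩)) (.node (.leaf ⟨6, 1785, 1785, (-1), 0, 1, 0, 15, 3, 1785, [10667, 9166, 10666]⟩) (.leaf ⟨0, 1598, 1693, 0, 0, 0, 0, 9, 0, 1693, [9949, 10333, 9032]⟩))))) (.node (.node (.node (.node (.leaf ⟨6, 168, 168, (-1), 0, (-1), 0, 45, 5, 168, [995, 967, 1064, 966, 994]⟩) (.leaf ⟨6, 209, 2848, 0, 0, 0, 0, 52, 2, 208, [1500, 1499, 17446]⟩)) (.node (.leaf ⟨11, 533, 1620, 0, 0, 0, 0, 93, 0, 0, []⟩) (.leaf ⟨7, 441, 4326, 0, 0, 0, 0, 93, 0, 0, []⟩))) (.node (.node (.leaf ⟨2, 375, 807, 0, 0, 0, 0, 28, 0, 807, [5149,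 5161, 2002]⟩) (.leaf ⟨5, 3660, 3661, 0, 0, 0, 0, 93, 0, 0, []⟩)) (.node (.leaf ⟨7, 2324, 2325, 0, 0, 0, 0, 93, 0, 0, []⟩) (.leaf ⟨5, 4964, 4965, 0, 0, 0, 0, 93, 0, 0, []⟩)))) (.node (.node (.node (.leaf ⟨2, 576, 491, 0, 0, 0, 0, 25, 0, 491, [2551, 3113, 3100]⟩) (.leaf ⟨6, 3214, 3215, 0, 0, 0, 0, 93, 0, 0, []⟩)) (.node (.leaf ⟨6, 1912, 1913, 0, 0, 0, 0, 93, 0, 0, []⟩) (.leaf ⟨3, 4667, 4667, (-1), 0, 11, 0, 36, 2, 4666, [27684, 27688, 27684]⟩))) (.node (.node (.leaf ⟨9, 63, 1146, 0, 0, 0, 0, 63, 0, 1146, [7091, 7209, 170]⟩) (.leaf ⟨6, 3955, 3956, 0, 0, 0, 0, 93, 0, 0, []⟩)) (.node (.leaf ⟨8, 1586, 2582, 0, 0, 0, 0, 93, 0, 0, []⟩) (.leaf ⟨0, 0, 0, 0, 0, 0, 0, 0, 0, 0, []⟩)))))) (.node (.node (.node (.node (.node (.leaf ⟨0, 4, 132, 0, 0, 0, 0, 93, 0, 0, []⟩) (.leaf ⟨1,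 163, 181, 0, 0, 0, 0, 17, 0, 181, [1223, 1233, 922]⟩)) (.node (.leaf ⟨5, 1545, 1545, 1, 0, (-1), 0, 23, 3, 1545, [8713, 8744, 8712]⟩) (.leaf ⟨10, 4140, 4222, 0, 0, 0, 0, 93, 0, 0, []⟩))) (.node (.node (.leaf ⟨0, 475, 475, (-1), 0, (-1), 0, 4, 0, 475, [2463, 4648, 2462]⟩) (.leaf ⟨10, 3530, 3531, 0, 0, 0, 0, 93, 0, 0, []⟩)) (.node (.leaf ⟨8, 1546, 2208, 0, 0, 0, 0, 61, 0, 2208, [12833, 12841, 8714]⟩) (.leaf ⟨4, 2629, 2629, (-1), 0, (-1), 0, 13, 3, 2629, [15753, 29224, 15752]⟩)))) (.node (.node (.node (.leaf ⟨4, 484, 500, 0, 0, 0, 0, 43, 2, 483, [2518, 2517, 2600]⟩) (.leaf ⟨5, 2750, 3123, 0, 0, 0, 0, 93, 0, 0, []⟩)) (.node (.leaf ⟨8, 1794, 1806, (-4), 0, 34, 0, 34, 3, 1794, [10747, 10793, 10786]⟩) (.leaf ⟨7, 2111, 4584, 0, 0, 0, 0, 93, 0, 0, []⟩))) (.node (.node (.leaf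 ⟨10, 1070, 1071, 0, 0, 0, 0, 93, 0, 0, []⟩) (.leaf ⟨10, 961, 3874, 0, 0, 0, 0, 93, 0, 0, []⟩)) (.node (.leaf ⟨5, 2469, 2470, 0, 0, 0, 0, 93, 0, 0, []⟩) (.leaf ⟨8, 2732, 5186, 0, 0, 0, 0, 93, 0, 0, []⟩))))) (.node (.node (.node (.node (.leaf ⟨10, 236, 237, 0, 0, 0, 0, 93, 0, 0, []⟩) (.leaf ⟨7, 2603, 2940, 0, 0, 0, 0, 93, 0, 0, []⟩)) (.node (.leaf ⟨5, 1611, 1611, (-1), 0, 1, 0, 31, 3, 1611, [9107, 9768, 9106]⟩) (.leaf ⟨6, 4399, 4408, 0, 0, 0, 0, 45, 5, 4399, [26127, 26125, 26153, 26142, 26144]⟩))) (.node (.node (.leaf ⟨7, 887, 894, 0, 0, 0, 0, 93, 0, 0, []⟩) (.leaf ⟨10, 3721, 3732, 0, 0, 0, 0, 58, 3, 3721, [21867, 2059, 22004]⟩)) (.node (.leaf ⟨10, 2326, 2321, (-7), 0, 25, 0, 63, 3, 2326, [13377, 13857, 13864]⟩) (.leaf ⟨5, 5026, 5034, 0, 0, 0, 0, 46, 0, 5034, [30239,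 30249, 30220]⟩)))) (.node (.node (.node (.leaf ⟨11, 653, 654, 0, 0, 0, 0, 93, 0, 0, []⟩) (.leaf ⟨3, 901, 3311, 0, 0, 0, 0, 36, 2, 900, [5726, 5725, 20008]⟩)) (.node (.leaf ⟨0, 1121, 1361, 0, 0, 0, 0, 4, 0, 1361, [8021, 11817, 6994]⟩) (.leaf ⟨11, 4756, 4757, 0, 0, 0, 0, 93, 0, 0, []⟩))) (.node (.node (.leaf ⟨6, 1305, 1306, 0, 0, 0, 0, 93, 0, 0, []⟩) (.leaf ⟨10, 3698, 3900, 0, 0, 0, 0, 61, 3, 3698, [21731, 24104, 23292]⟩)) (.node (.leaf ⟨8, 603, 2655, 0, 0, 0, 0, 47, 3, 603, [3269, 15912, 15902]⟩) (.leaf ⟨0, 0, 0, 0, 0, 0, 0, 0, 0, 0, []⟩))))))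

def factsPart22 : ATree TFact :=
  .node (.node (.node (.node (.node (.node (.leaf ⟨7, 22, 23, 0, 0, 0, 0, 93, 0, 0, []⟩) (.leaf ⟨11, 2710, 2708, (-1), 0, 5, 0, 20, 1, 691, [14149, 16426, 16415]⟩)) (.node (.leaf ⟨10, 1308, 1398, 0, 0, 0, 0, 58, 3, 1308, [7727, 8234, 8106]⟩) (.leaf ⟨8, 3628, 3492, 0, 0, 0, 0, 41, 3, 3628, [21413, 24618, 20892]⟩))) (.node (.node (.leaf ⟨4, 502, 685, 0, 0, 0, 0, 93, 0, 0, []⟩) (.leaf ⟨8, 3398, 3399, 0, 0, 0, 0, 93, 0, 0, []⟩)) (.node (.leaf ⟨6, 2123, 772, 0, 0, 0, 0, 45, 5, 2123, [12317, 12324, 12328, 12331, 4844]⟩) (.leaf ⟨5, 4834, 4834, 1, 0, 1, 0, 47, 0, 4834, [28713, 9838, 28712]⟩)))) (.node (.node (.node (.leaf ⟨11, 390, 391, 0, 0, 0, 0, 93, 0, 0, []⟩) (.leaf ⟨10, 3056, 3057, 0, 0, 0, 0, 93, 0, 0, []⟩)) (.node (.leaf ⟨3, 506,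 506, (-1), 0, (-1), 0, 21, 5, 506, [2659, 1693, 9120, 1692, 2658]⟩) (.leaf ⟨4, 4495, 4496, 0, 0, 0, 0, 93, 0, 0, []⟩))) (.node (.node (.leaf ⟨10, 437, 979, 0, 0, 0, 0, 93, 0, 0, []⟩) (.leaf ⟨3, 3790, 3788, 0, 0, 0, 0, 34, 0, 3788, [22563, 18751, 22570]⟩)) (.node (.leaf ⟨6, 2341, 2341, 1, 0, (-1), 0, 54, 0, 2341, [13401, 14378, 13400]⟩) (.leaf ⟨0, 1599, 1694, 0, 0, 0, 0, 10, 0, 1694, [9951, 30763, 9034]⟩))))) (.node (.node (.node (.node (.leaf ⟨6, 171, 171, 1, 0, 1, 0, 54, 0, 171, [1057, 1066, 1056]⟩) (.leaf ⟨6, 2243, 210, 0, 0, 0, 0, 45, 5, 2243, [13025, 17444, 17448, 17451, 1502]⟩)) (.node (.leaf ⟨11, 447, 447, 1, 0, 1, 0, 55, 3, 447, [2389, 9170, 2388]⟩) (.leaf ⟨6, 4326, 4327, 0, 0, 0, 0, 93, 0, 0, []⟩))) (.node (.node (.leaf ⟨9, 802, 193, 0, 0, 0, 0, 63, 2, 801,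 [5138, 5137, 1338]⟩) (.leaf ⟨4, 3661, 3662, 0, 0, 0, 0, 93, 0, 0, []⟩)) (.node (.leaf ⟨6, 2325, 2326, 0, 0, 0, 0, 93, 0, 0, []⟩) (.leaf ⟨4, 4965, 4966, 0, 0, 0, 0, 93, 0, 0, []⟩)))) (.node (.node (.node (.leaf ⟨2, 577, 492, 0, 0, 0, 0, 24, 0, 492, [2553, 3115, 3102]⟩) (.leaf ⟨5, 3215, 3216, 0, 0, 0, 0, 93, 0, 0, []⟩)) (.node (.leaf ⟨0, 1876, 1828, 0, 0, 0, 0, 2, 0, 1828, [10891, 1681, 11122]⟩) (.leaf ⟨4, 846, 846, 1, 0, 1, 0, 38, 0, 846, [5363, 23197, 20288, 23196, 5362]⟩))) (.node (.node (.leaf ⟨9, 64, 1147, 0, 0, 0, 0, 57, 3, 64, [173, 7210, 7092]⟩) (.leaf ⟨7, 3934, 3956, (-17), 0, (-1), 0, 51, 3, 3932, [23472, 23474, 23591, 23592, 23594]⟩)) (.node (.leaf ⟨6, 2571, 2582, 0, 0, 0, 0, 52, 2, 1587, [15358, 8945, 15402]⟩) (.leaf ⟨0, 0, 0, 0, 0, 0, 0, 0, 0, 0, []⟩))))))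 (.node (.node (.node (.node (.node (.leaf ⟨5, 78, 132, 0, 0, 0, 0, 4, 3, 78, [323, 9, 554]⟩) (.leaf ⟨1, 164, 182, 0, 0, 0, 0, 14, 0, 182, [1225, 16939, 924]⟩)) (.node (.leaf ⟨10, 1547, 1547, 1, 0, (-1), 0, 49, 5, 1547, [8717, 8715, 8746, 8714, 8716]⟩) (.leaf ⟨4, 4142, 4222, 0, 0, 0, 0, 43, 2, 4141, [24710, 24709, 25130]⟩))) (.node (.node (.leaf ⟨0, 476, 476, 1, 0, 1, 0, 3, 0, 476, [2465, 4650, 2464]⟩) (.leaf ⟨11, 3531, 3532, 0, 0, 0, 0, 93, 0, 0, []⟩)) (.node (.leaf ⟨7, 2208, 2209, 0, 0, 0, 0, 93, 0, 0, []⟩) (.leaf ⟨11, 1742, 1742, 1, 0, (-1), 0, 20, 3, 1742, [10249, 14084, 10248]⟩)))) (.node (.node (.node (.leaf ⟨10, 459, 501, 0, 0, 0, 0, 93, 0, 0, []⟩) (.leaf ⟨2, 937, 908, 0, 0, 0, 0, 27, 2, 936, [6006, 6003, 5764]⟩)) (.node (.leaf ⟨8, 1807, 1795, 4, 0, (-34),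 0, 26, 3, 1807, [10789, 10795, 10748]⟩) (.leaf ⟨6, 4584, 4585, 0, 0, 0, 0, 93, 0, 0, []⟩))) (.node (.node (.leaf ⟨7, 1051, 270, 0, 0, 0, 0, 51, 3, 1049, [6648, 6650, 6647, 1698, 1700]⟩) (.leaf ⟨3, 3874, 412, 0, 0, 0, 0, 36, 0, 412, [2233, 6131, 23082]⟩)) (.node (.leaf ⟨4, 2470, 2471, 0, 0, 0, 0, 93, 0, 0, []⟩) (.leaf ⟨4, 5186, 5185, 0, 0, 0, 0, 41, 0, 5185, [31223, 31273, 31274]⟩))))) (.node (.node (.node (.node (.leaf ⟨8, 235, 230, 0, 0, 0, 0, 47, 3, 235, [1575, 1573, 1550]⟩) (.leaf ⟨9, 2939, 2940, 0, 0, 0, 0, 57, 3, 2939, [17955, 15817, 17962]⟩)) (.node (.leaf ⟨5, 1612, 1612, (-1), 0, (-1), 0, 23, 3, 1612, [9115, 9770, 9114]⟩) (.leaf ⟨6, 4400, 4409, 0, 0, 0, 0, 39, 3, 4400, [26129, 26154, 26146]⟩))) (.node (.node (.leaf ⟨10, 894, 893, 0, 0, 0, 0, 58, 3, 894, [5675,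 5623, 5670]⟩) (.leaf ⟨2, 3721, 3721, 1, 0, 1, 0, 25, 2, 379, [21866, 22034, 21866]⟩)) (.node (.leaf ⟨4, 1397, 2395, 0, 0, 0, 0, 93, 0, 0, []⟩) (.leaf ⟨7, 5032, 5035, 0, 0, 0, 0, 93, 0, 0, []⟩)))) (.node (.node (.node (.leaf ⟨5, 654, 650, 0, 0, 0, 0, 50, 0, 650, [3613, 3625, 3626]⟩) (.leaf ⟨11, 3311, 3312, 0, 0, 0, 0, 93, 0, 0, []⟩)) (.node (.leaf ⟨0, 1625, 1914, 0, 0, 0, 0, 3, 0, 1914, [11319, 11819, 9516]⟩) (.leaf ⟨7, 4757, 4758, 0, 0, 0, 0, 93, 0, 0, []⟩))) (.node (.node (.leaf ⟨7, 1306, 1307, 0, 0, 0, 0, 93, 0, 0, []⟩) (.leaf ⟨5, 3700, 3902, 0, 0, 0, 0, 49, 4, 3699, [21734, 21733, 24106, 23294, 23296]⟩)) (.node (.leaf ⟨11, 1956, 2655, (-65), 0, (-3), 0, 62, 3, 1956, [11485, 15909, 15914]⟩) (.leaf ⟨0, 0, 0, 0, 0, 0, 0, 0, 0, 0, []⟩))))))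

def factsPart23 : ATree TFact :=
  .node (.node (.node (.node (.node (.node (.leaf ⟨6, 23, 24, 0, 0, 0, 0, 93, 0, 0, []⟩) (.leaf ⟨7, 2707, 2710, (-60), 0, (-14), 0, 59, 2, 2620, [16358, 16419, 16429]⟩)) (.node (.leaf ⟨10, 1309, 1399, 0, 0, 0, 0, 54, 3, 1309, [7729, 8236, 8110]⟩) (.leaf ⟨8, 3629, 3497, 0, 0, 0, 0, 61, 0, 3497, [20933, 24621, 21414]⟩))) (.node (.node (.leaf ⟨4, 354, 354, 1, 0, (-1), 0, 40, 0, 354, [1921, 2804, 1920]⟩) (.leaf ⟨5, 3399, 3400, 0, 0, 0, 0, 93, 0, 0, []⟩)) (.node (.leaf ⟨6, 2124, 773, 0, 0, 0, 0, 39, 3, 2124, [12319, 12332, 4846]⟩) (.leaf ⟨6, 2477, 2477, 1, 0, 1, 0, 45, 5, 2477, [14905, 28714, 28716, 28715, 14904]⟩)))) (.node (.node (.node (.leaf ⟨4, 158, 392, 0, 0, 0, 0, 93, 0, 0, []⟩) (.leaf ⟨6, 3057, 775, 0, 0, 0, 0, 54, 0, 775, [4851,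 18475, 18476]⟩)) (.node (.leaf ⟨3, 507, 507, 1, 0, 1, 0, 36, 0, 507, [2661, 10284, 2660]⟩) (.leaf ⟨3, 4496, 4497, 0, 0, 0, 0, 93, 0, 0, []⟩))) (.node (.node (.leaf ⟨9, 974, 979, 0, 0, 0, 0, 63, 2, 969, [6172, 6157, 6188]⟩) (.leaf ⟨7, 3790, 3791, 0, 0, 0, 0, 93, 0, 0, []⟩)) (.node (.leaf ⟨5, 2343, 2343, 1, 0, (-1), 0, 45, 4, 2342, [13404, 13403, 14380, 13402, 13404]⟩) (.leaf ⟨0, 1600, 1695, 0, 0, 0, 0, 4, 0, 1695, [9957, 30765, 9054]⟩))))) (.node (.node (.node (.node (.leaf ⟨10, 167, 167, 1, 0, 1, 0, 54, 3, 167, [967, 960, 966]⟩) (.leaf ⟨6, 2244, 211, 0, 0, 0, 0, 39, 3, 2244, [13027, 17452, 1504]⟩)) (.node (.leaf ⟨11, 532, 532, 1, 0, (-1), 0, 50, 3, 532, [2819, 9260, 2818]⟩) (.leaf ⟨5, 4327, 4328, 0, 0, 0, 0, 93, 0, 0, []⟩))) (.node (.node (.leaf ⟨11, 193, 808, 0,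 0, 0, 0, 93, 0, 0, []⟩) (.leaf ⟨3, 3662, 3663, 0, 0, 0, 0, 93, 0, 0, []⟩)) (.node (.leaf ⟨10, 1495, 2327, 0, 0, 0, 0, 93, 0, 0, []⟩) (.leaf ⟨7, 4966, 4967, 0, 0, 0, 0, 93, 0, 0, []⟩)))) (.node (.node (.node (.leaf ⟨2, 578, 493, 0, 0, 0, 0, 23, 0, 493, [2555, 3117, 3104]⟩) (.leaf ⟨4, 3216, 3217, 0, 0, 0, 0, 93, 0, 0, []⟩)) (.node (.leaf ⟨0, 1877, 1910, 0, 0, 0, 0, 1, 0, 1910, [11301, 11309, 11124]⟩) (.leaf ⟨3, 2667, 2667, (-1), 0, 1, 0, 30, 0, 2667, [15957, 5375, 27692, 5374, 15956]⟩))) (.node (.node (.leaf ⟨9, 65, 1148, 0, 0, 0, 0, 53, 3, 65, [175, 7212, 7094]⟩) (.leaf ⟨2, 3956, 3916, 17, 0, (-1), 0, 25, 0, 3916, [23457, 23492, 23596]⟩)) (.node (.leaf ⟨5, 2582, 2582, 1, 0, (-1), 0, 47, 0, 2582, [15403, 13476, 15402]⟩) (.leaf ⟨0, 0, 0, 0, 0, 0, 0, 0, 0, 0, []⟩))))))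 (.node (.node (.node (.node (.node (.leaf ⟨10, 0, 0, 1, 0, 1, 0, 90, 0, 0, []⟩) (.leaf ⟨1, 2790, 2793, 0, 0, 0, 0, 18, 0, 2793, [16937, 16941, 16926]⟩)) (.node (.leaf ⟨10, 1548, 1548, 1, 0, 1, 0, 43, 3, 1548, [8719, 8748, 8718]⟩) (.leaf ⟨10, 4149, 4223, 0, 0, 0, 0, 93, 0, 0, []⟩))) (.node (.node (.leaf ⟨0, 477, 477, (-1), 0, (-1), 0, 9, 0, 477, [2467, 4652, 2466]⟩) (.leaf ⟨8, 3528, 3520, 0, 0, 0, 0, 47, 3, 3528, [21029, 21027, 20994]⟩)) (.node (.leaf ⟨8, 220, 2209, 0, 0, 0, 0, 56, 5, 220, [1523, 12831, 8762, 12842, 12844]⟩) (.leaf ⟨7, 1706, 1784, 0, 0, 0, 0, 59, 0, 1784, [10647, 10123, 10020]⟩)))) (.node (.node (.node (.leaf ⟨3, 406, 352, 0, 0, 0, 0, 36, 2, 395, [2220, 2159, 1916]⟩) (.leaf ⟨2, 930, 2749, 0, 0, 0, 0, 25, 0, 2749, [16607, 18988, 5934]⟩)) (.node (.leaf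 ⟨5, 1488, 1808, 0, 0, 0, 0, 93, 0, 0, []⟩) (.leaf ⟨5, 4585, 4586, 0, 0, 0, 0, 93, 0, 0, []⟩))) (.node (.node (.leaf ⟨7, 504, 1068, 0, 0, 0, 0, 46, 3, 504, [2651, 6701, 6692]⟩) (.leaf ⟨7, 3874, 3875, 0, 0, 0, 0, 93, 0, 0, []⟩)) (.node (.leaf ⟨3, 2471, 2472, 0, 0, 0, 0, 93, 0, 0, []⟩) (.leaf ⟨8, 3175, 5187, 0, 0, 0, 0, 93, 0, 0, []⟩))))) (.node (.node (.node (.node (.leaf ⟨8, 231, 236, 0, 0, 0, 0, 41, 3, 231, [1553, 1581, 1576]⟩) (.leaf ⟨5, 2936, 2940, (-3), 0, (-3), 0, 48, 2, 2938, [17952, 17961, 17964]⟩)) (.node (.leaf ⟨4, 511, 1667, 0, 0, 0, 0, 93, 0, 0, []⟩) (.leaf ⟨6, 4401, 4410, 0, 0, 0, 0, 32, 3, 4401, [26131, 26156, 26148]⟩))) (.node (.node (.leaf ⟨10, 877, 895, 0, 0, 0, 0, 93, 0, 0, []⟩) (.leaf ⟨4, 3708, 3708, 1, 0, 1, 0, 40, 0, 3708, [21787, 2048, 21786]⟩))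 (.node (.leaf ⟨7, 2395, 2396, 0, 0, 0, 0, 93, 0, 0, []⟩) (.leaf ⟨11, 5034, 5035, 0, 0, 0, 0, 59, 3, 5034, [30239, 30237, 30252]⟩)))) (.node (.node (.node (.leaf ⟨2, 609, 535, 0, 0, 0, 0, 25, 0, 535, [2859, 2627, 3308]⟩) (.leaf ⟨3, 3312, 902, 0, 0, 0, 0, 37, 0, 902, [5729, 20010, 20012]⟩)) (.node (.leaf ⟨0, 1626, 1915, 0, 0, 0, 0, 6, 0, 1915, [11321, 11821, 9518]⟩) (.leaf ⟨6, 4758, 4759, 0, 0, 0, 0, 93, 0, 0, []⟩))) (.node (.node (.leaf ⟨7, 1205, 1308, 0, 0, 0, 0, 93, 0, 0, []⟩) (.leaf ⟨5, 4027, 4028, 0, 0, 0, 0, 46, 0, 4028, [24093, 24109, 24088]⟩)) (.node (.leaf ⟨11, 2653, 1951, 65, 0, 3, 0, 64, 3, 2653, [15907, 15917, 11476]⟩) (.leaf ⟨0, 0, 0, 0, 0, 0, 0, 0, 0, 0, []⟩))))))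

def factsPart24 : ATree TFact :=
  .node (.node (.node (.node (.node (.node (.leaf ⟨8, 24, 25, 0, 0, 0, 0, 93, 0, 0, []⟩) (.leaf ⟨6, 2440, 1737, 0, 0, 0, 0, 15, 3, 2440, [14475, 4116, 10210]⟩)) (.node (.leaf ⟨10, 1417, 1400, 0, 0, 0, 0, 61, 3, 1417, [8219, 8238, 8114]⟩) (.leaf ⟨8, 3630, 3498, 0, 0, 0, 0, 47, 3, 3630, [21417, 24622, 20936]⟩))) (.node (.node (.leaf ⟨4, 355, 355, (-1), 0, 1, 0, 39, 0, 355, [1923, 4142, 1922]⟩) (.leaf ⟨10, 3400, 3401, 0, 0, 0, 0, 93, 0, 0, []⟩)) (.node (.leaf ⟨6, 2125, 2111, 0, 0, 0, 0, 32, 3, 2125, [12321, 12334, 12292]⟩) (.leaf ⟨6, 2478, 2478, 1, 0, (-1), 0, 39, 3, 2478, [14907, 28718, 14906]⟩)))) (.node (.node (.node (.leaf ⟨9, 392, 393, 0, 0, 0, 0, 93, 0, 0, []⟩) (.leaf ⟨9, 2123, 3058, 0, 0, 0, 0, 93, 0, 0, []⟩)) (.node (.leaf ⟨3,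 508, 508, (-1), 0, (-1), 0, 31, 0, 508, [2663, 10286, 2662]⟩) (.leaf ⟨10, 4497, 4498, 0, 0, 0, 0, 93, 0, 0, []⟩))) (.node (.node (.leaf ⟨10, 436, 980, 0, 0, 0, 0, 93, 0, 0, []⟩) (.leaf ⟨3, 3791, 3789, 0, 0, 0, 0, 33, 0, 3789, [22567, 22573, 22574]⟩)) (.node (.leaf ⟨11, 1551, 2429, 0, 0, 0, 0, 93, 0, 0, []⟩) (.leaf ⟨0, 5107, 1696, 0, 0, 0, 0, 5, 0, 1696, [9959, 30767, 30644]⟩))))) (.node (.node (.node (.node (.leaf ⟨5, 171, 171, 1, 0, 1, 0, 49, 4, 168, [1056, 995, 1070, 994, 1056]⟩) (.leaf ⟨6, 2844, 2524, 0, 0, 0, 0, 53, 0, 2524, [15155, 17455, 17436]⟩)) (.node (.leaf ⟨10, 1620, 1620, 1, 0, (-1), 0, 65, 4, 533, [9258, 2821, 9262, 2820, 9258]⟩) (.leaf ⟨10, 4328, 4329, 0, 0, 0, 0, 93, 0, 0, []⟩))) (.node (.node (.leaf ⟨9, 808, 803, 0, 0, 0, 0, 64, 0, 803, [5141, 5164,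 5166]⟩) (.leaf ⟨7, 3663, 3664, 0, 0, 0, 0, 93, 0, 0, []⟩)) (.node (.leaf ⟨11, 2327, 2328, 0, 0, 0, 0, 93, 0, 0, []⟩) (.leaf ⟨6, 4967, 4968, 0, 0, 0, 0, 93, 0, 0, []⟩)))) (.node (.node (.node (.leaf ⟨2, 579, 494, 0, 0, 0, 0, 22, 0, 494, [2557, 3119, 3106]⟩) (.leaf ⟨10, 3217, 3218, 0, 0, 0, 0, 93, 0, 0, []⟩)) (.node (.leaf ⟨0, 1907, 1911, 0, 0, 0, 0, 9, 0, 1911, [11303, 11311, 11288]⟩) (.leaf ⟨3, 3638, 3638, 1, 0, (-1), 0, 35, 0, 3638, [21501, 27694, 21500]⟩))) (.node (.node (.leaf ⟨5, 1148, 1148, 0, 1, 0, (-1), 48, 2, 65, [7214, 194, 7214]⟩) (.leaf ⟨1, 2260, 2260, (-1), 0, (-1), 0, 13, 0, 2260, [13059, 22990, 13058]⟩)) (.node (.leaf ⟨6, 2572, 2572, 1, 0, (-1), 0, 45, 5, 2572, [15361, 15404, 15406, 15405, 15360]⟩) (.leaf ⟨0, 0, 0, 0, 0, 0, 0, 0, 0, 0, []⟩)))))) (.node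 (.node (.node (.node (.node (.leaf ⟨10, 1, 1, 1, 0, (-1), 0, 19, 3, 1, [1, 558, 0]⟩) (.leaf ⟨4, 2790, 390, (-21), 0, 1, 0, 42, 2, 164, [16926, 2103, 2107]⟩)) (.node (.leaf ⟨2, 1531, 1550, 0, 0, 0, 0, 93, 0, 0, []⟩) (.leaf ⟨11, 750, 4224, 0, 0, 0, 0, 93, 0, 0, []⟩))) (.node (.node (.leaf ⟨0, 478, 478, 1, 0, 1, 0, 4, 0, 478, [2469, 4654, 2468]⟩) (.leaf ⟨8, 3521, 3529, 0, 0, 0, 0, 41, 3, 3521, [20997, 21039, 21030]⟩)) (.node (.leaf ⟨6, 2209, 2210, 0, 0, 0, 0, 93, 0, 0, []⟩) (.leaf ⟨6, 2448, 1706, 0, 0, 0, 0, 55, 0, 1706, [10021, 10443, 14578]⟩)))) (.node (.node (.node (.leaf ⟨3, 353, 432, 0, 0, 0, 0, 31, 0, 432, [2337, 2606, 1918]⟩) (.leaf ⟨2, 3098, 2750, 0, 0, 0, 0, 24, 0, 2750, [16611, 18991, 18742]⟩)) (.node (.leaf ⟨9, 1804, 1808, 0, 0, 0, 0, 48, 3, 1804, [10783,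 9504, 10798]⟩) (.leaf ⟨4, 4586, 4587, 0, 0, 0, 0, 93, 0, 0, []⟩))) (.node (.node (.leaf ⟨7, 767, 1069, 0, 0, 0, 0, 40, 3, 767, [4779, 6702, 6694]⟩) (.leaf ⟨3, 3875, 3548, 0, 0, 0, 0, 33, 0, 3548, [21087, 23085, 23086]⟩)) (.node (.leaf ⟨10, 2472, 2473, 0, 0, 0, 0, 93, 0, 0, []⟩) (.leaf ⟨5, 5186, 5187, 0, 0, 0, 0, 47, 0, 5187, [31279, 19395, 31274]⟩))))) (.node (.node (.node (.node (.leaf ⟨8, 232, 237, 0, 0, 0, 0, 61, 0, 237, [1579, 1583, 1554]⟩) (.leaf ⟨6, 2940, 2941, 0, 0, 0, 0, 93, 0, 0, []⟩)) (.node (.leaf ⟨2, 767, 1667, 0, 0, 0, 0, 22, 0, 1667, [9775, 2681, 4778]⟩) (.leaf ⟨6, 4402, 4411, 0, 0, 0, 0, 54, 0, 4411, [26151, 26159, 26132]⟩))) (.node (.node (.leaf ⟨9, 887, 895, 0, 0, 0, 0, 63, 2, 886, [5622, 5619, 5678]⟩) (.leaf ⟨5, 3708, 3708, 1, 0, 1, 0, 46, 0, 3708,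 [21787, 2038, 21786]⟩)) (.node (.leaf ⟨6, 2396, 2397, 0, 0, 0, 0, 93, 0, 0, []⟩) (.leaf ⟨7, 5031, 5036, 0, 0, 0, 0, 93, 0, 0, []⟩)))) (.node (.node (.node (.leaf ⟨2, 610, 651, 0, 0, 0, 0, 24, 0, 651, [3617, 3631, 3310]⟩) (.leaf ⟨4, 3311, 3094, 0, 0, 0, 0, 43, 2, 863, [20008, 5501, 18720]⟩)) (.node (.leaf ⟨0, 1627, 1916, 0, 0, 0, 0, 5, 0, 1916, [11323, 11823, 9520]⟩) (.leaf ⟨5, 4759, 4760, 0, 0, 0, 0, 93, 0, 0, []⟩))) (.node (.node (.leaf ⟨6, 1308, 1309, 0, 0, 0, 0, 93, 0, 0, []⟩) (.leaf ⟨6, 4028, 4029, 0, 0, 0, 0, 93, 0, 0, []⟩)) (.node (.leaf ⟨2, 2111, 2656, 0, 0, 0, 0, 93, 0, 0, []⟩) (.leaf ⟨0, 0, 0, 0, 0, 0, 0, 0, 0, 0, []⟩))))))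

def factsPart25 : ATree TFact :=
  .node (.node (.node (.node (.node (.node (.leaf ⟨5, 25, 26, 0, 0, 0, 0, 93, 0, 0, []⟩) (.leaf ⟨6, 2443, 1738, 0, 0, 0, 0, 54, 0, 1738, [10213, 16433, 14484]⟩)) (.node (.leaf ⟨10, 1202, 1418, 0, 0, 0, 0, 93, 0, 0, []⟩) (.leaf ⟨6, 3535, 3498, 6, 0, 12, 0, 52, 2, 3510, [21058, 24573, 24624]⟩))) (.node (.node (.leaf ⟨5, 685, 685, (-1), 0, 1, 0, 38, 5, 685, [4141, 2615, 4144, 2614, 4140]⟩) (.leaf ⟨7, 3401, 3402, 0, 0, 0, 0, 93, 0, 0, []⟩)) (.node (.leaf ⟨9, 2125, 2128, 0, 0, 0, 0, 93, 0, 0, []⟩) (.leaf ⟨6, 2479, 2479, 1, 0, 1, 0, 32, 3, 2479, [14909, 28720, 14908]⟩)))) (.node (.node (.node (.leaf ⟨10, 176, 394, 0, 0, 0, 0, 93, 0, 0, []⟩) (.leaf ⟨4, 3056, 3058, 0, 0, 0, 0, 42, 2, 2124, [18472, 12319, 18480]⟩)) (.node (.leaf ⟨3, 509,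 509, 1, 0, 1, 0, 33, 0, 509, [2665, 10288, 2664]⟩) (.leaf ⟨9, 4251, 3050, 0, 0, 0, 0, 63, 2, 4250, [25328, 25327, 18434]⟩))) (.node (.node (.leaf ⟨4, 979, 980, 0, 0, 0, 0, 43, 2, 437, [6188, 2347, 6192]⟩) (.leaf ⟨2, 3136, 861, 0, 0, 0, 0, 27, 0, 861, [5493, 16529, 19094]⟩)) (.node (.leaf ⟨5, 2429, 2430, 0, 0, 0, 0, 93, 0, 0, []⟩) (.leaf ⟨2, 2706, 5107, (-53), 0, 31, 0, 66, 1, 1696, [30685, 16265, 10145, 10143, 13620, 14313, 30686, 13437, 10054, 10112, 9909, 10432, 8496, 30689, 9868, 29914, 2667, 2690, 30692, 30694, 3077, 4336, 4297, 6780, 9670, 9152, 1693, 9120, 1602, 8918, 8920, 8922, 8924, 8926, 9730, 9732, 30696, 30698, 12610, 12672, 30700, 30702, 30704, 30718, 30709, 30707, 30727, 30730, 30744, 30725, 30748, 30750, 30758, 30760, 10368, 10314, 16412, 16418, 16408,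 15608, 15613, 16357, 30769]⟩))))) (.node (.node (.node (.node (.leaf ⟨4, 171, 171, (-1), 0, 1, 0, 43, 0, 171, [1057, 996, 1056]⟩) (.leaf ⟨7, 2846, 2843, 0, 0, 0, 0, 51, 5, 2846, [17441, 17439, 17456, 17416, 17434]⟩)) (.node (.leaf ⟨11, 501, 1621, 0, 0, 0, 0, 93, 0, 0, []⟩) (.leaf ⟨2, 4322, 4326, 0, 0, 0, 0, 25, 0, 4326, [25643, 11441, 25626]⟩))) (.node (.node (.leaf ⟨8, 97, 667, 0, 0, 0, 0, 47, 3, 97, [419, 395, 3774]⟩) (.leaf ⟨6, 3664, 3665, 0, 0, 0, 0, 93, 0, 0, []⟩)) (.node (.leaf ⟨5, 2328, 2329, 0, 0, 0, 0, 93, 0, 0, []⟩) (.leaf ⟨9, 4820, 4969, 0, 0, 0, 0, 93, 0, 0, []⟩)))) (.node (.node (.node (.leaf ⟨3, 581, 554, 0, 0, 0, 0, 21, 5, 581, [3111, 3109, 3120, 2980, 2982]⟩) (.leaf ⟨8, 2349, 3205, 0, 0, 0, 0, 61, 0, 3205, [19465, 10932, 13436]⟩)) (.node (.leaf ⟨0,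 1908, 1912, 0, 0, 0, 0, 4, 0, 1912, [11305, 11313, 11290]⟩) (.leaf ⟨3, 3639, 3639, (-1), 0, 1, 0, 36, 0, 3639, [21503, 27696, 21502]⟩))) (.node (.node (.leaf ⟨10, 1145, 1145, 0, 1, 0, (-1), 49, 3, 1148, [7099, 7086, 7216, 7099, 7086]⟩) (.leaf ⟨1, 2282, 2282, 1, 0, 1, 0, 18, 0, 2282, [13137, 23600, 13136]⟩)) (.node (.leaf ⟨6, 2573, 2573, 1, 0, 1, 0, 39, 3, 2573, [15363, 15408, 15362]⟩) (.leaf ⟨0, 0, 0, 0, 0, 0, 0, 0, 0, 0, []⟩)))))) (.node (.node (.node (.node (.node (.leaf ⟨10, 2, 2, 1, 0, 1, 0, 28, 3, 2, [3, 560, 2]⟩) (.leaf ⟨4, 2793, 379, (-21), 0, (-1), 0, 13, 3, 2793, [16943, 16944, 2132]⟩)) (.node (.leaf ⟨10, 1550, 1551, 0, 0, 0, 0, 93, 0, 0, []⟩) (.leaf ⟨5, 4224, 4225, 0, 0, 0, 0, 93, 0, 0, []⟩))) (.node (.node (.leaf ⟨5, 732, 745, 0, 0, 0, 0, 93, 0, 0, []⟩)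 (.leaf ⟨8, 3522, 3530, 0, 0, 0, 0, 34, 3, 3522, [20999, 21040, 21032]⟩)) (.node (.leaf ⟨8, 221, 2210, 0, 0, 0, 0, 52, 3, 221, [1525, 12846, 12848]⟩) (.leaf ⟨5, 2448, 2448, 1, 0, (-1), 0, 50, 0, 2448, [14579, 8986, 14578]⟩)))) (.node (.node (.node (.leaf ⟨3, 354, 433, 0, 0, 0, 0, 33, 0, 433, [2339, 2609, 1920]⟩) (.leaf ⟨2, 3099, 3123, 0, 0, 0, 0, 23, 0, 3123, [18987, 18993, 18744]⟩)) (.node (.leaf ⟨4, 1808, 1809, 0, 0, 0, 0, 93, 0, 0, []⟩) (.leaf ⟨9, 4560, 4584, 0, 0, 0, 0, 57, 3, 4560, [27037, 12295, 27178]⟩))) (.node (.node (.leaf ⟨7, 1037, 1070, 0, 0, 0, 0, 33, 3, 1037, [6545, 6704, 6696]⟩) (.leaf ⟨6, 3875, 3876, 0, 0, 0, 0, 93, 0, 0, []⟩)) (.node (.leaf ⟨5, 2473, 2474, 0, 0, 0, 0, 93, 0, 0, []⟩) (.leaf ⟨11, 900, 900, 1, 0, 1, 0, 37, 3, 900, [5725, 5516, 5724]⟩)))))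 (.node (.node (.node (.node (.leaf ⟨5, 237, 238, 0, 0, 0, 0, 93, 0, 0, []⟩) (.leaf ⟨6, 2594, 2942, 0, 0, 0, 0, 93, 0, 0, []⟩)) (.node (.leaf ⟨3, 1667, 1668, 0, 0, 0, 0, 93, 0, 0, []⟩) (.leaf ⟨5, 4411, 4412, 0, 0, 0, 0, 93, 0, 0, []⟩))) (.node (.node (.leaf ⟨8, 646, 895, 0, 0, 0, 0, 61, 0, 895, [5679, 5602, 3586]⟩) (.leaf ⟨7, 3709, 3709, 1, 0, (-1), 0, 51, 5, 3709, [21789, 21787, 2018, 21786, 21788]⟩)) (.node (.leaf ⟨11, 1360, 2398, 0, 0, 0, 0, 93, 0, 0, []⟩) (.leaf ⟨10, 5035, 5036, 0, 0, 0, 0, 58, 3, 5035, [30253, 30235, 30256]⟩)))) (.node (.node (.node (.leaf ⟨2, 611, 652, 0, 0, 0, 0, 23, 0, 652, [3619, 3633, 3312]⟩) (.leaf ⟨4, 3095, 3312, 0, 0, 0, 0, 44, 0, 3312, [20013, 20016, 18724]⟩)) (.node (.leaf ⟨0, 1628, 1917, 0, 0, 0, 0, 7, 0, 1917, [11325, 11825, 9522]⟩)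 (.leaf ⟨10, 4760, 4761, 0, 0, 0, 0, 93, 0, 0, []⟩))) (.node (.node (.leaf ⟨5, 1309, 1310, 0, 0, 0, 0, 93, 0, 0, []⟩) (.leaf ⟨6, 4013, 4030, 0, 0, 0, 0, 93, 0, 0, []⟩)) (.node (.leaf ⟨9, 2656, 2657, 0, 0, 0, 0, 93, 0, 0, []⟩) (.leaf ⟨0, 0, 0, 0, 0, 0, 0, 0, 0, 0, []⟩))))))

def factsPart26 : ATree TFact :=
  .node (.node (.node (.node (.node (.node (.leaf ⟨4, 26, 27, 0, 0, 0, 0, 93, 0, 0, []⟩) (.leaf ⟨5, 2710, 2694, 0, 0, 0, 0, 45, 4, 2709, [16422, 16421, 16434, 10618, 16104]⟩)) (.node (.leaf ⟨5, 1418, 1419, 0, 0, 0, 0, 93, 0, 0, []⟩) (.leaf ⟨5, 3531, 4114, 0, 0, 0, 0, 93, 0, 0, []⟩))) (.node (.node (.leaf ⟨6, 558, 685, 0, 0, 0, 0, 39, 3, 558, [3007, 3298, 4140]⟩) (.leaf ⟨6, 3402, 3403, 0, 0, 0, 0, 93, 0, 0, []⟩)) (.node (.leaf ⟨6, 2128, 2112, 0, 0, 0, 0, 53, 0, 2112,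 [12295, 12337, 12338]⟩) (.leaf ⟨6, 4820, 4820, 1, 0, (-1), 0, 24, 3, 4820, [28633, 28722, 28632]⟩)))) (.node (.node (.node (.leaf ⟨8, 172, 394, 0, 0, 0, 0, 61, 0, 394, [2099, 1184, 1076]⟩) (.leaf ⟨10, 3058, 3059, 0, 0, 0, 0, 93, 0, 0, []⟩)) (.node (.leaf ⟨3, 510, 510, (-1), 0, (-1), 0, 32, 0, 510, [2667, 10290, 2666]⟩) (.leaf ⟨9, 4396, 4252, 0, 0, 0, 0, 64, 0, 4252, [25331, 26674, 26120]⟩))) (.node (.node (.leaf ⟨8, 501, 980, 0, 0, 0, 0, 61, 0, 980, [6193, 2434, 2604]⟩) (.leaf ⟨2, 3137, 862, 0, 0, 0, 0, 25, 0, 862, [5495, 22579, 19096]⟩)) (.node (.leaf ⟨11, 2430, 1552, 0, 0, 0, 0, 50, 3, 2430, [14387, 14385, 8756]⟩) (.leaf ⟨8, 1693, 5103, 0, 0, 0, 0, 61, 0, 5103, [30629, 6715, 9948]⟩))))) (.node (.node (.node (.node (.leaf ⟨10, 117, 172, 0, 0, 0, 0, 93, 0, 0, []⟩)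 (.leaf ⟨10, 2844, 2849, 0, 0, 0, 0, 93, 0, 0, []⟩)) (.node (.leaf ⟨7, 1621, 1620, 0, 0, 0, 0, 59, 0, 1620, [9259, 2827, 9266]⟩) (.leaf ⟨2, 4323, 4327, 0, 0, 0, 0, 24, 0, 4327, [25645, 25651, 25628]⟩))) (.node (.node (.leaf ⟨8, 671, 193, 0, 0, 0, 0, 61, 0, 193, [1339, 5170, 3832]⟩) (.leaf ⟨5, 3665, 3666, 0, 0, 0, 0, 93, 0, 0, []⟩)) (.node (.leaf ⟨7, 2329, 2330, 0, 0, 0, 0, 93, 0, 0, []⟩) (.leaf ⟨10, 4969, 4970, 0, 0, 0, 0, 93, 0, 0, []⟩)))) (.node (.node (.node (.leaf ⟨7, 350, 582, 0, 0, 0, 0, 93, 0, 0, []⟩) (.leaf ⟨8, 2447, 3206, 0, 0, 0, 0, 62, 0, 3206, [19467, 19507, 14538]⟩)) (.node (.leaf ⟨0, 1909, 1913, 0, 0, 0, 0, 5, 0, 1913, [11307, 11315, 11292]⟩) (.leaf ⟨3, 3682, 3682, 1, 0, (-1), 0, 31, 0, 3682, [21673, 27698, 21672]⟩))) (.node (.node (.leaf ⟨7, 62, 1167,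 0, 0, 0, 0, 93, 0, 0, []⟩) (.leaf ⟨1, 2283, 2283, (-1), 0, (-1), 0, 19, 0, 2283, [13141, 23602, 13140]⟩)) (.node (.leaf ⟨6, 2574, 2574, 1, 0, (-1), 0, 32, 3, 2574, [15365, 15410, 15364]⟩) (.leaf ⟨0, 0, 0, 0, 0, 0, 0, 0, 0, 0, []⟩)))))) (.node (.node (.node (.node (.node (.leaf ⟨10, 3, 3, 1, 0, (-1), 0, 36, 3, 3, [5, 562, 4]⟩) (.leaf ⟨4, 2792, 378, 0, 0, 0, 0, 42, 2, 155, [16934, 899, 2056]⟩)) (.node (.leaf ⟨5, 1551, 1552, 0, 0, 0, 0, 93, 0, 0, []⟩) (.leaf ⟨10, 4225, 4226, 0, 0, 0, 0, 93, 0, 0, []⟩))) (.node (.node (.leaf ⟨2, 745, 478, 0, 0, 0, 0, 23, 0, 478, [2469, 4429, 4658]⟩) (.leaf ⟨8, 3523, 3531, 0, 0, 0, 0, 61, 0, 3531, [21035, 21043, 21000]⟩)) (.node (.leaf ⟨9, 2000, 2208, 0, 0, 0, 0, 63, 2, 1999, [11854, 11853, 12832]⟩) (.leaf ⟨11, 1663, 4902, 0, 0, 0, 0,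 93, 0, 0, []⟩)))) (.node (.node (.node (.leaf ⟨3, 355, 434, 0, 0, 0, 0, 32, 0, 434, [2341, 2611, 1922]⟩) (.leaf ⟨4, 3082, 3123, (-38), 0, 10, 0, 22, 3, 3082, [18652, 18985, 18994]⟩)) (.node (.leaf ⟨9, 1805, 1809, 0, 0, 0, 0, 42, 3, 1805, [10785, 10800, 10802]⟩) (.leaf ⟨9, 4585, 4561, 0, 0, 0, 0, 53, 3, 4585, [27181, 27187, 27040]⟩))) (.node (.node (.leaf ⟨7, 1067, 1071, 0, 0, 0, 0, 58, 0, 1071, [6699, 6707, 6688]⟩) (.leaf ⟨3, 3876, 3550, 0, 0, 0, 0, 32, 0, 3550, [21095, 23089, 23090]⟩)) (.node (.leaf ⟨7, 2474, 2475, 0, 0, 0, 0, 93, 0, 0, []⟩) (.leaf ⟨11, 938, 938, 1, 0, (-1), 0, 29, 3, 938, [6011, 31282, 6010]⟩))))) (.node (.node (.node (.node (.leaf ⟨8, 233, 238, 0, 0, 0, 0, 47, 3, 233, [1569, 1584, 1586]⟩) (.leaf ⟨7, 2942, 2941, 0, 0, 0, 0, 51, 5, 2942, [17971,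 15479, 15554, 17962, 17968]⟩)) (.node (.leaf ⟨2, 1668, 1669, 0, 0, 0, 0, 93, 0, 0, []⟩) (.leaf ⟨6, 4412, 4413, 0, 0, 0, 0, 93, 0, 0, []⟩))) (.node (.node (.leaf ⟨3, 895, 895, 1, 0, 1, 0, 34, 0, 895, [5683, 4002, 5682]⟩) (.leaf ⟨6, 3737, 3738, 0, 0, 0, 0, 93, 0, 0, []⟩)) (.node (.leaf ⟨5, 2398, 2399, 0, 0, 0, 0, 93, 0, 0, []⟩) (.leaf ⟨7, 5030, 5037, 0, 0, 0, 0, 93, 0, 0, []⟩)))) (.node (.node (.node (.leaf ⟨2, 612, 653, 0, 0, 0, 0, 28, 0, 653, [3621, 3635, 3314]⟩) (.leaf ⟨5, 844, 3094, 0, 0, 0, 0, 49, 4, 841, [5354, 5345, 5340, 5328, 18720]⟩)) (.node (.leaf ⟨0, 1901, 1918, 0, 0, 0, 0, 4, 0, 1918, [11327, 11827, 11276]⟩) (.leaf ⟨4, 4760, 4762, 0, 0, 0, 0, 93, 0, 0, []⟩))) (.node (.node (.leaf ⟨4, 1310, 1311, 0, 0, 0, 0, 93, 0, 0, []⟩) (.leaf ⟨8, 4030, 4031, 0, 0, 0,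 0, 93, 0, 0, []⟩)) (.node (.leaf ⟨8, 644, 2111, 0, 0, 0, 0, 34, 3, 644, [3555, 5098, 12292]⟩) (.leaf ⟨0, 0, 0, 0, 0, 0, 0, 0, 0, 0, []⟩))))))

def factsPart27 : ATree TFact :=
  .node (.node (.node (.node (.node (.node (.leaf ⟨10, 27, 28, 0, 0, 0, 0, 93, 0, 0, []⟩) (.leaf ⟨10, 2696, 2694, (-147), 0, 13, 0, 68, 88, 2695, [16120, 16122, 16115, 16125, 9989, 16126, 14622, 4752, 16132, 16135, 9957, 9955, 9947, 14242, 16136, 16139, 14548, 16140, 14539, 14546, 14311, 10027, 10124, 10444, 10440, 10103, 10101, 16142, 10436, 10480, 6697, 16144, 4759, 10468, 16150, 4292, 4349, 4329, 4332, 16153, 9723, 9714, 9708, 9722, 9721, 14560, 8923, 8957, 13446, 8946, 13478, 13470, 8947, 8969, 16157, 964, 970, 972, 494, 16158, 16160, 495, 930, 4312, 4300, 4302, 16162, 9682, 9676, 9664,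 9682, 4304, 4319, 4324, 4347, 9999, 10001, 14360, 13656, 10638, 13934, 16223, 16226, 16228, 16244, 16405, 16410, 16430, 16436]⟩)) (.node (.leaf ⟨7, 1419, 1420, 0, 0, 0, 0, 93, 0, 0, []⟩) (.leaf ⟨4, 4114, 4115, 0, 0, 0, 0, 93, 0, 0, []⟩))) (.node (.node (.leaf ⟨7, 556, 556, (-1), 0, (-1), 0, 51, 5, 556, [3003, 2853, 2788, 2852, 3002]⟩) (.leaf ⟨5, 3403, 3404, 0, 0, 0, 0, 93, 0, 0, []⟩)) (.node (.leaf ⟨10, 2128, 2129, 0, 0, 0, 0, 93, 0, 0, []⟩) (.leaf ⟨6, 4821, 4821, 1, 0, 1, 0, 15, 3, 4821, [28635, 28724, 28634]⟩)))) (.node (.node (.node (.leaf ⟨4, 394, 164, 21, 0, (-1), 0, 41, 2, 172, [2100, 1115, 1191]⟩) (.leaf ⟨4, 3059, 3057, 0, 0, 0, 0, 43, 0, 3057, [18477, 18482, 18484]⟩)) (.node (.leaf ⟨3, 511, 511, 1, 0, 1, 0, 31, 0, 511, [2669, 10292, 2668]⟩) (.leaf ⟨9, 4405,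 4263, 0, 0, 0, 0, 48, 3, 4405, [26139, 26676, 25352]⟩))) (.node (.node (.leaf ⟨2, 980, 980, (-1), 0, (-1), 0, 26, 0, 980, [6197, 2754, 6196]⟩) (.leaf ⟨2, 3138, 3096, 0, 0, 0, 0, 24, 0, 3096, [18739, 22581, 19098]⟩)) (.node (.leaf ⟨0, 1550, 1612, 0, 0, 0, 0, 1, 0, 1612, [9115, 9113, 8752]⟩) (.leaf ⟨8, 1694, 5104, 0, 0, 0, 0, 62, 0, 5104, [30631, 30773, 9950]⟩))))) (.node (.node (.node (.node (.leaf ⟨3, 171, 172, 0, 0, 0, 0, 36, 0, 172, [1077, 999, 1056]⟩) (.leaf ⟨7, 2849, 2850, 0, 0, 0, 0, 93, 0, 0, []⟩)) (.node (.leaf ⟨6, 784, 501, 0, 0, 0, 0, 54, 0, 501, [2605, 3191, 4920]⟩) (.leaf ⟨2, 4324, 4328, 0, 0, 0, 0, 23, 0, 4328, [25647, 25653, 25630]⟩))) (.node (.node (.leaf ⟨11, 671, 809, 0, 0, 0, 0, 93, 0, 0, []⟩) (.leaf ⟨4, 3666, 3667, 0, 0, 0, 0, 93, 0, 0, []⟩)) (.node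 (.leaf ⟨6, 2330, 2331, 0, 0, 0, 0, 93, 0, 0, []⟩) (.leaf ⟨11, 4970, 4971, 0, 0, 0, 0, 93, 0, 0, []⟩)))) (.node (.node (.node (.leaf ⟨6, 582, 583, 0, 0, 0, 0, 93, 0, 0, []⟩) (.leaf ⟨8, 1689, 3212, 0, 0, 0, 0, 61, 0, 3212, [19493, 10952, 9910]⟩)) (.node (.leaf ⟨4, 1361, 1914, 0, 0, 0, 0, 93, 0, 0, []⟩) (.leaf ⟨3, 3683, 3683, (-1), 0, 1, 0, 33, 0, 3683, [21675, 27700, 21674]⟩))) (.node (.node (.leaf ⟨6, 1167, 1168, 0, 0, 0, 0, 93, 0, 0, []⟩) (.leaf ⟨1, 2284, 2284, 1, 0, 1, 0, 20, 0, 2284, [13145, 23604, 13144]⟩)) (.node (.leaf ⟨6, 2575, 2575, 1, 0, 1, 0, 24, 3, 2575, [15367, 15412, 15366]⟩) (.leaf ⟨0, 0, 0, 0, 0, 0, 0, 0, 0, 0, []⟩)))))) (.node (.node (.node (.node (.node (.leaf ⟨10, 4, 4, 1, 0, 1, 0, 43, 3, 4, [7, 564, 6]⟩) (.leaf ⟨10, 2793, 2792, (-21), 0, (-1), 0,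 43, 1, 378, [2058, 16947, 16949]⟩)) (.node (.leaf ⟨4, 1552, 1553, 0, 0, 0, 0, 93, 0, 0, []⟩) (.leaf ⟨7, 4226, 4227, 0, 0, 0, 0, 93, 0, 0, []⟩))) (.node (.node (.leaf ⟨5, 694, 746, 0, 0, 0, 0, 93, 0, 0, []⟩) (.leaf ⟨8, 3524, 3532, 0, 0, 0, 0, 62, 0, 3532, [21037, 21045, 21002]⟩)) (.node (.leaf ⟨9, 2209, 2202, 0, 0, 0, 0, 57, 3, 2209, [12845, 12853, 12810]⟩) (.leaf ⟨4, 4902, 1710, 0, 0, 0, 0, 44, 0, 1710, [10037, 9726, 29236]⟩)))) (.node (.node (.node (.leaf ⟨5, 355, 502, 0, 0, 0, 0, 93, 0, 0, []⟩) (.leaf ⟨10, 936, 936, (-1), 0, 1, 0, 28, 3, 936, [6003, 5768, 6002]⟩)) (.node (.leaf ⟨3, 1809, 1810, 0, 0, 0, 0, 93, 0, 0, []⟩) (.leaf ⟨9, 4586, 4562, 0, 0, 0, 0, 48, 3, 4586, [27183, 27188, 27044]⟩))) (.node (.node (.leaf ⟨10, 1055, 1072, 0, 0, 0, 0, 93, 0, 0, []⟩) (.leaf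 ⟨8, 3876, 3877, 0, 0, 0, 0, 93, 0, 0, []⟩)) (.node (.leaf ⟨8, 1673, 2476, 0, 0, 0, 0, 93, 0, 0, []⟩) (.leaf ⟨11, 3161, 3161, 1, 0, 1, 0, 20, 3, 3161, [19255, 31284, 19254]⟩))))) (.node (.node (.node (.node (.leaf ⟨7, 238, 239, 0, 0, 0, 0, 93, 0, 0, []⟩) (.leaf ⟨6, 2596, 2943, 0, 0, 0, 0, 93, 0, 0, []⟩)) (.node (.leaf ⟨3, 1422, 1669, 0, 0, 0, 0, 21, 5, 1422, [8259, 6545, 9776, 9778, 9780]⟩) (.leaf ⟨5, 4404, 4413, 0, 0, 0, 0, 45, 4, 4403, [26136, 26135, 26160, 26162, 26164]⟩))) (.node (.node (.leaf ⟨3, 887, 887, 1, 0, (-1), 0, 35, 2, 895, [5681, 5684, 5681]⟩) (.leaf ⟨10, 3738, 3709, 0, 0, 0, 0, 54, 3, 3738, [22069, 22039, 21788]⟩)) (.node (.leaf ⟨10, 2399, 2400, 0, 0, 0, 0, 93, 0, 0, []⟩) (.leaf ⟨5, 5036, 5037, 0, 0, 0, 0, 46, 2, 5031, [30256, 30233, 30260]⟩)))) (.node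 (.node (.node (.leaf ⟨2, 613, 654, 0, 0, 0, 0, 29, 0, 654, [3627, 3637, 3322]⟩) (.leaf ⟨11, 844, 3313, 0, 0, 0, 0, 93, 0, 0, []⟩)) (.node (.leaf ⟨0, 1902, 1919, 0, 0, 0, 0, 3, 0, 1919, [11329, 11829, 11278]⟩) (.leaf ⟨10, 4762, 4763, 0, 0, 0, 0, 93, 0, 0, []⟩))) (.node (.node (.leaf ⟨3, 1311, 1312, 0, 0, 0, 0, 93, 0, 0, []⟩) (.leaf ⟨5, 4031, 4032, 0, 0, 0, 0, 93, 0, 0, []⟩)) (.node (.leaf ⟨8, 645, 2656, 0, 0, 0, 0, 26, 3, 645, [3559, 15924, 15920]⟩) (.leaf ⟨0, 0, 0, 0, 0, 0, 0, 0, 0, 0, []⟩))))))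

def factsPart28 : ATree TFact :=
  .node (.node (.node (.node (.node (.node (.leaf ⟨11, 28, 29, 0, 0, 0, 0, 93, 0, 0, []⟩) (.leaf ⟨8, 1415, 2686, 0, 0, 0, 0, 61, 0, 2686, [16081, 8141, 8156]⟩)) (.node (.leaf ⟨6, 1420, 1421, 0, 0, 0, 0, 93, 0, 0, []⟩) (.leaf ⟨7, 4115, 4116, 0, 0, 0, 0, 93, 0, 0, []⟩))) (.node (.node (.leaf ⟨7, 557, 557, (-1), 0, 1, 0, 46, 3, 557, [3005, 4150, 3004]⟩) (.leaf ⟨0, 2521, 332, 0, 0, 0, 0, 8, 0, 332, [1859, 1665, 15142]⟩)) (.node (.leaf ⟨6, 2129, 2113, 0, 0, 0, 0, 54, 0, 2113, [12297, 12341, 12342]⟩) (.leaf ⟨6, 4822, 4822, (-1), 0, (-1), 0, 53, 0, 4822, [28637, 28726, 28636]⟩)))) (.node (.node (.node (.leaf ⟨2, 394, 392, 21, 0, (-1), 0, 22, 2, 164, [2103, 1197, 2094]⟩) (.leaf ⟨9, 2122, 3060, 0, 0, 0, 0, 93, 0, 0, []⟩)) (.node (.leaf ⟨4,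 1668, 1668, 1, 0, 1, 0, 30, 5, 1668, [9779, 9775, 10294, 9774, 9778]⟩) (.leaf ⟨9, 4406, 4264, 0, 0, 0, 0, 57, 3, 4406, [26141, 26678, 25354]⟩))) (.node (.node (.leaf ⟨2, 979, 979, (-1), 0, 1, 0, 22, 2, 980, [6195, 6198, 6195]⟩) (.leaf ⟨8, 3138, 3792, 0, 0, 0, 0, 93, 0, 0, []⟩)) (.node (.leaf ⟨0, 1551, 1837, 0, 0, 0, 0, 9, 0, 1837, [10941, 14391, 8754]⟩) (.leaf ⟨8, 1695, 5105, 0, 0, 0, 0, 47, 3, 1695, [9957, 30774, 30632]⟩))))) (.node (.node (.node (.node (.leaf ⟨10, 138, 138, 1, 0, (-1), 0, 58, 3, 138, [709, 1032, 708]⟩) (.leaf ⟨10, 2850, 2845, 0, 0, 0, 0, 58, 3, 2850, [17463, 17461, 17438]⟩)) (.node (.leaf ⟨6, 785, 1621, 0, 0, 0, 0, 55, 0, 1621, [9267, 9271, 4922]⟩) (.leaf ⟨2, 4325, 4329, 0, 0, 0, 0, 28, 0, 4329, [25649, 25655, 25632]⟩))) (.node (.node (.leaf ⟨8,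 809, 808, 0, 0, 0, 0, 62, 0, 808, [5167, 5173, 5174]⟩) (.leaf ⟨5, 3651, 3668, 0, 0, 0, 0, 93, 0, 0, []⟩)) (.node (.leaf ⟨9, 2322, 2327, 0, 0, 0, 0, 63, 2, 1496, [13348, 8555, 13358]⟩) (.leaf ⟨9, 4970, 4963, 0, 0, 0, 0, 63, 2, 4969, [29748, 29747, 29734]⟩)))) (.node (.node (.node (.leaf ⟨10, 576, 582, 0, 0, 0, 0, 58, 3, 576, [3101, 2797, 3124]⟩) (.leaf ⟨8, 1690, 3213, 0, 0, 0, 0, 62, 0, 3213, [19495, 19511, 9912]⟩)) (.node (.leaf ⟨7, 1914, 1915, 0, 0, 0, 0, 93, 0, 0, []⟩) (.leaf ⟨3, 3684, 3684, 1, 0, (-1), 0, 32, 0, 3684, [21677, 27702, 21676]⟩))) (.node (.node (.leaf ⟨9, 1167, 1143, 0, 0, 0, 0, 57, 3, 1167, [7221, 7208, 7078]⟩) (.leaf ⟨1, 3935, 3935, (-1), 0, (-1), 0, 16, 0, 3935, [23495, 23606, 23494]⟩)) (.node (.leaf ⟨6, 2576, 2576, 1, 0, (-1), 0, 15, 3, 2576,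 [15369, 15414, 15368]⟩) (.leaf ⟨0, 0, 0, 0, 0, 0, 0, 0, 0, 0, []⟩)))))) (.node (.node (.node (.node (.node (.leaf ⟨10, 132, 132, 1, 0, (-1), 0, 9, 3, 132, [555, 566, 554]⟩) (.leaf ⟨1, 2773, 2792, 0, 0, 0, 0, 18, 0, 2792, [16935, 1205, 16818]⟩)) (.node (.leaf ⟨7, 1550, 1545, 0, 0, 0, 0, 25, 3, 1550, [8753, 8664, 8712]⟩) (.leaf ⟨6, 4227, 4228, 0, 0, 0, 0, 93, 0, 0, []⟩))) (.node (.node (.leaf ⟨3, 694, 732, 0, 0, 0, 0, 36, 2, 689, [4190, 4167, 4424]⟩) (.leaf ⟨5, 3532, 3533, 0, 0, 0, 0, 93, 0, 0, []⟩)) (.node (.leaf ⟨9, 2210, 2203, 0, 0, 0, 0, 53, 3, 2210, [12849, 12854, 12812]⟩) (.leaf ⟨5, 4888, 4902, 0, 0, 0, 0, 50, 0, 4902, [29237, 9723, 29030]⟩)))) (.node (.node (.node (.leaf ⟨3, 502, 459, 0, 0, 0, 0, 31, 0, 459, [2419, 2613, 2614]⟩) (.leaf ⟨10, 937, 937, (-1), 0,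 (-1), 0, 63, 3, 937, [6007, 18998, 6006]⟩)) (.node (.leaf ⟨9, 1806, 1810, 0, 0, 0, 0, 35, 3, 1806, [10787, 10804, 10806]⟩) (.leaf ⟨9, 4587, 4563, 0, 0, 0, 0, 42, 3, 4587, [27185, 27190, 27048]⟩))) (.node (.node (.leaf ⟨8, 1053, 1068, 0, 0, 0, 0, 47, 3, 1053, [6655, 6653, 6692]⟩) (.leaf ⟨3, 3877, 3551, 0, 0, 0, 0, 34, 0, 3551, [21097, 23093, 23094]⟩)) (.node (.leaf ⟨5, 2476, 2477, 0, 0, 0, 0, 93, 0, 0, []⟩) (.leaf ⟨11, 3165, 3165, 1, 0, (-1), 0, 64, 3, 3165, [19263, 31286, 19262]⟩))))) (.node (.node (.node (.node (.leaf ⟨6, 239, 240, 0, 0, 0, 0, 93, 0, 0, []⟩) (.leaf ⟨10, 2942, 2943, 0, 0, 0, 0, 54, 3, 2942, [17971, 15501, 17974]⟩)) (.node (.leaf ⟨10, 1668, 1670, 0, 0, 0, 0, 93, 0, 0, []⟩) (.leaf ⟨7, 2671, 4414, 0, 0, 0, 0, 93, 0, 0, []⟩))) (.node (.node (.leaf ⟨3,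 894, 894, 1, 0, 1, 0, 33, 2, 887, [5674, 5686, 5674]⟩) (.leaf ⟨2, 3738, 815, 0, 0, 0, 0, 24, 0, 815, [5211, 22041, 22068]⟩)) (.node (.leaf ⟨5, 1221, 1496, 0, 0, 0, 0, 48, 0, 1496, [8555, 13735, 7434]⟩) (.leaf ⟨0, 4718, 5038, 0, 0, 0, 0, 93, 0, 0, []⟩)))) (.node (.node (.node (.leaf ⟨3, 654, 654, 1, 0, (-1), 0, 21, 5, 654, [3639, 3350, 3366, 3351, 3638]⟩) (.leaf ⟨5, 3313, 3095, 0, 0, 0, 0, 50, 0, 3095, [18725, 20021, 20022]⟩)) (.node (.leaf ⟨0, 1903, 1920, 0, 0, 0, 0, 2, 0, 1920, [11331, 11831, 11280]⟩) (.leaf ⟨4, 4763, 4761, 0, 0, 0, 0, 43, 2, 4762, [28214, 28213, 28210]⟩))) (.node (.node (.leaf ⟨10, 1312, 1313, 0, 0, 0, 0, 93, 0, 0, []⟩) (.leaf ⟨10, 4032, 4033, 0, 0, 0, 0, 93, 0, 0, []⟩)) (.node (.leaf ⟨5, 2650, 2656, (-3), 0, (-3), 0, 47, 2, 601, [15910, 4179,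 15926]⟩) (.leaf ⟨0, 0, 0, 0, 0, 0, 0, 0, 0, 0, []⟩))))))

def factsPart29 : ATree TFact :=
  .node (.node (.node (.node (.node (.node (.leaf ⟨5, 29, 30, 0, 0, 0, 0, 93, 0, 0, []⟩) (.leaf ⟨8, 2459, 2687, 0, 0, 0, 0, 62, 0, 2687, [16083, 16441, 14766]⟩)) (.node (.leaf ⟨9, 1204, 1418, 0, 0, 0, 0, 63, 2, 1203, [7352, 7351, 8242]⟩) (.leaf ⟨11, 3533, 4114, 0, 0, 0, 0, 50, 3, 3533, [21049, 21037, 24628]⟩))) (.node (.node (.leaf ⟨7, 558, 558, (-1), 0, (-1), 0, 40, 3, 558, [3007, 4152, 3006]⟩) (.leaf ⟨0, 2522, 2048, 0, 0, 0, 0, 9, 0, 2048, [12027, 20537, 15146]⟩)) (.node (.leaf ⟨10, 422, 2130, 0, 0, 0, 0, 93, 0, 0, []⟩) (.leaf ⟨7, 4824, 4824, (-1), 0, (-1), 0, 51, 5, 4824, [28641, 28639, 28728, 28638, 28640]⟩)))) (.node (.node (.node (.leaf ⟨9, 390, 394, 0, 0, 0, 0, 63, 2,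 389, [2090, 2089, 2098]⟩) (.leaf ⟨5, 3058, 3060, 0, 0, 0, 0, 48, 2, 2123, [18480, 12317, 18488]⟩)) (.node (.leaf ⟨4, 1669, 1669, 1, 0, (-1), 0, 22, 3, 1669, [9781, 10296, 9780]⟩) (.leaf ⟨9, 4407, 4265, 0, 0, 0, 0, 53, 3, 4407, [26143, 26680, 25356]⟩))) (.node (.node (.leaf ⟨2, 974, 974, (-1), 0, (-1), 0, 27, 2, 979, [6191, 6200, 6191]⟩) (.leaf ⟨2, 3792, 3790, 0, 0, 0, 0, 26, 0, 3790, [22571, 22583, 22584]⟩)) (.node (.leaf ⟨0, 1552, 2172, 0, 0, 0, 0, 4, 0, 2172, [12611, 14393, 8756]⟩) (.leaf ⟨8, 2706, 5106, 0, 0, 0, 0, 61, 0, 5106, [30635, 30777, 16266]⟩))))) (.node (.node (.node (.node (.leaf ⟨10, 139, 139, 1, 0, 1, 0, 54, 3, 139, [713, 1080, 712]⟩) (.leaf ⟨6, 2850, 2851, 0, 0, 0, 0, 93, 0, 0, []⟩)) (.node (.leaf ⟨3, 626, 626, (-1), 0, (-1), 0, 36, 0, 626, [3453,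 3442, 3452]⟩) (.leaf ⟨7, 429, 4330, 0, 0, 0, 0, 93, 0, 0, []⟩))) (.node (.node (.leaf ⟨11, 665, 810, 0, 0, 0, 0, 93, 0, 0, []⟩) (.leaf ⟨4, 3668, 3669, 0, 0, 0, 0, 93, 0, 0, []⟩)) (.node (.leaf ⟨9, 2328, 2323, 0, 0, 0, 0, 64, 0, 2323, [13351, 13368, 13360]⟩) (.leaf ⟨9, 4964, 4971, 0, 0, 0, 0, 64, 0, 4971, [29751, 29752, 29736]⟩)))) (.node (.node (.node (.leaf ⟨10, 583, 577, 0, 0, 0, 0, 54, 3, 583, [3127, 3129, 3102]⟩) (.leaf ⟨8, 3207, 3214, 0, 0, 0, 0, 56, 5, 3207, [19469, 19509, 16138, 19512, 19496]⟩)) (.node (.leaf ⟨6, 1915, 1916, 0, 0, 0, 0, 93, 0, 0, []⟩) (.leaf ⟨3, 3845, 3845, (-1), 0, 1, 0, 31, 0, 3845, [22947, 27704, 22946]⟩))) (.node (.node (.leaf ⟨9, 1168, 1144, 0, 0, 0, 0, 53, 3, 1168, [7223, 7224, 7082]⟩) (.leaf ⟨1, 3936, 3936, 1, 0, 1, 0, 15, 0, 3936,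 [23497, 23608, 23496]⟩)) (.node (.leaf ⟨6, 2577, 2577, (-1), 0, 1, 0, 53, 0, 2577, [15371, 15416, 15370]⟩) (.leaf ⟨0, 0, 0, 0, 0, 0, 0, 0, 0, 0, []⟩)))))) (.node (.node (.node (.node (.node (.leaf ⟨5, 131, 131, (-1), 0, (-1), 0, 49, 0, 131, [551, 556, 568, 557, 550]⟩) (.leaf ⟨10, 2790, 2773, (-21), 0, 1, 0, 19, 1, 2792, [16951, 16943, 16953]⟩)) (.node (.leaf ⟨7, 1551, 1546, 0, 0, 0, 0, 58, 0, 1546, [8715, 8761, 8754]⟩) (.leaf ⟨6, 752, 4229, 0, 0, 0, 0, 93, 0, 0, []⟩))) (.node (.node (.leaf ⟨3, 745, 746, 0, 0, 0, 0, 31, 0, 746, [4663, 4664, 4658]⟩) (.leaf ⟨8, 3525, 3533, 0, 0, 0, 0, 47, 3, 3525, [21019, 21046, 21048]⟩)) (.node (.leaf ⟨9, 234, 2204, 0, 0, 0, 0, 60, 5, 234, [1573, 1561, 12850, 12856, 12814]⟩) (.leaf ⟨3, 1591, 1591, 1, 0, (-1), 0, 33, 0, 1591, [8963,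 9150, 8962]⟩)))) (.node (.node (.node (.leaf ⟨10, 502, 503, 0, 0, 0, 0, 93, 0, 0, []⟩) (.leaf ⟨10, 3116, 831, 0, 0, 0, 0, 61, 3, 3116, [18897, 2569, 5302]⟩)) (.node (.leaf ⟨2, 1810, 1811, 0, 0, 0, 0, 93, 0, 0, []⟩) (.leaf ⟨7, 451, 4588, 0, 0, 0, 0, 93, 0, 0, []⟩))) (.node (.node (.leaf ⟨8, 1069, 1054, 0, 0, 0, 0, 41, 3, 1069, [6695, 6713, 6656]⟩) (.leaf ⟨5, 3877, 3878, 0, 0, 0, 0, 93, 0, 0, []⟩)) (.node (.leaf ⟨4, 2477, 2478, 0, 0, 0, 0, 93, 0, 0, []⟩) (.leaf ⟨11, 3175, 3175, 1, 0, 1, 0, 59, 3, 3175, [19321, 31288, 19320]⟩))))) (.node (.node (.node (.node (.leaf ⟨5, 240, 241, 0, 0, 0, 0, 93, 0, 0, []⟩) (.leaf ⟨2, 2943, 2943, (-1), 0, 1, 0, 24, 2, 2596, [17974, 15534, 17974]⟩)) (.node (.leaf ⟨4, 13, 1671, 0, 0, 0, 0, 93, 0, 0, []⟩) (.leaf ⟨6, 4414, 4415, 0, 0, 0,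 0, 93, 0, 0, []⟩))) (.node (.node (.leaf ⟨3, 893, 893, 1, 0, (-1), 0, 36, 2, 894, [5676, 5688, 5676]⟩) (.leaf ⟨3, 815, 815, (-22), 0, (-6), 0, 66, 51, 3718, [21922, 21850, 21848, 21861, 16946, 2069, 5152, 5139, 5208, 5210, 5240, 21916, 21928, 21932, 21936, 21940, 21942, 21848, 21816, 21822, 21946, 21950, 21954, 21862, 21956, 21960, 21968, 21996, 22002, 22011, 22028, 22009, 22005, 2058, 22034, 2069, 2048, 2038, 2018, 21786, 22038, 22040, 22046, 21914, 5223, 5238, 5221, 5844, 22049, 22050, 22054, 22015, 22056, 22004, 22059, 22060, 21875, 22062, 22064, 21788, 22066, 22071, 22072]⟩)) (.node (.leaf ⟨5, 2322, 2401, 0, 0, 0, 0, 93, 0, 0, []⟩) (.leaf ⟨10, 5038, 5039, 0, 0, 0, 0, 93, 0, 0, []⟩)))) (.node (.node (.node (.leaf ⟨3, 650, 650, (-1), 0, 1, 0, 31, 0, 650, [3629,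 3640, 3628]⟩) (.leaf ⟨7, 839, 3314, 0, 0, 0, 0, 93, 0, 0, []⟩)) (.node (.leaf ⟨0, 1904, 1921, 0, 0, 0, 0, 1, 0, 1921, [11333, 11833, 11282]⟩) (.leaf ⟨6, 4010, 4764, 0, 0, 0, 0, 93, 0, 0, []⟩))) (.node (.node (.leaf ⟨5, 1313, 1314, 0, 0, 0, 0, 93, 0, 0, []⟩) (.leaf ⟨8, 3079, 4034, 0, 0, 0, 0, 93, 0, 0, []⟩)) (.node (.leaf ⟨5, 2657, 2651, 3, 0, 3, 0, 48, 2, 2656, [15922, 15929, 15894]⟩) (.leaf ⟨0, 0, 0, 0, 0, 0, 0, 0, 0, 0, []⟩))))))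

def factsPart30 : ATree TFact :=
  .node (.node (.node (.node (.node (.node (.leaf ⟨10, 30, 31, 0, 0, 0, 0, 93, 0, 0, []⟩) (.leaf ⟨8, 2460, 2688, 0, 0, 0, 0, 47, 3, 2460, [14771, 16442, 16084]⟩)) (.node (.leaf ⟨9, 1419, 1205, 0, 0, 0, 0, 48, 3, 1419, [8245, 8251, 7354]⟩) (.leaf ⟨11, 4115, 3534, 0, 0, 0, 0, 44, 3, 4115, [24631, 24635, 21052]⟩))) (.node (.node (.leaf ⟨10, 558, 686, 0, 0, 0, 0, 93, 0, 0, []⟩) (.leaf ⟨0, 2523, 2560, 0, 0, 0, 0, 10, 0, 2560, [15307, 20539, 15150]⟩)) (.node (.leaf ⟨11, 2130, 2131, 0, 0, 0, 0, 93, 0, 0, []⟩) (.leaf ⟨5, 37, 4820, 0, 0, 0, 0, 23, 3, 37, [73, 14950, 28632]⟩)))) (.node (.node (.node (.leaf ⟨2, 393, 390, (-21), 0, 1, 0, 27, 2, 392, [2096, 2105, 2107]⟩) (.leaf ⟨9, 2134, 3061, 0, 0, 0, 0, 93, 0, 0, []⟩)) (.node (.leaf ⟨4, 1746,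 1746, 1, 0, 1, 0, 13, 3, 1746, [10277, 10298, 10276]⟩) (.leaf ⟨9, 4408, 4495, 0, 0, 0, 0, 48, 3, 4408, [26145, 26682, 26666]⟩))) (.node (.node (.leaf ⟨2, 975, 975, (-1), 0, 1, 0, 25, 2, 974, [6174, 6202, 6174]⟩) (.leaf ⟨7, 3792, 3793, 0, 0, 0, 0, 93, 0, 0, []⟩)) (.node (.leaf ⟨1, 1767, 2431, 0, 0, 0, 0, 93, 0, 0, []⟩) (.leaf ⟨2, 5111, 5106, 53, 0, (-31), 0, 26, 2, 5107, [30660, 30771, 30778]⟩))))) (.node (.node (.node (.node (.leaf ⟨7, 139, 139, 1, 0, 1, 0, 51, 5, 139, [713, 709, 756, 708, 712]⟩) (.leaf ⟨10, 2846, 2851, 0, 0, 0, 0, 54, 3, 2846, [17441, 17465, 17466]⟩)) (.node (.leaf ⟨2, 626, 626, (-1), 0, (-1), 0, 28, 0, 626, [3453, 3450, 3452]⟩) (.leaf ⟨6, 4330, 4331, 0, 0, 0, 0, 93, 0, 0, []⟩))) (.node (.node (.leaf ⟨2, 810, 809, 0, 0, 0, 0, 29, 0, 809, [5175,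 3835, 5178]⟩) (.leaf ⟨3, 3669, 3670, 0, 0, 0, 0, 93, 0, 0, []⟩)) (.node (.leaf ⟨9, 2329, 2324, 0, 0, 0, 0, 48, 3, 2329, [13363, 13370, 13352]⟩) (.leaf ⟨5, 4971, 4972, 0, 0, 0, 0, 93, 0, 0, []⟩)))) (.node (.node (.node (.leaf ⟨7, 349, 584, 0, 0, 0, 0, 93, 0, 0, []⟩) (.leaf ⟨8, 3208, 3215, 0, 0, 0, 0, 52, 3, 3208, [19471, 19514, 19498]⟩)) (.node (.leaf ⟨8, 1916, 1917, 0, 0, 0, 0, 93, 0, 0, []⟩) (.leaf ⟨4, 4664, 4664, (-1), 0, 1, 0, 30, 5, 4664, [27671, 22949, 27706, 22948, 27670]⟩))) (.node (.node (.leaf ⟨5, 42, 1169, 0, 0, 0, 0, 93, 0, 0, []⟩) (.leaf ⟨1, 3939, 3939, (-1), 0, (-1), 0, 17, 0, 3939, [23503, 23610, 23502]⟩)) (.node (.leaf ⟨6, 2578, 2578, (-1), 0, (-1), 0, 5, 3, 2578, [15373, 15418, 15372]⟩) (.leaf ⟨0, 0, 0, 0, 0, 0, 0, 0, 0, 0, []⟩)))))) (.node (.node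 (.node (.node (.node (.leaf ⟨6, 112, 112, (-1), 0, (-1), 0, 45, 5, 112, [475, 553, 570, 552, 474]⟩) (.leaf ⟨10, 2774, 2791, 21, 0, (-1), 0, 58, 3, 2774, [16821, 16955, 16928]⟩)) (.node (.leaf ⟨7, 1552, 1547, 0, 0, 0, 0, 46, 3, 1552, [8757, 8762, 8716]⟩) (.leaf ⟨8, 4229, 4137, 0, 0, 0, 0, 52, 3, 4229, [25147, 4724, 24700]⟩))) (.node (.node (.leaf ⟨4, 698, 462, 0, 0, 0, 0, 22, 3, 698, [4229, 4608, 2424]⟩) (.leaf ⟨4, 3533, 3534, 0, 0, 0, 0, 93, 0, 0, []⟩)) (.node (.leaf ⟨9, 235, 2205, 0, 0, 0, 0, 48, 3, 235, [1575, 12858, 12816]⟩) (.leaf ⟨3, 1592, 1592, (-1), 0, 1, 0, 32, 0, 1592, [8965, 29242, 8964]⟩)))) (.node (.node (.node (.leaf ⟨3, 503, 501, 0, 0, 0, 0, 36, 0, 501, [2605, 2617, 2618]⟩) (.leaf ⟨10, 3117, 918, 0, 0, 0, 0, 63, 3, 3117, [18901, 19002, 5852]⟩)) (.node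 (.leaf ⟨9, 1807, 1811, 0, 0, 0, 0, 27, 3, 1807, [10789, 10808, 10810]⟩) (.leaf ⟨6, 4588, 4589, 0, 0, 0, 0, 93, 0, 0, []⟩))) (.node (.node (.leaf ⟨8, 1070, 1055, 0, 0, 0, 0, 34, 3, 1070, [6697, 6714, 6658]⟩) (.leaf ⟨3, 3878, 3552, 0, 0, 0, 0, 31, 0, 3552, [21101, 23097, 23098]⟩)) (.node (.leaf ⟨3, 2478, 2479, 0, 0, 0, 0, 93, 0, 0, []⟩) (.leaf ⟨11, 5187, 5187, 1, 0, (-1), 0, 62, 3, 5187, [31279, 31290, 31278]⟩))))) (.node (.node (.node (.node (.leaf ⟨11, 111, 242, 0, 0, 0, 0, 93, 0, 0, []⟩) (.leaf ⟨10, 2588, 2944, 0, 0, 0, 0, 93, 0, 0, []⟩)) (.node (.leaf ⟨7, 1671, 1672, 0, 0, 0, 0, 93, 0, 0, []⟩) (.leaf ⟨5, 4415, 4416, 0, 0, 0, 0, 93, 0, 0, []⟩))) (.node (.node (.leaf ⟨7, 881, 896, 0, 0, 0, 0, 93, 0, 0, []⟩) (.leaf ⟨3, 3726, 3726, (-22), 0, 6, 0, 34, 2, 815, [21908,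 22074, 21908]⟩)) (.node (.leaf ⟨10, 1223, 2401, 0, 0, 0, 0, 49, 5, 1223, [7439, 7437, 13880, 13348, 13882]⟩) (.leaf ⟨7, 5039, 5040, 0, 0, 0, 0, 93, 0, 0, []⟩)))) (.node (.node (.node (.leaf ⟨3, 648, 648, 1, 0, (-1), 0, 32, 0, 648, [3615, 3642, 3614]⟩) (.leaf ⟨6, 3314, 3314, (-1), 0, (-1), 0, 51, 0, 3314, [20027, 5800, 5806, 5801, 20026]⟩)) (.node (.leaf ⟨0, 1881, 1905, 51, 0, (-9), 0, 0, 4, 1909, [11298, 11316, 11811, 11835, 11284]⟩) (.leaf ⟨5, 4764, 4765, 0, 0, 0, 0, 93, 0, 0, []⟩))) (.node (.node (.leaf ⟨6, 1314, 1315, 0, 0, 0, 0, 93, 0, 0, []⟩) (.leaf ⟨6, 3900, 4034, 0, 0, 0, 0, 52, 2, 3080, [23292, 18621, 24122]⟩)) (.node (.leaf ⟨10, 2657, 2658, 0, 0, 0, 0, 93, 0, 0, []⟩) (.leaf ⟨0, 0, 0, 0, 0, 0, 0, 0, 0, 0, []⟩))))))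

def factsPart31 : ATree TFact :=
  .node (.node (.node (.node (.node (.node (.leaf ⟨7, 31, 32, 0, 0, 0, 0, 93, 0, 0, []⟩) (.leaf ⟨8, 2696, 2689, 0, 0, 0, 0, 41, 3, 2696, [16119, 16444, 16086]⟩)) (.node (.leaf ⟨9, 1420, 1308, 0, 0, 0, 0, 57, 3, 1420, [8247, 8252, 7726]⟩) (.leaf ⟨11, 4116, 3535, 0, 0, 0, 0, 59, 3, 4116, [24633, 24636, 21056]⟩))) (.node (.node (.leaf ⟨2, 686, 490, 0, 0, 0, 0, 28, 0, 490, [2547, 3017, 4156]⟩) (.leaf ⟨0, 3383, 3395, 0, 0, 0, 0, 4, 0, 3395, [20517, 20541, 20472]⟩)) (.node (.leaf ⟨9, 424, 2130, 0, 0, 0, 0, 63, 2, 423, [2282, 2281, 12346]⟩) (.leaf ⟨5, 2909, 4821, 0, 0, 0, 0, 14, 3, 2909, [17771, 28732, 28634]⟩)))) (.node (.node (.node (.leaf ⟨11, 9, 122, 0, 0, 0, 0, 50, 3, 9, [17, 15, 512]⟩) (.leaf ⟨10, 3061, 3060, 0, 0, 0, 0, 63, 3, 3061,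 [18493, 12366, 18488]⟩)) (.node (.leaf ⟨4, 1747, 1747, 1, 0, (-1), 0, 3, 3, 1747, [10281, 10300, 10280]⟩) (.leaf ⟨9, 4409, 4496, 0, 0, 0, 0, 42, 3, 4409, [26147, 26684, 26668]⟩))) (.node (.node (.leaf ⟨2, 976, 976, (-1), 0, (-1), 0, 24, 2, 975, [6176, 6204, 6176]⟩) (.leaf ⟨2, 3793, 3791, 0, 0, 0, 0, 25, 0, 3791, [22575, 22587, 22588]⟩)) (.node (.leaf ⟨10, 2431, 2432, 0, 0, 0, 0, 93, 0, 0, []⟩) (.leaf ⟨9, 1104, 5119, 0, 0, 0, 0, 93, 0, 0, []⟩))))) (.node (.node (.node (.node (.leaf ⟨4, 170, 170, (-1), 0, 1, 0, 40, 0, 170, [1043, 742, 1042]⟩) (.leaf ⟨2, 2242, 2242, (-1), 0, 1, 0, 26, 0, 2242, [13023, 14610, 13022]⟩)) (.node (.leaf ⟨3, 8, 8, 1, 0, 1, 0, 37, 0, 8, [15, 724, 14]⟩) (.leaf ⟨5, 4331, 4332, 0, 0, 0, 0, 93, 0, 0, []⟩))) (.node (.node (.leaf ⟨3, 810, 617, 0,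 0, 0, 0, 37, 0, 617, [3353, 3705, 5178]⟩) (.leaf ⟨8, 3653, 3668, 0, 0, 0, 0, 47, 3, 3653, [21531, 21529, 21560]⟩)) (.node (.leaf ⟨9, 2330, 2325, 0, 0, 0, 0, 57, 3, 2330, [13365, 13372, 13354]⟩) (.leaf ⟨9, 4965, 4972, 0, 0, 0, 0, 48, 3, 4965, [29739, 29754, 29756]⟩)))) (.node (.node (.node (.leaf ⟨5, 582, 584, 0, 0, 0, 0, 46, 2, 350, [3124, 1913, 3132]⟩) (.leaf ⟨8, 3209, 3216, 0, 0, 0, 0, 47, 3, 3209, [19473, 19516, 19500]⟩)) (.node (.leaf ⟨5, 1917, 1918, 0, 0, 0, 0, 93, 0, 0, []⟩) (.leaf ⟨4, 4666, 4666, (-1), 0, (-1), 0, 22, 3, 4666, [27683, 27708, 27682]⟩))) (.node (.node (.leaf ⟨4, 1169, 1170, 0, 0, 0, 0, 93, 0, 0, []⟩) (.leaf ⟨1, 3940, 3940, 1, 0, 1, 0, 14, 0, 3940, [23505, 23612, 23504]⟩)) (.node (.leaf ⟨7, 2580, 2580, (-1), 0, (-1), 0, 51, 5, 2580, [15377, 15375,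 15420, 15374, 15376]⟩) (.leaf ⟨0, 0, 0, 0, 0, 0, 0, 0, 0, 0, []⟩)))))) (.node (.node (.node (.node (.node (.leaf ⟨7, 130, 130, (-1), 0, (-1), 0, 51, 5, 130, [529, 527, 572, 526, 528]⟩) (.leaf ⟨5, 2770, 2770, 1, 0, (-1), 0, 47, 0, 2770, [16791, 942, 16790]⟩)) (.node (.leaf ⟨7, 1553, 1548, 0, 0, 0, 0, 40, 3, 1553, [8759, 8764, 8718]⟩) (.leaf ⟨0, 2624, 2624, (-1), 0, (-1), 0, 4, 0, 2624, [15665, 14018, 15664]⟩))) (.node (.node (.leaf ⟨4, 699, 463, 0, 0, 0, 0, 43, 0, 463, [2427, 4669, 4230]⟩) (.leaf ⟨8, 3526, 3534, 0, 0, 0, 0, 41, 3, 3526, [21023, 21050, 21052]⟩)) (.node (.leaf ⟨9, 2194, 2206, 0, 0, 0, 0, 63, 0, 2206, [12819, 12861, 12756]⟩) (.leaf ⟨4, 1051, 309, (-35), 0, 7, 0, 13, 3, 1051, [8886, 14065, 6275]⟩)))) (.node (.node (.node (.leaf ⟨2, 349, 467, 0, 0, 0,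 0, 29, 0, 467, [2447, 422, 1910]⟩) (.leaf ⟨8, 582, 3124, 0, 0, 0, 0, 93, 0, 0, []⟩)) (.node (.leaf ⟨8, 1490, 1808, 0, 0, 0, 0, 47, 3, 1490, [8543, 8541, 10798]⟩) (.leaf ⟨5, 4589, 4590, 0, 0, 0, 0, 93, 0, 0, []⟩))) (.node (.node (.leaf ⟨8, 1071, 1072, 0, 0, 0, 0, 61, 0, 1072, [6711, 6717, 6698]⟩) (.leaf ⟨7, 3878, 3879, 0, 0, 0, 0, 93, 0, 0, []⟩)) (.node (.leaf ⟨10, 2479, 2480, 0, 0, 0, 0, 93, 0, 0, []⟩) (.leaf ⟨8, 3167, 5188, 0, 0, 0, 0, 93, 0, 0, []⟩))))) (.node (.node (.node (.node (.leaf ⟨5, 242, 243, 0, 0, 0, 0, 93, 0, 0, []⟩) (.leaf ⟨3, 2944, 2595, 0, 0, 0, 0, 36, 0, 2595, [15497, 15493, 17980]⟩)) (.node (.leaf ⟨6, 1672, 1673, 0, 0, 0, 0, 93, 0, 0, []⟩) (.leaf ⟨4, 4416, 4417, 0, 0, 0, 0, 93, 0, 0, []⟩))) (.node (.node (.leaf ⟨4, 893, 896, 0, 0, 0, 0, 40, 0, 896,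 [5693, 5620, 5670]⟩) (.leaf ⟨8, 3738, 3739, 0, 0, 0, 0, 93, 0, 0, []⟩)) (.node (.leaf ⟨11, 1428, 2402, 0, 0, 0, 0, 93, 0, 0, []⟩) (.leaf ⟨6, 5040, 5041, 0, 0, 0, 0, 93, 0, 0, []⟩)))) (.node (.node (.node (.leaf ⟨3, 647, 647, (-1), 0, 1, 0, 33, 0, 647, [3607, 3644, 3606]⟩) (.leaf ⟨5, 916, 3314, 0, 0, 0, 0, 46, 2, 841, [5816, 5345, 20026]⟩)) (.node (.leaf ⟨0, 1906, 1882, (-51), 0, 9, 0, 6, 2, 1905, [11286, 11837, 11146]⟩) (.leaf ⟨10, 4765, 4766, 0, 0, 0, 0, 93, 0, 0, []⟩))) (.node (.node (.leaf ⟨7, 1315, 1316, 0, 0, 0, 0, 93, 0, 0, []⟩) (.leaf ⟨5, 961, 3130, 0, 0, 0, 0, 48, 2, 960, [6110, 6107, 19040]⟩)) (.node (.leaf ⟨5, 2658, 2659, 0, 0, 0, 0, 93, 0, 0, []⟩) (.leaf ⟨0, 0, 0, 0, 0, 0, 0, 0, 0, 0, []⟩))))))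

def factsPart32 : ATree TFact :=
  .node (.node (.node (.node (.node (.node (.leaf ⟨6, 32, 33, 0, 0, 0, 0, 93, 0, 0, []⟩) (.leaf ⟨10, 2693, 2689, 147, 0, (-13), 0, 61, 3, 2693, [16113, 16439, 16446]⟩)) (.node (.leaf ⟨9, 1421, 1309, 0, 0, 0, 0, 53, 3, 1421, [8249, 8254, 7728]⟩) (.leaf ⟨6, 749, 4117, 0, 0, 0, 0, 93, 0, 0, []⟩))) (.node (.node (.leaf ⟨4, 679, 679, (-1), 0, (-1), 0, 44, 2, 680, [4069, 4086, 4069]⟩) (.leaf ⟨0, 3384, 3396, 0, 0, 0, 0, 3, 0, 3396, [20519, 20543, 20474]⟩)) (.node (.leaf ⟨9, 2131, 425, 0, 0, 0, 0, 64, 0, 425, [2285, 12350, 12348]⟩) (.leaf ⟨5, 2910, 4822, 0, 0, 0, 0, 48, 0, 4822, [28637, 28735, 17774]⟩)))) (.node (.node (.node (.leaf ⟨11, 123, 10, 0, 0, 0, 0, 44, 3, 123, [515, 2111, 18]⟩) (.leaf ⟨9, 2135, 3062, 0, 0, 0, 0, 93, 0, 0, []⟩))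 (.node (.leaf ⟨0, 1412, 1669, 0, 0, 0, 0, 1, 0, 1669, [9781, 9829, 8150]⟩) (.leaf ⟨9, 4410, 4497, 0, 0, 0, 0, 35, 3, 4410, [26149, 26686, 26670]⟩))) (.node (.node (.leaf ⟨2, 977, 977, (-1), 0, 1, 0, 23, 2, 976, [6178, 6206, 6178]⟩) (.leaf ⟨10, 3136, 3136, (-1), 0, 1, 0, 63, 3, 3136, [19095, 20292, 19094]⟩)) (.node (.leaf ⟨1, 2432, 1838, 0, 0, 0, 0, 19, 2, 2431, [14398, 14397, 10944]⟩) (.leaf ⟨10, 5119, 5120, 0, 0, 0, 0, 93, 0, 0, []⟩))))) (.node (.node (.node (.node (.leaf ⟨3, 170, 170, 1, 0, 1, 0, 33, 0, 170, [1043, 724, 1042]⟩) (.leaf ⟨2, 2243, 2243, 1, 0, (-1), 0, 23, 0, 2243, [13025, 17470, 13024]⟩)) (.node (.leaf ⟨3, 9, 9, (-1), 0, (-1), 0, 31, 0, 9, [17, 9278, 16]⟩) (.leaf ⟨7, 4331, 4327, 0, 0, 0, 0, 51, 5, 4331, [25661, 25659, 2380, 25642, 25644]⟩))) (.node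 (.node (.leaf ⟨3, 809, 809, (-1), 0, 1, 0, 21, 5, 809, [5181, 5182, 3364, 5183, 5180]⟩) (.leaf ⟨8, 3669, 3654, 0, 0, 0, 0, 41, 3, 3669, [21563, 21567, 21532]⟩)) (.node (.leaf ⟨9, 2331, 2326, 0, 0, 0, 0, 53, 3, 2331, [13367, 13374, 13356]⟩) (.leaf ⟨4, 4972, 4973, 0, 0, 0, 0, 93, 0, 0, []⟩)))) (.node (.node (.node (.leaf ⟨7, 529, 529, 1, 0, (-1), 0, 59, 0, 529, [2771, 854, 2770]⟩) (.leaf ⟨8, 3210, 3217, 0, 0, 0, 0, 41, 3, 3210, [19475, 19518, 19502]⟩)) (.node (.leaf ⟨4, 1918, 1919, 0, 0, 0, 0, 93, 0, 0, []⟩) (.leaf ⟨4, 4667, 4667, 1, 0, 1, 0, 43, 0, 4667, [27685, 27710, 27684]⟩))) (.node (.node (.leaf ⟨3, 1170, 1171, 0, 0, 0, 0, 93, 0, 0, []⟩) (.leaf ⟨1, 3941, 3941, (-1), 0, (-1), 0, 13, 0, 3941, [23509, 23614, 23508]⟩)) (.node (.leaf ⟨1, 2537, 2583, 0, 0, 0, 0, 93,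 0, 0, []⟩) (.leaf ⟨0, 0, 0, 0, 0, 0, 0, 0, 0, 0, []⟩)))))) (.node (.node (.node (.node (.node (.leaf ⟨7, 111, 133, 0, 0, 0, 0, 93, 0, 0, []⟩) (.leaf ⟨6, 176, 176, 1, 0, (-1), 0, 45, 5, 176, [1183, 16792, 16958, 16793, 1182]⟩)) (.node (.leaf ⟨7, 205, 1554, 0, 0, 0, 0, 93, 0, 0, []⟩) (.leaf ⟨11, 674, 737, 0, 0, 0, 0, 50, 3, 674, [3869, 3865, 4516]⟩))) (.node (.node (.leaf ⟨11, 731, 745, 21, 0, (-11), 0, 29, 3, 731, [4432, 4591, 4661]⟩) (.leaf ⟨7, 3534, 3535, 0, 0, 0, 0, 93, 0, 0, []⟩)) (.node (.leaf ⟨9, 2201, 2207, 0, 0, 0, 0, 64, 0, 2207, [12821, 12863, 12806]⟩) (.leaf ⟨4, 1662, 1662, 1, 0, (-1), 0, 43, 0, 1662, [9703, 13524, 9702]⟩)))) (.node (.node (.node (.leaf ⟨2, 350, 468, 0, 0, 0, 0, 23, 0, 468, [2449, 2623, 1912]⟩) (.leaf ⟨2, 3124, 3116, 0, 0, 0, 0, 26, 0,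 3116, [18897, 4955, 19006]⟩)) (.node (.leaf ⟨8, 1809, 1491, 0, 0, 0, 0, 41, 3, 1809, [10803, 10815, 8544]⟩) (.leaf ⟨4, 4590, 4591, 0, 0, 0, 0, 93, 0, 0, []⟩))) (.node (.node (.leaf ⟨7, 1072, 1073, 0, 0, 0, 0, 93, 0, 0, []⟩) (.leaf ⟨3, 3879, 3872, 0, 0, 0, 0, 33, 0, 3872, [23075, 23101, 23102]⟩)) (.node (.leaf ⟨8, 2477, 1674, 0, 0, 0, 0, 47, 3, 2477, [14905, 14903, 9792]⟩) (.leaf ⟨10, 5187, 5188, 0, 0, 0, 0, 61, 3, 5187, [31279, 19325, 31294]⟩))))) (.node (.node (.node (.node (.leaf ⟨4, 243, 244, 0, 0, 0, 0, 93, 0, 0, []⟩) (.leaf ⟨7, 2944, 2945, 0, 0, 0, 0, 93, 0, 0, []⟩)) (.node (.leaf ⟨5, 1673, 1674, 0, 0, 0, 0, 93, 0, 0, []⟩) (.leaf ⟨3, 4417, 4418, 0, 0, 0, 0, 93, 0, 0, []⟩))) (.node (.node (.leaf ⟨4, 876, 876, (-1), 0, (-1), 0, 41, 0, 876, [5571, 2504, 5570]⟩)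 (.leaf ⟨2, 3739, 3726, 0, 0, 0, 0, 26, 0, 3726, [21909, 22073, 22078]⟩)) (.node (.leaf ⟨5, 2402, 2403, 0, 0, 0, 0, 93, 0, 0, []⟩) (.leaf ⟨9, 4720, 5038, 0, 0, 0, 0, 8, 3, 4720, [28043, 28041, 30264]⟩)))) (.node (.node (.node (.leaf ⟨11, 477, 655, 0, 0, 0, 0, 93, 0, 0, []⟩) (.leaf ⟨4, 916, 916, (-1), 0, 1, 0, 40, 0, 916, [5817, 5832, 5816]⟩)) (.node (.leaf ⟨8, 1847, 1906, 38, 0, 30, 0, 7, 3, 1847, [11275, 11149, 11839]⟩) (.leaf ⟨1, 1579, 534, 0, 0, 0, 0, 16, 0, 534, [2853, 1957, 8918]⟩))) (.node (.node (.leaf ⟨5, 1308, 1299, 0, 0, 0, 0, 46, 2, 1205, [7726, 7355, 7708]⟩) (.leaf ⟨5, 3077, 3874, 0, 0, 0, 0, 49, 0, 3874, [23083, 24126, 19043, 23189, 18608]⟩)) (.node (.leaf ⟨10, 2653, 2659, (-3), 0, 3, 0, 49, 3, 2651, [15896, 15898, 15931, 15932, 15934]⟩) (.leaf ⟨0, 0,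 0, 0, 0, 0, 0, 0, 0, 0, []⟩))))))

def factsPart33 : ATree TFact :=
  .node (.node (.node (.node (.node (.node (.leaf ⟨5, 33, 34, 0, 0, 0, 0, 93, 0, 0, []⟩) (.leaf ⟨9, 2690, 2711, 0, 0, 0, 0, 93, 0, 0, []⟩)) (.node (.leaf ⟨2, 1037, 1422, 0, 0, 0, 0, 93, 0, 0, []⟩) (.leaf ⟨7, 4117, 4118, 0, 0, 0, 0, 93, 0, 0, []⟩))) (.node (.node (.leaf ⟨2, 677, 687, 0, 0, 0, 0, 93, 0, 0, []⟩) (.leaf ⟨0, 3385, 3397, 0, 0, 0, 0, 6, 0, 3397, [20521, 20545, 20476]⟩)) (.node (.leaf ⟨10, 2124, 2132, 0, 0, 0, 0, 93, 0, 0, []⟩) (.leaf ⟨7, 2910, 4835, 0, 0, 0, 0, 93, 0, 0, []⟩)))) (.node (.node (.node (.leaf ⟨11, 124, 11, 0, 0, 0, 0, 37, 3, 124, [517, 2112, 20]⟩) (.leaf ⟨5, 3062, 3061, 0, 0, 0, 0, 48, 2, 2135, [18496, 12363, 18492]⟩)) (.node (.leaf ⟨1, 1646, 1747, 0, 0, 0, 0, 0, 5, 1646,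 [9577, 9575, 10304, 10276, 10280]⟩) (.leaf ⟨9, 4411, 4498, 0, 0, 0, 0, 63, 0, 4498, [26673, 26689, 26150]⟩))) (.node (.node (.leaf ⟨2, 978, 978, (-1), 0, (-1), 0, 28, 2, 977, [6180, 6208, 6180]⟩) (.leaf ⟨10, 3137, 3137, (-1), 0, (-1), 0, 58, 3, 3137, [19097, 22592, 19096]⟩)) (.node (.leaf ⟨11, 2172, 2432, (-27), 0, (-1), 0, 20, 3, 2172, [12709, 12689, 14401]⟩) (.leaf ⟨11, 5120, 5121, 0, 0, 0, 0, 93, 0, 0, []⟩))))) (.node (.node (.node (.node (.leaf ⟨2, 170, 170, (-1), 0, 1, 0, 25, 0, 170, [1043, 716, 1042]⟩) (.leaf ⟨2, 2244, 2244, (-1), 0, 1, 0, 22, 0, 2244, [13027, 17472, 13026]⟩)) (.node (.leaf ⟨4, 11, 11, (-1), 0, (-1), 0, 30, 5, 11, [21, 19, 9280, 18, 20]⟩) (.leaf ⟨7, 4332, 4328, 0, 0, 0, 0, 46, 3, 4332, [25663, 25664, 25646]⟩))) (.node (.node (.leaf ⟨3, 808,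 808, 1, 0, (-1), 0, 34, 0, 808, [5177, 5184, 5176]⟩) (.leaf ⟨8, 3670, 3655, 0, 0, 0, 0, 34, 3, 3670, [21565, 21568, 21534]⟩)) (.node (.leaf ⟨6, 1419, 2332, 0, 0, 0, 0, 93, 0, 0, []⟩) (.leaf ⟨9, 4966, 4973, 0, 0, 0, 0, 42, 3, 4966, [29741, 29758, 29760]⟩)))) (.node (.node (.node (.leaf ⟨6, 584, 584, (-1), 0, (-1), 0, 51, 0, 584, [3133, 2773, 3136, 2772, 3132]⟩) (.leaf ⟨8, 3211, 3218, 0, 0, 0, 0, 61, 0, 3218, [19505, 19521, 19488]⟩)) (.node (.leaf ⟨3, 1919, 1920, 0, 0, 0, 0, 93, 0, 0, []⟩) (.leaf ⟨5, 4667, 4668, 0, 0, 0, 0, 93, 0, 0, []⟩))) (.node (.node (.leaf ⟨10, 1171, 1172, 0, 0, 0, 0, 93, 0, 0, []⟩) (.leaf ⟨1, 3955, 3955, 1, 0, 1, 0, 16, 0, 3955, [23593, 23616, 23592]⟩)) (.node (.leaf ⟨9, 2583, 2584, 0, 0, 0, 0, 93, 0, 0, []⟩) (.leaf ⟨0, 0, 0, 0, 0, 0, 0, 0, 0,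 0, []⟩)))))) (.node (.node (.node (.node (.node (.leaf ⟨5, 129, 133, 0, 0, 0, 0, 46, 2, 112, [526, 475, 576]⟩) (.leaf ⟨6, 177, 177, 1, 0, 1, 0, 39, 3, 177, [1187, 16960, 1186]⟩)) (.node (.leaf ⟨6, 1554, 1555, 0, 0, 0, 0, 93, 0, 0, []⟩) (.leaf ⟨6, 674, 674, (-15), 0, (-9), 0, 55, 2, 737, [25153, 4552, 25153]⟩))) (.node (.node (.leaf ⟨11, 746, 699, (-21), 0, 11, 0, 37, 3, 746, [4667, 4673, 4423]⟩) (.leaf ⟨8, 3510, 3535, 0, 0, 0, 0, 56, 5, 3510, [20961, 20989, 21024, 21054, 21056]⟩)) (.node (.leaf ⟨5, 2203, 2211, 0, 0, 0, 0, 93, 0, 0, []⟩) (.leaf ⟨10, 4902, 4902, 1, 0, (-1), 0, 65, 4, 1663, [29236, 9721, 14560, 9720, 29236]⟩)))) (.node (.node (.node (.leaf ⟨2, 351, 469, 0, 0, 0, 0, 22, 0, 469, [2451, 2625, 1914]⟩) (.leaf ⟨9, 3124, 3125, 0, 0, 0, 0, 93, 0, 0, []⟩)) (.node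 (.leaf ⟨8, 1810, 1492, 0, 0, 0, 0, 34, 3, 1810, [10807, 10816, 8546]⟩) (.leaf ⟨5, 2111, 451, 3, 0, 3, 0, 47, 2, 644, [15924, 8881, 4684]⟩))) (.node (.node (.leaf ⟨8, 1065, 1073, 0, 0, 0, 0, 56, 5, 1065, [6679, 6691, 6708, 6718, 6720]⟩) (.leaf ⟨6, 3879, 3880, 0, 0, 0, 0, 93, 0, 0, []⟩)) (.node (.leaf ⟨8, 1675, 2478, 0, 0, 0, 0, 41, 3, 1675, [9795, 14913, 14906]⟩) (.leaf ⟨10, 2730, 2730, (-1), 0, (-1), 0, 19, 3, 2730, [16517, 18998, 16516]⟩))))) (.node (.node (.node (.node (.leaf ⟨10, 244, 245, 0, 0, 0, 0, 93, 0, 0, []⟩) (.leaf ⟨3, 2945, 2596, 0, 0, 0, 0, 33, 0, 2596, [15499, 17983, 17984]⟩)) (.node (.leaf ⟨4, 1674, 1675, 0, 0, 0, 0, 93, 0, 0, []⟩) (.leaf ⟨2, 4418, 4419, 0, 0, 0, 0, 93, 0, 0, []⟩))) (.node (.node (.leaf ⟨5, 878, 878, (-1), 0, (-1), 0, 38, 5, 878, [5575,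 5573, 5696, 5572, 5574]⟩) (.leaf ⟨10, 3739, 3710, 0, 0, 0, 0, 61, 3, 3739, [22079, 22070, 21790]⟩)) (.node (.leaf ⟨9, 2402, 2398, 0, 0, 0, 0, 64, 0, 2398, [13875, 8300, 13886]⟩) (.leaf ⟨9, 5039, 5027, 0, 0, 0, 0, 63, 0, 5027, [30225, 30272, 30266]⟩)))) (.node (.node (.node (.leaf ⟨4, 477, 646, 0, 0, 0, 0, 43, 2, 476, [2466, 2465, 3586]⟩) (.leaf ⟨11, 819, 3314, 0, 0, 0, 0, 59, 3, 819, [5247, 5820, 20026]⟩)) (.node (.leaf ⟨8, 1535, 1994, 0, 0, 0, 0, 93, 0, 0, []⟩) (.leaf ⟨1, 1580, 556, 0, 0, 0, 0, 15, 0, 556, [3003, 28225, 8920]⟩))) (.node (.node (.leaf ⟨6, 1301, 1310, 0, 0, 0, 0, 45, 5, 1301, [7713, 7711, 7745, 7728, 7730]⟩) (.leaf ⟨5, 3078, 4012, 0, 0, 0, 0, 50, 0, 4012, [23993, 24129, 18612]⟩)) (.node (.leaf ⟨5, 441, 2660, 0, 0, 0, 0, 93, 0, 0, []⟩) (.leaf ⟨0, 0,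 0, 0, 0, 0, 0, 0, 0, 0, []⟩))))))

def factsPart34 : ATree TFact :=
  .node (.node (.node (.node (.node (.node (.leaf ⟨4, 34, 35, 0, 0, 0, 0, 93, 0, 0, []⟩) (.leaf ⟨10, 2711, 2712, 0, 0, 0, 0, 93, 0, 0, []⟩)) (.node (.leaf ⟨10, 1422, 1423, 0, 0, 0, 0, 93, 0, 0, []⟩) (.leaf ⟨6, 4118, 4119, 0, 0, 0, 0, 93, 0, 0, []⟩))) (.node (.node (.leaf ⟨4, 528, 688, 0, 0, 0, 0, 93, 0, 0, []⟩) (.leaf ⟨0, 3386, 3398, 0, 0, 0, 0, 5, 0, 3398, [20523, 20547, 20478]⟩)) (.node (.leaf ⟨10, 2123, 2133, 0, 0, 0, 0, 93, 0, 0, []⟩) (.leaf ⟨5, 4835, 4823, 0, 0, 0, 0, 46, 0, 4823, [28639, 28737, 28738]⟩)))) (.node (.node (.node (.leaf ⟨11, 125, 383, 0, 0, 0, 0, 59, 3, 125, [519, 2114, 2076]⟩) (.leaf ⟨10, 3062, 3063, 0, 0, 0, 0, 93, 0, 0, []⟩)) (.node (.leaf ⟨1, 1425, 1748, 0, 0, 0, 0, 93, 0,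 0, []⟩) (.leaf ⟨5, 4498, 4499, 0, 0, 0, 0, 93, 0, 0, []⟩))) (.node (.node (.leaf ⟨2, 973, 973, (-1), 0, 1, 0, 23, 2, 978, [6187, 6210, 6187]⟩) (.leaf ⟨10, 3138, 3138, (-1), 0, 1, 0, 54, 3, 3138, [19099, 22594, 19098]⟩)) (.node (.leaf ⟨0, 2432, 2430, 27, 0, (-1), 0, 10, 0, 2430, [14388, 14394, 14402]⟩) (.leaf ⟨9, 5120, 5108, 0, 0, 0, 0, 63, 2, 5119, [30784, 30783, 30646]⟩))))) (.node (.node (.node (.node (.leaf ⟨7, 6, 173, 0, 0, 0, 0, 93, 0, 0, []⟩) (.leaf ⟨2, 2844, 2844, 1, 0, (-1), 0, 27, 0, 2844, [17437, 17474, 17436]⟩)) (.node (.leaf ⟨4, 305, 305, (-1), 0, 1, 0, 22, 3, 305, [1789, 9282, 1788]⟩) (.leaf ⟨7, 2662, 4333, 0, 0, 0, 0, 93, 0, 0, []⟩))) (.node (.node (.leaf ⟨3, 803, 803, (-1), 0, 1, 0, 35, 0, 803, [5169, 5186, 5168]⟩) (.leaf ⟨4, 3040, 3671, 0, 0, 0, 0,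 93, 0, 0, []⟩)) (.node (.leaf ⟨4, 2332, 2333, 0, 0, 0, 0, 93, 0, 0, []⟩) (.leaf ⟨7, 4973, 4974, 0, 0, 0, 0, 93, 0, 0, []⟩)))) (.node (.node (.node (.leaf ⟨5, 583, 583, 1, 0, (-1), 0, 45, 0, 583, [3127, 3134, 3138, 3135, 3126]⟩) (.leaf ⟨8, 1463, 3219, 0, 0, 0, 0, 93, 0, 0, []⟩)) (.node (.leaf ⟨2, 1920, 1921, 0, 0, 0, 0, 93, 0, 0, []⟩) (.leaf ⟨5, 3641, 4669, 0, 0, 0, 0, 93, 0, 0, []⟩))) (.node (.node (.leaf ⟨11, 1172, 1173, 0, 0, 0, 0, 93, 0, 0, []⟩) (.leaf ⟨1, 3956, 3956, (-1), 0, (-1), 0, 15, 0, 3956, [23595, 23618, 23594]⟩)) (.node (.leaf ⟨0, 2584, 2585, 0, 0, 0, 0, 93, 0, 0, []⟩) (.leaf ⟨0, 0, 0, 0, 0, 0, 0, 0, 0, 0, []⟩)))))) (.node (.node (.node (.node (.node (.leaf ⟨5, 0, 0, 1, 0, 1, 0, 85, 0, 0, []⟩) (.leaf ⟨6, 2773, 2773, (-1), 0, (-1), 0, 53, 0, 2773, [16819,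 16962, 16818]⟩)) (.node (.leaf ⟨5, 1555, 1556, 0, 0, 0, 0, 93, 0, 0, []⟩) (.leaf ⟨7, 674, 674, 1, 0, (-1), 0, 46, 3, 674, [3869, 14056, 3868]⟩))) (.node (.node (.leaf ⟨4, 464, 746, 21, 0, 11, 0, 44, 2, 463, [2428, 4671, 4675]⟩) (.leaf ⟨7, 401, 3536, 0, 0, 0, 0, 93, 0, 0, []⟩)) (.node (.leaf ⟨8, 2205, 2211, 0, 0, 0, 0, 47, 3, 2205, [12817, 12815, 12866]⟩) (.leaf ⟨7, 4888, 4888, 1, 0, 1, 0, 59, 0, 4888, [29031, 9708, 29030]⟩)))) (.node (.node (.node (.leaf ⟨2, 352, 470, 0, 0, 0, 0, 28, 0, 470, [2453, 2627, 1916]⟩) (.leaf ⟨2, 3125, 3117, 0, 0, 0, 0, 27, 0, 3117, [18901, 19009, 19010]⟩)) (.node (.leaf ⟨8, 1811, 1493, 0, 0, 0, 0, 26, 3, 1811, [10811, 10818, 8548]⟩) (.leaf ⟨5, 4588, 4584, (-3), 0, (-3), 0, 46, 2, 451, [27194, 27203, 27178]⟩))) (.node (.node (.leaf ⟨6,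 1073, 1074, 0, 0, 0, 0, 93, 0, 0, []⟩) (.leaf ⟨3, 3880, 3873, 0, 0, 0, 0, 32, 0, 3873, [23079, 23105, 23106]⟩)) (.node (.leaf ⟨8, 1676, 2479, 0, 0, 0, 0, 34, 3, 1676, [9797, 14914, 14908]⟩) (.leaf ⟨10, 2731, 2731, (-1), 0, 1, 0, 63, 3, 2731, [16519, 31298, 16518]⟩))))) (.node (.node (.node (.node (.leaf ⟨5, 245, 246, 0, 0, 0, 0, 93, 0, 0, []⟩) (.leaf ⟨6, 2945, 2946, 0, 0, 0, 0, 93, 0, 0, []⟩)) (.node (.leaf ⟨3, 1675, 1676, 0, 0, 0, 0, 93, 0, 0, []⟩) (.leaf ⟨10, 4419, 4420, 0, 0, 0, 0, 93, 0, 0, []⟩))) (.node (.node (.leaf ⟨5, 881, 881, 1, 0, 1, 0, 48, 0, 881, [5581, 5698, 5580]⟩) (.leaf ⟨7, 3710, 3740, 0, 0, 0, 0, 93, 0, 0, []⟩)) (.node (.leaf ⟨9, 2403, 2399, 0, 0, 0, 0, 48, 3, 2403, [13889, 13890, 13876]⟩) (.leaf ⟨9, 5040, 5028, 0, 0, 0, 0, 57, 3, 5040, [30269,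 30274, 30226]⟩)))) (.node (.node (.node (.leaf ⟨4, 647, 655, 0, 0, 0, 0, 44, 0, 655, [3649, 3650, 3588]⟩) (.leaf ⟨10, 819, 819, 1, 0, 1, 0, 58, 3, 819, [5247, 5842, 5246]⟩)) (.node (.leaf ⟨5, 1994, 1995, 0, 0, 0, 0, 93, 0, 0, []⟩) (.leaf ⟨1, 2533, 959, 0, 0, 0, 0, 17, 0, 959, [6103, 28227, 15194]⟩))) (.node (.node (.leaf ⟨6, 1302, 1311, 0, 0, 0, 0, 39, 3, 1302, [7715, 7746, 7732]⟩) (.leaf ⟨5, 3079, 4013, 0, 0, 0, 0, 46, 0, 4013, [23997, 24131, 18616]⟩)) (.node (.leaf ⟨6, 2660, 2661, 0, 0, 0, 0, 93, 0, 0, []⟩) (.leaf ⟨0, 0, 0, 0, 0, 0, 0, 0, 0, 0, []⟩))))))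

def factsPart35 : ATree TFact :=
  .node (.node (.node (.node (.node (.node (.leaf ⟨3, 35, 36, 0, 0, 0, 0, 93, 0, 0, []⟩) (.leaf ⟨9, 2712, 2691, 0, 0, 0, 0, 63, 2, 2711, [16452, 16451, 16098]⟩)) (.node (.leaf ⟨5, 1423, 1424, 0, 0, 0, 0, 93, 0, 0, []⟩) (.leaf ⟨8, 4119, 4120, 0, 0, 0, 0, 93, 0, 0, []⟩))) (.node (.node (.leaf ⟨3, 688, 689, 0, 0, 0, 0, 93, 0, 0, []⟩) (.leaf ⟨0, 3389, 3399, 0, 0, 0, 0, 7, 0, 3399, [20525, 20549, 20500]⟩)) (.node (.leaf ⟨4, 2132, 2133, 0, 0, 0, 0, 43, 2, 2124, [12354, 12319, 12356]⟩) (.leaf ⟨7, 2914, 4836, 0, 0, 0, 0, 93, 0, 0, []⟩)))) (.node (.node (.node (.leaf ⟨11, 126, 384, 0, 0, 0, 0, 55, 3, 126, [521, 2116, 2078]⟩) (.leaf ⟨5, 3063, 3059, 0, 0, 0, 0, 49, 0, 3059, [18485, 18490, 18495, 18499, 18500]⟩)) (.node (.leaf ⟨0, 1748, 1749,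 0, 0, 0, 0, 93, 0, 0, []⟩) (.leaf ⟨9, 4412, 4499, 0, 0, 0, 0, 48, 3, 4412, [26163, 26690, 26692]⟩))) (.node (.node (.leaf ⟨9, 438, 981, 0, 0, 0, 0, 93, 0, 0, []⟩) (.leaf ⟨10, 3792, 3792, (-1), 0, (-1), 0, 61, 3, 3792, [22585, 22596, 22584]⟩)) (.node (.leaf ⟨0, 2431, 2433, 0, 0, 0, 0, 93, 0, 0, []⟩) (.leaf ⟨9, 5109, 5121, 0, 0, 0, 0, 64, 0, 5121, [30787, 30788, 30648]⟩))))) (.node (.node (.node (.node (.leaf ⟨10, 170, 173, 0, 0, 0, 0, 58, 3, 170, [1043, 13, 1092]⟩) (.leaf ⟨2, 2849, 2849, (-1), 0, 1, 0, 28, 0, 2849, [17461, 17476, 17460]⟩)) (.node (.leaf ⟨4, 619, 619, (-1), 0, (-1), 0, 13, 3, 619, [3397, 9284, 3396]⟩) (.leaf ⟨5, 4333, 4330, 0, 0, 0, 0, 46, 2, 2662, [25668, 15943, 25658]⟩))) (.node (.node (.leaf ⟨3, 804, 804, (-1), 0, (-1), 0, 33, 2, 803, [5142, 5188,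 5142]⟩) (.leaf ⟨3, 3671, 3672, 0, 0, 0, 0, 93, 0, 0, []⟩)) (.node (.leaf ⟨7, 2333, 2334, 0, 0, 0, 0, 93, 0, 0, []⟩) (.leaf ⟨9, 4967, 4974, 0, 0, 0, 0, 57, 3, 4967, [29743, 29762, 29764]⟩)))) (.node (.node (.node (.leaf ⟨10, 578, 578, 1, 0, (-1), 0, 49, 5, 578, [3105, 3131, 3140, 3130, 3104]⟩) (.leaf ⟨6, 1465, 3219, 0, 0, 0, 0, 52, 2, 1464, [8454, 8453, 19524]⟩)) (.node (.leaf ⟨11, 1204, 1922, 0, 0, 0, 0, 93, 0, 0, []⟩) (.leaf ⟨4, 4669, 4670, 0, 0, 0, 0, 93, 0, 0, []⟩))) (.node (.node (.leaf ⟨5, 1173, 1174, 0, 0, 0, 0, 93, 0, 0, []⟩) (.leaf ⟨2, 3864, 3864, (-1), 0, 1, 0, 11, 5, 3864, [23425, 23599, 23620, 23598, 23424]⟩)) (.node (.leaf ⟨7, 2585, 2586, 0, 0, 0, 0, 93, 0, 0, []⟩) (.leaf ⟨0, 0, 0, 0, 0, 0, 0, 0, 0, 0, []⟩)))))) (.node (.node (.node (.node (.node (.leaf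 ⟨5, 1, 1, 1, 0, (-1), 0, 14, 3, 1, [1, 580, 0]⟩) (.leaf ⟨4, 175, 175, (-1), 0, 1, 0, 41, 0, 175, [1181, 14322, 1180]⟩)) (.node (.leaf ⟨4, 1556, 1557, 0, 0, 0, 0, 93, 0, 0, []⟩) (.leaf ⟨10, 674, 4230, 0, 0, 0, 0, 93, 0, 0, []⟩))) (.node (.node (.leaf ⟨5, 744, 464, (-7), 0, 5, 0, 66, 4, 478, [2508, 2531, 2598, 2521, 2602, 2756, 2639, 2619, 2768, 2794, 2767, 2810, 2816, 2832, 2840, 2822, 2341, 2364, 2850, 2855, 2856, 2860, 2859, 2874, 2878, 2451, 2886, 2890, 2892, 2894, 2896, 2898, 2900, 2902, 2904, 2934, 2958, 2974, 3098, 2999, 3123, 3111, 3146, 3156, 3164, 3172, 3038, 3029, 3174, 3044, 3186, 3194, 3196, 3206, 3214, 3220, 3250, 4187, 4631, 4656, 4661, 4666, 4677]⟩) (.leaf ⟨6, 3536, 3537, 0, 0, 0, 0, 93, 0, 0, []⟩)) (.node (.leaf ⟨10, 2211, 2212, 0, 0, 0, 0, 93, 0,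 0, []⟩) (.leaf ⟨6, 4888, 4888, 1, 0, 1, 0, 55, 0, 4888, [29031, 9714, 29030]⟩)))) (.node (.node (.node (.leaf ⟨2, 353, 471, 0, 0, 0, 0, 23, 0, 471, [2455, 2629, 1918]⟩) (.leaf ⟨3, 3124, 3124, (-1), 0, (-1), 0, 34, 0, 3124, [19007, 4952, 19006]⟩)) (.node (.leaf ⟨9, 1803, 1493, (-4), 0, (-34), 0, 60, 3, 1795, [10764, 10780, 10797, 10812, 10820]⟩) (.leaf ⟨6, 4586, 4590, 3, 0, (-3), 0, 45, 3, 4584, [27180, 27182, 27205, 27196, 27198]⟩))) (.node (.node (.leaf ⟨8, 1066, 1074, 0, 0, 0, 0, 52, 3, 1066, [6681, 6722, 6724]⟩) (.leaf ⟨2, 3874, 838, 0, 0, 0, 0, 28, 0, 838, [5335, 6113, 23082]⟩)) (.node (.leaf ⟨8, 1677, 2480, 0, 0, 0, 0, 61, 0, 2480, [14911, 14917, 9798]⟩) (.leaf ⟨5, 3166, 3166, 1, 0, 1, 0, 49, 0, 3166, [19265, 19393, 31300, 19392, 19264]⟩))))) (.node (.node (.node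 (.node (.leaf ⟨7, 246, 247, 0, 0, 0, 0, 93, 0, 0, []⟩) (.leaf ⟨3, 2946, 2943, 0, 0, 0, 0, 32, 0, 2943, [17975, 17987, 17988]⟩)) (.node (.leaf ⟨10, 1676, 1677, 0, 0, 0, 0, 93, 0, 0, []⟩) (.leaf ⟨5, 4420, 4421, 0, 0, 0, 0, 93, 0, 0, []⟩))) (.node (.node (.leaf ⟨5, 896, 896, (-1), 0, (-1), 0, 46, 0, 896, [5693, 5700, 5692]⟩) (.leaf ⟨6, 3710, 3723, 0, 0, 0, 0, 52, 2, 3709, [21790, 21789, 21876]⟩)) (.node (.leaf ⟨8, 1779, 2372, 0, 0, 0, 0, 47, 3, 1779, [10625, 12720, 13726]⟩) (.leaf ⟨9, 5041, 5029, 0, 0, 0, 0, 53, 3, 5041, [30271, 30276, 30228]⟩)))) (.node (.node (.node (.leaf ⟨4, 72, 656, 0, 0, 0, 0, 93, 0, 0, []⟩) (.leaf ⟨5, 195, 819, 0, 0, 0, 0, 46, 2, 97, [1346, 419, 5246]⟩)) (.node (.leaf ⟨4, 1995, 1996, 0, 0, 0, 0, 93, 0, 0, []⟩) (.leaf ⟨1, 2534, 960, 0, 0, 0, 0,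 14, 0, 960, [6107, 28229, 15196]⟩))) (.node (.node (.leaf ⟨6, 1303, 1312, 0, 0, 0, 0, 32, 3, 1303, [7717, 7748, 7734]⟩) (.leaf ⟨5, 4034, 4014, 0, 0, 0, 0, 47, 0, 4014, [24001, 24133, 24122]⟩)) (.node (.leaf ⟨5, 429, 2662, 0, 0, 0, 0, 93, 0, 0, []⟩) (.leaf ⟨0, 0, 0, 0, 0, 0, 0, 0, 0, 0, []⟩))))))

def factsPart36 : ATree TFact :=
  .node (.node (.node (.node (.node (.node (.leaf ⟨2, 19, 37, 0, 0, 0, 0, 93, 0, 0, []⟩) (.leaf ⟨5, 2712, 2713, 0, 0, 0, 0, 93, 0, 0, []⟩)) (.node (.leaf ⟨8, 1422, 1202, 0, 0, 0, 0, 26, 3, 1422, [8259, 6550, 7348]⟩) (.leaf ⟨5, 4120, 4121, 0, 0, 0, 0, 93, 0, 0, []⟩))) (.node (.node (.leaf ⟨2, 689, 690, 0, 0, 0, 0, 93, 0, 0, []⟩) (.leaf ⟨0, 3390, 3400, 0, 0, 0, 0, 4, 0, 3400, [20527, 20551, 20502]⟩)) (.node (.leaf ⟨8, 621, 2134, 0, 0, 0, 0,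 93, 0, 0, []⟩) (.leaf ⟨4, 4836, 4835, 0, 0, 0, 0, 40, 0, 4835, [28739, 17795, 28742]⟩)))) (.node (.node (.node (.leaf ⟨11, 157, 385, 0, 0, 0, 0, 62, 3, 157, [911, 2118, 2080]⟩) (.leaf ⟨1, 1012, 2134, 0, 0, 0, 0, 17, 0, 2134, [12361, 3411, 6382]⟩)) (.node (.leaf ⟨1, 645, 1750, 0, 0, 0, 0, 93, 0, 0, []⟩) (.leaf ⟨6, 4499, 4500, 0, 0, 0, 0, 93, 0, 0, []⟩))) (.node (.node (.leaf ⟨7, 981, 982, 0, 0, 0, 0, 93, 0, 0, []⟩) (.leaf ⟨10, 3793, 3793, (-1), 0, 1, 0, 58, 3, 3793, [22589, 22598, 22588]⟩)) (.node (.leaf ⟨10, 2430, 2433, (-27), 0, (-1), 0, 9, 3, 2430, [14405, 14399, 14406]⟩) (.leaf ⟨5, 5121, 5122, 0, 0, 0, 0, 93, 0, 0, []⟩))))) (.node (.node (.node (.node (.leaf ⟨10, 124, 124, 1, 0, 1, 0, 36, 3, 124, [517, 1034, 516]⟩) (.leaf ⟨2, 2850, 2850, 1, 0, (-1), 0, 25, 0,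 2850, [17463, 17478, 17462]⟩)) (.node (.leaf ⟨4, 620, 620, 1, 0, 1, 0, 40, 0, 620, [3399, 9286, 3398]⟩) (.leaf ⟨6, 4333, 4334, 0, 0, 0, 0, 93, 0, 0, []⟩))) (.node (.node (.leaf ⟨3, 805, 805, (-1), 0, 1, 0, 32, 2, 804, [5144, 5190, 5144]⟩) (.leaf ⟨4, 3650, 403, (-21), 0, 1, 0, 40, 2, 3063, [21524, 18513, 2188]⟩)) (.node (.leaf ⟨6, 2334, 2335, 0, 0, 0, 0, 93, 0, 0, []⟩) (.leaf ⟨6, 4974, 4975, 0, 0, 0, 0, 93, 0, 0, []⟩)))) (.node (.node (.node (.leaf ⟨10, 579, 579, 1, 0, 1, 0, 43, 3, 579, [3107, 3142, 3106]⟩) (.leaf ⟨5, 3219, 3219, (-1), 0, 1, 0, 47, 0, 3219, [19525, 10110, 19524]⟩)) (.node (.leaf ⟨5, 1922, 1923, 0, 0, 0, 0, 93, 0, 0, []⟩) (.leaf ⟨3, 4670, 4671, 0, 0, 0, 0, 93, 0, 0, []⟩))) (.node (.node (.leaf ⟨4, 1174, 1175, 0, 0, 0, 0, 93, 0, 0, []⟩) (.leaf ⟨2, 3865,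 3865, (-1), 0, (-1), 0, 23, 2, 3864, [23052, 23622, 23052]⟩)) (.node (.leaf ⟨4, 2571, 2533, 0, 0, 0, 0, 41, 0, 2533, [15195, 8957, 15358]⟩) (.leaf ⟨0, 0, 0, 0, 0, 0, 0, 0, 0, 0, []⟩)))))) (.node (.node (.node (.node (.node (.leaf ⟨5, 2, 2, 1, 0, 1, 0, 23, 3, 2, [3, 582, 2]⟩) (.leaf ⟨5, 177, 177, (-1), 0, 1, 0, 38, 5, 177, [1187, 1183, 16966, 1182, 1186]⟩)) (.node (.leaf ⟨3, 1557, 1558, 0, 0, 0, 0, 93, 0, 0, []⟩) (.leaf ⟨2, 674, 674, (-1), 0, (-1), 0, 23, 0, 674, [3869, 15640, 3868]⟩))) (.node (.node (.leaf ⟨8, 449, 532, 0, 0, 0, 0, 47, 3, 449, [2393, 2391, 2818]⟩) (.leaf ⟨8, 3537, 3538, 0, 0, 0, 0, 93, 0, 0, []⟩)) (.node (.leaf ⟨8, 2212, 2206, 0, 0, 0, 0, 61, 0, 2206, [12819, 12868, 12870]⟩) (.leaf ⟨3, 4902, 765, 0, 0, 0, 0, 37, 0, 765, [4769, 16153, 29236]⟩))))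 (.node (.node (.node (.leaf ⟨2, 354, 480, 0, 0, 0, 0, 25, 0, 480, [2511, 2631, 1920]⟩) (.leaf ⟨3, 3125, 3125, 1, 0, 1, 0, 35, 0, 3125, [19011, 19014, 19010]⟩)) (.node (.leaf ⟨7, 1803, 1812, 0, 0, 0, 0, 93, 0, 0, []⟩) (.leaf ⟨6, 4591, 4587, (-3), 0, 3, 0, 39, 3, 4591, [27201, 27207, 27184]⟩))) (.node (.node (.leaf ⟨9, 1057, 1072, 0, 0, 0, 0, 63, 2, 1056, [6662, 6661, 6710]⟩) (.leaf ⟨2, 3875, 955, 0, 0, 0, 0, 25, 0, 955, [6085, 23111, 23086]⟩)) (.node (.leaf ⟨5, 2480, 2481, 0, 0, 0, 0, 93, 0, 0, []⟩) (.leaf ⟨5, 3167, 3167, (-1), 0, (-1), 0, 46, 0, 3167, [19269, 31302, 19268]⟩))))) (.node (.node (.node (.node (.leaf ⟨6, 247, 248, 0, 0, 0, 0, 93, 0, 0, []⟩) (.leaf ⟨10, 2585, 2947, 0, 0, 0, 0, 93, 0, 0, []⟩)) (.node (.leaf ⟨0, 1671, 1383, 0, 0, 0, 0, 3, 0, 1383, [8073,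 6873, 9786]⟩) (.leaf ⟨7, 2672, 4422, 0, 0, 0, 0, 93, 0, 0, []⟩))) (.node (.node (.leaf ⟨11, 876, 876, 1, 0, (-1), 0, 62, 3, 876, [5571, 4582, 5570]⟩) (.leaf ⟨7, 3723, 3723, (-1), 0, (-1), 0, 56, 4, 3708, [21876, 21787, 21766, 21786, 21876]⟩)) (.node (.leaf ⟨5, 2189, 2404, 0, 0, 0, 0, 93, 0, 0, []⟩) (.leaf ⟨1, 637, 5042, 0, 0, 0, 0, 93, 0, 0, []⟩)))) (.node (.node (.node (.leaf ⟨10, 656, 657, 0, 0, 0, 0, 93, 0, 0, []⟩) (.leaf ⟨7, 828, 3315, 0, 0, 0, 0, 93, 0, 0, []⟩)) (.node (.leaf ⟨3, 1996, 1997, 0, 0, 0, 0, 93, 0, 0, []⟩) (.leaf ⟨1, 2535, 3140, 0, 0, 0, 0, 13, 0, 3140, [19109, 28231, 15198]⟩))) (.node (.node (.leaf ⟨6, 1304, 1313, 0, 0, 0, 0, 54, 0, 1313, [7737, 7751, 7718]⟩) (.leaf ⟨6, 4031, 4014, 0, 0, 0, 0, 52, 2, 4030, [24116, 24115, 24000]⟩)) (.node (.leaf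 ⟨6, 2662, 2663, 0, 0, 0, 0, 93, 0, 0, []⟩) (.leaf ⟨0, 0, 0, 0, 0, 0, 0, 0, 0, 0, []⟩))))))

def factsPart37 : ATree TFact :=
  .node (.node (.node (.node (.node (.node (.leaf ⟨9, 37, 38, 0, 0, 0, 0, 93, 0, 0, []⟩) (.leaf ⟨9, 2692, 2713, 0, 0, 0, 0, 48, 3, 2692, [16101, 16455, 16456]⟩)) (.node (.leaf ⟨8, 1423, 1418, 0, 0, 0, 0, 61, 0, 1418, [8243, 8265, 8260]⟩) (.leaf ⟨4, 4121, 4122, 0, 0, 0, 0, 93, 0, 0, []⟩))) (.node (.node (.leaf ⟨2, 688, 476, 0, 0, 0, 0, 22, 0, 476, [2465, 3597, 4164]⟩) (.leaf ⟨0, 3391, 3401, 0, 0, 0, 0, 9, 0, 3401, [20529, 20553, 20504]⟩)) (.node (.leaf ⟨5, 2134, 2135, 0, 0, 0, 0, 93, 0, 0, []⟩) (.leaf ⟨3, 213, 213, 1, 0, (-1), 0, 21, 5, 213, [1509, 1507, 15170, 1506, 1508]⟩)))) (.node (.node (.node (.leaf ⟨11, 158, 386, 0, 0, 0, 0, 50, 3, 158,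 [913, 2120, 2082]⟩) (.leaf ⟨1, 1013, 2135, 0, 0, 0, 0, 14, 0, 2135, [12363, 18505, 6384]⟩)) (.node (.leaf ⟨2, 1645, 1750, 0, 0, 0, 0, 11, 5, 1645, [9575, 8151, 8166, 3558, 10312]⟩) (.leaf ⟨9, 4413, 4500, 0, 0, 0, 0, 53, 3, 4413, [26165, 26694, 26696]⟩))) (.node (.node (.leaf ⟨6, 982, 983, 0, 0, 0, 0, 93, 0, 0, []⟩) (.leaf ⟨8, 3137, 3794, 0, 0, 0, 0, 93, 0, 0, []⟩)) (.node (.leaf ⟨7, 2237, 2431, 0, 0, 0, 0, 16, 3, 2237, [12963, 10946, 14396]⟩) (.leaf ⟨9, 5110, 5122, 0, 0, 0, 0, 48, 3, 5110, [30655, 30790, 30792]⟩))))) (.node (.node (.node (.node (.leaf ⟨10, 160, 160, 1, 0, (-1), 0, 28, 3, 160, [917, 1096, 916]⟩) (.leaf ⟨2, 2851, 2851, (-1), 0, 1, 0, 24, 0, 2851, [17467, 17480, 17466]⟩)) (.node (.leaf ⟨4, 621, 621, (-1), 0, (-1), 0, 39, 0, 621, [3401, 9288, 3400]⟩)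 (.leaf ⟨5, 4334, 4335, 0, 0, 0, 0, 93, 0, 0, []⟩))) (.node (.node (.leaf ⟨3, 806, 806, (-1), 0, (-1), 0, 31, 2, 805, [5146, 5192, 5146]⟩) (.leaf ⟨4, 404, 3651, 21, 0, (-1), 0, 39, 2, 403, [2192, 21577, 21526]⟩)) (.node (.leaf ⟨5, 2327, 2336, 0, 0, 0, 0, 93, 0, 0, []⟩) (.leaf ⟨9, 4968, 4975, 0, 0, 0, 0, 53, 3, 4968, [29745, 29766, 29768]⟩)))) (.node (.node (.node (.leaf ⟨10, 580, 580, 1, 0, (-1), 0, 36, 3, 580, [3109, 3144, 3108]⟩) (.leaf ⟨6, 1466, 1466, (-1), 0, 1, 0, 45, 5, 1466, [8457, 19526, 19528, 19527, 8456]⟩)) (.node (.leaf ⟨7, 1923, 1924, 0, 0, 0, 0, 93, 0, 0, []⟩) (.leaf ⟨2, 4671, 4672, 0, 0, 0, 0, 93, 0, 0, []⟩))) (.node (.node (.leaf ⟨8, 44, 1169, 0, 0, 0, 0, 47, 3, 44, [87, 85, 7228]⟩) (.leaf ⟨2, 3866, 3866, (-1), 0, 1, 0, 28, 2, 3865, [23054, 23624,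 23054]⟩)) (.node (.leaf ⟨5, 2573, 2535, 0, 0, 0, 0, 38, 5, 2573, [15363, 15361, 15432, 15196, 15198]⟩) (.leaf ⟨0, 0, 0, 0, 0, 0, 0, 0, 0, 0, []⟩)))))) (.node (.node (.node (.node (.node (.leaf ⟨5, 3, 3, 1, 0, (-1), 0, 31, 3, 3, [5, 584, 4]⟩) (.leaf ⟨5, 2773, 2773, 1, 0, (-1), 0, 48, 0, 2773, [16819, 16968, 16818]⟩)) (.node (.leaf ⟨2, 1558, 1559, 0, 0, 0, 0, 93, 0, 0, []⟩) (.leaf ⟨2, 4230, 4230, 1, 0, 1, 0, 28, 0, 4230, [25159, 25160, 25158]⟩))) (.node (.node (.leaf ⟨8, 599, 450, 0, 0, 0, 0, 41, 3, 599, [3253, 4681, 2394]⟩) (.leaf ⟨5, 3538, 3539, 0, 0, 0, 0, 93, 0, 0, []⟩)) (.node (.leaf ⟨11, 2212, 2213, 0, 0, 0, 0, 93, 0, 0, []⟩) (.leaf ⟨7, 573, 573, 1, 0, 1, 0, 58, 0, 573, [3069, 14352, 3068]⟩)))) (.node (.node (.node (.leaf ⟨2, 355, 481, 0, 0, 0, 0, 24, 0, 481,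 [2513, 2633, 1922]⟩) (.leaf ⟨8, 609, 3126, 0, 0, 0, 0, 93, 0, 0, []⟩)) (.node (.leaf ⟨9, 1494, 1812, 4, 0, 34, 0, 57, 3, 1494, [8551, 10823, 10824]⟩) (.leaf ⟨9, 4579, 4588, 0, 0, 0, 0, 57, 3, 4579, [27169, 2405, 27194]⟩))) (.node (.node (.leaf ⟨9, 1073, 1058, 0, 0, 0, 0, 57, 3, 1073, [6721, 6729, 6664]⟩) (.leaf ⟨2, 3876, 956, 0, 0, 0, 0, 24, 0, 956, [6087, 23113, 23090]⟩)) (.node (.leaf ⟨8, 1678, 2481, 0, 0, 0, 0, 47, 3, 1678, [9849, 14918, 14920]⟩) (.leaf ⟨5, 5188, 5188, 1, 0, 1, 0, 47, 0, 5188, [31295, 31304, 31294]⟩))))) (.node (.node (.node (.node (.leaf ⟨8, 248, 249, 0, 0, 0, 0, 93, 0, 0, []⟩) (.leaf ⟨4, 2947, 2944, 0, 0, 0, 0, 43, 0, 2944, [17981, 15467, 17992]⟩)) (.node (.leaf ⟨0, 1672, 1384, 0, 0, 0, 0, 6, 0, 1384, [8075, 9801, 9788]⟩) (.leaf ⟨6, 4422, 4423,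 0, 0, 0, 0, 93, 0, 0, []⟩))) (.node (.node (.leaf ⟨11, 877, 877, 1, 0, 1, 0, 50, 3, 877, [5573, 5704, 5572]⟩) (.leaf ⟨6, 3740, 3740, 1, 0, (-1), 0, 51, 0, 3740, [22085, 22086, 22088, 22087, 22084]⟩)) (.node (.leaf ⟨4, 2237, 1744, 0, 0, 0, 0, 13, 3, 2237, [12963, 9140, 10266]⟩) (.leaf ⟨0, 5042, 5043, 0, 0, 0, 0, 93, 0, 0, []⟩)))) (.node (.node (.node (.leaf ⟨7, 657, 658, 0, 0, 0, 0, 93, 0, 0, []⟩) (.leaf ⟨6, 3315, 3316, 0, 0, 0, 0, 93, 0, 0, []⟩)) (.node (.leaf ⟨2, 1997, 1998, 0, 0, 0, 0, 93, 0, 0, []⟩) (.leaf ⟨1, 4755, 3141, 0, 0, 0, 0, 18, 0, 3141, [19111, 28233, 28198]⟩))) (.node (.node (.leaf ⟨5, 1306, 1315, 0, 0, 0, 0, 45, 4, 1305, [7722, 7721, 7752, 7738, 7740]⟩) (.leaf ⟨6, 3901, 4032, 0, 0, 0, 0, 45, 5, 3901, [23295, 24124, 24134, 24137, 24118]⟩)) (.node (.leaf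 ⟨5, 2663, 2661, 0, 0, 0, 0, 45, 4, 2662, [15944, 15943, 2380, 15938, 15940]⟩) (.leaf ⟨0, 0, 0, 0, 0, 0, 0, 0, 0, 0, []⟩))))))

def factsPart38 : ATree TFact :=
  .node (.node (.node (.node (.node (.node (.leaf ⟨10, 38, 39, 0, 0, 0, 0, 93, 0, 0, []⟩) (.leaf ⟨6, 2713, 2714, 0, 0, 0, 0, 93, 0, 0, []⟩)) (.node (.leaf ⟨8, 1424, 1419, 0, 0, 0, 0, 47, 3, 1424, [8263, 8266, 8244]⟩) (.leaf ⟨10, 4122, 4123, 0, 0, 0, 0, 93, 0, 0, []⟩))) (.node (.node (.leaf ⟨3, 690, 687, 0, 0, 0, 0, 21, 5, 690, [4169, 4167, 4170, 3988, 4162]⟩) (.leaf ⟨0, 3392, 3402, 0, 0, 0, 0, 6, 0, 3402, [20531, 20555, 20510]⟩)) (.node (.leaf ⟨10, 2135, 2136, 0, 0, 0, 0, 93, 0, 0, []⟩) (.leaf ⟨3, 2913, 2913, 1, 0, 1, 0, 12, 3, 2913, [17787, 28746, 17786]⟩)))) (.node (.node (.node (.leaf ⟨11, 392, 387, 0,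 0, 0, 0, 44, 3, 392, [2095, 2122, 2084]⟩) (.leaf ⟨1, 2828, 3062, 0, 0, 0, 0, 18, 0, 3062, [18497, 18507, 17356]⟩)) (.node (.leaf ⟨1, 601, 1751, 0, 0, 0, 0, 93, 0, 0, []⟩) (.leaf ⟨4, 4387, 4500, 22, 0, (-2), 0, 42, 2, 4395, [26118, 26665, 26698]⟩))) (.node (.node (.leaf ⟨5, 983, 984, 0, 0, 0, 0, 93, 0, 0, []⟩) (.leaf ⟨6, 3792, 3794, 0, 0, 0, 0, 52, 2, 3138, [22584, 19099, 22602]⟩)) (.node (.leaf ⟨7, 2238, 2433, 0, 0, 0, 0, 6, 3, 2238, [12965, 14410, 14406]⟩) (.leaf ⟨6, 5122, 5123, 0, 0, 0, 0, 93, 0, 0, []⟩))))) (.node (.node (.node (.node (.leaf ⟨2, 129, 129, 1, 0, 1, 0, 25, 0, 129, [527, 954, 526]⟩) (.leaf ⟨9, 2245, 2852, 0, 0, 0, 0, 93, 0, 0, []⟩)) (.node (.leaf ⟨0, 395, 395, (-1), 0, (-1), 0, 2, 0, 395, [2159, 3568, 2158]⟩) (.leaf ⟨6, 4332, 4335, 0, 0, 0, 0, 45,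 5, 4332, [25663, 25661, 25671, 25672, 25674]⟩))) (.node (.node (.leaf ⟨3, 807, 807, (-1), 0, 1, 0, 36, 2, 806, [5148, 5194, 5148]⟩) (.leaf ⟨5, 3669, 3671, (-21), 0, (-1), 0, 38, 3, 3651, [21560, 21562, 21579, 18382, 21572]⟩)) (.node (.leaf ⟨6, 2336, 2337, 0, 0, 0, 0, 93, 0, 0, []⟩) (.leaf ⟨11, 1684, 4976, 0, 0, 0, 0, 93, 0, 0, []⟩)))) (.node (.node (.node (.leaf ⟨6, 531, 531, (-1), 0, 1, 0, 54, 0, 531, [2797, 2784, 2796]⟩) (.leaf ⟨6, 3212, 3212, 1, 0, (-1), 0, 54, 0, 3212, [19493, 19530, 19492]⟩)) (.node (.leaf ⟨6, 1924, 1925, 0, 0, 0, 0, 93, 0, 0, []⟩) (.leaf ⟨6, 4669, 3845, 0, 0, 0, 0, 45, 5, 4669, [27717, 21507, 21705, 21676, 22946]⟩))) (.node (.node (.leaf ⟨8, 1170, 45, 0, 0, 0, 0, 41, 3, 1170, [7231, 7243, 88]⟩) (.leaf ⟨3, 3610, 3957, 0, 0, 0, 0, 93, 0, 0, []⟩))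 (.node (.leaf ⟨5, 2574, 2536, 0, 0, 0, 0, 31, 3, 2574, [15365, 15434, 15200]⟩) (.leaf ⟨0, 0, 0, 0, 0, 0, 0, 0, 0, 0, []⟩)))))) (.node (.node (.node (.node (.node (.leaf ⟨4, 5, 5, 1, 0, (-1), 0, 38, 4, 4, [8, 7, 586, 6, 8]⟩) (.leaf ⟨0, 2781, 2734, 0, 0, 0, 0, 7, 0, 2734, [16541, 1129, 16866]⟩)) (.node (.leaf ⟨5, 207, 1554, 0, 0, 0, 0, 46, 2, 206, [1496, 1495, 8768]⟩) (.leaf ⟨3, 4230, 4230, 1, 0, 1, 0, 36, 0, 4230, [25159, 3880, 25158]⟩))) (.node (.node (.leaf ⟨8, 600, 451, 0, 0, 0, 0, 34, 3, 600, [3255, 4682, 2396]⟩) (.leaf ⟨4, 3539, 3540, 0, 0, 0, 0, 93, 0, 0, []⟩)) (.node (.leaf ⟨8, 2213, 2207, 0, 0, 0, 0, 62, 0, 2207, [12821, 12873, 12874]⟩) (.leaf ⟨3, 1722, 1573, 0, 0, 0, 0, 31, 0, 1573, [8899, 10132, 10142]⟩)))) (.node (.node (.node (.leaf ⟨2, 502, 482, 0, 0,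 0, 0, 23, 0, 482, [2515, 2635, 2614]⟩) (.leaf ⟨9, 3126, 3127, 0, 0, 0, 0, 93, 0, 0, []⟩)) (.node (.leaf ⟨1, 1803, 1813, 0, 0, 0, 0, 93, 0, 0, []⟩) (.leaf ⟨9, 4589, 4580, 0, 0, 0, 0, 53, 3, 4589, [27197, 27211, 27170]⟩))) (.node (.node (.leaf ⟨9, 1074, 1059, 0, 0, 0, 0, 53, 3, 1074, [6725, 6730, 6666]⟩) (.leaf ⟨2, 3877, 3820, 0, 0, 0, 0, 26, 0, 3820, [22835, 23115, 23094]⟩)) (.node (.leaf ⟨7, 2481, 2482, 0, 0, 0, 0, 93, 0, 0, []⟩) (.leaf ⟨7, 2423, 2423, (-1), 0, (-1), 0, 16, 3, 2423, [14281, 9336, 14280]⟩))))) (.node (.node (.node (.node (.leaf ⟨5, 249, 250, 0, 0, 0, 0, 93, 0, 0, []⟩) (.leaf ⟨7, 2947, 2948, 0, 0, 0, 0, 93, 0, 0, []⟩)) (.node (.leaf ⟨0, 1673, 1385, 0, 0, 0, 0, 5, 0, 1385, [8077, 9803, 9790]⟩) (.leaf ⟨5, 4423, 4424, 0, 0, 0, 0, 93, 0, 0, []⟩))) (.node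 (.node (.leaf ⟨11, 878, 878, 1, 0, (-1), 0, 44, 3, 878, [5575, 5706, 5574]⟩) (.leaf ⟨7, 3711, 3741, 0, 0, 0, 0, 93, 0, 0, []⟩)) (.node (.leaf ⟨4, 2241, 1778, 0, 0, 0, 0, 43, 0, 1778, [10621, 13899, 12982]⟩) (.leaf ⟨8, 2123, 631, 0, 0, 0, 0, 47, 3, 2123, [12317, 12315, 3502]⟩)))) (.node (.node (.node (.leaf ⟨11, 657, 659, 0, 0, 0, 0, 93, 0, 0, []⟩) (.leaf ⟨7, 825, 3317, 0, 0, 0, 0, 93, 0, 0, []⟩)) (.node (.leaf ⟨9, 1998, 1999, 0, 0, 0, 0, 93, 0, 0, []⟩) (.leaf ⟨1, 4756, 4006, 0, 0, 0, 0, 19, 0, 4006, [23963, 28235, 28200]⟩))) (.node (.node (.leaf ⟨5, 1307, 1316, 0, 0, 0, 0, 46, 0, 1316, [7743, 7755, 7724]⟩) (.leaf ⟨6, 3902, 4033, 0, 0, 0, 0, 54, 0, 4033, [24121, 24139, 23296]⟩)) (.node (.leaf ⟨10, 2656, 2664, 0, 0, 0, 0, 93, 0, 0, []⟩) (.leaf ⟨0, 0, 0, 0, 0, 0, 0,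 0, 0, 0, []⟩))))))

def factsPart39 : ATree TFact :=
  .node (.node (.node (.node (.node (.node (.leaf ⟨5, 39, 40, 0, 0, 0, 0, 93, 0, 0, []⟩) (.leaf ⟨9, 2693, 2714, 0, 0, 0, 0, 53, 3, 2693, [16103, 16458, 16460]⟩)) (.node (.leaf ⟨2, 1070, 1425, 0, 0, 0, 0, 93, 0, 0, []⟩) (.leaf ⟨5, 4123, 4124, 0, 0, 0, 0, 93, 0, 0, []⟩))) (.node (.node (.leaf ⟨4, 689, 600, 0, 0, 0, 0, 30, 5, 689, [4167, 4165, 3998, 3252, 3254]⟩) (.leaf ⟨0, 3393, 3403, 0, 0, 0, 0, 5, 0, 3403, [20533, 20557, 20512]⟩)) (.node (.leaf ⟨10, 2134, 2122, 0, 0, 0, 0, 61, 3, 2134, [12361, 3500, 12314]⟩) (.leaf ⟨3, 2914, 2914, (-1), 0, (-1), 0, 35, 0, 2914, [17793, 28748, 17792]⟩)))) (.node (.node (.node (.leaf ⟨11, 393, 388, 0, 0, 0, 0, 64, 3, 393, [2097, 2124, 2086]⟩) (.leaf ⟨4, 3062, 380, (-21), 0, 1, 0,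 13, 3, 3062, [18509, 17362, 2134]⟩)) (.node (.leaf ⟨5, 1751, 1750, (-3), 0, (-3), 0, 14, 3, 1751, [10317, 4179, 10312]⟩) (.leaf ⟨10, 4496, 4501, 0, 0, 0, 0, 93, 0, 0, []⟩))) (.node (.node (.leaf ⟨10, 984, 985, 0, 0, 0, 0, 93, 0, 0, []⟩) (.leaf ⟨8, 3142, 3795, 0, 0, 0, 0, 93, 0, 0, []⟩)) (.node (.leaf ⟨1, 1665, 2434, 0, 0, 0, 0, 93, 0, 0, []⟩) (.leaf ⟨9, 5111, 5123, 0, 0, 0, 0, 53, 3, 5111, [30659, 30794, 30796]⟩))))) (.node (.node (.node (.node (.leaf ⟨2, 130, 130, (-1), 0, (-1), 0, 24, 0, 130, [529, 1100, 528]⟩) (.leaf ⟨10, 2852, 2853, 0, 0, 0, 0, 93, 0, 0, []⟩)) (.node (.leaf ⟨0, 406, 406, 1, 0, 1, 0, 9, 0, 406, [2221, 9292, 2220]⟩) (.leaf ⟨5, 2725, 4049, 0, 0, 0, 0, 23, 3, 2725, [16491, 23814, 24262]⟩))) (.node (.node (.leaf ⟨4, 806, 811, 0, 0, 0, 0, 93, 0, 0,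 []⟩) (.leaf ⟨5, 3672, 3670, 21, 0, 1, 0, 31, 3, 3672, [21575, 21581, 21564]⟩)) (.node (.leaf ⟨7, 2337, 2338, 0, 0, 0, 0, 93, 0, 0, []⟩) (.leaf ⟨5, 4976, 4977, 0, 0, 0, 0, 93, 0, 0, []⟩)))) (.node (.node (.node (.leaf ⟨7, 577, 577, (-1), 0, 1, 0, 51, 5, 577, [3103, 3101, 3148, 3100, 3102]⟩) (.leaf ⟨6, 3213, 3213, (-1), 0, 1, 0, 55, 0, 3213, [19495, 19532, 19494]⟩)) (.node (.leaf ⟨8, 1925, 1926, 0, 0, 0, 0, 93, 0, 0, []⟩) (.leaf ⟨6, 4670, 3846, 0, 0, 0, 0, 39, 3, 4670, [27719, 27724, 22948]⟩))) (.node (.node (.leaf ⟨8, 1171, 54, 0, 0, 0, 0, 34, 3, 1171, [7233, 7244, 138]⟩) (.leaf ⟨7, 3957, 3958, 0, 0, 0, 0, 93, 0, 0, []⟩)) (.node (.leaf ⟨5, 2575, 2537, 0, 0, 0, 0, 23, 3, 2575, [15367, 15436, 15202]⟩) (.leaf ⟨0, 0, 0, 0, 0, 0, 0, 0, 0, 0, []⟩)))))) (.node (.node (.node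 (.node (.node (.leaf ⟨4, 6, 6, (-1), 0, 1, 0, 39, 0, 6, [11, 588, 10]⟩) (.leaf ⟨0, 2786, 2735, 0, 0, 0, 0, 4, 0, 2735, [16543, 16973, 16898]⟩)) (.node (.leaf ⟨6, 1556, 1529, 0, 0, 0, 0, 45, 5, 1556, [8773, 8771, 8781, 1498, 8636]⟩) (.leaf ⟨4, 4230, 4230, 1, 0, 1, 0, 43, 0, 4230, [25159, 3886, 25158]⟩))) (.node (.node (.leaf ⟨8, 683, 452, 0, 0, 0, 0, 61, 0, 452, [2399, 4685, 4118]⟩) (.leaf ⟨3, 3540, 3541, 0, 0, 0, 0, 93, 0, 0, []⟩)) (.node (.leaf ⟨8, 1534, 2214, 0, 0, 0, 0, 93, 0, 0, []⟩) (.leaf ⟨5, 2061, 2465, 0, 0, 0, 0, 38, 5, 2061, [12063, 10125, 10018, 8898, 14826]⟩)))) (.node (.node (.node (.leaf ⟨2, 503, 500, 0, 0, 0, 0, 28, 0, 500, [2601, 2637, 2618]⟩) (.leaf ⟨4, 3124, 3126, 0, 0, 0, 0, 41, 0, 3126, [19019, 3326, 19006]⟩)) (.node (.leaf ⟨7, 1813, 1814, 0,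 0, 0, 0, 93, 0, 0, []⟩) (.leaf ⟨9, 4590, 4581, 0, 0, 0, 0, 48, 3, 4590, [27199, 27212, 27172]⟩))) (.node (.node (.leaf ⟨9, 1040, 1060, 0, 0, 0, 0, 60, 5, 1040, [6611, 6687, 6726, 6732, 6668]⟩) (.leaf ⟨2, 3878, 3822, 0, 0, 0, 0, 23, 0, 3822, [22843, 23117, 23098]⟩)) (.node (.leaf ⟨7, 2351, 1678, (-17), 0, (-9), 0, 46, 3, 2351, [13505, 9833, 9848]⟩) (.leaf ⟨7, 3174, 3174, 1, 0, 1, 0, 58, 0, 3174, [19287, 31308, 19286]⟩))))) (.node (.node (.node (.node (.leaf ⟨4, 250, 251, 0, 0, 0, 0, 93, 0, 0, []⟩) (.leaf ⟨4, 2948, 2945, 0, 0, 0, 0, 40, 0, 2945, [17985, 17995, 17996]⟩)) (.node (.leaf ⟨0, 1674, 1405, 0, 0, 0, 0, 4, 0, 1405, [8125, 9805, 9792]⟩) (.leaf ⟨4, 4424, 4425, 0, 0, 0, 0, 93, 0, 0, []⟩))) (.node (.node (.leaf ⟨11, 881, 881, 1, 0, 1, 0, 64, 3, 881, [5581, 5708,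 5580]⟩) (.leaf ⟨5, 3741, 3740, 0, 0, 0, 0, 46, 2, 3711, [22092, 21793, 22084]⟩)) (.node (.leaf ⟨4, 2404, 1779, 27, 0, (-1), 0, 38, 4, 2189, [13896, 12713, 12989, 13900, 10624]⟩) (.leaf ⟨8, 633, 2124, 0, 0, 0, 0, 41, 3, 633, [3509, 30285, 12318]⟩)))) (.node (.node (.node (.leaf ⟨7, 659, 660, 0, 0, 0, 0, 93, 0, 0, []⟩) (.leaf ⟨5, 3315, 3317, 0, 0, 0, 0, 46, 2, 828, [20040, 5293, 20044]⟩)) (.node (.leaf ⟨10, 1999, 2000, 0, 0, 0, 0, 93, 0, 0, []⟩) (.leaf ⟨1, 4757, 4009, 0, 0, 0, 0, 20, 0, 4009, [23973, 28237, 28202]⟩))) (.node (.node (.leaf ⟨4, 1315, 1317, 0, 0, 0, 0, 93, 0, 0, []⟩) (.leaf ⟨7, 4033, 4035, 0, 0, 0, 0, 93, 0, 0, []⟩)) (.node (.leaf ⟨10, 2111, 2665, 0, 0, 0, 0, 93, 0, 0, []⟩) (.leaf ⟨0, 0, 0, 0, 0, 0, 0, 0, 0, 0, []⟩))))))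

def factsPart40 : ATree TFact :=
  .node (.node (.node (.node (.node (.node (.leaf ⟨7, 40, 41, 0, 0, 0, 0, 93, 0, 0, []⟩) (.leaf ⟨10, 2639, 2714, (-147), 0, 13, 0, 63, 3, 2639, [16095, 16449, 16462]⟩)) (.node (.leaf ⟨10, 1425, 1426, 0, 0, 0, 0, 93, 0, 0, []⟩) (.leaf ⟨6, 4124, 4125, 0, 0, 0, 0, 93, 0, 0, []⟩))) (.node (.node (.leaf ⟨4, 690, 601, 0, 0, 0, 0, 22, 3, 690, [4169, 4174, 3256]⟩) (.leaf ⟨0, 3394, 3404, 0, 0, 0, 0, 4, 0, 3404, [20535, 20559, 20514]⟩)) (.node (.leaf ⟨5, 2136, 2133, 0, 0, 0, 0, 49, 4, 2135, [12364, 12363, 12366, 12316, 12356]⟩) (.leaf ⟨3, 4836, 4836, 1, 0, 1, 0, 33, 0, 4836, [28743, 28750, 28742]⟩)))) (.node (.node (.node (.leaf ⟨2, 388, 391, (-21), 0, (-1), 0, 29, 0, 391, [2093, 2109, 2126]⟩) (.leaf ⟨4, 402, 3063, 21, 0, (-1), 0, 43, 0, 3063,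 [18501, 18510, 2186]⟩)) (.node (.leaf ⟨2, 1748, 1751, 0, 0, 0, 0, 11, 5, 1748, [10309, 8271, 8892, 3256, 10316]⟩) (.leaf ⟨3, 4498, 4501, 0, 0, 0, 0, 36, 2, 4497, [26672, 26671, 26702]⟩))) (.node (.node (.leaf ⟨3, 981, 969, 0, 0, 0, 0, 35, 2, 438, [6214, 2349, 6156]⟩) (.leaf ⟨5, 3794, 3795, 0, 0, 0, 0, 47, 0, 3795, [22607, 19121, 22602]⟩)) (.node (.leaf ⟨0, 2434, 2435, 0, 0, 0, 0, 93, 0, 0, []⟩) (.leaf ⟨2, 5102, 5123, (-53), 0, 31, 0, 27, 2, 5106, [30642, 30781, 30798]⟩))))) (.node (.node (.node (.node (.leaf ⟨3, 129, 129, (-1), 0, 1, 0, 33, 0, 129, [527, 944, 526]⟩) (.leaf ⟨7, 2853, 2854, 0, 0, 0, 0, 93, 0, 0, []⟩)) (.node (.leaf ⟨0, 432, 432, (-1), 0, (-1), 0, 4, 0, 432, [2337, 9294, 2336]⟩) (.leaf ⟨9, 2725, 4336, 0, 0, 0, 0, 93, 0, 0, []⟩))) (.node (.node (.leaf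 ⟨7, 802, 812, 0, 0, 0, 0, 93, 0, 0, []⟩) (.leaf ⟨8, 3661, 3040, 0, 0, 0, 0, 47, 3, 3661, [21547, 21545, 18382]⟩)) (.node (.leaf ⟨6, 2338, 2339, 0, 0, 0, 0, 93, 0, 0, []⟩) (.leaf ⟨4, 4977, 4978, 0, 0, 0, 0, 93, 0, 0, []⟩)))) (.node (.node (.node (.leaf ⟨7, 578, 578, (-1), 0, (-1), 0, 46, 3, 578, [3105, 3150, 3104]⟩) (.leaf ⟨7, 3215, 3215, (-1), 0, 1, 0, 51, 5, 3215, [19499, 19497, 19534, 19496, 19498]⟩)) (.node (.leaf ⟨5, 1926, 1927, 0, 0, 0, 0, 93, 0, 0, []⟩) (.leaf ⟨6, 4671, 4664, 0, 0, 0, 0, 32, 3, 4671, [27721, 27726, 27670]⟩))) (.node (.node (.leaf ⟨8, 1172, 55, 0, 0, 0, 0, 61, 0, 55, [141, 7247, 7234]⟩) (.leaf ⟨6, 3958, 3959, 0, 0, 0, 0, 93, 0, 0, []⟩)) (.node (.leaf ⟨5, 2576, 2583, 0, 0, 0, 0, 14, 3, 2576, [15369, 15438, 15424]⟩) (.leaf ⟨0, 0, 0, 0, 0, 0, 0,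 0, 0, 0, []⟩)))))) (.node (.node (.node (.node (.node (.leaf ⟨4, 69, 69, (-1), 0, (-1), 0, 3, 3, 69, [275, 590, 274]⟩) (.leaf ⟨0, 2787, 2736, 0, 0, 0, 0, 8, 0, 2736, [16545, 16975, 16900]⟩)) (.node (.leaf ⟨6, 1557, 1530, 0, 0, 0, 0, 39, 3, 1557, [8775, 8782, 8638]⟩) (.leaf ⟨5, 4230, 4230, 1, 0, 1, 0, 49, 4, 674, [25158, 3869, 15642, 3868, 25158]⟩))) (.node (.node (.leaf ⟨8, 743, 453, 0, 0, 0, 0, 47, 3, 743, [4623, 4686, 2400]⟩) (.leaf ⟨7, 3541, 3542, 0, 0, 0, 0, 93, 0, 0, []⟩)) (.node (.leaf ⟨6, 1994, 2214, 0, 0, 0, 0, 52, 2, 1535, [11842, 8649, 12878]⟩) (.leaf ⟨11, 2061, 3453, 0, 0, 0, 0, 44, 3, 2061, [12063, 10131, 20724]⟩)))) (.node (.node (.node (.leaf ⟨1, 266, 395, 0, 0, 0, 0, 12, 0, 395, [2159, 1955, 1692]⟩) (.leaf ⟨4, 3125, 3127, 0, 0, 0, 0, 42, 0, 3127, [19021,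 19023, 19010]⟩)) (.node (.leaf ⟨1, 1814, 1812, 0, 0, 0, 0, 16, 2, 1813, [10830, 10829, 10824]⟩) (.leaf ⟨9, 4591, 4582, 0, 0, 0, 0, 42, 3, 4591, [27201, 27214, 27174]⟩))) (.node (.node (.leaf ⟨9, 1041, 1061, 0, 0, 0, 0, 48, 3, 1041, [6613, 6734, 6670]⟩) (.leaf ⟨2, 3879, 3823, 0, 0, 0, 0, 25, 0, 3823, [22845, 23119, 23102]⟩)) (.node (.leaf ⟨8, 2470, 511, 0, 0, 0, 0, 47, 3, 2470, [14891, 14889, 2668]⟩) (.leaf ⟨8, 3163, 3163, 1, 0, 1, 0, 56, 5, 3163, [19259, 19293, 31310, 19292, 19258]⟩))))) (.node (.node (.node (.node (.leaf ⟨3, 251, 252, 0, 0, 0, 0, 93, 0, 0, []⟩) (.leaf ⟨6, 2948, 2949, 0, 0, 0, 0, 93, 0, 0, []⟩)) (.node (.leaf ⟨0, 1675, 1406, 0, 0, 0, 0, 3, 0, 1406, [8127, 9807, 9794]⟩) (.leaf ⟨3, 4425, 4426, 0, 0, 0, 0, 93, 0, 0, []⟩))) (.node (.node (.leaf ⟨11,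 896, 896, 1, 0, (-1), 0, 59, 3, 896, [5693, 5710, 5692]⟩) (.leaf ⟨4, 3713, 3741, 0, 0, 0, 0, 40, 2, 3712, [21796, 21795, 22092]⟩)) (.node (.leaf ⟨8, 2189, 2402, 0, 0, 0, 0, 62, 0, 2402, [13887, 8287, 12676]⟩) (.leaf ⟨8, 635, 2125, 0, 0, 0, 0, 34, 3, 635, [3515, 30286, 12320]⟩)))) (.node (.node (.node (.leaf ⟨11, 660, 658, 0, 0, 0, 0, 59, 3, 660, [3663, 3661, 3658]⟩) (.leaf ⟨6, 3317, 3317, 1, 0, (-1), 0, 51, 0, 3317, [20045, 5304, 5858, 5305, 20044]⟩)) (.node (.leaf ⟨5, 2000, 2001, 0, 0, 0, 0, 93, 0, 0, []⟩) (.leaf ⟨1, 4758, 4010, 0, 0, 0, 0, 16, 0, 4010, [23975, 28239, 28204]⟩))) (.node (.node (.leaf ⟨7, 1317, 1318, 0, 0, 0, 0, 93, 0, 0, []⟩) (.leaf ⟨6, 4035, 4036, 0, 0, 0, 0, 93, 0, 0, []⟩)) (.node (.leaf ⟨10, 772, 2666, 0, 0, 0, 0, 93, 0, 0, []⟩) (.leaf ⟨0, 0,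 0, 0, 0, 0, 0, 0, 0, 0, []⟩))))))

def factsPart41 : ATree TFact :=
  .node (.node (.node (.node (.node (.node (.leaf ⟨6, 41, 42, 0, 0, 0, 0, 93, 0, 0, []⟩) (.leaf ⟨7, 2714, 2715, 0, 0, 0, 0, 93, 0, 0, []⟩)) (.node (.leaf ⟨7, 1422, 1425, 0, 0, 0, 0, 25, 3, 1422, [8259, 6706, 8270]⟩) (.leaf ⟨7, 4125, 4126, 0, 0, 0, 0, 93, 0, 0, []⟩))) (.node (.node (.leaf ⟨5, 645, 601, 3, 0, 3, 0, 66, 39, 605, [3288, 3295, 3307, 3325, 3334, 3350, 3366, 3357, 3380, 3390, 3394, 3427, 3442, 3450, 3452, 3474, 3490, 3506, 3513, 3519, 3525, 3523, 3536, 3560, 3584, 3600, 3646, 3652, 4097, 4101, 4104, 4067, 2978, 3019, 3040, 4112, 4116, 3264, 3258, 4120, 4124, 4126, 4128, 4136, 2827, 2605, 4138, 2617, 4140, 4146, 4149, 4154, 4156, 4158, 4077, 4160, 4072, 4100, 3994, 3991, 4162, 4173, 4176]⟩)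 (.leaf ⟨7, 2652, 3405, 0, 0, 0, 0, 93, 0, 0, []⟩)) (.node (.leaf ⟨11, 189, 2137, 0, 0, 0, 0, 93, 0, 0, []⟩) (.leaf ⟨1, 212, 212, 1, 0, 1, 0, 12, 0, 212, [1507, 20368, 1506]⟩)))) (.node (.node (.node (.leaf ⟨1, 389, 378, 0, 0, 0, 0, 18, 0, 378, [2057, 1203, 2088]⟩) (.leaf ⟨5, 3057, 420, (-21), 0, (-1), 0, 38, 5, 3057, [18487, 18503, 18513, 2256, 2274]⟩)) (.node (.leaf ⟨5, 1645, 1748, 3, 0, 3, 0, 23, 3, 1645, [10314, 10319, 10321]⟩) (.leaf ⟨5, 4501, 4502, 0, 0, 0, 0, 93, 0, 0, []⟩))) (.node (.node (.leaf ⟨3, 970, 982, 0, 0, 0, 0, 33, 0, 982, [6217, 6224, 6160]⟩) (.leaf ⟨4, 3141, 961, 0, 0, 0, 0, 42, 2, 3140, [19110, 19109, 6110]⟩)) (.node (.leaf ⟨6, 2434, 2237, 0, 0, 0, 0, 15, 3, 2434, [14415, 9756, 12962]⟩) (.leaf ⟨11, 1107, 5124, 0, 0, 0, 0, 93, 0, 0, []⟩))))) (.node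 (.node (.node (.node (.leaf ⟨3, 130, 130, 1, 0, (-1), 0, 32, 0, 130, [529, 1104, 528]⟩) (.leaf ⟨6, 2854, 2855, 0, 0, 0, 0, 93, 0, 0, []⟩)) (.node (.leaf ⟨0, 445, 445, 1, 0, 1, 0, 5, 0, 445, [2385, 9296, 2384]⟩) (.leaf ⟨5, 4336, 4050, 0, 0, 0, 0, 48, 0, 4050, [24269, 25679, 25680]⟩))) (.node (.node (.leaf ⟨6, 812, 813, 0, 0, 0, 0, 93, 0, 0, []⟩) (.leaf ⟨8, 3671, 3662, 0, 0, 0, 0, 41, 3, 3671, [21573, 21585, 21548]⟩)) (.node (.leaf ⟨4, 1769, 2340, 0, 0, 0, 0, 93, 0, 0, []⟩) (.leaf ⟨8, 1684, 4963, 0, 0, 0, 0, 61, 0, 4963, [29735, 28669, 9878]⟩)))) (.node (.node (.node (.leaf ⟨7, 579, 579, (-1), 0, 1, 0, 40, 3, 579, [3107, 3152, 3106]⟩) (.leaf ⟨7, 3216, 3216, (-1), 0, (-1), 0, 46, 3, 3216, [19501, 19536, 19500]⟩)) (.node (.leaf ⟨4, 1927, 1928, 0, 0, 0, 0, 93, 0, 0, []⟩)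 (.leaf ⟨6, 4672, 4666, 0, 0, 0, 0, 24, 3, 4672, [27723, 27728, 27682]⟩))) (.node (.node (.leaf ⟨8, 1173, 56, 0, 0, 0, 0, 62, 0, 56, [143, 7249, 7236]⟩) (.leaf ⟨5, 3959, 3960, 0, 0, 0, 0, 93, 0, 0, []⟩)) (.node (.leaf ⟨5, 2577, 2584, 0, 0, 0, 0, 48, 0, 2584, [15427, 15441, 15370]⟩) (.leaf ⟨0, 0, 0, 0, 0, 0, 0, 0, 0, 0, []⟩)))))) (.node (.node (.node (.node (.node (.leaf ⟨4, 111, 111, 1, 0, 1, 0, 43, 0, 111, [471, 592, 470]⟩) (.leaf ⟨0, 2788, 2757, 0, 0, 0, 0, 6, 0, 2757, [16699, 16977, 16902]⟩)) (.node (.leaf ⟨6, 1558, 1531, 0, 0, 0, 0, 32, 3, 1558, [8777, 8784, 8640]⟩) (.leaf ⟨6, 4230, 4230, (-15), 0, 9, 0, 54, 2, 674, [25158, 25154, 25158]⟩))) (.node (.node (.leaf ⟨8, 744, 454, 0, 0, 0, 0, 41, 3, 744, [4627, 4688, 2402]⟩) (.leaf ⟨6, 3542, 3543, 0, 0, 0, 0, 93, 0,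 0, []⟩)) (.node (.leaf ⟨5, 2214, 2214, 1, 0, (-1), 0, 47, 0, 2214, [12879, 8672, 12878]⟩) (.leaf ⟨5, 1742, 1742, (-1), 0, (-1), 0, 14, 3, 1742, [10249, 14086, 10248]⟩)))) (.node (.node (.node (.leaf ⟨1, 267, 406, 0, 0, 0, 0, 19, 0, 406, [2221, 2641, 1694]⟩) (.leaf ⟨5, 3126, 3126, (-1), 0, 1, 0, 47, 0, 3126, [19019, 4950, 19018]⟩)) (.node (.leaf ⟨2, 54, 1815, 0, 0, 0, 0, 93, 0, 0, []⟩) (.leaf ⟨6, 4563, 4582, 3, 0, (-3), 0, 53, 2, 4587, [27192, 27209, 27216]⟩))) (.node (.node (.leaf ⟨9, 1042, 1062, 0, 0, 0, 0, 42, 3, 1042, [6615, 6736, 6672]⟩) (.leaf ⟨2, 3880, 3824, 0, 0, 0, 0, 24, 0, 3824, [22849, 23121, 23106]⟩)) (.node (.leaf ⟨8, 1667, 2471, 0, 0, 0, 0, 41, 3, 1667, [9775, 14929, 14892]⟩) (.leaf ⟨9, 5188, 5188, 1, 0, 1, 0, 60, 5, 5188, [31295, 19271, 31312, 19270,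 31294]⟩))))) (.node (.node (.node (.node (.leaf ⟨2, 252, 253, 0, 0, 0, 0, 93, 0, 0, []⟩) (.leaf ⟨4, 2949, 2946, 0, 0, 0, 0, 39, 0, 2946, [17989, 17999, 18000]⟩)) (.node (.leaf ⟨0, 1676, 1407, 0, 0, 0, 0, 2, 0, 1407, [8129, 9809, 9796]⟩) (.leaf ⟨2, 4426, 4427, 0, 0, 0, 0, 93, 0, 0, []⟩))) (.node (.node (.leaf ⟨7, 882, 897, 0, 0, 0, 0, 93, 0, 0, []⟩) (.leaf ⟨5, 3709, 3742, 0, 0, 0, 0, 93, 0, 0, []⟩)) (.node (.leaf ⟨8, 2404, 2403, 0, 0, 0, 0, 47, 3, 2404, [13897, 13904, 13888]⟩) (.leaf ⟨8, 637, 3289, 0, 0, 0, 0, 26, 3, 637, [3521, 30288, 19866]⟩)))) (.node (.node (.node (.leaf ⟨11, 656, 656, 1, 0, (-1), 0, 44, 3, 656, [3655, 2960, 3654]⟩) (.leaf ⟨5, 3316, 3316, (-1), 0, (-1), 0, 45, 0, 3316, [20043, 20046, 20048, 20047, 20042]⟩)) (.node (.leaf ⟨4, 2001, 2002, 0, 0,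 0, 0, 93, 0, 0, []⟩) (.leaf ⟨1, 4759, 4764, 0, 0, 0, 0, 15, 0, 4764, [28219, 28241, 28206]⟩))) (.node (.node (.leaf ⟨4, 1318, 1316, 0, 0, 0, 0, 40, 2, 1317, [7760, 7759, 7742]⟩) (.leaf ⟨7, 4029, 4036, 0, 0, 0, 0, 51, 5, 4029, [24113, 24093, 24140, 24142, 24144]⟩)) (.node (.leaf ⟨8, 2415, 2666, 0, 0, 0, 0, 61, 0, 2666, [15953, 5096, 14122]⟩) (.leaf ⟨0, 0, 0, 0, 0, 0, 0, 0, 0, 0, []⟩))))))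

def factsPart42 : ATree TFact :=
  .node (.node (.node (.node (.node (.node (.leaf ⟨8, 42, 43, 0, 0, 0, 0, 93, 0, 0, []⟩) (.leaf ⟨6, 2715, 2716, 0, 0, 0, 0, 93, 0, 0, []⟩)) (.node (.leaf ⟨7, 1423, 1426, 0, 0, 0, 0, 58, 0, 1426, [8273, 8275, 8260]⟩) (.leaf ⟨7, 2656, 4127, 0, 0, 0, 0, 93, 0, 0, []⟩))) (.node (.node (.leaf ⟨10, 645, 691, 0, 0, 0, 0, 93, 0, 0, []⟩) (.leaf ⟨6, 3405, 3406, 0, 0, 0, 0, 93, 0, 0, []⟩)) (.node (.leaf ⟨8, 617, 2137, 0, 0, 0, 0, 62, 0, 2137, [12371, 1319, 3352]⟩) (.leaf ⟨2, 2913, 2913, 1, 0, 1, 0, 11, 5, 2913, [17787, 1509, 28754, 1508, 17786]⟩)))) (.node (.node (.node (.leaf ⟨1, 390, 379, 0, 0, 0, 0, 19, 0, 379, [2059, 2131, 2090]⟩) (.leaf ⟨11, 974, 3064, 0, 0, 0, 0, 93, 0, 0, []⟩)) (.node (.leaf ⟨5, 1749, 1646, (-3), 0, (-3), 0, 4, 3, 1749,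 [10311, 10323, 9576]⟩) (.leaf ⟨3, 4502, 4499, 0, 0, 0, 0, 31, 0, 4499, [26693, 26704, 26706]⟩))) (.node (.node (.leaf ⟨3, 971, 983, 0, 0, 0, 0, 32, 0, 983, [6219, 6227, 6162]⟩) (.leaf ⟨4, 962, 3142, 0, 0, 0, 0, 40, 0, 3142, [19113, 22610, 6114]⟩)) (.node (.leaf ⟨6, 2435, 2238, 0, 0, 0, 0, 5, 3, 2435, [14417, 14418, 12964]⟩) (.leaf ⟨5, 5124, 5125, 0, 0, 0, 0, 93, 0, 0, []⟩))))) (.node (.node (.node (.node (.leaf ⟨2, 167, 167, 1, 0, 1, 0, 24, 0, 167, [967, 958, 966]⟩) (.leaf ⟨3, 2852, 2844, 0, 0, 0, 0, 35, 2, 2245, [17484, 13029, 17436]⟩)) (.node (.leaf ⟨0, 446, 446, (-1), 0, (-1), 0, 6, 0, 446, [2387, 9298, 2386]⟩) (.leaf ⟨10, 2725, 2725, (-1), 0, (-1), 0, 28, 3, 2725, [16491, 25448, 16490]⟩))) (.node (.node (.leaf ⟨11, 804, 812, 0, 0, 0, 0, 59, 3, 804, [5143, 5141,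 5200]⟩) (.leaf ⟨8, 3672, 3663, 0, 0, 0, 0, 34, 3, 3672, [21575, 21586, 21550]⟩)) (.node (.leaf ⟨8, 1769, 2332, 0, 0, 0, 0, 52, 3, 1769, [10557, 8268, 13378]⟩) (.leaf ⟨8, 4976, 4964, 0, 0, 0, 0, 62, 0, 4964, [29737, 29779, 29772]⟩)))) (.node (.node (.node (.leaf ⟨7, 580, 580, (-1), 0, (-1), 0, 33, 3, 580, [3109, 3154, 3108]⟩) (.leaf ⟨7, 3217, 3217, (-1), 0, 1, 0, 40, 3, 3217, [19503, 19538, 19502]⟩)) (.node (.leaf ⟨3, 1928, 1929, 0, 0, 0, 0, 93, 0, 0, []⟩) (.leaf ⟨10, 4672, 4673, 0, 0, 0, 0, 93, 0, 0, []⟩))) (.node (.node (.leaf ⟨8, 1174, 57, 0, 0, 0, 0, 47, 3, 1174, [7239, 7250, 144]⟩) (.leaf ⟨10, 3960, 3961, 0, 0, 0, 0, 93, 0, 0, []⟩)) (.node (.leaf ⟨5, 2578, 2585, 0, 0, 0, 0, 4, 3, 2578, [15373, 15442, 15428]⟩) (.leaf ⟨0, 0, 0, 0, 0, 0, 0, 0, 0, 0, []⟩)))))) (.node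 (.node (.node (.node (.node (.leaf ⟨4, 133, 133, (-1), 0, (-1), 0, 40, 0, 133, [577, 594, 576]⟩) (.leaf ⟨6, 2788, 2794, 0, 0, 0, 0, 93, 0, 0, []⟩)) (.node (.leaf ⟨6, 1559, 1550, 0, 0, 0, 0, 24, 3, 1559, [8779, 8786, 8752]⟩) (.leaf ⟨7, 4230, 4230, (-1), 0, 1, 0, 58, 0, 4230, [25159, 25156, 25158]⟩))) (.node (.node (.leaf ⟨5, 466, 454, 7, 0, (-5), 0, 47, 2, 464, [2444, 4679, 4690]⟩) (.leaf ⟨5, 3543, 3544, 0, 0, 0, 0, 93, 0, 0, []⟩)) (.node (.leaf ⟨6, 1995, 1995, 1, 0, (-1), 0, 45, 5, 1995, [11845, 12880, 12882, 12881, 11844]⟩) (.leaf ⟨3, 1737, 1737, (-1), 0, (-1), 0, 36, 2, 1738, [10213, 16398, 10213]⟩)))) (.node (.node (.node (.leaf ⟨1, 268, 432, 0, 0, 0, 0, 14, 0, 432, [2337, 2643, 1696]⟩) (.leaf ⟨5, 3127, 3127, 1, 0, (-1), 0, 48, 0, 3127, [19021, 19026, 19020]⟩))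 (.node (.leaf ⟨1, 1815, 1816, 0, 0, 0, 0, 93, 0, 0, []⟩) (.leaf ⟨6, 4583, 4578, (-3), 0, 3, 0, 54, 2, 4582, [27176, 27219, 27158]⟩))) (.node (.node (.leaf ⟨9, 1045, 1063, 0, 0, 0, 0, 63, 0, 1063, [6675, 6739, 6634]⟩) (.leaf ⟨8, 958, 3881, 0, 0, 0, 0, 93, 0, 0, []⟩)) (.node (.leaf ⟨8, 1668, 2472, 0, 0, 0, 0, 34, 3, 1668, [9779, 14930, 14894]⟩) (.leaf ⟨6, 3158, 3166, 27, 0, 1, 0, 53, 2, 3171, [19312, 19305, 19267]⟩))))) (.node (.node (.node (.node (.leaf ⟨9, 253, 254, 0, 0, 0, 0, 93, 0, 0, []⟩) (.leaf ⟨5, 2949, 2950, 0, 0, 0, 0, 93, 0, 0, []⟩)) (.node (.leaf ⟨0, 1677, 1415, 0, 0, 0, 0, 9, 0, 1415, [8157, 9811, 9798]⟩) (.leaf ⟨10, 4427, 4428, 0, 0, 0, 0, 93, 0, 0, []⟩))) (.node (.node (.leaf ⟨10, 897, 896, 0, 0, 0, 0, 58, 3, 897, [5715, 5583, 5692]⟩) (.leaf ⟨4, 3742,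 3743, 0, 0, 0, 0, 93, 0, 0, []⟩)) (.node (.leaf ⟨4, 2372, 2403, (-27), 0, 1, 0, 41, 2, 1779, [13894, 13903, 13906]⟩) (.leaf ⟨8, 5042, 4718, 0, 0, 0, 0, 17, 3, 5042, [30281, 30290, 28038]⟩)))) (.node (.node (.node (.leaf ⟨10, 659, 659, 1, 0, (-1), 0, 65, 4, 657, [3660, 3657, 3666, 3656, 3660]⟩) (.leaf ⟨7, 853, 3318, 0, 0, 0, 0, 93, 0, 0, []⟩)) (.node (.leaf ⟨7, 2002, 2003, 0, 0, 0, 0, 93, 0, 0, []⟩) (.leaf ⟨1, 4760, 4765, 0, 0, 0, 0, 14, 0, 4765, [28221, 28243, 28208]⟩))) (.node (.node (.leaf ⟨3, 289, 1319, 0, 0, 0, 0, 93, 0, 0, []⟩) (.leaf ⟨5, 4036, 4037, 0, 0, 0, 0, 93, 0, 0, []⟩)) (.node (.leaf ⟨4, 399, 2667, 0, 0, 0, 0, 93, 0, 0, []⟩) (.leaf ⟨0, 0, 0, 0, 0, 0, 0, 0, 0, 0, []⟩))))))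

def factsPart43 : ATree TFact :=
  .node (.node (.node (.node (.node (.node (.leaf ⟨5, 43, 44, 0, 0, 0, 0, 93, 0, 0, []⟩) (.leaf ⟨5, 2716, 2717, 0, 0, 0, 0, 93, 0, 0, []⟩)) (.node (.leaf ⟨5, 1426, 1427, 0, 0, 0, 0, 93, 0, 0, []⟩) (.leaf ⟨6, 4127, 4128, 0, 0, 0, 0, 93, 0, 0, []⟩))) (.node (.node (.leaf ⟨5, 691, 692, 0, 0, 0, 0, 93, 0, 0, []⟩) (.leaf ⟨8, 3406, 3407, 0, 0, 0, 0, 93, 0, 0, []⟩)) (.node (.leaf ⟨8, 2135, 622, 0, 0, 0, 0, 47, 3, 2135, [12363, 12361, 3402]⟩) (.leaf ⟨2, 2914, 2914, (-1), 0, (-1), 0, 27, 0, 2914, [17793, 28756, 17792]⟩)))) (.node (.node (.node (.leaf ⟨1, 391, 380, 0, 0, 0, 0, 20, 0, 380, [2061, 2133, 2092]⟩) (.leaf ⟨6, 419, 974, 0, 0, 0, 0, 54, 0, 974, [6173, 6159, 2264]⟩)) (.node (.leaf ⟨1, 1160, 1752, 0, 0, 0, 0, 93, 0, 0, []⟩) (.leaf ⟨6,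 4502, 4503, 0, 0, 0, 0, 93, 0, 0, []⟩))) (.node (.node (.leaf ⟨3, 972, 984, 0, 0, 0, 0, 31, 0, 984, [6221, 6229, 6166]⟩) (.leaf ⟨8, 962, 3796, 0, 0, 0, 0, 93, 0, 0, []⟩)) (.node (.leaf ⟨1, 1774, 2436, 0, 0, 0, 0, 93, 0, 0, []⟩) (.leaf ⟨6, 5125, 5126, 0, 0, 0, 0, 93, 0, 0, []⟩))))) (.node (.node (.node (.node (.leaf ⟨2, 168, 168, (-1), 0, (-1), 0, 23, 0, 168, [995, 1108, 994]⟩) (.leaf ⟨3, 2849, 2853, 0, 0, 0, 0, 36, 0, 2853, [17487, 17492, 17460]⟩)) (.node (.leaf ⟨0, 447, 447, 1, 0, 1, 0, 5, 0, 447, [2389, 9300, 2388]⟩) (.leaf ⟨10, 4336, 4336, (-1), 0, 1, 0, 63, 3, 4336, [25681, 25684, 25680]⟩))) (.node (.node (.leaf ⟨11, 813, 805, 0, 0, 0, 0, 55, 3, 813, [5203, 5205, 5144]⟩) (.leaf ⟨5, 3655, 3663, (-21), 0, (-1), 0, 47, 2, 3670, [21570, 21583, 21588]⟩)) (.node (.leaf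 ⟨8, 2340, 2333, 0, 0, 0, 0, 41, 3, 2340, [13395, 13396, 13380]⟩) (.leaf ⟨8, 4977, 4965, 0, 0, 0, 0, 47, 3, 4977, [29775, 29780, 29738]⟩)))) (.node (.node (.node (.leaf ⟨5, 576, 576, (-1), 0, (-1), 0, 46, 0, 576, [3101, 2802, 3100]⟩) (.leaf ⟨7, 3218, 3218, 1, 0, (-1), 0, 58, 0, 3218, [19505, 19540, 19504]⟩)) (.node (.leaf ⟨8, 294, 1930, 0, 0, 0, 0, 93, 0, 0, []⟩) (.leaf ⟨6, 4673, 4667, 0, 0, 0, 0, 54, 0, 4667, [27685, 27731, 27732]⟩))) (.node (.node (.leaf ⟨8, 1175, 62, 0, 0, 0, 0, 41, 3, 1175, [7241, 7252, 168]⟩) (.leaf ⟨3, 3958, 3863, 0, 0, 0, 0, 33, 2, 3957, [23630, 23629, 23048]⟩)) (.node (.leaf ⟨5, 2579, 2586, 0, 0, 0, 0, 46, 0, 2586, [15431, 15445, 15374]⟩) (.leaf ⟨0, 0, 0, 0, 0, 0, 0, 0, 0, 0, []⟩)))))) (.node (.node (.node (.node (.node (.leaf ⟨4, 0, 0, 1,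 0, 1, 0, 84, 0, 0, []⟩) (.leaf ⟨0, 2794, 2758, 0, 0, 0, 0, 5, 0, 2758, [16701, 16979, 16980]⟩)) (.node (.leaf ⟨10, 1559, 1560, 0, 0, 0, 0, 93, 0, 0, []⟩) (.leaf ⟨2, 660, 660, 1, 0, 1, 0, 25, 0, 660, [3663, 14060, 3662]⟩))) (.node (.node (.leaf ⟨9, 441, 465, 0, 0, 0, 0, 63, 2, 440, [2354, 2353, 2430]⟩) (.leaf ⟨10, 3544, 3545, 0, 0, 0, 0, 93, 0, 0, []⟩)) (.node (.leaf ⟨6, 1996, 1996, 1, 0, 1, 0, 39, 3, 1996, [11847, 12884, 11846]⟩) (.leaf ⟨7, 1750, 2619, 3, 0, (-3), 0, 46, 3, 1750, [10319, 20685, 15604]⟩)))) (.node (.node (.node (.leaf ⟨1, 269, 433, 0, 0, 0, 0, 16, 0, 433, [2339, 2645, 1698]⟩) (.leaf ⟨9, 845, 3128, 0, 0, 0, 0, 93, 0, 0, []⟩)) (.node (.leaf ⟨7, 1816, 1817, 0, 0, 0, 0, 93, 0, 0, []⟩) (.leaf ⟨5, 4583, 4592, 0, 0, 0, 0, 93, 0, 0, []⟩))) (.node (.node (.leaf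 ⟨7, 1063, 1075, 0, 0, 0, 0, 93, 0, 0, []⟩) (.leaf ⟨10, 3881, 3820, 0, 0, 0, 0, 61, 3, 3881, [23125, 6100, 22834]⟩)) (.node (.leaf ⟨8, 1670, 2473, 0, 0, 0, 0, 61, 0, 2473, [14897, 14933, 9784]⟩) (.leaf ⟨9, 1996, 5189, 0, 0, 0, 0, 93, 0, 0, []⟩))))) (.node (.node (.node (.node (.leaf ⟨10, 254, 255, 0, 0, 0, 0, 93, 0, 0, []⟩) (.leaf ⟨5, 2947, 2947, 1, 0, (-1), 0, 49, 0, 2947, [17993, 15445, 15396, 15444, 17992]⟩)) (.node (.leaf ⟨0, 305, 506, 0, 0, 0, 0, 1, 0, 506, [2659, 6869, 1788]⟩) (.leaf ⟨7, 4423, 4415, 0, 0, 0, 0, 51, 3, 2672, [26184, 26186, 15977, 26168, 26170]⟩))) (.node (.node (.leaf ⟨5, 882, 898, 0, 0, 0, 0, 93, 0, 0, []⟩) (.leaf ⟨8, 3711, 3742, 0, 0, 0, 0, 47, 3, 3711, [21793, 21791, 22098]⟩)) (.node (.leaf ⟨9, 2372, 1223, 0, 0, 0, 0, 48, 3, 2372, [13727,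 12729, 7438]⟩) (.leaf ⟨8, 5043, 5038, 0, 0, 0, 0, 7, 3, 5043, [30283, 30292, 30264]⟩)))) (.node (.node (.node (.leaf ⟨10, 660, 660, 1, 0, 1, 0, 58, 3, 660, [3663, 3668, 3662]⟩) (.leaf ⟨6, 3318, 3319, 0, 0, 0, 0, 93, 0, 0, []⟩)) (.node (.leaf ⟨6, 2003, 2004, 0, 0, 0, 0, 93, 0, 0, []⟩) (.leaf ⟨1, 4761, 4766, 0, 0, 0, 0, 19, 0, 4766, [28223, 28245, 28210]⟩))) (.node (.node (.leaf ⟨10, 1319, 1320, 0, 0, 0, 0, 93, 0, 0, []⟩) (.leaf ⟨7, 4032, 4038, 0, 0, 0, 0, 93, 0, 0, []⟩)) (.node (.leaf ⟨10, 2667, 2668, 0, 0, 0, 0, 93, 0, 0, []⟩) (.leaf ⟨0, 0, 0, 0, 0, 0, 0, 0, 0, 0, []⟩))))))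

def factsPart44 : ATree TFact :=
  .node (.node (.node (.node (.node (.node (.leaf ⟨4, 44, 45, 0, 0, 0, 0, 93, 0, 0, []⟩) (.leaf ⟨4, 2717, 2718, 0, 0, 0, 0, 93, 0, 0, []⟩)) (.node (.leaf ⟨7, 1424, 1427, 0, 0, 0, 0, 46, 3, 1424, [8263, 8276, 8278]⟩) (.leaf ⟨5, 4128, 4129, 0, 0, 0, 0, 93, 0, 0, []⟩))) (.node (.node (.leaf ⟨10, 603, 692, (-3), 0, 3, 0, 49, 3, 601, [3258, 3268, 4179, 4180, 4182]⟩) (.leaf ⟨5, 3407, 3408, 0, 0, 0, 0, 93, 0, 0, []⟩)) (.node (.leaf ⟨4, 2137, 2135, 21, 0, (-1), 0, 41, 2, 617, [12372, 3427, 12375]⟩) (.leaf ⟨2, 4836, 4836, 1, 0, 1, 0, 25, 0, 4836, [28743, 28758, 28742]⟩)))) (.node (.node (.node (.leaf ⟨1, 383, 383, 1, 0, 1, 0, 16, 0, 383, [2077, 222, 2076]⟩) (.leaf ⟨6, 420, 3064, 0, 0, 0, 0, 55, 0, 3064, [18517, 18519, 2266]⟩)) (.node (.leaf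 ⟨0, 1752, 1753, 0, 0, 0, 0, 93, 0, 0, []⟩) (.leaf ⟨3, 4503, 4500, 0, 0, 0, 0, 32, 0, 4500, [26697, 26709, 26710]⟩))) (.node (.node (.leaf ⟨3, 973, 985, 0, 0, 0, 0, 36, 0, 985, [6223, 6231, 6170]⟩) (.leaf ⟨4, 3796, 3795, 0, 0, 0, 0, 41, 0, 3795, [22607, 22613, 22614]⟩)) (.node (.leaf ⟨0, 2436, 2437, 0, 0, 0, 0, 93, 0, 0, []⟩) (.leaf ⟨3, 1106, 5119, 0, 0, 0, 0, 35, 2, 1105, [6902, 6899, 30782]⟩))))) (.node (.node (.node (.node (.leaf ⟨2, 171, 171, 1, 0, 1, 0, 28, 0, 171, [1057, 1110, 1056]⟩) (.leaf ⟨3, 2850, 2854, 0, 0, 0, 0, 33, 0, 2854, [17489, 17495, 17462]⟩)) (.node (.leaf ⟨0, 532, 532, (-1), 0, (-1), 0, 4, 0, 532, [2819, 9302, 2818]⟩) (.leaf ⟨5, 4059, 4059, 1, 0, 1, 0, 49, 0, 4059, [24325, 25683, 25686, 25682, 24324]⟩))) (.node (.node (.leaf ⟨7, 801, 814, 0, 0,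 0, 0, 93, 0, 0, []⟩) (.leaf ⟨5, 3664, 3656, 21, 0, 1, 0, 46, 2, 3663, [21552, 21591, 21536]⟩)) (.node (.leaf ⟨10, 1785, 2341, 0, 0, 0, 0, 93, 0, 0, []⟩) (.leaf ⟨8, 4978, 4966, 0, 0, 0, 0, 41, 3, 4978, [29777, 29782, 29740]⟩)))) (.node (.node (.node (.leaf ⟨6, 578, 578, (-1), 0, (-1), 0, 45, 5, 578, [3105, 3103, 3158, 3102, 3104]⟩) (.leaf ⟨10, 1465, 1465, (-1), 0, (-1), 0, 61, 3, 1465, [8455, 10092, 8454]⟩)) (.node (.leaf ⟨5, 1930, 1931, 0, 0, 0, 0, 93, 0, 0, []⟩) (.leaf ⟨5, 3537, 4674, 0, 0, 0, 0, 93, 0, 0, []⟩))) (.node (.node (.leaf ⟨6, 40, 1176, 0, 0, 0, 0, 93, 0, 0, []⟩) (.leaf ⟨3, 3864, 3959, 0, 0, 0, 0, 32, 0, 3959, [23633, 23638, 23050]⟩)) (.node (.leaf ⟨9, 2382, 2587, 0, 0, 0, 0, 93, 0, 0, []⟩) (.leaf ⟨0, 0, 0, 0, 0, 0, 0, 0, 0, 0, []⟩)))))) (.node (.node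 (.node (.node (.node (.leaf ⟨4, 1, 1, 1, 0, (-1), 0, 13, 3, 1, [1, 598, 0]⟩) (.leaf ⟨2, 2786, 2786, 1, 0, (-1), 0, 23, 0, 2786, [16899, 16874, 16898]⟩)) (.node (.leaf ⟨6, 1560, 1551, 0, 0, 0, 0, 54, 0, 1551, [8755, 8789, 8790]⟩) (.leaf ⟨3, 660, 660, 1, 0, 1, 0, 33, 0, 660, [3663, 14062, 3662]⟩))) (.node (.node (.leaf ⟨9, 466, 442, 0, 0, 0, 0, 64, 0, 442, [2357, 4694, 2432]⟩) (.leaf ⟨11, 3545, 3546, 0, 0, 0, 0, 93, 0, 0, []⟩)) (.node (.leaf ⟨6, 1997, 1997, 1, 0, (-1), 0, 32, 3, 1997, [11849, 12886, 11848]⟩) (.leaf ⟨10, 3453, 1751, (-71), 0, (-3), 0, 68, 7, 1742, [29228, 10250, 10655, 29231, 29233, 29234, 14581, 29239, 29241, 29031, 9703, 9693, 9704, 9689, 9710, 9687, 9678, 9672, 4311, 928, 942, 487, 934, 940, 483, 479, 475, 1596, 9758, 1598, 8962, 8964, 8978, 29244,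 13522, 9692, 29041, 1056, 1072, 1062, 1068, 1072, 1078, 1115, 927, 3420, 4322, 4288, 9408, 4756, 4747, 10380, 29247, 6692, 16342, 9938, 29140, 29135, 9315, 4341, 29029, 29248, 9722, 29236, 29250, 29241, 29252, 29254, 29240, 29256, 4774, 4777, 4349, 16252, 4329, 29258, 4790, 10142, 29260, 14826, 29263, 29264, 29266, 10258, 29268, 15604, 16406, 29271, 10319]⟩)))) (.node (.node (.node (.leaf ⟨1, 270, 434, 0, 0, 0, 0, 15, 0, 434, [2341, 2647, 1700]⟩) (.leaf ⟨6, 845, 3126, 0, 0, 0, 0, 52, 2, 610, [5358, 3311, 19018]⟩)) (.node (.leaf ⟨2, 1131, 1818, 0, 0, 0, 0, 93, 0, 0, []⟩) (.leaf ⟨5, 3456, 4593, 0, 0, 0, 0, 93, 0, 0, []⟩))) (.node (.node (.leaf ⟨9, 1046, 1075, 0, 0, 0, 0, 57, 3, 1046, [6637, 6740, 6742]⟩) (.leaf ⟨9, 873, 3882, 0, 0, 0, 0, 93, 0, 0, []⟩)) (.node (.leaf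 ⟨8, 2351, 2474, 0, 0, 0, 0, 47, 3, 2351, [13505, 14934, 14898]⟩) (.leaf ⟨0, 5189, 2978, 0, 0, 0, 0, 8, 0, 2978, [18167, 11963, 31318]⟩))))) (.node (.node (.node (.node (.leaf ⟨7, 255, 256, 0, 0, 0, 0, 93, 0, 0, []⟩) (.leaf ⟨5, 2948, 2948, (-1), 0, 1, 0, 46, 0, 2948, [17997, 18006, 17996]⟩)) (.node (.leaf ⟨0, 306, 507, 0, 0, 0, 0, 9, 0, 507, [2661, 9815, 1790]⟩) (.leaf ⟨7, 4416, 4424, 0, 0, 0, 0, 46, 3, 4416, [26173, 26199, 26188]⟩))) (.node (.node (.leaf ⟨7, 898, 899, 0, 0, 0, 0, 93, 0, 0, []⟩) (.leaf ⟨8, 3743, 3712, 0, 0, 0, 0, 41, 3, 3743, [22101, 22103, 21794]⟩)) (.node (.leaf ⟨4, 2399, 1223, 27, 0, (-1), 0, 42, 2, 2403, [13892, 13909, 13910]⟩) (.leaf ⟨10, 5043, 5044, 0, 0, 0, 0, 93, 0, 0, []⟩)))) (.node (.node (.node (.leaf ⟨7, 656, 661, 0, 0, 0, 0, 93, 0, 0,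 []⟩) (.leaf ⟨3, 3315, 3318, 0, 0, 0, 0, 33, 0, 3318, [20053, 5485, 20040]⟩)) (.node (.leaf ⟨8, 2004, 2005, 0, 0, 0, 0, 93, 0, 0, []⟩) (.leaf ⟨7, 747, 4767, 0, 0, 0, 0, 93, 0, 0, []⟩))) (.node (.node (.leaf ⟨5, 1320, 1321, 0, 0, 0, 0, 93, 0, 0, []⟩) (.leaf ⟨6, 4038, 4039, 0, 0, 0, 0, 93, 0, 0, []⟩)) (.node (.leaf ⟨8, 849, 2667, 0, 0, 0, 0, 41, 3, 849, [5383, 5379, 15956]⟩) (.leaf ⟨0, 0, 0, 0, 0, 0, 0, 0, 0, 0, []⟩))))))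

def factsPart45 : ATree TFact :=
  .node (.node (.node (.node (.node (.node (.leaf ⟨10, 45, 46, 0, 0, 0, 0, 93, 0, 0, []⟩) (.leaf ⟨7, 2577, 2719, 0, 0, 0, 0, 93, 0, 0, []⟩)) (.node (.leaf ⟨10, 1358, 1428, 0, 0, 0, 0, 93, 0, 0, []⟩) (.leaf ⟨4, 4129, 4130, 0, 0, 0, 0, 93, 0, 0, []⟩))) (.node (.node (.leaf ⟨7, 692, 598, 3, 0, 3, 0, 58, 0, 598, [3251, 3270, 4184]⟩) (.leaf ⟨10, 3408, 3409, 0, 0, 0, 0, 93, 0, 0, []⟩)) (.node (.leaf ⟨11, 848, 2138, 0, 0, 0, 0, 93, 0, 0, []⟩) (.leaf ⟨7, 2915, 4837, 0, 0, 0, 0, 93, 0, 0, []⟩)))) (.node (.node (.node (.leaf ⟨1, 384, 384, (-1), 0, (-1), 0, 15, 0, 384, [2079, 2136, 2078]⟩) (.leaf ⟨5, 3064, 3065, 0, 0, 0, 0, 93, 0, 0, []⟩)) (.node (.leaf ⟨0, 1157, 1068, 0, 0, 0, 0, 4, 0, 1068, [6693, 6885, 7136]⟩) (.leaf ⟨11, 2680, 4504, 0,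 0, 0, 0, 93, 0, 0, []⟩))) (.node (.node (.leaf ⟨4, 984, 986, 0, 0, 0, 0, 93, 0, 0, []⟩) (.leaf ⟨8, 964, 3797, 0, 0, 0, 0, 93, 0, 0, []⟩)) (.node (.leaf ⟨5, 2436, 2434, 0, 0, 0, 0, 14, 3, 2436, [14423, 10578, 14414]⟩) (.leaf ⟨3, 5120, 1107, 0, 0, 0, 0, 36, 0, 1107, [6907, 30808, 30784]⟩))))) (.node (.node (.node (.node (.leaf ⟨4, 165, 172, (-21), 0, 1, 0, 66, 10, 139, [1082, 1084, 713, 1044, 1086, 1088, 1090, 1094, 1093, 11, 9, 7, 5, 3, 560, 344, 532, 582, 600, 618, 2, 562, 346, 534, 584, 602, 4, 620, 564, 348, 536, 586, 6, 604, 622, 566, 350, 538, 8, 588, 606, 624, 750, 1046, 753, 512, 514, 516, 916, 1098, 918, 920, 926, 714, 1102, 1106, 970, 994, 1066, 1060, 1056, 1112, 1078]⟩) (.leaf ⟨3, 2851, 2855, 0, 0, 0, 0, 32, 0, 2855, [17491, 17497, 17466]⟩)) (.node (.leaf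 ⟨0, 533, 533, 1, 0, 1, 0, 9, 0, 533, [2821, 9304, 2820]⟩) (.leaf ⟨4, 2662, 2662, (-1), 0, 1, 0, 38, 0, 2662, [15943, 24365, 25688, 24364, 15942]⟩))) (.node (.node (.leaf ⟨6, 814, 815, 0, 0, 0, 0, 93, 0, 0, []⟩) (.leaf ⟨6, 3658, 3666, (-21), 0, 1, 0, 45, 3, 3656, [21538, 21540, 21593, 21554, 21556]⟩)) (.node (.leaf ⟨5, 2341, 2342, 0, 0, 0, 0, 93, 0, 0, []⟩) (.leaf ⟨2, 1542, 1542, (-1), 0, 1, 0, 28, 0, 1542, [8687, 9464, 8686]⟩)))) (.node (.node (.node (.leaf ⟨6, 579, 579, (-1), 0, 1, 0, 39, 3, 579, [3107, 3160, 3106]⟩) (.leaf ⟨5, 3212, 3212, (-1), 0, (-1), 0, 49, 4, 1466, [19492, 8457, 19544, 8456, 19492]⟩)) (.node (.leaf ⟨2, 1203, 275, 0, 0, 0, 0, 27, 2, 1202, [7350, 7349, 1710]⟩) (.leaf ⟨4, 4674, 4675, 0, 0, 0, 0, 93, 0, 0, []⟩))) (.node (.node (.leaf ⟨7, 1176,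 1177, 0, 0, 0, 0, 93, 0, 0, []⟩) (.leaf ⟨3, 3865, 3960, 0, 0, 0, 0, 31, 0, 3960, [23635, 23641, 23052]⟩)) (.node (.leaf ⟨0, 2587, 2588, 0, 0, 0, 0, 93, 0, 0, []⟩) (.leaf ⟨0, 0, 0, 0, 0, 0, 0, 0, 0, 0, []⟩)))))) (.node (.node (.node (.node (.node (.leaf ⟨4, 2, 2, 1, 0, 1, 0, 22, 3, 2, [3, 600, 2]⟩) (.leaf ⟨2, 2787, 2787, (-1), 0, 1, 0, 27, 0, 2787, [16901, 16984, 16900]⟩)) (.node (.leaf ⟨7, 1549, 1561, 0, 0, 0, 0, 93, 0, 0, []⟩) (.leaf ⟨7, 547, 547, 1, 0, (-1), 0, 51, 5, 547, [2909, 2907, 2946, 2906, 2908]⟩))) (.node (.node (.leaf ⟨5, 458, 442, (-7), 0, 5, 0, 48, 2, 454, [2416, 4693, 4696]⟩) (.leaf ⟨8, 3536, 3547, 0, 0, 0, 0, 93, 0, 0, []⟩)) (.node (.leaf ⟨6, 1998, 1998, 1, 0, 1, 0, 24, 3, 1998, [11851, 12888, 11850]⟩) (.leaf ⟨4, 2420, 2443, 0, 0, 0, 0, 43, 0, 2443,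 [14485, 14477, 14252]⟩)))) (.node (.node (.node (.leaf ⟨5, 270, 504, 0, 0, 0, 0, 93, 0, 0, []⟩) (.leaf ⟨6, 3127, 3128, 0, 0, 0, 0, 53, 0, 3128, [19031, 19032, 19020]⟩)) (.node (.leaf ⟨9, 1815, 1818, 0, 0, 0, 0, 27, 3, 1815, [10835, 7200, 10840]⟩) (.leaf ⟨4, 4593, 4594, 0, 0, 0, 0, 93, 0, 0, []⟩))) (.node (.node (.leaf ⟨6, 1075, 1076, 0, 0, 0, 0, 93, 0, 0, []⟩) (.leaf ⟨6, 3882, 835, 0, 0, 0, 0, 53, 0, 835, [5323, 5552, 23128]⟩)) (.node (.leaf ⟨8, 2482, 2475, 17, 0, (-9), 0, 56, 3, 1678, [14922, 14924, 14927, 14936, 14900]⟩) (.leaf ⟨10, 5189, 5190, 0, 0, 0, 0, 93, 0, 0, []⟩))))) (.node (.node (.node (.node (.leaf ⟨6, 256, 257, 0, 0, 0, 0, 93, 0, 0, []⟩) (.leaf ⟨6, 2950, 2950, (-1), 0, 1, 0, 45, 5, 2950, [18005, 18001, 18008, 18000, 18004]⟩)) (.node (.leaf ⟨0, 307,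 508, 0, 0, 0, 0, 4, 0, 508, [2663, 9817, 1792]⟩) (.leaf ⟨7, 4417, 4425, 0, 0, 0, 0, 40, 3, 4417, [26175, 26200, 26190]⟩))) (.node (.node (.leaf ⟨5, 899, 897, 0, 0, 0, 0, 46, 2, 898, [5720, 5719, 5714]⟩) (.leaf ⟨10, 3734, 3734, 1, 0, 1, 0, 63, 3, 3734, [22013, 878, 22012]⟩)) (.node (.leaf ⟨4, 2401, 2400, (-27), 0, 1, 0, 43, 2, 1223, [13884, 13913, 13878]⟩) (.leaf ⟨8, 5044, 5039, 0, 0, 0, 0, 61, 0, 5039, [30267, 30295, 30296]⟩)))) (.node (.node (.node (.leaf ⟨10, 658, 661, 0, 0, 0, 0, 58, 3, 658, [3659, 3657, 3672]⟩) (.leaf ⟨3, 3316, 3319, 0, 0, 0, 0, 32, 0, 3319, [20055, 20057, 20042]⟩)) (.node (.leaf ⟨5, 2005, 2006, 0, 0, 0, 0, 93, 0, 0, []⟩) (.leaf ⟨6, 4767, 4768, 0, 0, 0, 0, 93, 0, 0, []⟩))) (.node (.node (.leaf ⟨6, 1321, 1322, 0, 0, 0, 0, 93, 0, 0, []⟩) (.leaf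 ⟨10, 4035, 4038, 0, 0, 0, 0, 58, 3, 4035, [24143, 24121, 24150]⟩)) (.node (.leaf ⟨8, 850, 2668, 0, 0, 0, 0, 61, 0, 2668, [15959, 15961, 5384]⟩) (.leaf ⟨0, 0, 0, 0, 0, 0, 0, 0, 0, 0, []⟩))))))

def factsPart46 : ATree TFact :=
  .node (.node (.node (.node (.node (.node (.leaf ⟨11, 46, 47, 0, 0, 0, 0, 93, 0, 0, []⟩) (.leaf ⟨0, 2579, 2719, 0, 0, 0, 0, 6, 2, 2578, [15374, 15373, 16474]⟩)) (.node (.leaf ⟨8, 1425, 1358, 0, 0, 0, 0, 26, 3, 1425, [8271, 6716, 8014]⟩) (.leaf ⟨3, 4130, 4131, 0, 0, 0, 0, 93, 0, 0, []⟩))) (.node (.node (.leaf ⟨6, 598, 693, 0, 0, 0, 0, 93, 0, 0, []⟩) (.leaf ⟨7, 3409, 3410, 0, 0, 0, 0, 93, 0, 0, []⟩)) (.node (.leaf ⟨10, 2137, 2138, 0, 0, 0, 0, 65, 4, 189, [12370, 1317, 2176, 5370, 12378]⟩) (.leaf ⟨10, 4837, 4836, 0, 0, 0, 0, 58, 3, 4837, [28763,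 17797, 28742]⟩)))) (.node (.node (.node (.leaf ⟨1, 385, 385, 1, 0, 1, 0, 17, 0, 385, [2081, 2138, 2080]⟩) (.leaf ⟨6, 776, 3065, (-21), 0, (-1), 0, 45, 5, 776, [4853, 18479, 18514, 18520, 18522]⟩)) (.node (.leaf ⟨0, 1158, 1069, 0, 0, 0, 0, 3, 0, 1069, [6695, 10331, 7138]⟩) (.leaf ⟨5, 4504, 4505, 0, 0, 0, 0, 93, 0, 0, []⟩))) (.node (.node (.leaf ⟨10, 986, 987, 0, 0, 0, 0, 93, 0, 0, []⟩) (.leaf ⟨3, 3796, 3797, 0, 0, 0, 0, 34, 0, 3797, [22619, 6133, 22614]⟩)) (.node (.leaf ⟨5, 2437, 2435, 0, 0, 0, 0, 4, 3, 2437, [14425, 14426, 14416]⟩) (.leaf ⟨3, 5121, 5124, 0, 0, 0, 0, 37, 0, 5124, [30803, 30811, 30786]⟩))))) (.node (.node (.node (.node (.leaf ⟨2, 161, 125, 0, 0, 0, 0, 25, 2, 160, [918, 917, 518]⟩) (.leaf ⟨7, 2280, 2856, 0, 0, 0, 0, 93, 0, 0, []⟩)) (.node (.leaf ⟨0,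 1620, 1620, (-1), 0, (-1), 0, 10, 0, 1620, [9259, 9306, 9258]⟩) (.leaf ⟨4, 4333, 4333, 1, 0, (-1), 0, 40, 0, 4333, [25669, 25690, 25668]⟩))) (.node (.node (.leaf ⟨10, 812, 814, 0, 0, 0, 0, 58, 3, 812, [5201, 5139, 5208]⟩) (.leaf ⟨6, 3667, 3659, 21, 0, (-1), 0, 39, 3, 3667, [21559, 21595, 21542]⟩)) (.node (.leaf ⟨6, 2342, 2343, 0, 0, 0, 0, 93, 0, 0, []⟩) (.leaf ⟨4, 1539, 1603, 0, 0, 0, 0, 43, 0, 1603, [9079, 9479, 8656]⟩)))) (.node (.node (.node (.leaf ⟨6, 580, 580, (-1), 0, (-1), 0, 32, 3, 580, [3109, 3162, 3108]⟩) (.leaf ⟨5, 3213, 3213, 1, 0, 1, 0, 50, 0, 3213, [19495, 19546, 19494]⟩)) (.node (.leaf ⟨2, 276, 1204, 0, 0, 0, 0, 28, 0, 1204, [7353, 11354, 1712]⟩) (.leaf ⟨3, 4675, 4676, 0, 0, 0, 0, 93, 0, 0, []⟩))) (.node (.node (.leaf ⟨6, 1177, 1178, 0, 0, 0, 0, 93,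 0, 0, []⟩) (.leaf ⟨3, 3866, 3961, 0, 0, 0, 0, 36, 0, 3961, [23637, 23643, 23054]⟩)) (.node (.leaf ⟨7, 2588, 2589, 0, 0, 0, 0, 93, 0, 0, []⟩) (.leaf ⟨0, 0, 0, 0, 0, 0, 0, 0, 0, 0, []⟩)))))) (.node (.node (.node (.node (.node (.leaf ⟨3, 4, 4, 1, 0, 1, 0, 30, 4, 3, [6, 5, 602, 4, 6]⟩) (.leaf ⟨2, 2788, 2788, 1, 0, (-1), 0, 25, 0, 2788, [16903, 16986, 16902]⟩)) (.node (.leaf ⟨6, 1561, 1562, 0, 0, 0, 0, 93, 0, 0, []⟩) (.leaf ⟨7, 2625, 4229, 42, 0, 18, 0, 66, 62, 2624, [15668, 25150, 15674, 15666, 9256, 3217, 9245, 9242, 3033, 3031, 3029, 3027, 3025, 2225, 2223, 2221, 15646, 2159, 1915, 1913, 2773, 3136, 16294, 14036, 4564, 3884, 3868, 25154, 25156, 25158, 25162, 25164, 25166, 25168, 25170, 25172, 25159, 25160, 3880, 3886, 3869, 3866, 3662, 3670, 25174, 25176, 14055, 2917,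 2908, 25178, 2912, 5990, 2993, 2560, 2536, 2542, 2524, 3586, 3599, 4000, 4127, 4720, 25146]⟩))) (.node (.node (.leaf ⟨9, 450, 747, 0, 0, 0, 0, 93, 0, 0, []⟩) (.leaf ⟨6, 3538, 3547, 0, 0, 0, 0, 52, 2, 3537, [21064, 21063, 21082]⟩)) (.node (.leaf ⟨6, 1999, 1999, (-1), 0, (-1), 0, 53, 0, 1999, [11853, 12890, 11852]⟩) (.leaf ⟨4, 2709, 2709, 1, 0, (-1), 0, 38, 0, 2709, [16421, 29275, 14266, 29274, 16420]⟩)))) (.node (.node (.node (.leaf ⟨1, 504, 459, 0, 0, 0, 0, 14, 0, 459, [2419, 2649, 2650]⟩) (.leaf ⟨7, 3128, 3129, 0, 0, 0, 0, 93, 0, 0, []⟩)) (.node (.leaf ⟨1, 1818, 1819, 0, 0, 0, 0, 93, 0, 0, []⟩) (.leaf ⟨10, 4594, 4595, 0, 0, 0, 0, 93, 0, 0, []⟩))) (.node (.node (.leaf ⟨9, 1047, 1076, 0, 0, 0, 0, 53, 3, 1047, [6641, 6744, 6746]⟩) (.leaf ⟨7, 873, 873, (-1), 0, 1, 0,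 56, 4, 486, [5550, 2533, 5658, 2532, 5550]⟩)) (.node (.leaf ⟨10, 19, 2483, 0, 0, 0, 0, 93, 0, 0, []⟩) (.leaf ⟨0, 5190, 2979, 0, 0, 0, 0, 9, 0, 2979, [18169, 31321, 31322]⟩))))) (.node (.node (.node (.node (.leaf ⟨8, 257, 258, 0, 0, 0, 0, 93, 0, 0, []⟩) (.leaf ⟨6, 2537, 253, 0, 0, 0, 0, 24, 3, 2537, [15203, 15338, 1618]⟩)) (.node (.leaf ⟨0, 308, 509, 0, 0, 0, 0, 6, 0, 509, [2665, 9819, 1794]⟩) (.leaf ⟨7, 4418, 4426, 0, 0, 0, 0, 33, 3, 4418, [26177, 26202, 26192]⟩))) (.node (.node (.leaf ⟨3, 863, 900, 0, 0, 0, 0, 93, 0, 0, []⟩) (.leaf ⟨10, 3735, 3735, 1, 0, (-1), 0, 58, 3, 3735, [22017, 22106, 22016]⟩)) (.node (.leaf ⟨6, 2401, 2405, 0, 0, 0, 0, 93, 0, 0, []⟩) (.leaf ⟨7, 5042, 5042, 1, 0, (-1), 0, 16, 3, 5042, [30281, 3536, 30280]⟩)))) (.node (.node (.node (.leaf ⟨5,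 656, 662, 0, 0, 0, 0, 93, 0, 0, []⟩) (.leaf ⟨7, 920, 3320, 0, 0, 0, 0, 93, 0, 0, []⟩)) (.node (.leaf ⟨4, 2006, 2007, 0, 0, 0, 0, 93, 0, 0, []⟩) (.leaf ⟨10, 3463, 4767, 0, 0, 0, 0, 58, 3, 3463, [20803, 4705, 28248]⟩))) (.node (.node (.leaf ⟨7, 1322, 1323, 0, 0, 0, 0, 93, 0, 0, []⟩) (.leaf ⟨10, 4039, 4036, 0, 0, 0, 0, 54, 3, 4039, [24153, 24155, 24144]⟩)) (.node (.leaf ⟨5, 2668, 2669, 0, 0, 0, 0, 93, 0, 0, []⟩) (.leaf ⟨0, 0, 0, 0, 0, 0, 0, 0, 0, 0, []⟩))))))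

def factsPart47 : ATree TFact :=
  .node (.node (.node (.node (.node (.node (.leaf ⟨5, 47, 48, 0, 0, 0, 0, 93, 0, 0, []⟩) (.leaf ⟨6, 2719, 2720, 0, 0, 0, 0, 93, 0, 0, []⟩)) (.node (.leaf ⟨8, 1426, 1428, 0, 0, 0, 0, 61, 0, 1428, [8283, 8285, 8272]⟩) (.leaf ⟨10, 4131, 4132, 0, 0, 0, 0, 93, 0, 0, []⟩))) (.node (.node (.leaf ⟨10, 689, 694, 0, 0, 0, 0, 93, 0, 0, []⟩) (.leaf ⟨6, 3410, 3411, 0, 0, 0, 0, 93, 0, 0, []⟩)) (.node (.leaf ⟨4, 2138, 2136, 21, 0, 1, 0, 43, 0, 2136, [12365, 12377, 12380]⟩) (.leaf ⟨1, 2246, 4838, 0, 0, 0, 0, 93, 0, 0, []⟩)))) (.node (.node (.node (.leaf ⟨1, 386, 386, (-1), 0, (-1), 0, 14, 0, 386, [2083, 2140, 2082]⟩) (.leaf ⟨9, 436, 3066, 0, 0, 0, 0, 93, 0, 0, []⟩)) (.node (.leaf ⟨0, 1159, 1070, 0, 0, 0, 0, 2, 0, 1070, [6697, 10333, 7140]⟩) (.leaf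 ⟨11, 4505, 2681, 0, 0, 0, 0, 50, 3, 4505, [26717, 26715, 16038]⟩))) (.node (.node (.leaf ⟨4, 987, 985, 0, 0, 0, 0, 43, 2, 986, [6236, 6235, 6222]⟩) (.leaf ⟨10, 3548, 964, 0, 0, 0, 0, 58, 3, 3548, [21087, 2233, 6122]⟩)) (.node (.leaf ⟨4, 2436, 2436, (-1), 0, 1, 0, 13, 3, 2436, [14423, 13452, 14422]⟩) (.leaf ⟨3, 5122, 5125, 0, 0, 0, 0, 31, 0, 5125, [30805, 30813, 30792]⟩))))) (.node (.node (.node (.node (.leaf ⟨2, 126, 162, 0, 0, 0, 0, 24, 0, 162, [921, 1116, 520]⟩) (.leaf ⟨6, 2856, 2857, 0, 0, 0, 0, 93, 0, 0, []⟩)) (.node (.leaf ⟨6, 520, 1622, 0, 0, 0, 0, 93, 0, 0, []⟩) (.leaf ⟨4, 4334, 4334, (-1), 0, 1, 0, 39, 0, 4334, [25673, 25692, 25672]⟩))) (.node (.node (.leaf ⟨10, 815, 813, 0, 0, 0, 0, 54, 3, 815, [5211, 5213, 5202]⟩) (.leaf ⟨4, 3544, 3673, 0, 0, 0, 0, 93,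 0, 0, []⟩)) (.node (.leaf ⟨10, 1779, 2342, 0, 0, 0, 0, 49, 5, 1779, [10625, 10621, 10668, 13400, 13402]⟩) (.leaf ⟨6, 2487, 4979, 0, 0, 0, 0, 93, 0, 0, []⟩)))) (.node (.node (.node (.leaf ⟨4, 576, 534, 0, 0, 0, 0, 40, 0, 534, [2853, 2798, 3100]⟩) (.leaf ⟨5, 3214, 3214, (-1), 0, (-1), 0, 46, 0, 3214, [19497, 19548, 19496]⟩)) (.node (.leaf ⟨2, 277, 1922, 0, 0, 0, 0, 29, 0, 1922, [11335, 11357, 1714]⟩) (.leaf ⟨2, 4676, 4677, 0, 0, 0, 0, 93, 0, 0, []⟩))) (.node (.node (.leaf ⟨5, 1178, 1179, 0, 0, 0, 0, 93, 0, 0, []⟩) (.leaf ⟨2, 3562, 3962, 0, 0, 0, 0, 93, 0, 0, []⟩)) (.node (.leaf ⟨3, 2533, 1001, 0, 0, 0, 0, 34, 0, 1001, [6355, 8931, 15194]⟩) (.leaf ⟨0, 0, 0, 0, 0, 0, 0, 0, 0, 0, []⟩)))))) (.node (.node (.node (.node (.node (.leaf ⟨3, 5, 5, (-1), 0, (-1), 0, 31, 0, 5,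 [9, 604, 8]⟩) (.leaf ⟨2, 2794, 2794, (-1), 0, 1, 0, 24, 0, 2794, [16981, 16988, 16980]⟩)) (.node (.leaf ⟨5, 1562, 1563, 0, 0, 0, 0, 93, 0, 0, []⟩) (.leaf ⟨8, 2413, 4224, 0, 0, 0, 0, 62, 0, 4224, [25137, 4723, 13994]⟩))) (.node (.node (.leaf ⟨3, 455, 747, 0, 0, 0, 0, 35, 2, 451, [2404, 2397, 4700]⟩) (.leaf ⟨7, 412, 3548, 0, 0, 0, 0, 93, 0, 0, []⟩)) (.node (.leaf ⟨6, 2000, 2000, 1, 0, 1, 0, 54, 0, 2000, [11855, 12892, 11854]⟩) (.leaf ⟨11, 4901, 4903, 0, 0, 0, 0, 93, 0, 0, []⟩)))) (.node (.node (.node (.leaf ⟨10, 504, 505, 0, 0, 0, 0, 93, 0, 0, []⟩) (.leaf ⟨10, 845, 959, 0, 0, 0, 0, 61, 3, 845, [5359, 3318, 6102]⟩)) (.node (.leaf ⟨9, 1816, 1819, 0, 0, 0, 0, 18, 3, 1816, [10837, 10842, 10844]⟩) (.leaf ⟨5, 4595, 4596, 0, 0, 0, 0, 93, 0, 0, []⟩))) (.node (.node (.leaf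 ⟨5, 1076, 1077, 0, 0, 0, 0, 93, 0, 0, []⟩) (.leaf ⟨7, 3882, 3882, 1, 0, (-1), 0, 57, 0, 3882, [23129, 23132, 23128]⟩)) (.node (.leaf ⟨5, 2483, 2484, 0, 0, 0, 0, 93, 0, 0, []⟩) (.leaf ⟨11, 5190, 5191, 0, 0, 0, 0, 93, 0, 0, []⟩))))) (.node (.node (.node (.node (.leaf ⟨5, 258, 259, 0, 0, 0, 0, 93, 0, 0, []⟩) (.leaf ⟨6, 2583, 2217, 0, 0, 0, 0, 15, 3, 2583, [15425, 18012, 12914]⟩)) (.node (.leaf ⟨0, 309, 510, 0, 0, 0, 0, 5, 0, 510, [2667, 9821, 1796]⟩) (.leaf ⟨7, 4419, 4427, 0, 0, 0, 0, 25, 3, 4419, [26179, 26204, 26194]⟩))) (.node (.node (.leaf ⟨10, 900, 901, 0, 0, 0, 0, 93, 0, 0, []⟩) (.leaf ⟨5, 3736, 3736, (-1), 0, (-1), 0, 48, 0, 3736, [22021, 19790, 22020]⟩)) (.node (.leaf ⟨9, 2336, 2401, 0, 0, 0, 0, 48, 3, 2336, [13387, 13369, 13882]⟩) (.leaf ⟨7, 5043, 5043, 1,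 0, 1, 0, 6, 3, 5043, [30283, 30300, 30282]⟩)))) (.node (.node (.node (.leaf ⟨7, 662, 663, 0, 0, 0, 0, 93, 0, 0, []⟩) (.leaf ⟨6, 3320, 3321, 0, 0, 0, 0, 93, 0, 0, []⟩)) (.node (.leaf ⟨3, 2007, 2008, 0, 0, 0, 0, 93, 0, 0, []⟩) (.leaf ⟨10, 4768, 3464, 0, 0, 0, 0, 54, 3, 4768, [28251, 28253, 20806]⟩))) (.node (.node (.leaf ⟨3, 1320, 290, 0, 0, 0, 0, 36, 2, 1319, [7766, 7765, 1740]⟩) (.leaf ⟨7, 4031, 4040, 0, 0, 0, 0, 93, 0, 0, []⟩)) (.node (.leaf ⟨8, 1616, 2669, 0, 0, 0, 0, 47, 3, 1616, [9225, 15962, 15964]⟩) (.leaf ⟨0, 0, 0, 0, 0, 0, 0, 0, 0, 0, []⟩))))))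

def factsPart48 : ATree TFact :=
  .node (.node (.node (.node (.node (.node (.leaf ⟨10, 48, 49, 0, 0, 0, 0, 93, 0, 0, []⟩) (.leaf ⟨0, 2720, 2580, 0, 0, 0, 0, 5, 0, 2580, [15377, 16476, 16478]⟩)) (.node (.leaf ⟨5, 1428, 1429, 0, 0, 0, 0, 93, 0, 0, []⟩) (.leaf ⟨5, 4132, 4133, 0, 0, 0, 0, 93, 0, 0, []⟩))) (.node (.node (.leaf ⟨3, 685, 695, 0, 0, 0, 0, 93, 0, 0, []⟩) (.leaf ⟨5, 3411, 3412, 0, 0, 0, 0, 93, 0, 0, []⟩)) (.node (.leaf ⟨10, 410, 2139, 0, 0, 0, 0, 93, 0, 0, []⟩) (.leaf ⟨6, 2245, 212, 0, 0, 0, 0, 32, 3, 2245, [13029, 17454, 1506]⟩)))) (.node (.node (.node (.leaf ⟨1, 387, 387, 1, 0, 1, 0, 13, 0, 387, [2085, 2142, 2084]⟩) (.leaf ⟨4, 969, 3066, 0, 0, 0, 0, 42, 2, 437, [6156, 2347, 18526]⟩)) (.node (.leaf ⟨0, 1160, 1425, 0, 0, 0, 0, 1, 0, 1425, [8271, 10335, 7142]⟩)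 (.leaf ⟨3, 4505, 4505, 1, 0, 1, 0, 37, 2, 2681, [26719, 26030, 26719]⟩))) (.node (.node (.leaf ⟨5, 987, 988, 0, 0, 0, 0, 93, 0, 0, []⟩) (.leaf ⟨10, 3797, 3549, 0, 0, 0, 0, 61, 3, 3797, [22619, 22623, 21088]⟩)) (.node (.leaf ⟨4, 2437, 2437, (-1), 0, (-1), 0, 3, 3, 2437, [14425, 14430, 14424]⟩) (.leaf ⟨3, 5123, 5126, 0, 0, 0, 0, 32, 0, 5126, [30807, 30815, 30796]⟩))))) (.node (.node (.node (.node (.leaf ⟨2, 127, 165, 0, 0, 0, 0, 23, 0, 165, [927, 1119, 522]⟩) (.leaf ⟨4, 2852, 2279, 0, 0, 0, 0, 42, 0, 2279, [13125, 13079, 17484]⟩)) (.node (.leaf ⟨11, 505, 1623, 0, 0, 0, 0, 93, 0, 0, []⟩) (.leaf ⟨2, 3588, 2662, 0, 0, 0, 0, 23, 0, 2662, [15943, 2309, 21266]⟩))) (.node (.node (.leaf ⟨9, 93, 816, 0, 0, 0, 0, 93, 0, 0, []⟩) (.leaf ⟨11, 403, 3536, 0, 0, 0, 0, 59, 3, 403,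 [2189, 2185, 21060]⟩)) (.node (.leaf ⟨10, 1748, 2344, 0, 0, 0, 0, 93, 0, 0, []⟩) (.leaf ⟨7, 4907, 4979, (-140), 0, 20, 0, 66, 6, 1712, [10049, 10057, 9753, 8959, 8949, 13448, 13460, 8980, 13470, 13478, 8947, 8956, 8930, 3078, 2737, 13532, 2723, 13538, 14234, 14236, 13526, 4337, 3053, 6782, 1696, 8072, 14238, 14330, 9066, 6878, 6882, 7136, 7138, 7140, 7142, 7144, 7157, 13587, 13574, 13594, 14338, 14337, 14350, 14358, 14360, 10012, 14362, 14370, 14377, 13422, 13424, 13404, 14382, 14782, 14781, 9099, 29316, 10227, 29786, 8689, 29788, 14962, 29790]⟩)))) (.node (.node (.node (.leaf ⟨4, 577, 556, 0, 0, 0, 0, 39, 0, 556, [3003, 3167, 3102]⟩) (.leaf ⟨6, 3216, 3216, (-1), 0, (-1), 0, 45, 5, 3216, [19501, 19499, 19550, 19498, 19500]⟩)) (.node (.leaf ⟨2, 292, 1923, 0, 0, 0,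 0, 23, 0, 1923, [11337, 11359, 1752]⟩) (.leaf ⟨5, 4675, 4670, 0, 0, 0, 0, 38, 5, 4675, [27739, 27737, 21626, 27716, 27718]⟩))) (.node (.node (.leaf ⟨4, 1179, 1180, 0, 0, 0, 0, 93, 0, 0, []⟩) (.leaf ⟨7, 3962, 3963, 0, 0, 0, 0, 93, 0, 0, []⟩)) (.node (.leaf ⟨3, 2534, 1002, 0, 0, 0, 0, 31, 0, 1002, [6357, 15455, 15196]⟩) (.leaf ⟨0, 0, 0, 0, 0, 0, 0, 0, 0, 0, []⟩)))))) (.node (.node (.node (.node (.node (.leaf ⟨3, 6, 6, 1, 0, 1, 0, 32, 0, 6, [11, 606, 10]⟩) (.leaf ⟨6, 2778, 2795, 0, 0, 0, 0, 93, 0, 0, []⟩)) (.node (.leaf ⟨4, 1563, 1564, 0, 0, 0, 0, 93, 0, 0, []⟩) (.leaf ⟨8, 2624, 4225, 0, 0, 0, 0, 47, 3, 2624, [15665, 25182, 25138]⟩))) (.node (.node (.leaf ⟨10, 747, 748, 0, 0, 0, 0, 93, 0, 0, []⟩) (.leaf ⟨8, 3548, 3549, 0, 0, 0, 0, 93, 0, 0, []⟩)) (.node (.leaf ⟨7, 2203,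 2203, 1, 0, 1, 0, 51, 5, 2203, [12813, 12811, 12894, 12810, 12812]⟩) (.leaf ⟨11, 1577, 1701, (-1), 0, 5, 0, 37, 1, 713, [4349, 8994, 9999]⟩)))) (.node (.node (.node (.leaf ⟨1, 505, 501, 0, 0, 0, 0, 19, 0, 501, [2605, 2653, 2654]⟩) (.leaf ⟨9, 959, 3130, 0, 0, 0, 0, 93, 0, 0, []⟩)) (.node (.leaf ⟨7, 1819, 1820, 0, 0, 0, 0, 93, 0, 0, []⟩) (.leaf ⟨10, 4593, 4597, 0, 0, 0, 0, 93, 0, 0, []⟩))) (.node (.node (.leaf ⟨9, 1048, 1077, 0, 0, 0, 0, 48, 3, 1048, [6645, 6748, 6750]⟩) (.leaf ⟨6, 3132, 3132, (-1), 0, (-1), 0, 51, 0, 3132, [19049, 23131, 23134, 23130, 19048]⟩)) (.node (.leaf ⟨7, 2484, 2485, 0, 0, 0, 0, 93, 0, 0, []⟩) (.leaf ⟨0, 5191, 3157, 0, 0, 0, 0, 10, 0, 3157, [19241, 31325, 31326]⟩))))) (.node (.node (.node (.node (.leaf ⟨4, 259, 260, 0, 0, 0, 0, 93, 0, 0, []⟩)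 (.leaf ⟨6, 2584, 2218, 0, 0, 0, 0, 53, 0, 2218, [12917, 18015, 15426]⟩)) (.node (.leaf ⟨0, 760, 511, 0, 0, 0, 0, 4, 0, 511, [2669, 9823, 4746]⟩) (.leaf ⟨7, 4420, 4428, 0, 0, 0, 0, 58, 0, 4428, [26197, 26207, 26180]⟩))) (.node (.node (.leaf ⟨11, 901, 902, 0, 0, 0, 0, 93, 0, 0, []⟩) (.leaf ⟨4, 153, 153, 1, 0, 1, 0, 41, 0, 153, [883, 3714, 882]⟩)) (.node (.leaf ⟨9, 2337, 2405, 0, 0, 0, 0, 53, 3, 2337, [13389, 13918, 13916]⟩) (.leaf ⟨7, 5044, 5044, (-1), 0, (-1), 0, 58, 0, 5044, [30297, 30302, 30296]⟩)))) (.node (.node (.node (.leaf ⟨5, 663, 661, 0, 0, 0, 0, 46, 2, 662, [3678, 3677, 3672]⟩) (.leaf ⟨4, 3320, 3318, 0, 0, 0, 0, 40, 2, 920, [20060, 5871, 20052]⟩)) (.node (.leaf ⟨2, 2008, 2009, 0, 0, 0, 0, 93, 0, 0, []⟩) (.leaf ⟨8, 446, 4769, 0, 0, 0, 0, 93, 0, 0, []⟩)))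 (.node (.node (.leaf ⟨3, 291, 1321, 0, 0, 0, 0, 31, 0, 1321, [7769, 7774, 1742]⟩) (.leaf ⟨5, 4038, 4040, 0, 0, 0, 0, 46, 2, 4032, [24150, 24119, 24158]⟩)) (.node (.leaf ⟨6, 2669, 2670, 0, 0, 0, 0, 93, 0, 0, []⟩) (.leaf ⟨0, 0, 0, 0, 0, 0, 0, 0, 0, 0, []⟩))))))

def factsPart49 : ATree TFact :=
  .node (.node (.node (.node (.node (.node (.leaf ⟨7, 49, 50, 0, 0, 0, 0, 93, 0, 0, []⟩) (.leaf ⟨8, 577, 2721, 0, 0, 0, 0, 93, 0, 0, []⟩)) (.node (.leaf ⟨8, 1427, 1429, 0, 0, 0, 0, 47, 3, 1427, [8279, 8286, 8288]⟩) (.leaf ⟨4, 4133, 4134, 0, 0, 0, 0, 93, 0, 0, []⟩))) (.node (.node (.leaf ⟨7, 685, 688, 0, 0, 0, 0, 40, 3, 685, [4141, 2768, 4164]⟩) (.leaf ⟨7, 2651, 3413, 0, 0, 0, 0, 93, 0, 0, []⟩)) (.node (.leaf ⟨11, 2139, 2140, 0, 0, 0, 0, 93, 0, 0, []⟩) (.leaf ⟨6, 2246, 213, 0,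 0, 0, 0, 24, 3, 2246, [13031, 28768, 1508]⟩)))) (.node (.node (.node (.leaf ⟨1, 388, 388, (-1), 0, (-1), 0, 18, 0, 388, [2087, 2144, 2086]⟩) (.leaf ⟨10, 3066, 3067, 0, 0, 0, 0, 93, 0, 0, []⟩)) (.node (.leaf ⟨1, 1753, 1749, 0, 0, 0, 0, 0, 5, 1753, [10329, 10327, 10336, 10308, 10310]⟩) (.leaf ⟨2, 4365, 4504, 0, 0, 0, 0, 29, 0, 4504, [26715, 16053, 25862]⟩))) (.node (.node (.leaf ⟨6, 988, 989, 0, 0, 0, 0, 93, 0, 0, []⟩) (.leaf ⟨9, 412, 2139, 0, 0, 0, 0, 63, 2, 411, [2232, 2231, 12384]⟩)) (.node (.leaf ⟨3, 2436, 2436, (-1), 0, 1, 0, 12, 3, 2436, [14423, 13464, 14422]⟩) (.leaf ⟨4, 5126, 5127, 0, 0, 0, 0, 93, 0, 0, []⟩))))) (.node (.node (.node (.node (.leaf ⟨2, 169, 172, (-21), 0, 1, 0, 22, 0, 172, [1115, 1121, 1000]⟩) (.leaf ⟨4, 2853, 2280, 0, 0, 0, 0, 43, 0, 2280, [13129,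 17505, 17486]⟩)) (.node (.leaf ⟨6, 723, 505, 0, 0, 0, 0, 54, 0, 505, [2655, 4787, 4330]⟩) (.leaf ⟨2, 3600, 3600, 1, 0, 11, 0, 11, 3, 2284, [13201, 23396, 23606, 13201, 23396]⟩))) (.node (.node (.leaf ⟨5, 801, 816, 0, 0, 0, 0, 48, 2, 97, [5136, 419, 5216]⟩) (.leaf ⟨11, 3537, 404, 0, 0, 0, 0, 55, 3, 3537, [21063, 21601, 2192]⟩)) (.node (.leaf ⟨7, 1744, 1748, 0, 0, 0, 0, 16, 3, 1744, [10267, 8274, 10308]⟩) (.leaf ⟨2, 1049, 1671, (-35), 0, (-7), 0, 25, 2, 1050, [6649, 10503, 9789]⟩)))) (.node (.node (.node (.leaf ⟨5, 579, 558, 0, 0, 0, 0, 38, 5, 579, [3107, 3105, 3168, 3004, 3006]⟩) (.leaf ⟨6, 3217, 3217, (-1), 0, 1, 0, 39, 3, 3217, [19503, 19552, 19502]⟩)) (.node (.leaf ⟨2, 293, 1924, 0, 0, 0, 0, 25, 0, 1924, [11339, 11361, 1754]⟩) (.leaf ⟨5, 4676, 4671, 0, 0, 0, 0,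 31, 3, 4676, [27741, 27744, 27720]⟩))) (.node (.node (.leaf ⟨3, 1180, 1181, 0, 0, 0, 0, 93, 0, 0, []⟩) (.leaf ⟨5, 3677, 3962, 0, 0, 0, 0, 23, 3, 3677, [21655, 21140, 23646]⟩)) (.node (.leaf ⟨4, 2536, 1004, 0, 0, 0, 0, 30, 5, 2536, [15201, 15199, 15456, 6358, 6360]⟩) (.leaf ⟨0, 0, 0, 0, 0, 0, 0, 0, 0, 0, []⟩)))))) (.node (.node (.node (.node (.node (.leaf ⟨3, 69, 69, 1, 0, (-1), 0, 2, 3, 69, [275, 608, 274]⟩) (.leaf ⟨3, 2794, 2795, 0, 0, 0, 0, 32, 0, 2795, [16993, 16925, 16980]⟩)) (.node (.leaf ⟨3, 1564, 1565, 0, 0, 0, 0, 93, 0, 0, []⟩) (.leaf ⟨8, 2625, 4226, 0, 0, 0, 0, 61, 0, 4226, [25141, 25185, 15668]⟩))) (.node (.node (.leaf ⟨3, 748, 456, 0, 0, 0, 0, 36, 0, 456, [2407, 4702, 4704]⟩) (.leaf ⟨5, 3536, 3548, 0, 0, 0, 0, 46, 0, 3548, [21087, 2255, 21060]⟩)) (.node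 (.leaf ⟨7, 2211, 2211, 1, 0, (-1), 0, 46, 3, 2211, [12867, 12896, 12866]⟩) (.leaf ⟨11, 1772, 1766, (-1), 0, (-5), 0, 29, 1, 1701, [29281, 10596, 10467]⟩)))) (.node (.node (.node (.leaf ⟨2, 266, 506, 0, 0, 0, 0, 93, 0, 0, []⟩) (.leaf ⟨10, 3128, 3130, 0, 0, 0, 0, 63, 3, 3128, [19031, 19038, 19040]⟩)) (.node (.leaf ⟨9, 1817, 1820, 0, 0, 0, 0, 57, 3, 1817, [10839, 10846, 10848]⟩) (.leaf ⟨4, 4595, 4597, 0, 0, 0, 0, 43, 2, 4594, [27228, 27227, 27232]⟩))) (.node (.node (.leaf ⟨5, 1059, 1078, 0, 0, 0, 0, 93, 0, 0, []⟩) (.leaf ⟨5, 958, 958, 1, 0, (-1), 0, 45, 0, 958, [6097, 19055, 23136, 19054, 6096]⟩)) (.node (.leaf ⟨4, 16, 2476, 0, 0, 0, 0, 41, 0, 2476, [14903, 9893, 30]⟩) (.leaf ⟨1, 5189, 5189, (-1), 0, (-1), 0, 18, 0, 5189, [31319, 17906, 31318]⟩))))) (.node (.node (.node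 (.node (.leaf ⟨10, 260, 261, 0, 0, 0, 0, 93, 0, 0, []⟩) (.leaf ⟨6, 2585, 2219, 0, 0, 0, 0, 5, 3, 2585, [15429, 18016, 12918]⟩)) (.node (.leaf ⟨0, 761, 1667, 0, 0, 0, 0, 3, 0, 1667, [9775, 9825, 4748]⟩) (.leaf ⟨5, 4428, 4429, 0, 0, 0, 0, 93, 0, 0, []⟩))) (.node (.node (.leaf ⟨9, 900, 903, 0, 0, 0, 0, 93, 0, 0, []⟩) (.leaf ⟨4, 3736, 3736, (-1), 0, (-1), 0, 42, 0, 3736, [22021, 22112, 22020]⟩)) (.node (.leaf ⟨11, 1409, 2406, 0, 0, 0, 0, 93, 0, 0, []⟩) (.leaf ⟨8, 5040, 5040, (-1), 0, (-1), 0, 56, 5, 5040, [30269, 30299, 30304, 30298, 30268]⟩)))) (.node (.node (.node (.leaf ⟨5, 102, 664, 0, 0, 0, 0, 93, 0, 0, []⟩) (.leaf ⟨4, 3319, 3321, 0, 0, 0, 0, 39, 0, 3321, [20063, 20064, 20054]⟩)) (.node (.leaf ⟨1, 2009, 2010, 0, 0, 0, 0, 93, 0, 0, []⟩) (.leaf ⟨6, 448, 4769, 0, 0,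 0, 0, 52, 2, 447, [2390, 2389, 28256]⟩))) (.node (.node (.leaf ⟨3, 303, 1322, 0, 0, 0, 0, 32, 0, 1322, [7771, 7777, 1784]⟩) (.leaf ⟨8, 960, 557, 0, 0, 0, 0, 47, 3, 960, [6107, 6103, 3004]⟩)) (.node (.leaf ⟨8, 2416, 2670, 0, 0, 0, 0, 52, 3, 2416, [14127, 15966, 15968]⟩) (.leaf ⟨0, 0, 0, 0, 0, 0, 0, 0, 0, 0, []⟩))))))

def factsPart50 : ATree TFact :=
  .node (.node (.node (.node (.node (.node (.leaf ⟨6, 50, 51, 0, 0, 0, 0, 93, 0, 0, []⟩) (.leaf ⟨5, 2721, 2722, 0, 0, 0, 0, 93, 0, 0, []⟩)) (.node (.leaf ⟨7, 1429, 1430, 0, 0, 0, 0, 93, 0, 0, []⟩) (.leaf ⟨9, 3518, 4127, 0, 0, 0, 0, 57, 3, 3518, [20991, 15923, 24660]⟩))) (.node (.node (.leaf ⟨7, 695, 689, 0, 0, 0, 0, 33, 3, 695, [4193, 4194, 4166]⟩) (.leaf ⟨6, 3413, 3414, 0, 0, 0, 0, 93, 0, 0, []⟩)) (.node (.leaf ⟨5, 848,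 2139, 0, 0, 0, 0, 49, 4, 399, [5370, 2175, 2248, 2228, 12384]⟩) (.leaf ⟨6, 4838, 2913, 0, 0, 0, 0, 15, 3, 4838, [28767, 28770, 17786]⟩)))) (.node (.node (.node (.leaf ⟨2, 380, 380, (-1), 0, 1, 0, 11, 3, 388, [2128, 2134, 2146, 2128, 2134]⟩) (.leaf ⟨4, 3067, 974, 0, 0, 0, 0, 43, 0, 974, [6173, 18528, 18530]⟩)) (.node (.leaf ⟨5, 1747, 1753, 3, 0, 3, 0, 14, 3, 1747, [10307, 10325, 10339]⟩) (.leaf ⟨2, 4366, 4505, 0, 0, 0, 0, 23, 0, 4505, [26717, 26723, 25868]⟩))) (.node (.node (.leaf ⟨7, 989, 990, 0, 0, 0, 0, 93, 0, 0, []⟩) (.leaf ⟨1, 1020, 2139, 0, 0, 0, 0, 19, 0, 2139, [12385, 17739, 6416]⟩)) (.node (.leaf ⟨3, 2437, 2437, (-1), 0, (-1), 0, 2, 3, 2437, [14425, 14434, 14424]⟩) (.leaf ⟨11, 2466, 5128, 0, 0, 0, 0, 93, 0, 0, []⟩))))) (.node (.node (.node (.node (.leaf ⟨0,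 123, 113, 0, 0, 0, 0, 3, 0, 113, [479, 707, 514]⟩) (.leaf ⟨4, 2854, 2856, 0, 0, 0, 0, 40, 0, 2856, [17501, 17507, 17488]⟩)) (.node (.leaf ⟨6, 765, 1623, 0, 0, 0, 0, 55, 0, 1623, [9313, 9315, 4768]⟩) (.leaf ⟨3, 2662, 2662, 1, 0, 11, 0, 21, 5, 2662, [25697, 21325, 25698, 21324, 25696]⟩))) (.node (.node (.leaf ⟨7, 816, 817, 0, 0, 0, 0, 93, 0, 0, []⟩) (.leaf ⟨11, 3538, 3660, 0, 0, 0, 0, 62, 3, 3538, [21065, 21602, 21544]⟩)) (.node (.leaf ⟨7, 1778, 2344, 0, 0, 0, 0, 58, 0, 2344, [13409, 13411, 10620]⟩) (.leaf ⟨11, 2360, 4980, 0, 0, 0, 0, 93, 0, 0, []⟩)))) (.node (.node (.node (.leaf ⟨5, 580, 559, 0, 0, 0, 0, 31, 3, 580, [3109, 3170, 3008]⟩) (.leaf ⟨6, 3218, 3218, 1, 0, (-1), 0, 54, 0, 3218, [19505, 19554, 19504]⟩)) (.node (.leaf ⟨2, 294, 1925, 0, 0, 0, 0, 24, 0, 1925,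 [11341, 11363, 1756]⟩) (.leaf ⟨5, 4677, 4672, 0, 0, 0, 0, 23, 3, 4677, [27743, 27746, 27722]⟩))) (.node (.node (.leaf ⟨10, 1181, 1182, 0, 0, 0, 0, 93, 0, 0, []⟩) (.leaf ⟨5, 3678, 3963, 0, 0, 0, 0, 46, 0, 3963, [23649, 23651, 21656]⟩)) (.node (.leaf ⟨4, 2537, 1987, 0, 0, 0, 0, 22, 3, 2537, [15203, 15458, 11742]⟩) (.leaf ⟨0, 0, 0, 0, 0, 0, 0, 0, 0, 0, []⟩)))))) (.node (.node (.node (.node (.node (.leaf ⟨3, 111, 111, (-1), 0, 1, 0, 36, 0, 111, [471, 610, 470]⟩) (.leaf ⟨6, 2761, 2796, 0, 0, 0, 0, 93, 0, 0, []⟩)) (.node (.leaf ⟨2, 1565, 1566, 0, 0, 0, 0, 93, 0, 0, []⟩) (.leaf ⟨8, 4138, 4227, (-42), 0, 18, 0, 56, 3, 4229, [25148, 24702, 25181, 25186, 25142]⟩))) (.node (.node (.leaf ⟨5, 748, 749, 0, 0, 0, 0, 93, 0, 0, []⟩) (.leaf ⟨5, 3547, 3549, 0, 0, 0, 0, 47, 0, 3549,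 [21089, 21091, 21082]⟩)) (.node (.leaf ⟨7, 2212, 2212, (-1), 0, 1, 0, 58, 0, 2212, [12871, 12898, 12870]⟩) (.leaf ⟨5, 4896, 4904, 0, 0, 0, 0, 93, 0, 0, []⟩)))) (.node (.node (.node (.leaf ⟨10, 506, 507, 0, 0, 0, 0, 93, 0, 0, []⟩) (.leaf ⟨7, 3130, 3131, 0, 0, 0, 0, 93, 0, 0, []⟩)) (.node (.leaf ⟨5, 1123, 1821, 0, 0, 0, 0, 93, 0, 0, []⟩) (.leaf ⟨10, 4581, 4598, 0, 0, 0, 0, 93, 0, 0, []⟩))) (.node (.node (.leaf ⟨4, 1078, 1079, 0, 0, 0, 0, 93, 0, 0, []⟩) (.leaf ⟨5, 3881, 3881, (-1), 0, 1, 0, 47, 0, 3881, [23125, 23138, 23124]⟩)) (.node (.leaf ⟨5, 18, 2478, 0, 0, 0, 0, 38, 5, 18, [35, 33, 14946, 14904, 14906]⟩) (.leaf ⟨1, 5190, 5190, 1, 0, 1, 0, 19, 0, 5190, [31323, 31330, 31322]⟩))))) (.node (.node (.node (.node (.leaf ⟨5, 261, 262, 0, 0, 0, 0, 93, 0, 0, []⟩) (.leaf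 ⟨6, 2947, 2220, 0, 0, 0, 0, 54, 0, 2220, [12921, 18019, 17992]⟩)) (.node (.leaf ⟨0, 1411, 1668, 0, 0, 0, 0, 2, 0, 1668, [9779, 9827, 8148]⟩) (.leaf ⟨7, 4421, 4429, 0, 0, 0, 0, 46, 3, 4421, [26183, 26208, 26210]⟩))) (.node (.node (.leaf ⟨10, 903, 904, 0, 0, 0, 0, 93, 0, 0, []⟩) (.leaf ⟨3, 376, 153, 0, 0, 0, 0, 34, 0, 153, [883, 458, 2004]⟩)) (.node (.leaf ⟨5, 2406, 2407, 0, 0, 0, 0, 93, 0, 0, []⟩) (.leaf ⟨8, 5041, 5041, (-1), 0, 1, 0, 52, 3, 5041, [30271, 30306, 30270]⟩)))) (.node (.node (.node (.leaf ⟨10, 664, 665, 0, 0, 0, 0, 93, 0, 0, []⟩) (.leaf ⟨5, 3321, 3322, 0, 0, 0, 0, 93, 0, 0, []⟩)) (.node (.leaf ⟨8, 2003, 2011, 0, 0, 0, 0, 93, 0, 0, []⟩) (.leaf ⟨5, 4769, 4769, (-1), 0, 1, 0, 47, 0, 4769, [28257, 4132, 28256]⟩))) (.node (.node (.leaf ⟨3, 304, 1323, 0, 0,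 0, 0, 33, 0, 1323, [7773, 7779, 1786]⟩) (.leaf ⟨9, 352, 352, (-1), 0, (-1), 0, 63, 0, 352, [1917, 22648, 1916]⟩)) (.node (.leaf ⟨11, 2666, 2670, 1, 0, (-5), 0, 62, 3, 2666, [15955, 14128, 15970]⟩) (.leaf ⟨0, 0, 0, 0, 0, 0, 0, 0, 0, 0, []⟩))))))

def factsPart51 : ATree TFact :=
  .node (.node (.node (.node (.node (.node (.leaf ⟨5, 51, 52, 0, 0, 0, 0, 93, 0, 0, []⟩) (.leaf ⟨4, 2722, 2723, 0, 0, 0, 0, 93, 0, 0, []⟩)) (.node (.leaf ⟨8, 1420, 1430, 0, 0, 0, 0, 56, 5, 1420, [8247, 8269, 8280, 8290, 8292]⟩) (.leaf ⟨9, 4128, 3519, 0, 0, 0, 0, 53, 3, 4128, [24663, 24677, 20992]⟩))) (.node (.node (.leaf ⟨6, 559, 695, 0, 0, 0, 0, 32, 3, 559, [3009, 4148, 4192]⟩) (.leaf ⟨8, 3414, 3415, 0, 0, 0, 0, 93, 0, 0, []⟩)) (.node (.leaf ⟨5, 2138, 2140, 0, 0, 0, 0, 50, 0, 2140, [12387,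 12389, 12378]⟩) (.leaf ⟨9, 4838, 4839, 0, 0, 0, 0, 93, 0, 0, []⟩)))) (.node (.node (.node (.leaf ⟨2, 381, 381, (-1), 0, (-1), 0, 25, 2, 380, [2062, 2148, 2062]⟩) (.leaf ⟨11, 3067, 3068, 0, 0, 0, 0, 93, 0, 0, []⟩)) (.node (.leaf ⟨6, 1159, 1159, (-1), 0, (-1), 0, 32, 3, 1159, [7141, 9048, 7140]⟩) (.leaf ⟨3, 2646, 4250, 0, 0, 0, 0, 35, 2, 2645, [15856, 15855, 25326]⟩))) (.node (.node (.leaf ⟨3, 356, 435, 0, 0, 0, 0, 34, 0, 435, [2343, 2613, 1924]⟩) (.leaf ⟨2, 1020, 2508, 0, 0, 0, 0, 28, 0, 2508, [15047, 15483, 6416]⟩)) (.node (.leaf ⟨1, 1585, 531, 0, 0, 0, 0, 19, 0, 531, [2797, 1953, 8940]⟩) (.leaf ⟨5, 5128, 5129, 0, 0, 0, 0, 93, 0, 0, []⟩))))) (.node (.node (.node (.node (.leaf ⟨0, 140, 166, 0, 0, 0, 0, 6, 0, 166, [951, 1125, 732]⟩) (.leaf ⟨4, 2855, 2857, 0, 0, 0,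 0, 39, 0, 2857, [17503, 17509, 17490]⟩)) (.node (.leaf ⟨2, 519, 764, (-21), 0, 1, 0, 28, 0, 764, [4765, 3360, 2702]⟩) (.leaf ⟨3, 4333, 4333, 1, 0, (-11), 0, 33, 2, 2662, [25668, 25700, 25668]⟩))) (.node (.node (.leaf ⟨5, 817, 814, 0, 0, 0, 0, 46, 0, 814, [5209, 5218, 5220]⟩) (.leaf ⟨11, 3539, 3661, 0, 0, 0, 0, 50, 3, 3539, [21067, 21604, 21546]⟩)) (.node (.leaf ⟨5, 2344, 2345, 0, 0, 0, 0, 93, 0, 0, []⟩) (.leaf ⟨11, 2363, 4981, 0, 0, 0, 0, 93, 0, 0, []⟩)))) (.node (.node (.node (.leaf ⟨2, 563, 563, (-1), 0, (-1), 0, 28, 2, 567, [3045, 3090, 3045]⟩) (.leaf ⟨7, 3170, 3220, 0, 0, 0, 0, 93, 0, 0, []⟩)) (.node (.leaf ⟨2, 1930, 1926, 0, 0, 0, 0, 26, 0, 1926, [11343, 11365, 11350]⟩) (.leaf ⟨10, 4674, 4674, (-1), 0, 1, 0, 49, 5, 4674, [27737, 21457, 21482, 21456, 27736]⟩)))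 (.node (.node (.leaf ⟨11, 1182, 1183, 0, 0, 0, 0, 93, 0, 0, []⟩) (.leaf ⟨6, 3963, 3964, 0, 0, 0, 0, 93, 0, 0, []⟩)) (.node (.leaf ⟨4, 2583, 2382, 0, 0, 0, 0, 13, 3, 2583, [15425, 15460, 13770]⟩) (.leaf ⟨0, 0, 0, 0, 0, 0, 0, 0, 0, 0, []⟩)))))) (.node (.node (.node (.node (.node (.leaf ⟨3, 133, 133, 1, 0, (-1), 0, 33, 0, 133, [577, 612, 576]⟩) (.leaf ⟨4, 393, 2775, 0, 0, 0, 0, 42, 2, 392, [2096, 2095, 16832]⟩)) (.node (.leaf ⟨4, 1561, 1554, 0, 0, 0, 0, 40, 0, 1554, [8769, 8728, 8794]⟩) (.leaf ⟨8, 4228, 4139, 42, 0, (-18), 0, 52, 3, 4228, [25145, 25189, 24704]⟩))) (.node (.node (.leaf ⟨3, 749, 457, 0, 0, 0, 0, 31, 0, 457, [2411, 4707, 4708]⟩) (.leaf ⟨6, 3548, 3550, 0, 0, 0, 0, 93, 0, 0, []⟩)) (.node (.leaf ⟨7, 2213, 2213, 1, 0, (-1), 0, 59, 0, 2213, [12875, 12900, 12874]⟩)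 (.leaf ⟨1, 1772, 4904, 0, 0, 0, 0, 14, 0, 4904, [29285, 29172, 10562]⟩)))) (.node (.node (.node (.leaf ⟨5, 507, 508, 0, 0, 0, 0, 93, 0, 0, []⟩) (.leaf ⟨10, 3129, 3131, 0, 0, 0, 0, 58, 3, 3129, [19037, 19042, 19044]⟩)) (.node (.leaf ⟨4, 1821, 1822, 0, 0, 0, 0, 93, 0, 0, []⟩) (.leaf ⟨10, 3455, 4579, 0, 0, 0, 0, 58, 3, 3455, [20771, 2407, 27168]⟩))) (.node (.node (.leaf ⟨8, 1061, 1078, 0, 0, 0, 0, 47, 3, 1061, [6671, 6669, 6754]⟩) (.leaf ⟨10, 3822, 3822, (-1), 0, 1, 0, 49, 5, 3822, [22843, 23127, 23140, 23126, 22842]⟩)) (.node (.leaf ⟨5, 19, 2479, 0, 0, 0, 0, 31, 3, 19, [37, 14948, 14908]⟩) (.leaf ⟨1, 5191, 5191, (-1), 0, (-1), 0, 20, 0, 5191, [31327, 31332, 31326]⟩))))) (.node (.node (.node (.node (.leaf ⟨7, 262, 263, 0, 0, 0, 0, 93, 0, 0, []⟩) (.leaf ⟨7, 2949, 2222,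 0, 0, 0, 0, 51, 5, 2949, [18001, 17997, 18020, 12922, 12924]⟩)) (.node (.leaf ⟨0, 1416, 1670, 0, 0, 0, 0, 9, 0, 1670, [9785, 9829, 8160]⟩) (.leaf ⟨4, 4421, 4430, 0, 0, 0, 0, 93, 0, 0, []⟩))) (.node (.node (.leaf ⟨11, 904, 905, 0, 0, 0, 0, 93, 0, 0, []⟩) (.leaf ⟨9, 376, 3744, 0, 0, 0, 0, 93, 0, 0, []⟩)) (.node (.leaf ⟨11, 1391, 2408, 0, 0, 0, 0, 93, 0, 0, []⟩) (.leaf ⟨9, 5030, 5030, (-1), 0, 1, 0, 60, 5, 5030, [30231, 30279, 30308, 30278, 30230]⟩)))) (.node (.node (.node (.leaf ⟨7, 102, 102, (-1), 0, (-1), 0, 51, 5, 102, [437, 433, 3370, 432, 436]⟩) (.leaf ⟨11, 3320, 3320, 1, 0, 1, 0, 59, 3, 3320, [20061, 5886, 20060]⟩)) (.node (.leaf ⟨6, 2005, 2011, 0, 0, 0, 0, 52, 2, 2004, [11864, 11863, 11876]⟩) (.leaf ⟨6, 449, 449, (-1), 0, 1, 0, 45, 5, 449, [2393, 28258, 28260,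 28259, 2392]⟩))) (.node (.node (.leaf ⟨9, 18, 1324, 0, 0, 0, 0, 93, 0, 0, []⟩) (.leaf ⟨9, 534, 534, (-1), 0, 1, 0, 57, 3, 534, [2853, 24164, 2852]⟩)) (.node (.leaf ⟨5, 2141, 2671, 0, 0, 0, 0, 93, 0, 0, []⟩) (.leaf ⟨0, 0, 0, 0, 0, 0, 0, 0, 0, 0, []⟩))))))

def factsPart52 : ATree TFact :=
  .node (.node (.node (.node (.node (.node (.leaf ⟨4, 52, 53, 0, 0, 0, 0, 93, 0, 0, []⟩) (.leaf ⟨3, 2723, 2724, 0, 0, 0, 0, 93, 0, 0, []⟩)) (.node (.leaf ⟨6, 1430, 1431, 0, 0, 0, 0, 93, 0, 0, []⟩) (.leaf ⟨9, 4129, 3520, 0, 0, 0, 0, 48, 3, 4129, [24665, 24678, 20994]⟩))) (.node (.node (.leaf ⟨3, 531, 531, 1, 0, 1, 0, 36, 0, 531, [2797, 2844, 2796]⟩) (.leaf ⟨5, 3415, 3416, 0, 0, 0, 0, 93, 0, 0, []⟩)) (.node (.leaf ⟨10, 417, 2141, 0, 0, 0, 0, 93, 0, 0, []⟩) (.leaf ⟨6, 4839, 2914, 0,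 0, 0, 0, 53, 0, 2914, [17793, 28773, 28774]⟩)))) (.node (.node (.node (.leaf ⟨2, 382, 382, (-1), 0, 1, 0, 24, 2, 381, [2064, 2150, 2064]⟩) (.leaf ⟨4, 3068, 3064, 0, 0, 0, 0, 44, 0, 3064, [18517, 18533, 18534]⟩)) (.node (.leaf ⟨6, 1160, 1160, (-1), 0, 1, 0, 24, 3, 1160, [7143, 10342, 7142]⟩) (.leaf ⟨3, 4251, 2647, 0, 0, 0, 0, 36, 0, 2647, [15859, 26726, 25328]⟩))) (.node (.node (.leaf ⟨3, 357, 436, 0, 0, 0, 0, 31, 0, 436, [2345, 6247, 1926]⟩) (.leaf ⟨2, 2139, 2139, 1, 0, 1, 0, 11, 5, 2139, [22629, 22630, 15520, 22631, 22628]⟩)) (.node (.leaf ⟨1, 1586, 576, 0, 0, 0, 0, 16, 0, 576, [3101, 14439, 8942]⟩) (.leaf ⟨6, 5129, 5130, 0, 0, 0, 0, 93, 0, 0, []⟩))))) (.node (.node (.node (.node (.leaf ⟨0, 141, 167, 0, 0, 0, 0, 5, 0, 167, [967, 1127, 734]⟩) (.leaf ⟨5, 2857, 2858,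 0, 0, 0, 0, 93, 0, 0, []⟩)) (.node (.leaf ⟨2, 520, 765, (-21), 0, (-1), 0, 23, 0, 765, [4771, 9319, 2704]⟩) (.leaf ⟨3, 4334, 4334, 1, 0, 11, 0, 32, 2, 4333, [25672, 25702, 25672]⟩))) (.node (.node (.leaf ⟨9, 196, 818, 0, 0, 0, 0, 93, 0, 0, []⟩) (.leaf ⟨11, 3540, 3662, 0, 0, 0, 0, 44, 3, 3540, [21069, 21606, 21548]⟩)) (.node (.leaf ⟨7, 1779, 2345, 0, 0, 0, 0, 46, 3, 1779, [10625, 13412, 13414]⟩) (.leaf ⟨2, 4981, 4980, 0, 0, 0, 0, 29, 0, 4980, [29797, 13600, 29798]⟩)))) (.node (.node (.node (.leaf ⟨6, 395, 395, 1, 0, (-1), 0, 32, 3, 395, [2159, 2786, 2158]⟩) (.leaf ⟨6, 3220, 3221, 0, 0, 0, 0, 93, 0, 0, []⟩)) (.node (.leaf ⟨2, 1931, 1927, 0, 0, 0, 0, 23, 0, 1927, [11345, 11367, 11352]⟩) (.leaf ⟨10, 4675, 4675, (-1), 0, (-1), 0, 43, 3, 4675, [27739, 27750, 27738]⟩)))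 (.node (.node (.leaf ⟨7, 1178, 42, 0, 0, 0, 0, 51, 3, 1176, [7258, 7260, 7257, 80, 82]⟩) (.leaf ⟨5, 3964, 3965, 0, 0, 0, 0, 93, 0, 0, []⟩)) (.node (.leaf ⟨4, 2584, 2587, 0, 0, 0, 0, 42, 0, 2587, [15449, 15463, 15426]⟩) (.leaf ⟨0, 0, 0, 0, 0, 0, 0, 0, 0, 0, []⟩)))))) (.node (.node (.node (.node (.node (.leaf ⟨3, 0, 0, 1, 0, 1, 0, 83, 0, 0, []⟩) (.leaf ⟨4, 2778, 2761, 0, 0, 0, 0, 40, 0, 2761, [16737, 16998, 16844]⟩)) (.node (.leaf ⟨4, 1562, 1555, 0, 0, 0, 0, 39, 0, 1555, [8771, 8807, 8796]⟩) (.leaf ⟨7, 4225, 4231, 0, 0, 0, 0, 93, 0, 0, []⟩))) (.node (.node (.leaf ⟨10, 450, 750, 0, 0, 0, 0, 93, 0, 0, []⟩) (.leaf ⟨8, 3550, 3551, 0, 0, 0, 0, 93, 0, 0, []⟩)) (.node (.leaf ⟨5, 2014, 2215, 0, 0, 0, 0, 93, 0, 0, []⟩) (.leaf ⟨11, 4904, 4899, (-1), 0, 5, 0, 20, 1, 1766, [29283,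 29286, 29181]⟩)))) (.node (.node (.node (.leaf ⟨7, 508, 509, 0, 0, 0, 0, 93, 0, 0, []⟩) (.leaf ⟨7, 835, 3132, 0, 0, 0, 0, 93, 0, 0, []⟩)) (.node (.leaf ⟨3, 1822, 1823, 0, 0, 0, 0, 93, 0, 0, []⟩) (.leaf ⟨10, 4580, 3456, 0, 0, 0, 0, 54, 3, 4580, [27171, 27239, 20774]⟩))) (.node (.node (.leaf ⟨8, 1079, 1062, 0, 0, 0, 0, 41, 3, 1079, [6757, 6759, 6672]⟩) (.leaf ⟨10, 3823, 3823, (-1), 0, (-1), 0, 58, 3, 3823, [22845, 23142, 22844]⟩)) (.node (.leaf ⟨10, 2484, 2481, 0, 0, 0, 0, 49, 5, 2484, [14943, 14941, 14950, 14910, 14920]⟩) (.leaf ⟨2, 5189, 5189, 1, 0, (-1), 0, 27, 0, 5189, [31319, 17922, 31318]⟩))))) (.node (.node (.node (.node (.leaf ⟨6, 263, 264, 0, 0, 0, 0, 93, 0, 0, []⟩) (.leaf ⟨7, 2950, 2223, 0, 0, 0, 0, 46, 3, 2950, [18005, 18022, 12926]⟩)) (.node (.leaf ⟨7,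 1677, 1670, 17, 0, 9, 0, 6, 3, 1677, [9812, 8185, 9830]⟩) (.leaf ⟨10, 4400, 4431, 0, 0, 0, 0, 93, 0, 0, []⟩))) (.node (.node (.leaf ⟨9, 904, 901, 0, 0, 0, 0, 63, 2, 903, [5732, 5731, 5726]⟩) (.leaf ⟨3, 3744, 3736, 0, 0, 0, 0, 35, 0, 3736, [22021, 22117, 22118]⟩)) (.node (.leaf ⟨8, 2406, 2408, 0, 0, 0, 0, 62, 0, 2408, [13927, 8145, 13922]⟩) (.leaf ⟨9, 5037, 5037, (-1), 0, (-1), 0, 57, 3, 5037, [30261, 30310, 30260]⟩)))) (.node (.node (.node (.leaf ⟨7, 664, 664, (-1), 0, 1, 0, 46, 3, 664, [3683, 3686, 3682]⟩) (.leaf ⟨11, 3321, 3321, 1, 0, (-1), 0, 55, 3, 3321, [20063, 20070, 20062]⟩)) (.node (.leaf ⟨8, 1626, 2012, 0, 0, 0, 0, 93, 0, 0, []⟩) (.leaf ⟨6, 450, 450, (-1), 0, (-1), 0, 39, 3, 450, [2395, 28262, 2394]⟩))) (.node (.node (.leaf ⟨10, 1324, 1325, 0, 0, 0, 0, 93,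 0, 0, []⟩) (.leaf ⟨9, 556, 556, (-1), 0, (-1), 0, 53, 3, 556, [3003, 24166, 3002]⟩)) (.node (.leaf ⟨6, 2671, 2672, 0, 0, 0, 0, 93, 0, 0, []⟩) (.leaf ⟨0, 0, 0, 0, 0, 0, 0, 0, 0, 0, []⟩))))))

def factsPart53 : ATree TFact :=
  .node (.node (.node (.node (.node (.node (.leaf ⟨2, 38, 20, 0, 0, 0, 0, 27, 2, 37, [74, 73, 38]⟩) (.leaf ⟨2, 2724, 2725, 0, 0, 0, 0, 93, 0, 0, []⟩)) (.node (.leaf ⟨8, 1421, 1431, 0, 0, 0, 0, 52, 3, 1421, [8249, 8294, 8296]⟩) (.leaf ⟨9, 4130, 3521, 0, 0, 0, 0, 42, 3, 4130, [24667, 24680, 20996]⟩))) (.node (.node (.leaf ⟨3, 576, 576, (-1), 0, (-1), 0, 33, 0, 576, [3101, 4200, 3100]⟩) (.leaf ⟨10, 3416, 3417, 0, 0, 0, 0, 93, 0, 0, []⟩)) (.node (.leaf ⟨11, 2141, 2142, 0, 0, 0, 0, 93, 0, 0, []⟩) (.leaf ⟨10, 4839, 4840, 0, 0, 0, 0, 93, 0, 0, []⟩))))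 (.node (.node (.node (.leaf ⟨11, 350, 99, 0, 0, 0, 0, 50, 3, 350, [1913, 1911, 424]⟩) (.leaf ⟨9, 357, 3069, 0, 0, 0, 0, 93, 0, 0, []⟩)) (.node (.leaf ⟨6, 1752, 1752, (-1), 0, (-1), 0, 15, 3, 1752, [10327, 10344, 10326]⟩) (.leaf ⟨3, 4252, 4365, 0, 0, 0, 0, 37, 0, 4365, [25863, 26729, 25330]⟩))) (.node (.node (.leaf ⟨4, 359, 438, 0, 0, 0, 0, 30, 5, 359, [1931, 1929, 6248, 2346, 2348]⟩) (.leaf ⟨2, 412, 412, 1, 0, (-1), 0, 27, 2, 2139, [22627, 22632, 22627]⟩)) (.node (.leaf ⟨1, 1587, 577, 0, 0, 0, 0, 15, 0, 577, [3103, 14441, 8944]⟩) (.leaf ⟨4, 5130, 5131, 0, 0, 0, 0, 93, 0, 0, []⟩))))) (.node (.node (.node (.node (.leaf ⟨0, 142, 168, 0, 0, 0, 0, 4, 0, 168, [995, 1129, 740]⟩) (.leaf ⟨5, 2280, 2859, 0, 0, 0, 0, 93, 0, 0, []⟩)) (.node (.leaf ⟨2, 1622, 1623, (-21), 0, 1,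 0, 24, 0, 1623, [9317, 9321, 9310]⟩) (.leaf ⟨2, 3589, 4333, 0, 0, 0, 0, 25, 0, 4333, [25669, 25697, 21268]⟩))) (.node (.node (.leaf ⟨6, 818, 816, 0, 0, 0, 0, 53, 0, 816, [5217, 1352, 5224]⟩) (.leaf ⟨11, 3541, 3663, 0, 0, 0, 0, 37, 3, 3541, [21071, 21608, 21550]⟩)) (.node (.leaf ⟨10, 1645, 2346, 0, 0, 0, 0, 93, 0, 0, []⟩) (.leaf ⟨3, 708, 4981, 0, 0, 0, 0, 37, 0, 4981, [29799, 13610, 4282]⟩)))) (.node (.node (.node (.leaf ⟨6, 406, 406, (-1), 0, 1, 0, 54, 0, 406, [2221, 3176, 2220]⟩) (.leaf ⟨4, 3169, 3212, 0, 0, 0, 0, 43, 2, 1467, [19276, 8459, 19492]⟩)) (.node (.leaf ⟨10, 981, 1932, 0, 0, 0, 0, 93, 0, 0, []⟩) (.leaf ⟨10, 4676, 4676, (-1), 0, 1, 0, 36, 3, 4676, [27741, 27752, 27740]⟩))) (.node (.node (.leaf ⟨7, 1169, 1179, 0, 0, 0, 0, 46, 3, 1169, [7229, 7273, 7262]⟩)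 (.leaf ⟨6, 3680, 3965, 0, 0, 0, 0, 45, 5, 3680, [21661, 21659, 23652, 23654, 23656]⟩)) (.node (.leaf ⟨4, 2585, 2588, 0, 0, 0, 0, 3, 3, 2585, [15429, 15464, 15450]⟩) (.leaf ⟨0, 0, 0, 0, 0, 0, 0, 0, 0, 0, []⟩)))))) (.node (.node (.node (.node (.node (.leaf ⟨3, 1, 1, 1, 0, (-1), 0, 12, 3, 1, [1, 616, 0]⟩) (.leaf ⟨4, 2795, 2796, 0, 0, 0, 0, 39, 0, 2796, [16997, 17001, 16992]⟩)) (.node (.leaf ⟨5, 1564, 1557, 0, 0, 0, 0, 38, 5, 1564, [8801, 8799, 8808, 8772, 8774]⟩) (.leaf ⟨6, 4231, 4232, 0, 0, 0, 0, 93, 0, 0, []⟩))) (.node (.node (.leaf ⟨5, 750, 751, 0, 0, 0, 0, 93, 0, 0, []⟩) (.leaf ⟨6, 3551, 3549, 0, 0, 0, 0, 52, 2, 3550, [21096, 21095, 21088]⟩)) (.node (.leaf ⟨10, 2215, 2216, 0, 0, 0, 0, 93, 0, 0, []⟩) (.leaf ⟨3, 4904, 4903, (-1), 0, 5, 0, 37, 2, 4899, [29289, 29207,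 29278]⟩)))) (.node (.node (.node (.leaf ⟨6, 509, 510, 0, 0, 0, 0, 93, 0, 0, []⟩) (.leaf ⟨2, 3130, 835, 0, 0, 0, 0, 27, 0, 835, [5323, 6105, 19040]⟩)) (.node (.leaf ⟨2, 1823, 1824, 0, 0, 0, 0, 93, 0, 0, []⟩) (.leaf ⟨5, 4598, 4597, 0, 0, 0, 0, 49, 4, 4581, [27236, 27173, 27240, 27224, 27232]⟩))) (.node (.node (.leaf ⟨10, 1079, 1080, 0, 0, 0, 0, 93, 0, 0, []⟩) (.leaf ⟨10, 3824, 3824, (-1), 0, 1, 0, 54, 3, 3824, [22849, 23144, 22848]⟩)) (.node (.leaf ⟨10, 2485, 2482, 0, 0, 0, 0, 58, 3, 2485, [14945, 14952, 14924]⟩) (.leaf ⟨2, 5190, 5190, (-1), 0, 1, 0, 28, 0, 5190, [31323, 31336, 31322]⟩))))) (.node (.node (.node (.node (.leaf ⟨5, 264, 265, 0, 0, 0, 0, 93, 0, 0, []⟩) (.leaf ⟨10, 2532, 2223, (-160), 0, (-62), 0, 66, 28, 2257, [13110, 13109, 13105, 13101, 13114, 13226,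 13243, 13241, 13254, 13270, 13269, 13280, 13330, 13346, 13867, 14847, 13873, 14862, 14864, 14874, 7021, 14988, 14985, 15135, 14993, 15153, 15165, 15176, 15180, 15182, 15184, 15186, 15188, 15190, 15192, 15260, 15305, 17722, 17707, 17705, 17703, 17701, 17734, 17759, 17784, 17803, 17876, 17884, 17886, 17890, 17916, 17932, 17944, 17966, 17968, 17973, 17976, 17978, 17991, 18003, 18004, 18010, 18024]⟩)) (.node (.leaf ⟨4, 12, 12, 1, 0, 1, 0, 43, 0, 12, [23, 9282, 22]⟩) (.leaf ⟨5, 4431, 4432, 0, 0, 0, 0, 93, 0, 0, []⟩))) (.node (.node (.leaf ⟨9, 902, 905, 0, 0, 0, 0, 64, 0, 905, [5735, 5736, 5728]⟩) (.leaf ⟨2, 376, 196, 0, 0, 0, 0, 26, 0, 196, [1351, 435, 2004]⟩)) (.node (.leaf ⟨5, 2408, 2409, 0, 0, 0, 0, 93, 0, 0, []⟩) (.leaf ⟨1, 2656, 5045, 0, 0, 0, 0, 93, 0, 0, []⟩))))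 (.node (.node (.node (.leaf ⟨7, 665, 665, 1, 0, (-1), 0, 58, 0, 665, [3685, 3688, 3684]⟩) (.leaf ⟨11, 3322, 3322, 1, 0, 1, 0, 50, 3, 3322, [20069, 20072, 20068]⟩)) (.node (.leaf ⟨3, 1994, 1102, 0, 0, 0, 0, 34, 0, 1102, [6887, 9475, 11842]⟩) (.leaf ⟨6, 747, 747, 1, 0, 1, 0, 53, 0, 747, [4701, 28264, 4700]⟩))) (.node (.node (.leaf ⟨5, 1325, 1326, 0, 0, 0, 0, 93, 0, 0, []⟩) (.leaf ⟨9, 557, 557, (-1), 0, 1, 0, 48, 3, 557, [3005, 24168, 3004]⟩)) (.node (.leaf ⟨4, 2668, 848, 0, 0, 0, 0, 43, 2, 2667, [15958, 15957, 5370]⟩) (.leaf ⟨0, 0, 0, 0, 0, 0, 0, 0, 0, 0, []⟩))))))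

def factsPart54 : ATree TFact :=
  .node (.node (.node (.node (.node (.node (.leaf ⟨2, 21, 39, 0, 0, 0, 0, 28, 0, 39, [77, 106, 40]⟩) (.leaf ⟨1, 2725, 2726, 0, 0, 0, 0, 93, 0, 0, []⟩)) (.node (.leaf ⟨9, 1360, 1428, 0, 0, 0, 0, 63, 2, 1359, [8018, 8017, 8282]⟩) (.leaf ⟨9, 4131, 3522, 0, 0, 0, 0, 35, 3, 4131, [24669, 24682, 20998]⟩))) (.node (.node (.leaf ⟨3, 577, 577, 1, 0, 1, 0, 32, 0, 577, [3103, 4202, 3102]⟩) (.leaf ⟨7, 3417, 3418, 0, 0, 0, 0, 93, 0, 0, []⟩)) (.node (.leaf ⟨4, 2141, 2139, 0, 0, 0, 0, 43, 2, 417, [12392, 2261, 12384]⟩) (.leaf ⟨6, 4840, 2915, 0, 0, 0, 0, 54, 0, 2915, [17797, 28777, 28778]⟩)))) (.node (.node (.node (.leaf ⟨11, 100, 351, 0, 0, 0, 0, 44, 3, 100, [429, 2155, 1914]⟩) (.leaf ⟨3, 3069, 3066, 0, 0, 0, 0, 35, 0, 3066, [18527, 6249, 18538]⟩))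 (.node (.leaf ⟨6, 1753, 1753, (-1), 0, 1, 0, 5, 3, 1753, [10329, 10346, 10328]⟩) (.leaf ⟨3, 4263, 4366, 0, 0, 0, 0, 31, 0, 4366, [25869, 26731, 25352]⟩))) (.node (.node (.leaf ⟨4, 360, 981, 0, 0, 0, 0, 42, 0, 981, [6215, 6251, 1932]⟩) (.leaf ⟨2, 3548, 3548, 1, 0, 1, 0, 25, 2, 412, [21086, 22634, 21086]⟩)) (.node (.leaf ⟨1, 1588, 578, 0, 0, 0, 0, 14, 0, 578, [3105, 14443, 8946]⟩) (.leaf ⟨9, 5128, 5124, 0, 0, 0, 0, 64, 0, 5124, [30803, 14882, 30820]⟩))))) (.node (.node (.node (.node (.leaf ⟨3, 120, 120, 1, 0, 1, 0, 32, 0, 120, [503, 992, 502]⟩) (.leaf ⟨7, 2859, 2860, 0, 0, 0, 0, 93, 0, 0, []⟩)) (.node (.leaf ⟨1, 1623, 1621, 0, 0, 0, 0, 20, 0, 1621, [9267, 2657, 9312]⟩) (.leaf ⟨2, 3591, 4334, 0, 0, 0, 0, 24, 0, 4334, [25673, 25707, 21276]⟩))) (.node (.node (.leaf ⟨8,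 88, 88, (-1), 0, 1, 0, 61, 0, 88, [385, 314, 384]⟩) (.leaf ⟨11, 3542, 3664, 0, 0, 0, 0, 59, 3, 3542, [21073, 21610, 21552]⟩)) (.node (.leaf ⟨5, 2346, 2347, 0, 0, 0, 0, 93, 0, 0, []⟩) (.leaf ⟨3, 4980, 1772, 1, 0, (-5), 0, 21, 5, 4980, [29801, 29803, 4363, 8994, 10596]⟩)))) (.node (.node (.node (.leaf ⟨7, 408, 408, (-1), 0, 1, 0, 51, 5, 408, [2225, 2223, 3178, 2222, 2224]⟩) (.leaf ⟨4, 3213, 3170, 0, 0, 0, 0, 44, 0, 3170, [19279, 19562, 19494]⟩)) (.node (.leaf ⟨11, 1932, 1933, 0, 0, 0, 0, 93, 0, 0, []⟩) (.leaf ⟨10, 4677, 4677, (-1), 0, (-1), 0, 28, 3, 4677, [27743, 27754, 27742]⟩))) (.node (.node (.leaf ⟨7, 1170, 1180, 0, 0, 0, 0, 40, 3, 1170, [7231, 7274, 7264]⟩) (.leaf ⟨4, 3682, 3600, 0, 0, 0, 0, 38, 0, 3600, [21323, 2273, 2255, 21622, 21672]⟩)) (.node (.leaf ⟨4,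 2586, 2589, 0, 0, 0, 0, 40, 0, 2589, [15453, 15467, 15430]⟩) (.leaf ⟨0, 0, 0, 0, 0, 0, 0, 0, 0, 0, []⟩)))))) (.node (.node (.node (.node (.node (.leaf ⟨2, 3, 3, 1, 0, (-1), 0, 21, 4, 2, [4, 3, 618, 2, 4]⟩) (.leaf ⟨5, 2796, 2797, 0, 0, 0, 0, 93, 0, 0, []⟩)) (.node (.leaf ⟨5, 1565, 1558, 0, 0, 0, 0, 31, 3, 1565, [8803, 8810, 8776]⟩) (.leaf ⟨10, 4227, 4231, 0, 0, 0, 0, 58, 3, 4227, [25143, 25141, 25192]⟩))) (.node (.node (.leaf ⟨9, 748, 750, 0, 0, 0, 0, 63, 2, 747, [4704, 4701, 4712]⟩) (.leaf ⟨5, 3551, 3552, 0, 0, 0, 0, 93, 0, 0, []⟩)) (.node (.leaf ⟨5, 2013, 2202, 0, 0, 0, 0, 46, 2, 2001, [11912, 11857, 12810]⟩) (.leaf ⟨2, 4896, 2443, 0, 0, 0, 0, 28, 0, 2443, [14485, 14503, 29162]⟩)))) (.node (.node (.node (.leaf ⟨5, 510, 511, 0, 0, 0, 0, 93, 0, 0, []⟩) (.leaf ⟨2,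 3131, 3132, 0, 0, 0, 0, 25, 0, 3132, [19049, 19051, 19044]⟩)) (.node (.leaf ⟨1, 1824, 1825, 0, 0, 0, 0, 93, 0, 0, []⟩) (.leaf ⟨4, 4583, 4598, 0, 0, 0, 0, 43, 2, 4582, [27176, 27175, 27236]⟩))) (.node (.node (.leaf ⟨8, 1080, 1063, 0, 0, 0, 0, 61, 0, 1063, [6675, 6761, 6762]⟩) (.leaf ⟨7, 3826, 3883, 0, 0, 0, 0, 93, 0, 0, []⟩)) (.node (.leaf ⟨5, 1725, 2486, 0, 0, 0, 0, 93, 0, 0, []⟩) (.leaf ⟨2, 5191, 5191, 1, 0, (-1), 0, 29, 0, 5191, [31327, 31338, 31326]⟩))))) (.node (.node (.node (.node (.leaf ⟨0, 8, 242, 0, 0, 0, 0, 10, 0, 242, [1597, 704, 14]⟩) (.leaf ⟨7, 2525, 2951, 0, 0, 0, 0, 93, 0, 0, []⟩)) (.node (.leaf ⟨5, 1671, 1671, 1, 0, 1, 0, 38, 5, 1671, [9787, 25, 9834, 24, 9786]⟩) (.leaf ⟨6, 4432, 4433, 0, 0, 0, 0, 93, 0, 0, []⟩))) (.node (.node (.leaf ⟨5, 879, 906,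 0, 0, 0, 0, 93, 0, 0, []⟩) (.leaf ⟨2, 3744, 818, 0, 0, 0, 0, 27, 0, 818, [5225, 22123, 22118]⟩)) (.node (.leaf ⟨8, 2407, 2409, 0, 0, 0, 0, 47, 3, 2407, [13925, 13928, 13930]⟩) (.leaf ⟨9, 5045, 5046, 0, 0, 0, 0, 93, 0, 0, []⟩)))) (.node (.node (.node (.leaf ⟨6, 664, 664, (-1), 0, 1, 0, 45, 5, 664, [3683, 437, 2010, 436, 3682]⟩) (.leaf ⟨10, 3322, 3323, 0, 0, 0, 0, 93, 0, 0, []⟩)) (.node (.leaf ⟨3, 1995, 1103, 0, 0, 0, 0, 31, 0, 1103, [6891, 11883, 11844]⟩) (.leaf ⟨7, 4768, 4768, 1, 0, 1, 0, 51, 5, 4768, [28251, 28249, 28266, 28248, 28250]⟩))) (.node (.node (.leaf ⟨7, 1326, 1327, 0, 0, 0, 0, 93, 0, 0, []⟩) (.leaf ⟨8, 961, 961, 1, 0, 1, 0, 60, 0, 961, [6111, 24162, 24170, 24163, 6110]⟩)) (.node (.leaf ⟨4, 2669, 2671, 0, 0, 0, 0, 38, 0, 2671, [15975, 12396, 12389, 15979,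 15964]⟩) (.leaf ⟨0, 0, 0, 0, 0, 0, 0, 0, 0, 0, []⟩))))))

def factsPart55 : ATree TFact :=
  .node (.node (.node (.node (.node (.node (.leaf ⟨2, 22, 40, 0, 0, 0, 0, 23, 0, 40, [79, 109, 42]⟩) (.leaf ⟨9, 2726, 2727, 0, 0, 0, 0, 93, 0, 0, []⟩)) (.node (.leaf ⟨9, 1429, 1361, 0, 0, 0, 0, 48, 3, 1429, [8289, 8301, 8020]⟩) (.leaf ⟨9, 4132, 3523, 0, 0, 0, 0, 63, 0, 3523, [21001, 24685, 24670]⟩))) (.node (.node (.leaf ⟨3, 578, 578, (-1), 0, (-1), 0, 31, 0, 578, [3105, 4204, 3104]⟩) (.leaf ⟨6, 3418, 3419, 0, 0, 0, 0, 93, 0, 0, []⟩)) (.node (.leaf ⟨4, 2140, 2142, 0, 0, 0, 0, 44, 0, 2142, [12395, 12396, 12386]⟩) (.leaf ⟨8, 1562, 4841, 0, 0, 0, 0, 93, 0, 0, []⟩)))) (.node (.node (.node (.leaf ⟨3, 351, 395, 0, 0, 0, 0, 93, 0, 0, []⟩) (.leaf ⟨10, 3069, 3070, 0, 0, 0, 0, 93, 0,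 0, []⟩)) (.node (.leaf ⟨1, 1154, 1754, 0, 0, 0, 0, 93, 0, 0, []⟩) (.leaf ⟨2, 4263, 4263, (-1), 0, 1, 0, 21, 2, 4505, [26720, 26725, 26733, 26725, 26733]⟩))) (.node (.node (.leaf ⟨4, 361, 982, 0, 0, 0, 0, 40, 0, 982, [6217, 6253, 1934]⟩) (.leaf ⟨2, 3549, 3549, 1, 0, (-1), 0, 26, 2, 3548, [21088, 22636, 21088]⟩)) (.node (.leaf ⟨1, 1589, 579, 0, 0, 0, 0, 13, 0, 579, [3107, 14445, 8948]⟩) (.leaf ⟨9, 5129, 5125, 0, 0, 0, 0, 48, 3, 5129, [30823, 30828, 30804]⟩))))) (.node (.node (.node (.node (.leaf ⟨4, 120, 120, 1, 0, 1, 0, 39, 0, 120, [503, 988, 502]⟩) (.leaf ⟨5, 2860, 2856, 0, 0, 0, 0, 46, 2, 2859, [17516, 17515, 17500]⟩)) (.node (.leaf ⟨1, 1622, 1622, 1, 0, 1, 0, 15, 0, 1622, [9311, 2748, 9310]⟩) (.leaf ⟨7, 4290, 4337, 0, 0, 0, 0, 93, 0, 0, []⟩))) (.node (.node (.leaf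 ⟨8, 89, 89, (-1), 0, (-1), 0, 47, 3, 89, [387, 5228, 386]⟩) (.leaf ⟨11, 3543, 3665, 0, 0, 0, 0, 55, 3, 3543, [21075, 21612, 21554]⟩)) (.node (.leaf ⟨10, 2345, 2347, (-3), 0, 3, 0, 49, 3, 1748, [13408, 13414, 10323, 13418, 13420]⟩) (.leaf ⟨11, 703, 703, 1, 0, (-1), 0, 59, 3, 703, [4273, 9018, 4272]⟩)))) (.node (.node (.node (.leaf ⟨7, 562, 562, (-1), 0, (-1), 0, 46, 3, 562, [3025, 3180, 3024]⟩) (.leaf ⟨4, 3214, 3220, 0, 0, 0, 0, 40, 0, 3220, [19559, 19565, 19496]⟩)) (.node (.leaf ⟨5, 1933, 1934, 0, 0, 0, 0, 93, 0, 0, []⟩) (.leaf ⟨5, 4673, 4673, 1, 0, (-1), 0, 49, 0, 4673, [27733, 27749, 27756, 27748, 27732]⟩))) (.node (.node (.leaf ⟨7, 1171, 1181, 0, 0, 0, 0, 33, 3, 1171, [7233, 7276, 7266]⟩) (.leaf ⟨4, 3683, 3601, 0, 0, 0, 0, 40, 0, 3601, [21327, 23661, 21674]⟩))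 (.node (.leaf ⟨2, 2499, 2590, 0, 0, 0, 0, 93, 0, 0, []⟩) (.leaf ⟨0, 0, 0, 0, 0, 0, 0, 0, 0, 0, []⟩)))))) (.node (.node (.node (.node (.node (.leaf ⟨2, 4, 4, (-1), 0, 1, 0, 22, 0, 4, [7, 620, 6]⟩) (.leaf ⟨5, 392, 392, (-1), 0, (-1), 0, 38, 5, 392, [2095, 913, 16862, 912, 2094]⟩)) (.node (.leaf ⟨5, 1566, 1559, 0, 0, 0, 0, 23, 3, 1566, [8805, 8812, 8778]⟩) (.leaf ⟨10, 4232, 4228, 0, 0, 0, 0, 54, 3, 4232, [25195, 25197, 25144]⟩))) (.node (.node (.leaf ⟨9, 751, 749, 0, 0, 0, 0, 48, 3, 751, [4715, 4717, 4708]⟩) (.leaf ⟨6, 3539, 3552, 0, 0, 0, 0, 45, 5, 3539, [21067, 21084, 21092, 21099, 21100]⟩)) (.node (.leaf ⟨6, 2211, 2215, 0, 0, 0, 0, 45, 5, 2211, [12867, 12813, 12909, 11914, 12904]⟩) (.leaf ⟨2, 4904, 2709, 0, 0, 0, 0, 23, 0, 2709, [16421, 29293, 29284]⟩)))) (.node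 (.node (.node (.leaf ⟨10, 511, 512, 0, 0, 0, 0, 93, 0, 0, []⟩) (.leaf ⟨5, 3132, 957, 0, 0, 0, 0, 46, 0, 957, [6095, 5332, 19048]⟩)) (.node (.leaf ⟨8, 1125, 1821, 0, 0, 0, 0, 47, 3, 1125, [7003, 7001, 10852]⟩) (.leaf ⟨4, 4592, 4596, 0, 0, 0, 0, 38, 0, 4596, [27231, 27234, 27243, 27245, 27222]⟩))) (.node (.node (.leaf ⟨8, 1050, 1081, 0, 0, 0, 0, 93, 0, 0, []⟩) (.leaf ⟨5, 3828, 3883, 0, 0, 0, 0, 46, 2, 3827, [22856, 22855, 23148]⟩)) (.node (.leaf ⟨8, 1725, 2483, 0, 0, 0, 0, 61, 0, 2483, [14941, 7129, 10156]⟩) (.leaf ⟨3, 4868, 5189, 0, 0, 0, 0, 35, 2, 1997, [28910, 11849, 31318]⟩))))) (.node (.node (.node (.node (.leaf ⟨0, 9, 243, 0, 0, 0, 0, 4, 0, 243, [1599, 1645, 16]⟩) (.leaf ⟨6, 2951, 2952, 0, 0, 0, 0, 93, 0, 0, []⟩)) (.node (.leaf ⟨5, 1672, 1672, (-1), 0, (-1),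 0, 46, 0, 1672, [9789, 9836, 9788]⟩) (.leaf ⟨7, 4433, 4434, 0, 0, 0, 0, 93, 0, 0, []⟩))) (.node (.node (.leaf ⟨8, 478, 906, 0, 0, 0, 0, 47, 3, 478, [2469, 5606, 5740]⟩) (.leaf ⟨10, 196, 196, 1, 0, 1, 0, 61, 3, 196, [1351, 3722, 1350]⟩)) (.node (.leaf ⟨10, 1783, 2410, 0, 0, 0, 0, 93, 0, 0, []⟩) (.leaf ⟨0, 5046, 5047, 0, 0, 0, 0, 93, 0, 0, []⟩)))) (.node (.node (.node (.leaf ⟨6, 665, 665, 1, 0, (-1), 0, 54, 0, 665, [3685, 3692, 3684]⟩) (.leaf ⟨10, 3320, 3320, (-1), 0, 1, 0, 58, 3, 3320, [20061, 5898, 20060]⟩)) (.node (.leaf ⟨4, 1997, 1105, 0, 0, 0, 0, 30, 5, 1997, [11849, 11847, 11884, 6894, 6898]⟩) (.leaf ⟨7, 450, 4770, 0, 0, 0, 0, 93, 0, 0, []⟩))) (.node (.node (.leaf ⟨6, 1327, 1328, 0, 0, 0, 0, 93, 0, 0, []⟩) (.leaf ⟨8, 3874, 3874, (-1), 0, (-1), 0, 61, 0, 3874,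 [23083, 24172, 23082]⟩)) (.node (.leaf ⟨4, 2670, 2672, 0, 0, 0, 0, 39, 0, 2672, [15977, 15981, 15968]⟩) (.leaf ⟨0, 0, 0, 0, 0, 0, 0, 0, 0, 0, []⟩))))))

def factsPart56 : ATree TFact :=
  .node (.node (.node (.node (.node (.node (.leaf ⟨2, 23, 41, 0, 0, 0, 0, 25, 0, 41, [81, 111, 44]⟩) (.leaf ⟨7, 2727, 2728, 0, 0, 0, 0, 93, 0, 0, []⟩)) (.node (.leaf ⟨9, 1430, 1362, 0, 0, 0, 0, 57, 3, 1430, [8293, 8302, 8022]⟩) (.leaf ⟨5, 3523, 4135, 0, 0, 0, 0, 93, 0, 0, []⟩))) (.node (.node (.leaf ⟨4, 580, 580, (-1), 0, (-1), 0, 30, 5, 580, [3109, 3107, 4206, 3106, 3108]⟩) (.leaf ⟨5, 3419, 3420, 0, 0, 0, 0, 93, 0, 0, []⟩)) (.node (.leaf ⟨5, 2132, 2142, (-21), 0, 1, 0, 38, 5, 2132, [12358, 12369, 12383, 12390, 12398]⟩) (.leaf ⟨5, 4841, 4842, 0, 0, 0, 0, 93, 0, 0, []⟩)))) (.node (.node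 (.node (.leaf ⟨11, 105, 395, 0, 0, 0, 0, 37, 3, 105, [449, 2156, 2158]⟩) (.leaf ⟨3, 3070, 3067, 0, 0, 0, 0, 36, 0, 3067, [18531, 18541, 18542]⟩)) (.node (.leaf ⟨0, 1754, 1755, 0, 0, 0, 0, 93, 0, 0, []⟩) (.leaf ⟨2, 4264, 4264, (-1), 0, (-1), 0, 25, 2, 4263, [25354, 26734, 25354]⟩))) (.node (.node (.leaf ⟨4, 362, 983, 0, 0, 0, 0, 39, 0, 983, [6219, 6255, 1936]⟩) (.leaf ⟨2, 3797, 3797, 1, 0, 1, 0, 28, 2, 3549, [22625, 22638, 22625]⟩)) (.node (.leaf ⟨1, 1590, 580, 0, 0, 0, 0, 12, 0, 580, [3109, 14447, 8950]⟩) (.leaf ⟨9, 5130, 5126, 0, 0, 0, 0, 53, 3, 5130, [30825, 30830, 30806]⟩))))) (.node (.node (.node (.node (.leaf ⟨6, 121, 121, (-1), 0, (-1), 0, 45, 5, 121, [505, 503, 984, 502, 504]⟩) (.leaf ⟨6, 2860, 2861, 0, 0, 0, 0, 93, 0, 0, []⟩)) (.node (.leaf ⟨2, 1621, 1621,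 1, 0, (-1), 0, 11, 3, 1622, [9322, 9324, 9326, 9322, 9324]⟩) (.leaf ⟨6, 4337, 4338, 0, 0, 0, 0, 93, 0, 0, []⟩))) (.node (.node (.leaf ⟨8, 90, 90, (-1), 0, 1, 0, 41, 3, 90, [389, 5230, 388]⟩) (.leaf ⟨11, 3544, 3666, 0, 0, 0, 0, 50, 3, 3544, [21077, 21614, 21556]⟩)) (.node (.leaf ⟨7, 2347, 2342, 3, 0, 3, 0, 58, 0, 2342, [13407, 13416, 13422]⟩) (.leaf ⟨11, 704, 704, 1, 0, 1, 0, 55, 3, 704, [4275, 29806, 4274]⟩)))) (.node (.node (.node (.leaf ⟨7, 563, 563, (-1), 0, 1, 0, 40, 3, 563, [3027, 3182, 3026]⟩) (.leaf ⟨4, 3215, 3221, 0, 0, 0, 0, 39, 0, 3221, [19561, 19567, 19498]⟩)) (.node (.leaf ⟨7, 1934, 1935, 0, 0, 0, 0, 93, 0, 0, []⟩) (.leaf ⟨6, 4668, 4668, 1, 0, (-1), 0, 45, 5, 4668, [27715, 27735, 27758, 27734, 27714]⟩))) (.node (.node (.leaf ⟨7, 1172, 1182, 0, 0, 0, 0,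 58, 0, 1182, [7269, 7279, 7234]⟩) (.leaf ⟨4, 3684, 3602, 0, 0, 0, 0, 39, 0, 3602, [21331, 23663, 21676]⟩)) (.node (.leaf ⟨1, 2590, 2591, 0, 0, 0, 0, 93, 0, 0, []⟩) (.leaf ⟨0, 0, 0, 0, 0, 0, 0, 0, 0, 0, []⟩)))))) (.node (.node (.node (.node (.node (.leaf ⟨2, 5, 5, 1, 0, (-1), 0, 23, 0, 5, [9, 622, 8]⟩) (.leaf ⟨5, 393, 393, 1, 0, 1, 0, 48, 0, 393, [2097, 17006, 2096]⟩)) (.node (.leaf ⟨7, 9, 1567, 0, 0, 0, 0, 93, 0, 0, []⟩) (.leaf ⟨8, 753, 4145, 0, 0, 0, 0, 62, 0, 4145, [24717, 18449, 4730]⟩))) (.node (.node (.leaf ⟨5, 684, 752, 0, 0, 0, 0, 93, 0, 0, []⟩) (.leaf ⟨4, 3552, 3553, 0, 0, 0, 0, 93, 0, 0, []⟩)) (.node (.leaf ⟨6, 2212, 2216, 0, 0, 0, 0, 54, 0, 2216, [12907, 12911, 12870]⟩) (.leaf ⟨2, 4903, 4903, (-1), 0, (-1), 0, 29, 0, 4903, [29279, 29212, 29278]⟩)))) (.node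 (.node (.node (.leaf ⟨2, 507, 267, 0, 0, 0, 0, 28, 2, 506, [2660, 2659, 1694]⟩) (.leaf ⟨3, 955, 955, (-1), 0, (-11), 0, 33, 2, 838, [6084, 5426, 6084]⟩)) (.node (.leaf ⟨8, 1822, 1126, 0, 0, 0, 0, 41, 3, 1822, [10855, 10863, 7004]⟩) (.leaf ⟨3, 4594, 4599, 0, 0, 0, 0, 93, 0, 0, []⟩))) (.node (.node (.leaf ⟨6, 1052, 1081, 0, 0, 0, 0, 52, 2, 1051, [6652, 6651, 6766]⟩) (.leaf ⟨4, 3825, 3825, 1, 0, (-1), 0, 39, 0, 3825, [22851, 18696, 22850]⟩)) (.node (.leaf ⟨8, 2486, 2484, 0, 0, 0, 0, 47, 3, 2486, [14957, 14958, 14942]⟩) (.leaf ⟨3, 5190, 4869, 0, 0, 0, 0, 36, 0, 4869, [28913, 31342, 31322]⟩))))) (.node (.node (.node (.node (.leaf ⟨0, 10, 244, 0, 0, 0, 0, 3, 0, 244, [1601, 1647, 18]⟩) (.leaf ⟨5, 2952, 2953, 0, 0, 0, 0, 93, 0, 0, []⟩)) (.node (.leaf ⟨6, 1674, 1674, (-1),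 0, (-1), 0, 45, 5, 1674, [9793, 9791, 9838, 9790, 9792]⟩) (.leaf ⟨3, 4402, 4431, 0, 0, 0, 0, 36, 2, 4401, [26132, 26131, 26216]⟩))) (.node (.node (.leaf ⟨8, 836, 488, 0, 0, 0, 0, 47, 3, 836, [5329, 5321, 2536]⟩) (.leaf ⟨10, 818, 818, 1, 0, (-1), 0, 63, 3, 818, [5225, 22126, 5224]⟩)) (.node (.leaf ⟨6, 1572, 2411, 0, 0, 0, 0, 93, 0, 0, []⟩) (.leaf ⟨10, 5047, 5048, 0, 0, 0, 0, 93, 0, 0, []⟩)))) (.node (.node (.node (.leaf ⟨5, 665, 665, 1, 0, (-1), 0, 49, 4, 664, [3684, 3683, 2032, 3682, 3684]⟩) (.leaf ⟨10, 3321, 3321, (-1), 0, (-1), 0, 54, 3, 3321, [20063, 20078, 20062]⟩)) (.node (.leaf ⟨4, 1998, 1118, 0, 0, 0, 0, 22, 3, 1998, [11851, 11886, 6988]⟩) (.leaf ⟨9, 4767, 4770, 0, 0, 0, 0, 57, 3, 4767, [28249, 4701, 28270]⟩))) (.node (.node (.leaf ⟨5, 1328, 1329, 0, 0, 0,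 0, 93, 0, 0, []⟩) (.leaf ⟨8, 4012, 4012, 1, 0, 1, 0, 62, 0, 4012, [23993, 24174, 23992]⟩)) (.node (.leaf ⟨4, 777, 2666, 0, 0, 0, 0, 43, 2, 773, [4854, 4847, 15952]⟩) (.leaf ⟨0, 0, 0, 0, 0, 0, 0, 0, 0, 0, []⟩))))))

def factsPart57 : ATree TFact :=
  .node (.node (.node (.node (.node (.node (.leaf ⟨2, 24, 42, 0, 0, 0, 0, 24, 0, 42, [83, 113, 46]⟩) (.leaf ⟨6, 2728, 2729, 0, 0, 0, 0, 93, 0, 0, []⟩)) (.node (.leaf ⟨9, 1431, 1363, 0, 0, 0, 0, 53, 3, 1431, [8297, 8304, 8024]⟩) (.leaf ⟨9, 4133, 4135, 0, 0, 0, 0, 48, 3, 4133, [24673, 24686, 24688]⟩))) (.node (.node (.leaf ⟨7, 607, 607, 1, 0, (-1), 0, 58, 0, 607, [3301, 4152, 3300]⟩) (.leaf ⟨10, 3405, 3413, 0, 0, 0, 0, 58, 3, 3405, [20563, 15897, 20578]⟩)) (.node (.leaf ⟨3, 2130, 2141, 0, 0, 0, 0, 36, 2, 422, [12346, 2279,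 12392]⟩) (.leaf ⟨4, 4842, 4843, 0, 0, 0, 0, 93, 0, 0, []⟩)))) (.node (.node (.node (.leaf ⟨7, 395, 396, 0, 0, 0, 0, 93, 0, 0, []⟩) (.leaf ⟨11, 3070, 3071, 0, 0, 0, 0, 93, 0, 0, []⟩)) (.node (.leaf ⟨7, 1754, 1752, 0, 0, 0, 0, 16, 3, 1754, [10351, 7154, 10326]⟩) (.leaf ⟨2, 4265, 4265, (-1), 0, 1, 0, 24, 2, 4264, [25356, 26736, 25356]⟩))) (.node (.node (.leaf ⟨5, 364, 986, 0, 0, 0, 0, 38, 5, 364, [1941, 1939, 6256, 6220, 6234]⟩) (.leaf ⟨8, 410, 562, 0, 0, 0, 0, 47, 3, 410, [2229, 2227, 3024]⟩)) (.node (.leaf ⟨2, 2436, 2421, 0, 0, 0, 0, 11, 5, 2436, [14423, 10577, 14448, 3110, 14260]⟩) (.leaf ⟨9, 5131, 5127, 0, 0, 0, 0, 42, 3, 5131, [30827, 30832, 30818]⟩))))) (.node (.node (.node (.node (.leaf ⟨7, 121, 121, (-21), 0, (-3), 0, 66, 55, 168, [1056, 1062, 1068, 1072, 1074,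 1078, 1123, 1002, 1131, 772, 780, 1000, 1026, 1018, 1010, 1002, 511, 999, 996, 995, 967, 951, 698, 956, 482, 946, 940, 934, 486, 928, 507, 992, 988, 984, 502, 980, 976, 509, 973, 971, 964, 529, 527, 544, 954, 944, 478, 938, 932, 950, 960, 958, 953, 948, 942, 490, 936, 930, 508, 1132, 1134, 504, 1136]⟩) (.leaf ⟨5, 2861, 2862, 0, 0, 0, 0, 93, 0, 0, []⟩)) (.node (.leaf ⟨2, 1620, 1620, (-1), 0, 1, 0, 25, 0, 1620, [9269, 9328, 9268]⟩) (.leaf ⟨7, 4338, 3591, 0, 0, 0, 0, 51, 3, 4290, [25710, 25712, 25441, 21268, 21276]⟩))) (.node (.node (.leaf ⟨7, 196, 196, (-1), 0, 1, 0, 56, 4, 91, [1350, 391, 5232, 390, 1350]⟩) (.leaf ⟨11, 3673, 3667, 0, 0, 0, 0, 44, 3, 3673, [21599, 21616, 21558]⟩)) (.node (.leaf ⟨10, 1540, 1540, 1, 0, 1, 0, 49, 5, 1540, [8683, 8657, 8744, 8656, 8682]⟩)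 (.leaf ⟨11, 705, 705, 1, 0, (-1), 0, 50, 3, 705, [4277, 29808, 4276]⟩)))) (.node (.node (.node (.leaf ⟨7, 567, 567, 1, 0, (-1), 0, 58, 0, 567, [3045, 3184, 3044]⟩) (.leaf ⟨5, 3221, 3222, 0, 0, 0, 0, 93, 0, 0, []⟩)) (.node (.leaf ⟨6, 1935, 1936, 0, 0, 0, 0, 93, 0, 0, []⟩) (.leaf ⟨2, 4663, 4678, 0, 0, 0, 0, 93, 0, 0, []⟩))) (.node (.node (.leaf ⟨7, 1173, 1183, 0, 0, 0, 0, 59, 0, 1183, [7271, 7281, 7236]⟩) (.leaf ⟨4, 3685, 3603, 0, 0, 0, 0, 41, 0, 3603, [21335, 23665, 21678]⟩)) (.node (.leaf ⟨9, 2591, 2592, 0, 0, 0, 0, 93, 0, 0, []⟩) (.leaf ⟨0, 0, 0, 0, 0, 0, 0, 0, 0, 0, []⟩)))))) (.node (.node (.node (.node (.node (.leaf ⟨2, 6, 6, (-1), 0, 1, 0, 24, 0, 6, [11, 624, 10]⟩) (.leaf ⟨5, 2761, 2761, (-1), 0, (-1), 0, 46, 0, 2761, [16737, 17008, 16736]⟩)) (.node (.leaf ⟨6,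 1567, 1568, 0, 0, 0, 0, 93, 0, 0, []⟩) (.leaf ⟨8, 754, 4146, 0, 0, 0, 0, 47, 3, 754, [4733, 25200, 24718]⟩))) (.node (.node (.leaf ⟨8, 684, 750, 0, 0, 0, 0, 61, 0, 750, [4713, 4683, 4122]⟩) (.leaf ⟨6, 3540, 3553, 0, 0, 0, 0, 39, 3, 3540, [21069, 21102, 21104]⟩)) (.node (.leaf ⟨1, 253, 2217, 0, 0, 0, 0, 93, 0, 0, []⟩) (.leaf ⟨3, 2709, 2709, (-1), 0, (-11), 0, 21, 3, 4903, [29291, 29294, 29296, 29291, 29294]⟩)))) (.node (.node (.node (.leaf ⟨2, 268, 508, 0, 0, 0, 0, 23, 0, 508, [2663, 2672, 1696]⟩) (.leaf ⟨3, 957, 957, (-1), 0, 11, 0, 36, 2, 955, [6098, 19056, 6098]⟩)) (.node (.leaf ⟨8, 1823, 1131, 0, 0, 0, 0, 34, 3, 1823, [10857, 10864, 7038]⟩) (.leaf ⟨10, 4599, 4600, 0, 0, 0, 0, 93, 0, 0, []⟩))) (.node (.node (.leaf ⟨11, 131, 1082, 0, 0, 0, 0, 93, 0, 0, []⟩) (.leaf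 ⟨4, 3826, 3826, (-1), 0, 1, 0, 41, 0, 3826, [22853, 23152, 22852]⟩)) (.node (.leaf ⟨5, 1603, 2487, 0, 0, 0, 0, 93, 0, 0, []⟩) (.leaf ⟨3, 5191, 4870, 0, 0, 0, 0, 37, 0, 4870, [28915, 31345, 31326]⟩))))) (.node (.node (.node (.node (.leaf ⟨0, 205, 245, 0, 0, 0, 0, 9, 0, 245, [1603, 1649, 1492]⟩) (.leaf ⟨4, 2953, 2954, 0, 0, 0, 0, 93, 0, 0, []⟩)) (.node (.leaf ⟨6, 1675, 1675, (-1), 0, 1, 0, 39, 3, 1675, [9795, 9840, 9794]⟩) (.leaf ⟨3, 4432, 4403, 0, 0, 0, 0, 31, 0, 4403, [26135, 26224, 26218]⟩))) (.node (.node (.leaf ⟨8, 489, 863, 0, 0, 0, 0, 41, 3, 489, [2539, 5745, 5500]⟩) (.leaf ⟨3, 801, 801, 1, 0, 1, 0, 35, 2, 97, [5136, 806, 5136]⟩)) (.node (.leaf ⟨6, 743, 2412, 0, 0, 0, 0, 93, 0, 0, []⟩) (.leaf ⟨6, 4718, 5045, 0, 0, 0, 0, 15, 3, 4718, [28039, 19880, 30314]⟩))))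 (.node (.node (.node (.leaf ⟨4, 664, 664, 1, 0, 1, 0, 38, 0, 664, [3683, 865, 858, 864, 3682]⟩) (.leaf ⟨5, 3323, 3323, (-1), 0, (-1), 0, 49, 4, 3322, [20076, 20069, 20080, 20068, 20076]⟩)) (.node (.leaf ⟨4, 1999, 1119, 0, 0, 0, 0, 42, 0, 1119, [6991, 11889, 11852]⟩) (.leaf ⟨7, 773, 4771, 0, 0, 0, 0, 93, 0, 0, []⟩))) (.node (.node (.leaf ⟨4, 1329, 1330, 0, 0, 0, 0, 93, 0, 0, []⟩) (.leaf ⟨7, 4014, 4014, 1, 0, 1, 0, 56, 4, 4013, [24000, 23997, 24176, 23996, 24000]⟩)) (.node (.leaf ⟨11, 2672, 777, (-1), 0, 5, 0, 44, 1, 2666, [15972, 15982, 15985]⟩) (.leaf ⟨0, 0, 0, 0, 0, 0, 0, 0, 0, 0, []⟩))))))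

def factsPart58 : ATree TFact :=
  .node (.node (.node (.node (.node (.node (.leaf ⟨2, 25, 43, 0, 0, 0, 0, 26, 0, 43, [85, 115, 48]⟩) (.leaf ⟨1, 2571, 2721, 0, 0, 0, 0, 17, 0, 2721, [16483, 14443, 15358]⟩)) (.node (.leaf ⟨9, 1417, 1364, 0, 0, 0, 0, 60, 5, 1417, [8219, 8257, 8298, 8306, 8026]⟩) (.leaf ⟨4, 4135, 4136, 0, 0, 0, 0, 93, 0, 0, []⟩))) (.node (.node (.leaf ⟨10, 353, 353, (-1), 0, 1, 0, 49, 5, 353, [1919, 1917, 2202, 1916, 1918]⟩) (.leaf ⟨10, 3414, 3406, 0, 0, 0, 0, 54, 3, 3414, [20581, 20595, 20564]⟩)) (.node (.leaf ⟨3, 2142, 2131, 0, 0, 0, 0, 37, 0, 2131, [12349, 12402, 12394]⟩) (.leaf ⟨3, 4843, 4844, 0, 0, 0, 0, 93, 0, 0, []⟩)))) (.node (.node (.node (.leaf ⟨11, 106, 396, 0, 0, 0, 0, 59, 3, 106, [451, 2160, 2162]⟩) (.leaf ⟨3, 3071, 3068, 0, 0, 0, 0, 37,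 0, 3068, [18535, 18545, 18546]⟩)) (.node (.leaf ⟨7, 1755, 1753, 0, 0, 0, 0, 6, 3, 1755, [10353, 10354, 10328]⟩) (.leaf ⟨2, 4495, 4495, (-1), 0, (-1), 0, 23, 2, 4265, [26666, 26738, 26666]⟩))) (.node (.node (.leaf ⟨10, 366, 988, 0, 0, 0, 0, 49, 5, 366, [1945, 1943, 6258, 6236, 6240]⟩) (.leaf ⟨9, 349, 349, 1, 0, 1, 0, 64, 0, 349, [1911, 21752, 1910]⟩)) (.node (.leaf ⟨0, 2421, 2438, 0, 0, 0, 0, 93, 0, 0, []⟩) (.leaf ⟨5, 2442, 5132, 0, 0, 0, 0, 93, 0, 0, []⟩))))) (.node (.node (.node (.node (.leaf ⟨4, 117, 174, 0, 0, 0, 0, 93, 0, 0, []⟩) (.leaf ⟨6, 2858, 2862, 0, 0, 0, 0, 45, 5, 2858, [17513, 17503, 17519, 17520, 17522]⟩)) (.node (.leaf ⟨3, 605, 1620, 0, 0, 0, 0, 37, 0, 1620, [9259, 4001, 3274]⟩) (.leaf ⟨5, 4337, 4292, 0, 0, 0, 0, 46, 0, 4292, [25469, 25443, 25710]⟩)))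 (.node (.node (.leaf ⟨7, 818, 818, 1, 0, (-1), 0, 57, 0, 818, [5225, 5234, 5224]⟩) (.leaf ⟨4, 3638, 400, 0, 0, 0, 0, 42, 2, 2667, [21500, 15957, 2178]⟩)) (.node (.leaf ⟨5, 1532, 2348, 0, 0, 0, 0, 93, 0, 0, []⟩) (.leaf ⟨11, 706, 706, 1, 0, 1, 0, 44, 3, 706, [4279, 29810, 4278]⟩)))) (.node (.node (.node (.leaf ⟨10, 460, 585, 0, 0, 0, 0, 93, 0, 0, []⟩) (.leaf ⟨4, 3222, 3223, 0, 0, 0, 0, 93, 0, 0, []⟩)) (.node (.leaf ⟨8, 1936, 1937, 0, 0, 0, 0, 93, 0, 0, []⟩) (.leaf ⟨10, 4678, 4679, 0, 0, 0, 0, 93, 0, 0, []⟩))) (.node (.node (.leaf ⟨5, 1183, 1184, 0, 0, 0, 0, 93, 0, 0, []⟩) (.leaf ⟨5, 3687, 3610, 0, 0, 0, 0, 38, 5, 3687, [21683, 21681, 23666, 21338, 21360]⟩)) (.node (.leaf ⟨0, 2592, 2593, 0, 0, 0, 0, 93, 0, 0, []⟩) (.leaf ⟨0, 0, 0, 0, 0, 0, 0, 0, 0, 0, []⟩)))))) (.node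 (.node (.node (.node (.node (.leaf ⟨2, 69, 69, (-1), 0, (-1), 0, 1, 3, 69, [275, 626, 274]⟩) (.leaf ⟨6, 2797, 2797, (-1), 0, (-1), 0, 45, 5, 2797, [17005, 16997, 17010, 16996, 17004]⟩)) (.node (.leaf ⟨10, 1561, 1567, 0, 0, 0, 0, 58, 3, 1561, [8795, 8727, 8816]⟩) (.leaf ⟨8, 4147, 4231, 0, 0, 0, 0, 56, 5, 4147, [24721, 25203, 15678, 25184, 25192]⟩))) (.node (.node (.leaf ⟨8, 752, 751, 0, 0, 0, 0, 47, 3, 752, [4721, 4722, 4714]⟩) (.leaf ⟨3, 3553, 3554, 0, 0, 0, 0, 93, 0, 0, []⟩)) (.node (.leaf ⟨9, 2217, 2218, 0, 0, 0, 0, 93, 0, 0, []⟩) (.leaf ⟨5, 2444, 2444, 1, 0, 1, 0, 14, 3, 2444, [14497, 29144, 14496]⟩)))) (.node (.node (.node (.leaf ⟨2, 269, 509, 0, 0, 0, 0, 25, 0, 509, [2665, 2675, 1698]⟩) (.leaf ⟨3, 3132, 3132, (-1), 0, (-11), 0, 31, 2, 957, [19055, 19058, 19055]⟩))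 (.node (.leaf ⟨8, 1824, 1818, 0, 0, 0, 0, 26, 3, 1824, [10859, 10866, 10840]⟩) (.leaf ⟨5, 4600, 4601, 0, 0, 0, 0, 93, 0, 0, []⟩))) (.node (.node (.leaf ⟨6, 1082, 242, 0, 0, 0, 0, 55, 0, 242, [1597, 553, 6770]⟩) (.leaf ⟨4, 3883, 3883, 1, 0, (-1), 0, 40, 0, 3883, [23149, 23154, 23148]⟩)) (.node (.leaf ⟨7, 2486, 2487, 0, 0, 0, 0, 46, 3, 2486, [14957, 10606, 14962]⟩) (.leaf ⟨4, 4868, 1106, 0, 0, 0, 0, 42, 0, 1106, [6903, 11887, 28910]⟩))))) (.node (.node (.node (.node (.leaf ⟨0, 206, 246, 0, 0, 0, 0, 4, 0, 246, [1605, 1651, 1494]⟩) (.leaf ⟨3, 2954, 2955, 0, 0, 0, 0, 93, 0, 0, []⟩)) (.node (.leaf ⟨6, 1676, 1676, (-1), 0, (-1), 0, 32, 3, 1676, [9797, 9842, 9796]⟩) (.leaf ⟨3, 4433, 4404, 0, 0, 0, 0, 32, 0, 4404, [26137, 26227, 26220]⟩))) (.node (.node (.leaf ⟨8, 551, 900,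 0, 0, 0, 0, 34, 3, 551, [2977, 5746, 5724]⟩) (.leaf ⟨0, 3734, 3734, 1, 0, 1, 0, 8, 0, 3734, [22013, 19896, 22012]⟩)) (.node (.leaf ⟨1, 1071, 683, 0, 0, 0, 0, 19, 0, 683, [4119, 8893, 6698]⟩) (.leaf ⟨6, 4719, 5046, 0, 0, 0, 0, 53, 0, 5046, [30317, 30323, 28040]⟩)))) (.node (.node (.node (.leaf ⟨4, 665, 665, (-1), 0, (-1), 0, 43, 0, 665, [3685, 3698, 3684]⟩) (.leaf ⟨7, 3321, 3321, 1, 0, (-1), 0, 51, 5, 3321, [20063, 20061, 5912, 20060, 20062]⟩)) (.node (.leaf ⟨4, 2000, 1120, 0, 0, 0, 0, 43, 0, 1120, [6993, 11891, 11854]⟩) (.leaf ⟨5, 450, 773, (-3), 0, (-3), 0, 47, 2, 599, [4682, 16173, 5098]⟩))) (.node (.node (.leaf ⟨3, 1330, 1331, 0, 0, 0, 0, 93, 0, 0, []⟩) (.leaf ⟨6, 4040, 4040, (-1), 0, 1, 0, 51, 0, 4040, [24159, 24136, 24178, 24137, 24158]⟩)) (.node (.leaf ⟨5,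 2130, 2673, 0, 0, 0, 0, 93, 0, 0, []⟩) (.leaf ⟨0, 0, 0, 0, 0, 0, 0, 0, 0, 0, []⟩))))))

def factsPart59 : ATree TFact :=
  .node (.node (.node (.node (.node (.node (.leaf ⟨2, 26, 44, 0, 0, 0, 0, 23, 0, 44, [87, 117, 50]⟩) (.leaf ⟨1, 2572, 2722, 0, 0, 0, 0, 14, 0, 2722, [16485, 16501, 15360]⟩)) (.node (.leaf ⟨10, 1249, 1364, (-17), 0, 9, 0, 63, 3, 1249, [8217, 8241, 8308]⟩) (.leaf ⟨9, 4134, 4136, 0, 0, 0, 0, 42, 3, 4134, [24675, 24690, 24692]⟩))) (.node (.node (.leaf ⟨10, 354, 354, (-1), 0, (-1), 0, 58, 3, 354, [1921, 4212, 1920]⟩) (.leaf ⟨10, 3415, 3407, 0, 0, 0, 0, 61, 3, 3415, [20583, 20596, 20566]⟩)) (.node (.leaf ⟨10, 2125, 2143, 0, 0, 0, 0, 93, 0, 0, []⟩) (.leaf ⟨2, 4844, 4845, 0, 0, 0, 0, 93, 0, 0, []⟩)))) (.node (.node (.node (.leaf ⟨6, 396, 397, 0, 0, 0,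 0, 93, 0, 0, []⟩) (.leaf ⟨11, 951, 3072, 0, 0, 0, 0, 93, 0, 0, []⟩)) (.node (.leaf ⟨10, 1755, 1756, 0, 0, 0, 0, 93, 0, 0, []⟩) (.leaf ⟨2, 4496, 4496, (-1), 0, 1, 0, 22, 2, 4495, [26668, 26740, 26668]⟩))) (.node (.node (.leaf ⟨10, 367, 989, 0, 0, 0, 0, 54, 3, 367, [1947, 6260, 6242]⟩) (.leaf ⟨9, 350, 350, 1, 0, (-1), 0, 48, 3, 350, [1913, 22644, 1912]⟩)) (.node (.leaf ⟨2, 2437, 2438, 0, 0, 0, 0, 1, 3, 2437, [14425, 14450, 14452]⟩) (.leaf ⟨6, 5132, 5133, 0, 0, 0, 0, 93, 0, 0, []⟩))))) (.node (.node (.node (.node (.leaf ⟨0, 124, 114, 0, 0, 0, 0, 2, 0, 114, [483, 1125, 516]⟩) (.leaf ⟨6, 2859, 2863, 0, 0, 0, 0, 93, 0, 0, []⟩)) (.node (.leaf ⟨4, 605, 733, 0, 0, 0, 0, 44, 0, 733, [4427, 5044, 3274]⟩) (.leaf ⟨10, 4319, 4319, (-1), 0, (-1), 0, 63, 3, 4319, [25601, 24900,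 25600]⟩))) (.node (.node (.leaf ⟨6, 817, 817, (-1), 0, (-1), 0, 51, 0, 817, [5221, 5227, 5236, 5226, 5220]⟩) (.leaf ⟨4, 401, 3639, 0, 0, 0, 0, 43, 0, 3639, [21503, 21620, 2182]⟩)) (.node (.leaf ⟨7, 2348, 1540, 0, 0, 0, 0, 46, 3, 2348, [13429, 8666, 8682]⟩) (.leaf ⟨11, 1768, 1768, 1, 0, (-1), 0, 37, 3, 1768, [10545, 29812, 10544]⟩)))) (.node (.node (.node (.leaf ⟨6, 562, 459, 0, 0, 0, 0, 45, 5, 562, [3025, 2225, 2365, 2340, 2418]⟩) (.leaf ⟨5, 3217, 3223, 0, 0, 0, 0, 38, 5, 3217, [19503, 19501, 19568, 19570, 19572]⟩)) (.node (.leaf ⟨5, 1937, 1938, 0, 0, 0, 0, 93, 0, 0, []⟩) (.leaf ⟨7, 4666, 4678, 0, 0, 0, 0, 25, 3, 4666, [27683, 27678, 27762]⟩))) (.node (.node (.leaf ⟨7, 1174, 1184, 0, 0, 0, 0, 46, 3, 1174, [7239, 7282, 7284]⟩) (.leaf ⟨5, 3688, 3863, 0, 0, 0, 0, 46,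 0, 3863, [23049, 23669, 21684]⟩)) (.node (.leaf ⟨7, 2593, 2594, 0, 0, 0, 0, 93, 0, 0, []⟩) (.leaf ⟨0, 0, 0, 0, 0, 0, 0, 0, 0, 0, []⟩)))))) (.node (.node (.node (.node (.node (.leaf ⟨2, 111, 111, 1, 0, 1, 0, 28, 0, 111, [471, 628, 470]⟩) (.leaf ⟨6, 392, 392, 1, 0, (-1), 0, 39, 3, 392, [2095, 16854, 2094]⟩)) (.node (.leaf ⟨10, 1568, 1562, 0, 0, 0, 0, 54, 3, 1568, [8819, 8821, 8796]⟩) (.leaf ⟨8, 4148, 4232, 0, 0, 0, 0, 52, 3, 4148, [24723, 25204, 25194]⟩))) (.node (.node (.leaf ⟨7, 585, 684, 0, 0, 0, 0, 58, 0, 684, [4123, 3261, 3188]⟩) (.leaf ⟨6, 3541, 3554, 0, 0, 0, 0, 32, 3, 3541, [21071, 21106, 21108]⟩)) (.node (.leaf ⟨0, 2218, 2219, 0, 0, 0, 0, 93, 0, 0, []⟩) (.leaf ⟨10, 4904, 4904, 1, 0, 1, 0, 49, 5, 4904, [29285, 29163, 29300, 29162, 29284]⟩)))) (.node (.node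 (.node (.leaf ⟨2, 270, 510, 0, 0, 0, 0, 24, 0, 510, [2667, 2677, 1700]⟩) (.leaf ⟨4, 827, 3132, 0, 0, 0, 0, 40, 0, 3132, [19049, 5327, 5288]⟩)) (.node (.leaf ⟨8, 1825, 1819, 0, 0, 0, 0, 17, 3, 1825, [10861, 10868, 10844]⟩) (.leaf ⟨3, 4600, 4595, 0, 0, 0, 0, 36, 2, 4599, [27250, 27249, 27228]⟩))) (.node (.node (.leaf ⟨5, 1082, 1082, 1, 0, 1, 0, 50, 0, 1082, [6771, 570, 6770]⟩) (.leaf ⟨3, 3825, 3825, 1, 0, (-11), 0, 32, 2, 3092, [22850, 18692, 22850]⟩)) (.node (.leaf ⟨8, 1603, 2466, 0, 0, 0, 0, 61, 0, 2466, [14877, 7169, 9078]⟩) (.leaf ⟨4, 4869, 1107, 0, 0, 0, 0, 43, 0, 1107, [6907, 31349, 28912]⟩))))) (.node (.node (.node (.node (.leaf ⟨0, 207, 247, 0, 0, 0, 0, 6, 0, 247, [1607, 1653, 1496]⟩) (.leaf ⟨2, 2955, 2956, 0, 0, 0, 0, 93, 0, 0, []⟩)) (.node (.leaf ⟨6, 1677,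 1677, 1, 0, 1, 0, 54, 0, 1677, [9799, 9844, 9798]⟩) (.leaf ⟨10, 2643, 4435, 0, 0, 0, 0, 93, 0, 0, []⟩))) (.node (.node (.leaf ⟨8, 679, 901, 0, 0, 0, 0, 61, 0, 901, [5727, 5749, 4066]⟩) (.leaf ⟨0, 3735, 3735, (-1), 0, (-1), 0, 6, 0, 3735, [22017, 22132, 22016]⟩)) (.node (.leaf ⟨1, 1572, 743, 0, 0, 0, 0, 14, 0, 743, [4623, 13941, 8878]⟩) (.leaf ⟨6, 4720, 5047, 0, 0, 0, 0, 5, 3, 4720, [28043, 30324, 30318]⟩)))) (.node (.node (.node (.leaf ⟨3, 664, 110, 0, 0, 0, 0, 31, 0, 110, [467, 461, 3682]⟩) (.leaf ⟨7, 3322, 3322, 1, 0, 1, 0, 46, 3, 3322, [20069, 20084, 20068]⟩)) (.node (.leaf ⟨5, 2002, 1625, 0, 0, 0, 0, 38, 5, 2002, [11859, 11857, 11892, 6994, 9516]⟩) (.leaf ⟨5, 4771, 4770, 3, 0, 3, 0, 46, 2, 773, [28274, 28277, 28270]⟩))) (.node (.node (.leaf ⟨2, 1331, 1332, 0,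 0, 0, 0, 93, 0, 0, []⟩) (.leaf ⟨5, 4039, 4039, 1, 0, 1, 0, 45, 0, 4039, [24153, 24160, 24180, 24161, 24152]⟩)) (.node (.leaf ⟨6, 2673, 2674, 0, 0, 0, 0, 93, 0, 0, []⟩) (.leaf ⟨0, 0, 0, 0, 0, 0, 0, 0, 0, 0, []⟩))))))

def factsPart60 : ATree TFact :=
  .node (.node (.node (.node (.node (.node (.leaf ⟨2, 27, 45, 0, 0, 0, 0, 22, 0, 45, [89, 119, 52]⟩) (.leaf ⟨1, 2573, 2723, 0, 0, 0, 0, 13, 0, 2723, [16487, 16503, 15362]⟩)) (.node (.leaf ⟨5, 1382, 1381, 17, 0, 9, 0, 49, 4, 1365, [8070, 8029, 8311, 7536, 8066]⟩) (.leaf ⟨8, 4135, 4114, 0, 0, 0, 0, 47, 3, 4135, [24689, 21044, 24628]⟩))) (.node (.node (.leaf ⟨10, 355, 355, (-1), 0, 1, 0, 54, 3, 355, [1923, 4214, 1922]⟩) (.leaf ⟨5, 3417, 3409, 0, 0, 0, 0, 49, 4, 3416, [20586, 20585, 20598, 20568, 20570]⟩)) (.node (.leaf ⟨3,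 2143, 2132, 0, 0, 0, 0, 36, 2, 2125, [12406, 12321, 12354]⟩) (.leaf ⟨1, 4845, 4846, 0, 0, 0, 0, 93, 0, 0, []⟩)))) (.node (.node (.node (.leaf ⟨11, 107, 397, 0, 0, 0, 0, 55, 3, 107, [453, 2164, 2166]⟩) (.leaf ⟨2, 3069, 950, 0, 0, 0, 0, 27, 0, 950, [6059, 18259, 18538]⟩)) (.node (.leaf ⟨1, 1153, 1153, 1, 0, 1, 0, 12, 0, 1153, [7117, 4824, 7116]⟩) (.leaf ⟨2, 4501, 4501, (-1), 0, (-1), 0, 28, 2, 4496, [26702, 26742, 26702]⟩))) (.node (.node (.leaf ⟨10, 368, 990, 0, 0, 0, 0, 58, 3, 368, [1949, 6262, 6244]⟩) (.leaf ⟨9, 351, 351, 1, 0, 1, 0, 42, 3, 351, [1915, 22646, 1914]⟩)) (.node (.leaf ⟨10, 2438, 2438, 1, 0, 1, 0, 9, 3, 2438, [14453, 14264, 14452]⟩) (.leaf ⟨0, 2897, 5134, 0, 0, 0, 0, 93, 0, 0, []⟩))))) (.node (.node (.node (.node (.leaf ⟨0, 125, 115, 0, 0, 0, 0, 6,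 0, 115, [487, 1143, 518]⟩) (.leaf ⟨7, 2863, 2864, 0, 0, 0, 0, 93, 0, 0, []⟩)) (.node (.leaf ⟨7, 552, 552, (-1), 0, 1, 0, 25, 3, 552, [2979, 4102, 2978]⟩) (.leaf ⟨5, 3067, 3067, 1, 0, (-1), 0, 49, 0, 3067, [18531, 25602, 25718, 25603, 18530]⟩))) (.node (.node (.leaf ⟨5, 815, 815, 1, 0, (-1), 0, 45, 0, 815, [5211, 5223, 5238, 5222, 5210]⟩) (.leaf ⟨4, 3536, 3640, 0, 0, 0, 0, 40, 0, 3640, [21505, 21623, 21060]⟩)) (.node (.leaf ⟨6, 2348, 2348, (-1), 0, (-1), 0, 45, 5, 2348, [13429, 10185, 10190, 10184, 13428]⟩) (.leaf ⟨10, 4981, 4981, 1, 0, (-1), 0, 65, 4, 2363, [29798, 13599, 29814, 13598, 29798]⟩)))) (.node (.node (.node (.leaf ⟨6, 563, 460, 0, 0, 0, 0, 39, 3, 563, [3027, 3190, 2420]⟩) (.leaf ⟨10, 251, 3224, 0, 0, 0, 0, 93, 0, 0, []⟩)) (.node (.leaf ⟨1, 271, 435, 0,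 0, 0, 0, 17, 0, 435, [2343, 2649, 1702]⟩) (.leaf ⟨7, 4667, 4679, 0, 0, 0, 0, 58, 0, 4679, [27765, 27767, 27684]⟩))) (.node (.node (.leaf ⟨4, 1184, 1185, 0, 0, 0, 0, 93, 0, 0, []⟩) (.leaf ⟨6, 3690, 3865, 0, 0, 0, 0, 45, 5, 3690, [21689, 21687, 23670, 23050, 23052]⟩)) (.node (.leaf ⟨2, 1001, 2496, 0, 0, 0, 0, 26, 0, 2496, [15017, 3079, 6354]⟩) (.leaf ⟨0, 0, 0, 0, 0, 0, 0, 0, 0, 0, []⟩)))))) (.node (.node (.node (.node (.node (.leaf ⟨2, 133, 133, (-1), 0, (-1), 0, 25, 0, 133, [577, 630, 576]⟩) (.leaf ⟨6, 393, 393, (-1), 0, 1, 0, 53, 0, 393, [2097, 17014, 2096]⟩)) (.node (.leaf ⟨7, 8, 1569, 0, 0, 0, 0, 93, 0, 0, []⟩) (.leaf ⟨10, 4139, 4148, (-42), 0, (-18), 0, 61, 3, 4139, [25191, 25199, 25207]⟩))) (.node (.node (.leaf ⟨7, 586, 752, 0, 0, 0, 0, 46, 3, 586, [3197, 4726,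 4720]⟩) (.leaf ⟨7, 3554, 3555, 0, 0, 0, 0, 93, 0, 0, []⟩)) (.node (.leaf ⟨10, 2219, 2220, 0, 0, 0, 0, 93, 0, 0, []⟩) (.leaf ⟨7, 4896, 4896, 1, 0, (-1), 0, 58, 0, 4896, [29163, 14510, 29162]⟩)))) (.node (.node (.node (.leaf ⟨2, 504, 511, 0, 0, 0, 0, 23, 0, 511, [2669, 2679, 2650]⟩) (.leaf ⟨7, 917, 917, (-1), 0, 1, 0, 51, 5, 917, [5851, 5297, 5310, 5296, 5850]⟩)) (.node (.leaf ⟨7, 1821, 1796, 0, 0, 0, 0, 46, 3, 1821, [10853, 9513, 10750]⟩) (.leaf ⟨3, 4596, 4601, 0, 0, 0, 0, 31, 0, 4601, [27253, 27254, 27230]⟩))) (.node (.node (.leaf ⟨6, 243, 243, 1, 0, 1, 0, 45, 5, 243, [1599, 6773, 6774, 6772, 1598]⟩) (.leaf ⟨3, 3826, 3826, 1, 0, 11, 0, 34, 2, 3825, [22852, 23158, 22852]⟩)) (.node (.leaf ⟨8, 2487, 2467, 0, 0, 0, 0, 47, 3, 2487, [14963, 14966, 14878]⟩) (.leaf ⟨4, 4870,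 5124, 0, 0, 0, 0, 44, 0, 5124, [30803, 31351, 28914]⟩))))) (.node (.node (.node (.node (.leaf ⟨0, 208, 248, 0, 0, 0, 0, 5, 0, 248, [1609, 1655, 1498]⟩) (.leaf ⟨11, 2527, 2951, 0, 0, 0, 0, 59, 3, 2527, [15183, 15163, 18028]⟩)) (.node (.leaf ⟨5, 1677, 1678, 0, 0, 0, 0, 93, 0, 0, []⟩) (.leaf ⟨11, 4435, 4436, 0, 0, 0, 0, 93, 0, 0, []⟩))) (.node (.node (.leaf ⟨8, 680, 902, 0, 0, 0, 0, 62, 0, 902, [5729, 5751, 4068]⟩) (.leaf ⟨2, 2792, 2792, 1, 0, 11, 0, 11, 3, 2776, [16841, 16952, 21990, 16841, 16952]⟩)) (.node (.leaf ⟨1, 2411, 2412, 0, 0, 0, 0, 15, 0, 2412, [13939, 13943, 13936]⟩) (.leaf ⟨6, 5027, 5048, 0, 0, 0, 0, 54, 0, 5048, [30321, 30327, 30224]⟩)))) (.node (.node (.node (.leaf ⟨3, 665, 188, 0, 0, 0, 0, 36, 0, 188, [1315, 3703, 3684]⟩) (.leaf ⟨7, 3323, 3323, (-1),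 0, (-1), 0, 58, 0, 3323, [20077, 20086, 20076]⟩)) (.node (.leaf ⟨5, 2003, 1626, 0, 0, 0, 0, 46, 0, 1626, [9519, 11895, 11860]⟩) (.leaf ⟨9, 4564, 4771, 0, 0, 0, 0, 57, 3, 4564, [27053, 4849, 28274]⟩))) (.node (.node (.leaf ⟨2, 1324, 313, 0, 0, 0, 0, 27, 0, 313, [1805, 7653, 7782]⟩) (.leaf ⟨10, 4037, 4037, 1, 0, 1, 0, 49, 5, 4037, [24149, 24157, 24182, 24156, 24148]⟩)) (.node (.leaf ⟨3, 2671, 2673, 0, 0, 0, 0, 31, 0, 2673, [15989, 12402, 15974]⟩) (.leaf ⟨0, 0, 0, 0, 0, 0, 0, 0, 0, 0, []⟩))))))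

def factsPart61 : ATree TFact :=
  .node (.node (.node (.node (.node (.node (.leaf ⟨2, 28, 46, 0, 0, 0, 0, 28, 0, 46, [91, 121, 54]⟩) (.leaf ⟨1, 2574, 2724, 0, 0, 0, 0, 12, 0, 2724, [16489, 16505, 15364]⟩)) (.node (.leaf ⟨4, 1377, 1382, 0, 0, 0, 0, 43, 2, 1366, [8054, 8031, 8070]⟩) (.leaf ⟨8, 4136, 4115, 0, 0, 0, 0, 41, 3, 4136, [24693, 24696, 24630]⟩))) (.node (.node (.leaf ⟨5, 503, 503, (-1), 0, 1, 0, 49, 4, 502, [2618, 2615, 4216, 2614, 2618]⟩) (.leaf ⟨5, 3418, 3410, 0, 0, 0, 0, 46, 0, 3410, [20573, 20601, 20588]⟩)) (.node (.leaf ⟨5, 2131, 2143, 21, 0, (-1), 0, 31, 1, 2132, [12400, 12404, 12409]⟩) (.leaf ⟨4, 4841, 2242, 0, 0, 0, 0, 41, 0, 2242, [13023, 8809, 28782]⟩)))) (.node (.node (.node (.leaf ⟨8, 397, 398, 0, 0, 0, 0, 93, 0, 0, []⟩) (.leaf ⟨2, 3070, 951,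 0, 0, 0, 0, 28, 0, 951, [6063, 18553, 18542]⟩)) (.node (.leaf ⟨2, 1754, 1754, 1, 0, 1, 0, 11, 5, 1754, [10351, 7119, 10360, 7118, 10350]⟩) (.leaf ⟨2, 4502, 4502, (-1), 0, 1, 0, 23, 2, 4501, [26706, 26744, 26706]⟩))) (.node (.node (.leaf ⟨2, 800, 368, (-13), 0, (-21), 0, 66, 36, 375, [2003, 2024, 2044, 2001, 2054, 2074, 2152, 2194, 2218, 2193, 2258, 2276, 2294, 2312, 2334, 2305, 2382, 4699, 2415, 4711, 4840, 5107, 5108, 5110, 5112, 5114, 5116, 5134, 5162, 5196, 5975, 5967, 5965, 5927, 5978, 5985, 6000, 6009, 6016, 6028, 6030, 6037, 6049, 6057, 6069, 6080, 6082, 6093, 6101, 6121, 6134, 6142, 6144, 6154, 6168, 6170, 6212, 6232, 6239, 6240, 6242, 6244, 6265]⟩) (.leaf ⟨9, 395, 395, 1, 0, (-1), 0, 35, 3, 395, [2159, 22648, 2158]⟩)) (.node (.leaf ⟨7, 581, 581, (-1), 0,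 1, 0, 25, 3, 581, [3111, 3156, 3110]⟩) (.leaf ⟨10, 5134, 5135, 0, 0, 0, 0, 93, 0, 0, []⟩))))) (.node (.node (.node (.node (.leaf ⟨0, 126, 116, 0, 0, 0, 0, 5, 0, 116, [491, 1145, 520]⟩) (.leaf ⟨6, 2864, 2865, 0, 0, 0, 0, 93, 0, 0, []⟩)) (.node (.leaf ⟨7, 555, 555, 1, 0, (-1), 0, 58, 0, 555, [3001, 9336, 3000]⟩) (.leaf ⟨4, 4297, 4297, (-1), 0, (-1), 0, 38, 0, 4297, [25487, 18533, 25720, 18532, 25486]⟩))) (.node (.node (.leaf ⟨6, 801, 801, (-1), 0, (-1), 0, 53, 0, 801, [5137, 1366, 5136]⟩) (.leaf ⟨4, 3537, 3641, 0, 0, 0, 0, 39, 0, 3641, [21507, 21625, 21062]⟩)) (.node (.leaf ⟨7, 761, 1406, (-9), 0, (-25), 0, 33, 3, 761, [8148, 9391, 8129]⟩) (.leaf ⟨7, 2363, 2363, (-1), 0, 1, 0, 58, 0, 2363, [13599, 29080, 13598]⟩)))) (.node (.node (.node (.leaf ⟨6, 567, 585, 0, 0, 0,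 0, 54, 0, 585, [3189, 3193, 3044]⟩) (.leaf ⟨11, 3224, 3225, 0, 0, 0, 0, 93, 0, 0, []⟩)) (.node (.leaf ⟨1, 272, 436, 0, 0, 0, 0, 14, 0, 436, [2345, 11385, 1704]⟩) (.leaf ⟨5, 4679, 4680, 0, 0, 0, 0, 93, 0, 0, []⟩))) (.node (.node (.leaf ⟨7, 1175, 1185, 0, 0, 0, 0, 40, 3, 1175, [7241, 7286, 7288]⟩) (.leaf ⟨6, 3691, 3866, 0, 0, 0, 0, 54, 0, 3866, [23055, 23673, 21690]⟩)) (.node (.leaf ⟨2, 1002, 2497, 0, 0, 0, 0, 23, 0, 2497, [15019, 15481, 6356]⟩) (.leaf ⟨0, 0, 0, 0, 0, 0, 0, 0, 0, 0, []⟩)))))) (.node (.node (.node (.node (.node (.leaf ⟨7, 69, 134, 0, 0, 0, 0, 93, 0, 0, []⟩) (.leaf ⟨7, 2796, 2796, (-1), 0, 1, 0, 51, 5, 2796, [16997, 16737, 17016, 16736, 16996]⟩)) (.node (.leaf ⟨5, 1567, 1569, 0, 0, 0, 0, 46, 2, 9, [8816, 17, 8824]⟩) (.leaf ⟨5, 4223, 4222, 42, 0, (-18),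 0, 49, 4, 4149, [25134, 24725, 25209, 24706, 25130]⟩))) (.node (.node (.leaf ⟨11, 585, 753, 0, 0, 0, 0, 93, 0, 0, []⟩) (.leaf ⟨6, 3555, 3556, 0, 0, 0, 0, 93, 0, 0, []⟩)) (.node (.leaf ⟨7, 2220, 2221, 0, 0, 0, 0, 93, 0, 0, []⟩) (.leaf ⟨7, 4904, 4904, 1, 0, 1, 0, 46, 3, 4904, [29285, 29304, 29284]⟩)))) (.node (.node (.node (.leaf ⟨2, 505, 512, 0, 0, 0, 0, 28, 0, 512, [2671, 2681, 2654]⟩) (.leaf ⟨10, 829, 829, (-1), 0, 1, 0, 63, 3, 829, [5295, 5530, 5294]⟩)) (.node (.leaf ⟨7, 1822, 1797, 0, 0, 0, 0, 40, 3, 1822, [10855, 10872, 10754]⟩) (.leaf ⟨0, 448, 448, (-1), 0, (-1), 0, 7, 0, 448, [2391, 9302, 2390]⟩))) (.node (.node (.leaf ⟨6, 244, 244, 1, 0, (-1), 0, 39, 3, 244, [1601, 6776, 1600]⟩) (.leaf ⟨3, 3883, 3883, 1, 0, (-11), 0, 33, 2, 3826, [23148, 23160, 23148]⟩)) (.node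 (.leaf ⟨8, 2485, 2468, 0, 0, 0, 0, 56, 5, 2485, [14945, 14961, 14964, 14968, 14880]⟩) (.leaf ⟨11, 5125, 1108, 0, 0, 0, 0, 50, 3, 5125, [30805, 30803, 6910]⟩))))) (.node (.node (.node (.node (.leaf ⟨0, 209, 249, 0, 0, 0, 0, 7, 0, 249, [1611, 1657, 1500]⟩) (.leaf ⟨11, 2952, 2528, 0, 0, 0, 0, 55, 3, 2952, [18031, 18041, 15184]⟩)) (.node (.leaf ⟨4, 1678, 1679, 0, 0, 0, 0, 93, 0, 0, []⟩) (.leaf ⟨7, 4436, 4437, 0, 0, 0, 0, 93, 0, 0, []⟩))) (.node (.node (.leaf ⟨6, 906, 902, (-21), 0, (-11), 0, 52, 2, 478, [5742, 4593, 5752]⟩) (.leaf ⟨2, 378, 378, (-1), 0, (-11), 0, 22, 0, 378, [16949, 22136, 16948]⟩)) (.node (.leaf ⟨11, 628, 628, 1, 0, 1, 0, 65, 5, 628, [3493, 9213, 1286, 9212, 3492]⟩) (.leaf ⟨7, 5048, 5049, 0, 0, 0, 0, 93, 0, 0, []⟩)))) (.node (.node (.node (.leaf ⟨1,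 169, 169, 1, 0, 1, 0, 13, 0, 169, [1001, 796, 1000]⟩) (.leaf ⟨7, 926, 3324, 0, 0, 0, 0, 93, 0, 0, []⟩)) (.node (.leaf ⟨5, 2011, 2012, 0, 0, 0, 0, 47, 0, 2012, [11881, 11897, 11876]⟩) (.leaf ⟨5, 4767, 4564, (-3), 0, (-3), 0, 48, 2, 4770, [28273, 28279, 28281]⟩))) (.node (.node (.leaf ⟨2, 1325, 314, 0, 0, 0, 0, 28, 0, 314, [1807, 7801, 7784]⟩) (.leaf ⟨11, 4013, 3875, 0, 0, 0, 0, 59, 3, 4013, [23997, 23993, 23086]⟩)) (.node (.leaf ⟨3, 2672, 2674, 0, 0, 0, 0, 32, 0, 2674, [15991, 15993, 15976]⟩) (.leaf ⟨0, 0, 0, 0, 0, 0, 0, 0, 0, 0, []⟩))))))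

def factsPart62 : ATree TFact :=
  .node (.node (.node (.node (.node (.node (.leaf ⟨2, 29, 47, 0, 0, 0, 0, 29, 0, 47, [93, 123, 56]⟩) (.leaf ⟨2, 2576, 2726, 0, 0, 0, 0, 11, 5, 2576, [15369, 15367, 16506, 16490, 16492]⟩)) (.node (.leaf ⟨4, 1380, 1378, (-17), 0, 9, 0, 38, 4, 1379, [8064, 8068, 8313, 8315, 8058]⟩) (.leaf ⟨6, 751, 4137, 0, 0, 0, 0, 93, 0, 0, []⟩))) (.node (.node (.leaf ⟨10, 685, 696, 0, 0, 0, 0, 93, 0, 0, []⟩) (.leaf ⟨6, 3420, 3412, 0, 0, 0, 0, 45, 5, 3420, [20593, 20591, 20602, 20574, 20576]⟩)) (.node (.leaf ⟨9, 2129, 2143, 0, 0, 0, 0, 63, 2, 2128, [12342, 12339, 12406]⟩) (.leaf ⟨5, 4843, 2244, 0, 0, 0, 0, 38, 5, 4843, [28787, 28785, 28794, 13024, 13026]⟩)))) (.node (.node (.node (.leaf ⟨11, 108, 398, 0, 0, 0, 0, 62, 3, 108, [455, 2168, 2170]⟩) (.leaf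 ⟨2, 3071, 3072, 0, 0, 0, 0, 29, 0, 3072, [18551, 18555, 18546]⟩)) (.node (.leaf ⟨2, 1755, 1755, 1, 0, (-1), 0, 1, 3, 1755, [10353, 10362, 10352]⟩) (.leaf ⟨2, 4503, 4503, (-1), 0, (-1), 0, 24, 2, 4502, [26710, 26746, 26710]⟩))) (.node (.node (.leaf ⟨1, 628, 306, 0, 0, 0, 0, 19, 2, 619, [3492, 3397, 1790]⟩) (.leaf ⟨9, 406, 406, (-1), 0, 1, 0, 63, 0, 406, [2221, 22650, 2220]⟩)) (.node (.leaf ⟨7, 2421, 2421, (-1), 0, (-1), 0, 16, 3, 2421, [14261, 14458, 14260]⟩) (.leaf ⟨8, 563, 417, 0, 0, 0, 0, 41, 3, 563, [3027, 22643, 2260]⟩))))) (.node (.node (.node (.node (.leaf ⟨0, 127, 117, 0, 0, 0, 0, 4, 0, 117, [495, 1147, 522]⟩) (.leaf ⟨7, 2865, 2861, 0, 0, 0, 0, 51, 3, 2863, [17528, 17530, 17527, 17516, 17520]⟩)) (.node (.leaf ⟨2, 396, 396, 35, 0, 1, 0, 29, 2, 106, [2164, 3850,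 2164]⟩) (.leaf ⟨4, 4298, 4298, 1, 0, 1, 0, 39, 0, 4298, [25489, 25722, 25488]⟩))) (.node (.node (.leaf ⟨7, 815, 815, (-1), 0, (-1), 0, 51, 5, 815, [5211, 5209, 5242, 5208, 5210]⟩) (.leaf ⟨4, 3538, 3642, 0, 0, 0, 0, 41, 0, 3642, [21509, 21627, 21064]⟩)) (.node (.leaf ⟨10, 1609, 2349, 0, 0, 0, 0, 93, 0, 0, []⟩) (.leaf ⟨7, 4981, 4981, 1, 0, (-1), 0, 59, 0, 4981, [29799, 29818, 29798]⟩)))) (.node (.node (.node (.leaf ⟨5, 585, 586, 0, 0, 0, 0, 93, 0, 0, []⟩) (.leaf ⟨5, 3225, 3226, 0, 0, 0, 0, 93, 0, 0, []⟩)) (.node (.leaf ⟨1, 273, 437, 0, 0, 0, 0, 13, 0, 437, [2347, 11387, 1706]⟩) (.leaf ⟨7, 4668, 4680, 0, 0, 0, 0, 46, 3, 4668, [27715, 27768, 27770]⟩))) (.node (.node (.leaf ⟨8, 1178, 1186, 0, 0, 0, 0, 93, 0, 0, []⟩) (.leaf ⟨6, 3961, 3681, 24, 0, (-4), 0, 32, 1, 3691,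 [23674, 23644, 23019]⟩)) (.node (.leaf ⟨2, 1003, 2498, 0, 0, 0, 0, 22, 0, 2498, [15021, 15483, 6358]⟩) (.leaf ⟨0, 0, 0, 0, 0, 0, 0, 0, 0, 0, []⟩)))))) (.node (.node (.node (.node (.node (.leaf ⟨10, 133, 134, 0, 0, 0, 0, 58, 3, 133, [577, 471, 634]⟩) (.leaf ⟨7, 2797, 2797, (-1), 0, (-1), 0, 46, 3, 2797, [17005, 17018, 17004]⟩)) (.node (.leaf ⟨7, 627, 627, 1, 0, (-1), 0, 59, 0, 627, [3455, 1046, 3454]⟩) (.leaf ⟨4, 4151, 4223, 0, 0, 0, 0, 43, 2, 4150, [24728, 24727, 25134]⟩))) (.node (.node (.leaf ⟨5, 753, 754, 0, 0, 0, 0, 93, 0, 0, []⟩) (.leaf ⟨7, 3543, 3556, 0, 0, 0, 0, 51, 5, 3543, [21075, 21073, 21110, 21112, 21114]⟩)) (.node (.leaf ⟨6, 2221, 2222, 0, 0, 0, 0, 93, 0, 0, []⟩) (.leaf ⟨6, 4904, 4905, 0, 0, 0, 0, 93, 0, 0, []⟩)))) (.node (.node (.node (.leaf ⟨7, 507,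 513, 0, 0, 0, 0, 93, 0, 0, []⟩) (.leaf ⟨10, 830, 830, (-1), 0, (-1), 0, 58, 3, 830, [5297, 19066, 5296]⟩)) (.node (.leaf ⟨7, 1823, 1798, 0, 0, 0, 0, 33, 3, 1823, [10857, 10874, 10758]⟩) (.leaf ⟨0, 449, 449, 1, 0, 1, 0, 4, 0, 449, [2393, 27258, 2392]⟩))) (.node (.node (.leaf ⟨6, 266, 266, 1, 0, 1, 0, 32, 3, 266, [1693, 6778, 1692]⟩) (.leaf ⟨7, 3836, 3884, 0, 0, 0, 0, 93, 0, 0, []⟩)) (.node (.leaf ⟨10, 2475, 2468, (-17), 0, (-9), 0, 61, 3, 2475, [14939, 14955, 14970]⟩) (.leaf ⟨5, 1159, 1668, (-3), 0, (-3), 0, 4, 3, 1159, [10334, 8895, 9828]⟩))))) (.node (.node (.node (.node (.leaf ⟨0, 210, 250, 0, 0, 0, 0, 4, 0, 250, [1613, 1659, 1502]⟩) (.leaf ⟨11, 2953, 2529, 0, 0, 0, 0, 50, 3, 2953, [18033, 18042, 15186]⟩)) (.node (.leaf ⟨10, 1675, 1680, 0, 0, 0, 0, 93, 0, 0, []⟩)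 (.leaf ⟨6, 4437, 4438, 0, 0, 0, 0, 93, 0, 0, []⟩))) (.node (.node (.leaf ⟨9, 906, 898, 0, 0, 0, 0, 48, 3, 906, [5741, 5587, 5718]⟩) (.leaf ⟨2, 3734, 3734, (-1), 0, 11, 0, 23, 2, 378, [22014, 22138, 22014]⟩)) (.node (.leaf ⟨11, 639, 639, 1, 0, (-1), 0, 50, 3, 639, [3539, 13946, 3538]⟩) (.leaf ⟨6, 5049, 5050, 0, 0, 0, 0, 93, 0, 0, []⟩)))) (.node (.node (.node (.leaf ⟨2, 188, 188, 1, 0, (-1), 0, 11, 3, 169, [1122, 1320, 3706, 1122, 1320]⟩) (.leaf ⟨3, 3324, 3320, 0, 0, 0, 0, 33, 2, 926, [20090, 5923, 20060]⟩)) (.node (.leaf ⟨6, 1628, 2012, 0, 0, 0, 0, 52, 2, 1627, [9522, 9521, 11880]⟩) (.leaf ⟨3, 771, 771, 1, 0, 1, 0, 34, 0, 771, [4843, 13992, 4842]⟩))) (.node (.node (.leaf ⟨2, 1326, 315, 0, 0, 0, 0, 23, 0, 315, [1809, 7803, 7786]⟩) (.leaf ⟨11, 3876, 4030, 0, 0, 0, 0,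 55, 3, 3876, [23091, 24187, 24114]⟩)) (.node (.leaf ⟨3, 2665, 777, 0, 0, 0, 0, 36, 2, 2111, [15950, 12293, 4854]⟩) (.leaf ⟨0, 0, 0, 0, 0, 0, 0, 0, 0, 0, []⟩))))))

def factsPart63 : ATree TFact :=
  .node (.node (.node (.node (.node (.node (.leaf ⟨2, 30, 48, 0, 0, 0, 0, 23, 0, 48, [95, 125, 58]⟩) (.leaf ⟨2, 2577, 2727, 0, 0, 0, 0, 27, 0, 2727, [16495, 16509, 15370]⟩)) (.node (.leaf ⟨3, 1253, 1379, 0, 0, 0, 0, 36, 2, 1252, [7542, 7541, 8062]⟩) (.leaf ⟨7, 4137, 4138, 0, 0, 0, 0, 93, 0, 0, []⟩))) (.node (.node (.leaf ⟨4, 696, 503, 0, 0, 0, 0, 43, 2, 685, [4220, 4141, 2618]⟩) (.leaf ⟨1, 2650, 3421, 0, 0, 0, 0, 93, 0, 0, []⟩)) (.node (.leaf ⟨5, 425, 2129, 21, 0, 1, 0, 48, 2, 2131, [12352, 12410, 12413]⟩) (.leaf ⟨5, 4844, 2245, 0, 0, 0, 0, 31, 3, 4844, [28789, 28796, 13028]⟩))))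 (.node (.node (.node (.leaf ⟨5, 398, 399, 0, 0, 0, 0, 93, 0, 0, []⟩) (.leaf ⟨11, 868, 868, 1, 0, 1, 0, 62, 3, 868, [5541, 4014, 5540]⟩)) (.node (.leaf ⟨2, 1756, 1756, (-1), 0, 1, 0, 28, 0, 1756, [10359, 10364, 10358]⟩) (.leaf ⟨9, 2643, 4506, 0, 0, 0, 0, 93, 0, 0, []⟩))) (.node (.node (.leaf ⟨1, 307, 639, 0, 0, 0, 0, 14, 0, 639, [3539, 6268, 1792]⟩) (.leaf ⟨9, 407, 407, (-1), 0, (-1), 0, 57, 3, 407, [2223, 22652, 2222]⟩)) (.node (.leaf ⟨7, 2438, 2438, (-1), 0, 1, 0, 6, 3, 2438, [14453, 14460, 14452]⟩) (.leaf ⟨8, 564, 422, 0, 0, 0, 0, 34, 3, 564, [3029, 30844, 2278]⟩))))) (.node (.node (.node (.node (.leaf ⟨0, 169, 174, 0, 0, 0, 0, 3, 0, 174, [1141, 1149, 1000]⟩) (.leaf ⟨5, 2865, 2866, 0, 0, 0, 0, 93, 0, 0, []⟩)) (.node (.leaf ⟨2, 407, 407, 35, 0, (-1), 0, 28, 2, 396,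 [2245, 9340, 2245]⟩) (.leaf ⟨3, 4284, 4284, (-1), 0, 1, 0, 30, 0, 4284, [25419, 25505, 25724, 25504, 25418]⟩))) (.node (.node (.leaf ⟨7, 93, 819, 0, 0, 0, 0, 93, 0, 0, []⟩) (.leaf ⟨5, 3540, 3644, 0, 0, 0, 0, 38, 5, 3540, [21069, 21067, 21628, 21510, 21512]⟩)) (.node (.leaf ⟨7, 2349, 1689, 0, 0, 0, 0, 58, 0, 1689, [9911, 10055, 13436]⟩) (.leaf ⟨6, 2363, 1725, 0, 0, 0, 0, 54, 0, 1725, [10157, 13583, 13598]⟩)))) (.node (.node (.node (.leaf ⟨4, 585, 501, 0, 0, 0, 0, 43, 2, 460, [3188, 2421, 2604]⟩) (.leaf ⟨7, 3226, 3227, 0, 0, 0, 0, 93, 0, 0, []⟩)) (.node (.leaf ⟨1, 274, 438, 0, 0, 0, 0, 12, 0, 438, [2349, 11389, 1708]⟩) (.leaf ⟨2, 4657, 4681, 0, 0, 0, 0, 93, 0, 0, []⟩))) (.node (.node (.leaf ⟨5, 1186, 1187, 0, 0, 0, 0, 93, 0, 0, []⟩) (.leaf ⟨4, 3965, 3961, (-24), 0,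 (-4), 0, 39, 2, 3680, [23658, 21662, 23677]⟩)) (.node (.leaf ⟨3, 1987, 2590, 0, 0, 0, 0, 21, 5, 1987, [11743, 6361, 15484, 15022, 15470]⟩) (.leaf ⟨0, 0, 0, 0, 0, 0, 0, 0, 0, 0, []⟩)))))) (.node (.node (.node (.node (.node (.leaf ⟨0, 3, 135, 0, 0, 0, 0, 93, 0, 0, []⟩) (.leaf ⟨6, 2760, 2798, 0, 0, 0, 0, 93, 0, 0, []⟩)) (.node (.leaf ⟨6, 1569, 1569, (-1), 0, (-1), 0, 51, 0, 1569, [8825, 3457, 8828, 3456, 8824]⟩) (.leaf ⟨4, 4143, 4152, (-42), 0, (-18), 0, 38, 4, 4142, [24712, 25132, 25211, 25213, 24730]⟩))) (.node (.node (.leaf ⟨11, 754, 586, 0, 0, 0, 0, 50, 3, 754, [4733, 4731, 3196]⟩) (.leaf ⟨7, 419, 3557, 0, 0, 0, 0, 93, 0, 0, []⟩)) (.node (.leaf ⟨5, 2222, 2223, 0, 0, 0, 0, 93, 0, 0, []⟩) (.leaf ⟨6, 1779, 4906, 0, 0, 0, 0, 93, 0, 0, []⟩)))) (.node (.node (.node (.leaf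 ⟨6, 513, 514, 0, 0, 0, 0, 93, 0, 0, []⟩) (.leaf ⟨10, 917, 917, (-1), 0, 1, 0, 54, 3, 917, [5851, 19068, 5850]⟩)) (.node (.leaf ⟨7, 1824, 1799, 0, 0, 0, 0, 25, 3, 1824, [10859, 10876, 10762]⟩) (.leaf ⟨0, 450, 450, (-1), 0, (-1), 0, 3, 0, 450, [2395, 27260, 2394]⟩))) (.node (.node (.leaf ⟨6, 267, 267, (-1), 0, (-1), 0, 54, 0, 267, [1695, 6780, 1694]⟩) (.leaf ⟨2, 3884, 3883, 0, 0, 0, 0, 25, 0, 3883, [23149, 22903, 23164]⟩)) (.node (.leaf ⟨9, 2472, 2488, 0, 0, 0, 0, 93, 0, 0, []⟩) (.leaf ⟨5, 2472, 1105, 3, 0, 3, 0, 47, 2, 1668, [14932, 31357, 7168]⟩))))) (.node (.node (.node (.node (.leaf ⟨0, 211, 251, 0, 0, 0, 0, 3, 0, 251, [1615, 1661, 1504]⟩) (.leaf ⟨11, 2954, 2530, 0, 0, 0, 0, 44, 3, 2954, [18035, 18044, 15188]⟩)) (.node (.leaf ⟨3, 1677, 1680, 0, 0, 0, 0, 36, 2,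 1676, [9798, 9797, 9852]⟩) (.leaf ⟨5, 4438, 4439, 0, 0, 0, 0, 93, 0, 0, []⟩))) (.node (.node (.leaf ⟨6, 905, 898, 21, 0, 11, 0, 53, 2, 902, [5738, 5755, 5756]⟩) (.leaf ⟨2, 3735, 3735, (-1), 0, (-11), 0, 25, 2, 3734, [22016, 22140, 22016]⟩)) (.node (.leaf ⟨10, 639, 639, (-1), 0, (-1), 0, 49, 5, 639, [3539, 3493, 3484, 3492, 3538]⟩) (.leaf ⟨7, 5029, 5050, 0, 0, 0, 0, 51, 5, 5029, [30229, 30227, 30328, 30330, 30332]⟩)))) (.node (.node (.node (.leaf ⟨3, 99, 99, 1, 0, 1, 0, 31, 0, 99, [425, 1438, 424]⟩) (.leaf ⟨7, 900, 3325, 0, 0, 0, 0, 93, 0, 0, []⟩)) (.node (.leaf ⟨6, 2006, 1901, 0, 0, 0, 0, 45, 5, 2006, [11867, 11878, 11898, 11901, 11276]⟩) (.leaf ⟨3, 772, 772, (-1), 0, (-1), 0, 31, 0, 772, [4845, 28284, 4844]⟩))) (.node (.node (.leaf ⟨2, 1327, 316, 0, 0, 0, 0, 25,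 0, 316, [1811, 7805, 7788]⟩) (.leaf ⟨11, 3877, 4031, 0, 0, 0, 0, 62, 3, 3877, [23095, 24188, 24116]⟩)) (.node (.leaf ⟨11, 2674, 2665, (-1), 0, (-5), 0, 37, 1, 777, [15987, 15994, 15997]⟩) (.leaf ⟨0, 0, 0, 0, 0, 0, 0, 0, 0, 0, []⟩))))))

end CfsgLib.Fi24Mult
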