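import Cfsg.Agent.Lib.Presented.Fi24Mult.Twist

/-! Generated enumeration facts (data). -/
set_option autoImplicit false
set_option maxRecDepth 20000

namespace CfsgLib.Fi24Mult

open CfsgLib.Presented

def factsPart64 : ATree TFact :=
  .node (.node (.node (.node (.node (.node (.leaf ⟨2, 31, 49, 0, 0, 0, 0, 28, 0, 49, [97, 127, 60]⟩) (.leaf ⟨2, 2719, 2728, 0, 0, 0, 0, 25, 0, 2728, [16497, 16511, 16474]⟩)) (.node (.leaf ⟨3, 1380, 1254, 0, 0, 0, 0, 31, 0, 1254, [7545, 8318, 8064]⟩) (.leaf ⟨6, 4138, 4139, 0, 0, 0, 0, 93, 0, 0, []⟩))) (.node (.node (.leaf ⟨10, 695, 697, 0, 0, 0, 0, 93, 0, 0, []⟩) (.leaf ⟨9, 3421, 3422, 0, 0, 0, 0, 93, 0, 0, []⟩)) (.node (.leaf ⟨6, 423, 981, 0, 0, 0, 0, 53, 0, 981, [6215, 2375, 2280]⟩) (.leaf ⟨5, 4845, 2246, 0, 0, 0, 0, 23, 3, 4845, [28791,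 28798, 13030]⟩)))) (.node (.node (.node (.leaf ⟨11, 109, 399, 0, 0, 0, 0, 50, 3, 109, [457, 2172, 2174]⟩) (.leaf ⟨11, 869, 869, 1, 0, (-1), 0, 50, 3, 869, [5543, 18558, 5542]⟩)) (.node (.leaf ⟨3, 1754, 1645, 0, 0, 0, 0, 12, 3, 1754, [10351, 8868, 9574]⟩) (.leaf ⟨4, 4250, 4506, 0, 0, 0, 0, 42, 2, 2644, [25326, 15853, 26750]⟩))) (.node (.node (.leaf ⟨1, 308, 640, 0, 0, 0, 0, 16, 0, 640, [3541, 6271, 1794]⟩) (.leaf ⟨9, 408, 408, (-1), 0, 1, 0, 53, 3, 408, [2225, 22654, 2224]⟩)) (.node (.leaf ⟨6, 581, 581, (-1), 0, 1, 0, 24, 3, 581, [3111, 3164, 3110]⟩) (.leaf ⟨8, 565, 427, 0, 0, 0, 0, 26, 3, 565, [3031, 30846, 2296]⟩))))) (.node (.node (.node (.node (.leaf ⟨2, 128, 174, 21, 0, (-3), 0, 66, 1, 169, [1002, 1138, 1136, 505, 1134, 1132, 509, 930, 936, 491, 942, 948, 952,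 958, 960, 951, 932, 938, 479, 944, 954, 544, 526, 528, 964, 970, 972, 508, 976, 980, 503, 984, 988, 992, 506, 928, 487, 934, 940, 946, 483, 956, 698, 950, 966, 994, 996, 998, 510, 1003, 1010, 1018, 1026, 1001, 781, 772, 764, 1028, 1030, 1040, 1054, 782, 1150]⟩) (.leaf ⟨7, 2862, 2866, 0, 0, 0, 0, 46, 3, 2862, [17523, 17533, 17534]⟩)) (.node (.leaf ⟨2, 583, 496, 0, 0, 0, 0, 24, 0, 496, [2567, 4955, 3126]⟩) (.leaf ⟨3, 4285, 4285, 1, 0, (-1), 0, 33, 0, 4285, [25423, 25726, 25422]⟩))) (.node (.node (.leaf ⟨9, 817, 819, 0, 0, 0, 0, 57, 3, 817, [5221, 5217, 5246]⟩) (.leaf ⟨5, 3541, 3645, 0, 0, 0, 0, 31, 3, 3541, [21071, 21630, 21514]⟩)) (.node (.leaf ⟨6, 1689, 1689, (-1), 0, 1, 0, 54, 0, 1689, [9911, 10112, 9910]⟩) (.leaf ⟨6, 4981, 1726, 0, 0, 0, 0, 55, 0, 1726, [10159,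 29823, 29798]⟩)))) (.node (.node (.node (.leaf ⟨10, 433, 433, (-1), 0, 1, 0, 58, 3, 433, [2339, 2834, 2338]⟩) (.leaf ⟨6, 3227, 3228, 0, 0, 0, 0, 93, 0, 0, []⟩)) (.node (.leaf ⟨1, 275, 981, 0, 0, 0, 0, 18, 0, 981, [6215, 11391, 1710]⟩) (.leaf ⟨5, 4678, 4681, 0, 0, 0, 0, 23, 3, 4678, [27763, 27652, 27774]⟩))) (.node (.node (.leaf ⟨4, 1187, 1188, 0, 0, 0, 0, 93, 0, 0, []⟩) (.leaf ⟨10, 3962, 3966, 0, 0, 0, 0, 93, 0, 0, []⟩)) (.node (.leaf ⟨3, 2382, 2591, 0, 0, 0, 0, 12, 3, 2382, [13771, 15486, 15472]⟩) (.leaf ⟨0, 0, 0, 0, 0, 0, 0, 0, 0, 0, []⟩)))))) (.node (.node (.node (.node (.node (.leaf ⟨4, 132, 135, 0, 0, 0, 0, 3, 3, 132, [555, 7, 638]⟩) (.leaf ⟨5, 2798, 2799, 0, 0, 0, 0, 93, 0, 0, []⟩)) (.node (.leaf ⟨5, 1568, 1568, 1, 0, (-1), 0, 45, 0, 1568, [8819, 8826, 8830,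 8827, 8818]⟩) (.leaf ⟨4, 4165, 4144, 98, 0, 56, 0, 39, 2, 4152, [25129, 25215, 24714]⟩))) (.node (.node (.leaf ⟨5, 15, 755, 0, 0, 0, 0, 93, 0, 0, []⟩) (.leaf ⟨6, 3557, 3558, 0, 0, 0, 0, 93, 0, 0, []⟩)) (.node (.leaf ⟨11, 2208, 2224, 0, 0, 0, 0, 93, 0, 0, []⟩) (.leaf ⟨5, 4905, 4906, 0, 0, 0, 0, 45, 4, 4904, [29308, 29285, 29164, 10624, 29310]⟩)))) (.node (.node (.node (.leaf ⟨5, 514, 515, 0, 0, 0, 0, 93, 0, 0, []⟩) (.leaf ⟨9, 2722, 3133, 0, 0, 0, 0, 93, 0, 0, []⟩)) (.node (.leaf ⟨1, 1799, 1826, 0, 0, 0, 0, 93, 0, 0, []⟩) (.leaf ⟨0, 451, 451, 1, 0, 1, 0, 2, 0, 451, [2397, 27262, 2396]⟩))) (.node (.node (.leaf ⟨5, 1049, 1049, (-1), 0, (-1), 0, 45, 4, 268, [6646, 1697, 6782, 1696, 6646]⟩) (.leaf ⟨7, 3076, 3885, 0, 0, 0, 0, 93, 0, 0, []⟩)) (.node (.leaf ⟨10, 2488, 2489,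 0, 0, 0, 0, 93, 0, 0, []⟩) (.leaf ⟨5, 1106, 2488, (-3), 0, (-3), 0, 48, 2, 1105, [6902, 31359, 14974]⟩))))) (.node (.node (.node (.node (.leaf ⟨0, 212, 252, 0, 0, 0, 0, 2, 0, 252, [1617, 1663, 1506]⟩) (.leaf ⟨11, 2955, 2531, 0, 0, 0, 0, 37, 3, 2955, [18037, 18046, 15190]⟩)) (.node (.leaf ⟨5, 1680, 1681, 0, 0, 0, 0, 93, 0, 0, []⟩) (.leaf ⟨4, 4439, 4440, 0, 0, 0, 0, 93, 0, 0, []⟩))) (.node (.node (.leaf ⟨3, 860, 907, 0, 0, 0, 0, 93, 0, 0, []⟩) (.leaf ⟨7, 377, 3745, 0, 0, 0, 0, 93, 0, 0, []⟩)) (.node (.leaf ⟨3, 629, 629, (-1), 0, (-1), 0, 33, 0, 629, [3495, 9368, 3494]⟩) (.leaf ⟨8, 5050, 5051, 0, 0, 0, 0, 93, 0, 0, []⟩)))) (.node (.node (.node (.leaf ⟨4, 105, 105, 1, 0, 1, 0, 30, 5, 105, [449, 429, 3710, 428, 448]⟩) (.leaf ⟨7, 907, 3326, 0, 0, 0, 0, 93, 0, 0, []⟩))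 (.node (.leaf ⟨6, 2007, 1902, 0, 0, 0, 0, 39, 3, 2007, [11869, 11902, 11278]⟩) (.leaf ⟨3, 4567, 4567, 1, 0, 1, 0, 35, 0, 4567, [27065, 28286, 27064]⟩))) (.node (.node (.leaf ⟨2, 1328, 317, 0, 0, 0, 0, 24, 0, 317, [1813, 7807, 7790]⟩) (.leaf ⟨11, 3878, 4032, 0, 0, 0, 0, 50, 3, 3878, [23099, 24190, 24118]⟩)) (.node (.leaf ⟨10, 427, 2675, 0, 0, 0, 0, 93, 0, 0, []⟩) (.leaf ⟨0, 0, 0, 0, 0, 0, 0, 0, 0, 0, []⟩))))))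

def factsPart65 : ATree TFact :=
  .node (.node (.node (.node (.node (.node (.leaf ⟨2, 32, 50, 0, 0, 0, 0, 25, 0, 50, [99, 129, 62]⟩) (.leaf ⟨2, 2720, 2729, 0, 0, 0, 0, 24, 0, 2729, [16499, 16513, 16478]⟩)) (.node (.leaf ⟨3, 1376, 1375, 17, 0, 9, 0, 30, 4, 1369, [8052, 8061, 8317, 8320, 8048]⟩) (.leaf ⟨5, 4139, 4140, 0, 0, 0, 0, 93, 0, 0, []⟩))) (.node (.node (.leaf ⟨3, 697, 696, 0, 0, 0, 0, 36, 2, 695, [4224, 4193, 4220]⟩) (.leaf ⟨7, 3422, 3423, 0, 0, 0, 0, 93, 0, 0, []⟩)) (.node (.leaf ⟨6, 424, 1932, 0, 0, 0, 0, 54, 0, 1932, [11371, 12417, 2282]⟩) (.leaf ⟨5, 4846, 4838, 0, 0, 0, 0, 14, 3, 4846, [28793, 28800, 28766]⟩)))) (.node (.node (.node (.leaf ⟨9, 399, 400, 0, 0, 0, 0, 93, 0, 0, []⟩) (.leaf ⟨11, 950, 950, 1, 0, 1, 0, 64, 3, 950, [6059, 18560, 6058]⟩)) (.node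 (.leaf ⟨3, 1755, 1646, 0, 0, 0, 0, 2, 3, 1755, [10353, 10368, 9576]⟩) (.leaf ⟨10, 4506, 4507, 0, 0, 0, 0, 93, 0, 0, []⟩))) (.node (.node (.leaf ⟨1, 309, 641, 0, 0, 0, 0, 15, 0, 641, [3545, 6273, 1796]⟩) (.leaf ⟨9, 562, 562, (-1), 0, (-1), 0, 48, 3, 562, [3025, 22656, 3024]⟩)) (.node (.leaf ⟨6, 2421, 2421, (-1), 0, (-1), 0, 15, 3, 2421, [14261, 14464, 14260]⟩) (.leaf ⟨8, 2440, 2897, 0, 0, 0, 0, 17, 3, 2440, [14475, 30848, 17690]⟩))))) (.node (.node (.node (.node (.leaf ⟨3, 160, 160, 1, 0, (-1), 0, 21, 5, 160, [917, 517, 766, 516, 916]⟩) (.leaf ⟨10, 2866, 2867, 0, 0, 0, 0, 93, 0, 0, []⟩)) (.node (.leaf ⟨3, 495, 546, 0, 0, 0, 0, 33, 0, 546, [2907, 2887, 2564]⟩) (.leaf ⟨6, 1955, 4339, 0, 0, 0, 0, 93, 0, 0, []⟩))) (.node (.node (.leaf ⟨3, 819, 819, 1, 0, (-1), 0, 33,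 2, 93, [5246, 808, 5246]⟩) (.leaf ⟨5, 3542, 3646, 0, 0, 0, 0, 46, 0, 3646, [21517, 21633, 21072]⟩)) (.node (.leaf ⟨3, 1585, 1585, 1, 0, (-1), 0, 36, 0, 1585, [8941, 9150, 8940]⟩) (.leaf ⟨4, 757, 4915, 0, 0, 0, 0, 43, 2, 756, [4740, 4739, 29424]⟩)))) (.node (.node (.node (.leaf ⟨10, 434, 434, (-1), 0, (-1), 0, 54, 3, 434, [2341, 3200, 2340]⟩) (.leaf ⟨5, 3228, 3229, 0, 0, 0, 0, 93, 0, 0, []⟩)) (.node (.leaf ⟨1, 276, 1932, 0, 0, 0, 0, 19, 0, 1932, [11371, 11393, 1712]⟩) (.leaf ⟨10, 4681, 4682, 0, 0, 0, 0, 93, 0, 0, []⟩))) (.node (.node (.leaf ⟨3, 1188, 1189, 0, 0, 0, 0, 93, 0, 0, []⟩) (.leaf ⟨10, 3562, 3967, 0, 0, 0, 0, 93, 0, 0, []⟩)) (.node (.leaf ⟨3, 2587, 2592, 0, 0, 0, 0, 35, 0, 2592, [15475, 15489, 15448]⟩) (.leaf ⟨0, 0, 0, 0, 0, 0, 0, 0, 0, 0, []⟩)))))) (.node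 (.node (.node (.node (.node (.leaf ⟨0, 2, 136, 0, 0, 0, 0, 93, 0, 0, []⟩) (.leaf ⟨7, 2780, 2800, 0, 0, 0, 0, 93, 0, 0, []⟩)) (.node (.leaf ⟨10, 1563, 1563, 1, 0, (-1), 0, 49, 5, 1563, [8799, 8823, 8832, 8822, 8798]⟩) (.leaf ⟨8, 595, 2645, 0, 0, 0, 0, 34, 3, 595, [3239, 18458, 15854]⟩))) (.node (.node (.leaf ⟨4, 755, 756, 0, 0, 0, 0, 93, 0, 0, []⟩) (.leaf ⟨8, 3558, 3559, 0, 0, 0, 0, 93, 0, 0, []⟩)) (.node (.leaf ⟨7, 2224, 2225, 0, 0, 0, 0, 93, 0, 0, []⟩) (.leaf ⟨4, 4906, 4895, (-27), 0, 1, 0, 39, 2, 1779, [29310, 13903, 29128]⟩)))) (.node (.node (.node (.leaf ⟨5, 509, 513, 0, 0, 0, 0, 46, 2, 508, [2664, 2663, 2684]⟩) (.leaf ⟨2, 3133, 829, 0, 0, 0, 0, 27, 0, 829, [5295, 16527, 19072]⟩)) (.node (.leaf ⟨7, 1825, 1826, 0, 0, 0, 0, 16, 3, 1825, [10861, 10878, 10880]⟩)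 (.leaf ⟨0, 455, 455, (-1), 0, (-1), 0, 8, 0, 455, [2405, 27264, 2404]⟩))) (.node (.node (.leaf ⟨5, 1050, 1050, 1, 0, 1, 0, 46, 0, 1050, [6649, 6784, 6648]⟩) (.leaf ⟨6, 3885, 3886, 0, 0, 0, 0, 93, 0, 0, []⟩)) (.node (.leaf ⟨9, 2489, 2473, 0, 0, 0, 0, 63, 2, 2488, [14976, 14975, 14896]⟩) (.leaf ⟨10, 2490, 1108, 3, 0, (-3), 0, 49, 3, 2488, [14976, 14980, 31361, 6906, 6910]⟩))))) (.node (.node (.node (.node (.leaf ⟨0, 213, 253, 0, 0, 0, 0, 1, 0, 253, [1619, 1665, 1508]⟩) (.leaf ⟨11, 2956, 2532, 0, 0, 0, 0, 29, 3, 2956, [18039, 18048, 15192]⟩)) (.node (.leaf ⟨3, 1681, 1678, 0, 0, 0, 0, 31, 0, 1678, [9849, 9854, 9856]⟩) (.leaf ⟨10, 4440, 4441, 0, 0, 0, 0, 93, 0, 0, []⟩))) (.node (.node (.leaf ⟨5, 907, 900, 0, 0, 0, 0, 31, 3, 907, [5761, 5506, 5724]⟩) (.leaf ⟨3, 3745, 3735,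 0, 0, 0, 0, 33, 0, 3735, [22017, 22051, 22144]⟩)) (.node (.leaf ⟨3, 630, 630, 1, 0, 1, 0, 32, 0, 630, [3499, 13952, 3498]⟩) (.leaf ⟨7, 5051, 5052, 0, 0, 0, 0, 93, 0, 0, []⟩)))) (.node (.node (.node (.leaf ⟨4, 106, 106, (-1), 0, (-1), 0, 40, 0, 106, [451, 3712, 450]⟩) (.leaf ⟨5, 3326, 3325, 0, 0, 0, 0, 46, 0, 3325, [20095, 5763, 20096]⟩)) (.node (.leaf ⟨6, 2008, 1903, 0, 0, 0, 0, 32, 3, 2008, [11871, 11904, 11280]⟩) (.leaf ⟨3, 4568, 4568, (-1), 0, (-1), 0, 33, 0, 4568, [27069, 28288, 27068]⟩))) (.node (.node (.leaf ⟨2, 1329, 318, 0, 0, 0, 0, 23, 0, 318, [1815, 7809, 7792]⟩) (.leaf ⟨8, 963, 4041, 0, 0, 0, 0, 93, 0, 0, []⟩)) (.node (.leaf ⟨5, 2675, 2676, 0, 0, 0, 0, 93, 0, 0, []⟩) (.leaf ⟨0, 0, 0, 0, 0, 0, 0, 0, 0, 0, []⟩))))))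

def factsPart66 : ATree TFact :=
  .node (.node (.node (.node (.node (.node (.leaf ⟨2, 33, 51, 0, 0, 0, 0, 24, 0, 51, [101, 131, 64]⟩) (.leaf ⟨1, 936, 2730, 0, 0, 0, 0, 93, 0, 0, []⟩)) (.node (.leaf ⟨6, 1371, 1376, 0, 0, 0, 0, 39, 3, 1371, [8041, 8039, 8052]⟩) (.leaf ⟨4, 4140, 4141, 0, 0, 0, 0, 93, 0, 0, []⟩))) (.node (.node (.leaf ⟨2, 695, 698, 0, 0, 0, 0, 93, 0, 0, []⟩) (.leaf ⟨6, 3423, 3424, 0, 0, 0, 0, 93, 0, 0, []⟩)) (.node (.leaf ⟨6, 425, 1933, 0, 0, 0, 0, 55, 0, 1933, [11373, 12419, 2284]⟩) (.leaf ⟨9, 4846, 4847, 0, 0, 0, 0, 93, 0, 0, []⟩)))) (.node (.node (.node (.leaf ⟨11, 378, 400, 0, 0, 0, 0, 64, 3, 378, [2057, 2176, 2178]⟩) (.leaf ⟨10, 3072, 3072, 1, 0, 1, 0, 65, 4, 951, [18550, 6063, 18562, 6062, 18550]⟩)) (.node (.leaf ⟨3, 1756, 1647, 0, 0, 0, 0, 36,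 0, 1647, [9579, 10371, 10358]⟩) (.leaf ⟨4, 4507, 4251, 0, 0, 0, 0, 43, 0, 4251, [25329, 26752, 26754]⟩))) (.node (.node (.leaf ⟨1, 310, 771, 0, 0, 0, 0, 17, 0, 771, [4843, 6275, 1798]⟩) (.leaf ⟨8, 411, 411, 1, 0, (-1), 0, 60, 0, 411, [2231, 22642, 22658, 22643, 2230]⟩)) (.node (.leaf ⟨6, 2438, 2438, (-1), 0, 1, 0, 5, 3, 2438, [14453, 14466, 14452]⟩) (.leaf ⟨8, 2441, 5134, 0, 0, 0, 0, 7, 3, 2441, [14479, 30850, 30840]⟩))))) (.node (.node (.node (.node (.leaf ⟨3, 161, 161, (-1), 0, 1, 0, 33, 0, 161, [919, 1154, 918]⟩) (.leaf ⟨5, 2264, 2868, 0, 0, 0, 0, 93, 0, 0, []⟩)) (.node (.leaf ⟨3, 496, 547, 0, 0, 0, 0, 32, 0, 547, [2909, 9347, 2566]⟩) (.leaf ⟨4, 4339, 4340, 0, 0, 0, 0, 93, 0, 0, []⟩))) (.node (.node (.leaf ⟨3, 817, 817, 1, 0, 1, 0, 35, 2, 819, [5249, 5250, 5249]⟩)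 (.leaf ⟨6, 3544, 3648, 0, 0, 0, 0, 45, 5, 3544, [21077, 21075, 21634, 21518, 21520]⟩)) (.node (.leaf ⟨3, 1586, 1586, (-1), 0, 1, 0, 33, 0, 1586, [8943, 13442, 8942]⟩) (.leaf ⟨11, 4915, 4982, 0, 0, 0, 0, 93, 0, 0, []⟩)))) (.node (.node (.node (.leaf ⟨5, 501, 501, (-1), 0, (-1), 0, 49, 4, 459, [2604, 2419, 3202, 2418, 2604]⟩) (.leaf ⟨10, 3222, 3230, 0, 0, 0, 0, 93, 0, 0, []⟩)) (.node (.leaf ⟨1, 277, 1933, 0, 0, 0, 0, 20, 0, 1933, [11373, 11395, 1714]⟩) (.leaf ⟨5, 4682, 4683, 0, 0, 0, 0, 93, 0, 0, []⟩))) (.node (.node (.leaf ⟨10, 1189, 1190, 0, 0, 0, 0, 93, 0, 0, []⟩) (.leaf ⟨2, 3966, 3967, 0, 0, 0, 0, 28, 2, 3962, [23680, 23647, 23682]⟩)) (.node (.leaf ⟨3, 2588, 2593, 0, 0, 0, 0, 2, 3, 2588, [15451, 15490, 15476]⟩) (.leaf ⟨0, 0, 0, 0, 0, 0, 0, 0, 0, 0, []⟩)))))) (.node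 (.node (.node (.node (.node (.leaf ⟨3, 135, 136, 0, 0, 0, 0, 2, 3, 135, [639, 5, 642]⟩) (.leaf ⟨5, 2800, 2778, 0, 0, 0, 0, 46, 0, 2778, [16845, 16860, 17026]⟩)) (.node (.leaf ⟨10, 1564, 1564, 1, 0, 1, 0, 43, 3, 1564, [8801, 8834, 8800]⟩) (.leaf ⟨8, 596, 2678, 0, 0, 0, 0, 26, 3, 596, [3243, 25218, 16028]⟩))) (.node (.node (.leaf ⟨10, 756, 757, 0, 0, 0, 0, 93, 0, 0, []⟩) (.leaf ⟨5, 3559, 3560, 0, 0, 0, 0, 93, 0, 0, []⟩)) (.node (.leaf ⟨6, 2225, 2226, 0, 0, 0, 0, 93, 0, 0, []⟩) (.leaf ⟨10, 1605, 4907, 0, 0, 0, 0, 93, 0, 0, []⟩)))) (.node (.node (.node (.leaf ⟨6, 515, 511, 0, 0, 0, 0, 45, 5, 515, [2689, 2687, 2691, 2666, 2668]⟩) (.leaf ⟨7, 3133, 3134, 0, 0, 0, 0, 93, 0, 0, []⟩)) (.node (.leaf ⟨8, 1826, 1813, 0, 0, 0, 0, 17, 3, 1826, [10881, 10780, 10828]⟩) (.leaf ⟨0,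 456, 456, 1, 0, 1, 0, 9, 0, 456, [2407, 27266, 2406]⟩))) (.node (.node (.leaf ⟨5, 1081, 1081, (-1), 0, (-1), 0, 47, 0, 1081, [6767, 6786, 6766]⟩) (.leaf ⟨8, 3886, 3887, 0, 0, 0, 0, 93, 0, 0, []⟩)) (.node (.leaf ⟨5, 2489, 2490, 0, 0, 0, 0, 93, 0, 0, []⟩) (.leaf ⟨0, 1678, 1702, 0, 0, 0, 0, 4, 0, 1702, [10007, 9813, 9848]⟩))))) (.node (.node (.node (.node (.leaf ⟨0, 226, 254, 0, 0, 0, 0, 8, 0, 254, [1621, 1667, 1542]⟩) (.leaf ⟨10, 2956, 2957, 0, 0, 0, 0, 93, 0, 0, []⟩)) (.node (.leaf ⟨10, 1674, 1682, 0, 0, 0, 0, 93, 0, 0, []⟩) (.leaf ⟨5, 4441, 4442, 0, 0, 0, 0, 93, 0, 0, []⟩))) (.node (.node (.leaf ⟨9, 907, 908, 0, 0, 0, 0, 93, 0, 0, []⟩) (.leaf ⟨9, 149, 3746, 0, 0, 0, 0, 93, 0, 0, []⟩)) (.node (.leaf ⟨3, 631, 631, (-1), 0, (-1), 0, 31, 0, 631, [3503, 13954, 3502]⟩)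 (.leaf ⟨8, 5037, 5052, 0, 0, 0, 0, 56, 5, 5037, [30261, 30231, 30334, 30336, 30338]⟩)))) (.node (.node (.node (.leaf ⟨4, 107, 107, 1, 0, 1, 0, 39, 0, 107, [453, 3714, 452]⟩) (.leaf ⟨4, 3326, 3324, 0, 0, 0, 0, 40, 0, 3324, [20091, 5939, 20096]⟩)) (.node (.leaf ⟨6, 2009, 1904, 0, 0, 0, 0, 24, 3, 2009, [11873, 11906, 11282]⟩) (.leaf ⟨2, 771, 771, 1, 0, 1, 0, 26, 0, 771, [4843, 14100, 4842]⟩))) (.node (.node (.leaf ⟨2, 1330, 319, 0, 0, 0, 0, 22, 0, 319, [1817, 7811, 7794]⟩) (.leaf ⟨10, 3875, 962, 0, 0, 0, 0, 58, 3, 3875, [23087, 23083, 6114]⟩)) (.node (.leaf ⟨6, 2676, 2677, 0, 0, 0, 0, 93, 0, 0, []⟩) (.leaf ⟨0, 0, 0, 0, 0, 0, 0, 0, 0, 0, []⟩))))))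

def factsPart67 : ATree TFact :=
  .node (.node (.node (.node (.node (.node (.leaf ⟨2, 34, 52, 0, 0, 0, 0, 23, 0, 52, [103, 133, 66]⟩) (.leaf ⟨9, 2730, 2731, 0, 0, 0, 0, 93, 0, 0, []⟩)) (.node (.leaf ⟨3, 1256, 1371, (-17), 0, (-9), 0, 32, 2, 1375, [8051, 8323, 8325]⟩) (.leaf ⟨10, 4141, 4142, 0, 0, 0, 0, 93, 0, 0, []⟩))) (.node (.node (.leaf ⟨10, 698, 699, 0, 0, 0, 0, 93, 0, 0, []⟩) (.leaf ⟨8, 3424, 3425, 0, 0, 0, 0, 93, 0, 0, []⟩)) (.node (.leaf ⟨6, 2114, 1934, (-21), 0, 1, 0, 45, 5, 2114, [12299, 12345, 12415, 12420, 11374]⟩) (.leaf ⟨5, 4847, 4839, 0, 0, 0, 0, 48, 0, 4839, [28775, 28803, 28804]⟩)))) (.node (.node (.node (.leaf ⟨10, 400, 401, 0, 0, 0, 0, 93, 0, 0, []⟩) (.leaf ⟨7, 3072, 3073, 0, 0, 0, 0, 93, 0, 0, []⟩)) (.node (.leaf ⟨3, 306, 306, 1, 0, (-1), 0,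 36, 0, 306, [1791, 3434, 1790]⟩) (.leaf ⟨11, 4507, 4508, 0, 0, 0, 0, 93, 0, 0, []⟩))) (.node (.node (.leaf ⟨1, 311, 772, 0, 0, 0, 0, 14, 0, 772, [4845, 6277, 1800]⟩) (.leaf ⟨8, 412, 412, (-1), 0, 1, 0, 61, 0, 412, [2233, 22660, 2232]⟩)) (.node (.leaf ⟨0, 2419, 2439, 0, 0, 0, 0, 93, 0, 0, []⟩) (.leaf ⟨8, 2442, 5135, 0, 0, 0, 0, 61, 0, 5135, [30843, 30853, 14482]⟩))))) (.node (.node (.node (.node (.leaf ⟨3, 162, 162, 1, 0, (-1), 0, 32, 0, 162, [921, 1156, 920]⟩) (.leaf ⟨6, 2868, 2869, 0, 0, 0, 0, 93, 0, 0, []⟩)) (.node (.leaf ⟨11, 86, 547, 0, 0, 0, 0, 55, 3, 86, [379, 3944, 2908]⟩) (.leaf ⟨7, 4340, 4341, 0, 0, 0, 0, 93, 0, 0, []⟩))) (.node (.node (.leaf ⟨9, 96, 820, 0, 0, 0, 0, 93, 0, 0, []⟩) (.leaf ⟨6, 3673, 3649, 0, 0, 0, 0, 39, 3, 3673, [21599, 21636, 21522]⟩))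 (.node (.leaf ⟨3, 1587, 1587, 1, 0, (-1), 0, 32, 0, 1587, [8945, 13444, 8944]⟩) (.leaf ⟨4, 4982, 1597, 0, 0, 0, 0, 44, 0, 1597, [9015, 29826, 29828]⟩)))) (.node (.node (.node (.leaf ⟨4, 586, 586, 1, 0, (-1), 0, 38, 0, 586, [3197, 3198, 3204, 3199, 3196]⟩) (.leaf ⟨10, 2989, 3231, 0, 0, 0, 0, 93, 0, 0, []⟩)) (.node (.leaf ⟨1, 292, 1934, 0, 0, 0, 0, 14, 0, 1934, [11375, 11397, 1752]⟩) (.leaf ⟨10, 4680, 4683, 0, 0, 0, 0, 49, 5, 4680, [27771, 27765, 27776, 27778, 27780]⟩))) (.node (.node (.leaf ⟨11, 1190, 1191, 0, 0, 0, 0, 93, 0, 0, []⟩) (.leaf ⟨3, 3967, 3623, 0, 0, 0, 0, 36, 2, 3562, [23682, 21129, 21402]⟩)) (.node (.leaf ⟨3, 2589, 2594, 0, 0, 0, 0, 33, 0, 2594, [15479, 15493, 15452]⟩) (.leaf ⟨0, 0, 0, 0, 0, 0, 0, 0, 0, 0, []⟩)))))) (.node (.node (.node (.node (.node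 (.leaf ⟨0, 1, 137, 0, 0, 0, 0, 93, 0, 0, []⟩) (.leaf ⟨9, 2779, 2801, 0, 0, 0, 0, 93, 0, 0, []⟩)) (.node (.leaf ⟨10, 1565, 1565, 1, 0, (-1), 0, 36, 3, 1565, [8803, 8836, 8802]⟩) (.leaf ⟨8, 4127, 4159, 3, 0, 3, 0, 56, 3, 645, [15926, 24660, 14091, 25220, 24744]⟩))) (.node (.node (.leaf ⟨5, 757, 758, 0, 0, 0, 0, 93, 0, 0, []⟩) (.leaf ⟨4, 3560, 3561, 0, 0, 0, 0, 93, 0, 0, []⟩)) (.node (.leaf ⟨5, 2226, 2227, 0, 0, 0, 0, 93, 0, 0, []⟩) (.leaf ⟨0, 4907, 2410, 0, 0, 0, 0, 9, 0, 2410, [13935, 10645, 29316]⟩)))) (.node (.node (.node (.leaf ⟨10, 515, 516, 0, 0, 0, 0, 93, 0, 0, []⟩) (.leaf ⟨2, 3134, 830, 0, 0, 0, 0, 25, 0, 830, [5297, 19075, 19076]⟩)) (.node (.leaf ⟨8, 1820, 1814, 0, 0, 0, 0, 56, 5, 1820, [10849, 10871, 10882, 10884, 10830]⟩) (.leaf ⟨0, 457, 457, (-1), 0, (-1),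 0, 4, 0, 457, [2411, 27268, 2410]⟩))) (.node (.node (.leaf ⟨6, 1053, 1053, (-1), 0, (-1), 0, 45, 5, 1053, [6655, 6768, 6788, 6769, 6654]⟩) (.leaf ⟨7, 3887, 3888, 0, 0, 0, 0, 93, 0, 0, []⟩)) (.node (.leaf ⟨9, 2474, 2490, 0, 0, 0, 0, 48, 3, 2474, [14899, 14979, 14980]⟩) (.leaf ⟨9, 563, 563, (-1), 0, 1, 0, 42, 3, 563, [3027, 22658, 3026]⟩))))) (.node (.node (.node (.node (.leaf ⟨0, 227, 255, 0, 0, 0, 0, 9, 0, 255, [1623, 1669, 1544]⟩) (.leaf ⟨11, 2216, 2957, 187, 0, (-61), 0, 65, 3, 2223, [13020, 12906, 18027, 18051, 18052]⟩)) (.node (.leaf ⟨4, 1680, 1682, 0, 0, 0, 0, 43, 2, 1675, [9852, 9795, 9860]⟩) (.leaf ⟨6, 4442, 4443, 0, 0, 0, 0, 93, 0, 0, []⟩))) (.node (.node (.leaf ⟨5, 908, 903, 0, 0, 0, 0, 48, 0, 903, [5731, 5763, 5764]⟩) (.leaf ⟨4, 3746, 377, 0, 0, 0, 0, 42,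 0, 377, [2027, 867, 22148]⟩)) (.node (.leaf ⟨4, 628, 628, 1, 0, 1, 0, 43, 0, 628, [3493, 9286, 3492]⟩) (.leaf ⟨8, 5049, 5053, 0, 0, 0, 0, 93, 0, 0, []⟩)))) (.node (.node (.node (.leaf ⟨10, 89, 89, 1, 0, (-1), 0, 49, 5, 89, [387, 385, 1382, 384, 386]⟩) (.leaf ⟨7, 901, 3327, 0, 0, 0, 0, 93, 0, 0, []⟩)) (.node (.leaf ⟨6, 2010, 1905, 0, 0, 0, 0, 15, 3, 2010, [11875, 11908, 11284]⟩) (.leaf ⟨2, 772, 772, (-1), 0, (-1), 0, 23, 0, 772, [4845, 28292, 4844]⟩))) (.node (.node (.leaf ⟨3, 1332, 321, 0, 0, 0, 0, 21, 5, 1332, [7799, 7797, 7812, 1818, 1820]⟩) (.leaf ⟨10, 963, 3876, 0, 0, 0, 0, 54, 3, 963, [6119, 24197, 23090]⟩)) (.node (.leaf ⟨2, 2675, 2130, 0, 0, 0, 0, 28, 2, 427, [16000, 2297, 12346]⟩) (.leaf ⟨0, 0, 0, 0, 0, 0, 0, 0, 0, 0, []⟩))))))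

def factsPart68 : ATree TFact :=
  .node (.node (.node (.node (.node (.node (.leaf ⟨2, 35, 53, 0, 0, 0, 0, 22, 0, 53, [105, 135, 68]⟩) (.leaf ⟨7, 2731, 2732, 0, 0, 0, 0, 93, 0, 0, []⟩)) (.node (.leaf ⟨3, 1372, 1257, 17, 0, 9, 0, 31, 2, 1371, [8042, 8327, 7550]⟩) (.leaf ⟨5, 4142, 4143, 0, 0, 0, 0, 93, 0, 0, []⟩))) (.node (.node (.leaf ⟨2, 699, 697, 0, 0, 0, 0, 28, 2, 698, [4230, 4229, 4224]⟩) (.leaf ⟨5, 3425, 3426, 0, 0, 0, 0, 93, 0, 0, []⟩)) (.node (.leaf ⟨7, 1936, 2116, 21, 0, 1, 0, 51, 3, 1934, [11376, 11378, 12423, 12300, 12302]⟩) (.leaf ⟨8, 1568, 4848, 0, 0, 0, 0, 93, 0, 0, []⟩)))) (.node (.node (.node (.leaf ⟨11, 401, 402, 0, 0, 0, 0, 93, 0, 0, []⟩) (.leaf ⟨6, 3073, 3074, 0, 0, 0, 0, 93, 0, 0, []⟩)) (.node (.leaf ⟨3, 307, 307, (-1), 0, 1, 0, 31, 0, 307, [1793,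 10374, 1792]⟩) (.leaf ⟨4, 4508, 4252, 0, 0, 0, 0, 44, 0, 4252, [25331, 26757, 26758]⟩))) (.node (.node (.leaf ⟨1, 312, 773, 0, 0, 0, 0, 13, 0, 773, [4847, 6279, 1802]⟩) (.leaf ⟨7, 3549, 3549, (-1), 0, 1, 0, 56, 4, 3548, [21088, 21087, 22662, 21086, 21088]⟩)) (.node (.leaf ⟨5, 2438, 2439, 0, 0, 0, 0, 4, 3, 2438, [14453, 14262, 14470]⟩) (.leaf ⟨5, 5135, 5136, 0, 0, 0, 0, 93, 0, 0, []⟩))))) (.node (.node (.node (.node (.leaf ⟨4, 160, 160, 1, 0, (-1), 0, 22, 3, 160, [917, 1020, 916]⟩) (.leaf ⟨7, 2869, 2870, 0, 0, 0, 0, 93, 0, 0, []⟩)) (.node (.leaf ⟨0, 105, 105, 1, 0, 1, 0, 2, 0, 105, [449, 3766, 448]⟩) (.leaf ⟨9, 4339, 4283, 0, 0, 0, 0, 53, 3, 4339, [25731, 11474, 25416]⟩))) (.node (.node (.leaf ⟨4, 820, 816, 0, 0, 0, 0, 42, 0, 816, [5217, 407, 5254]⟩) (.leaf ⟨11, 3659,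 3649, (-21), 0, (-1), 0, 55, 3, 3659, [21597, 21619, 21638]⟩)) (.node (.leaf ⟨3, 1588, 1588, (-1), 0, 1, 0, 31, 0, 1588, [8947, 13446, 8946]⟩) (.leaf ⟨10, 14, 14, (-1), 0, 1, 0, 58, 3, 14, [27, 9064, 26]⟩)))) (.node (.node (.node (.leaf ⟨10, 461, 587, 0, 0, 0, 0, 93, 0, 0, []⟩) (.leaf ⟨11, 3231, 3232, 0, 0, 0, 0, 93, 0, 0, []⟩)) (.node (.leaf ⟨1, 293, 1935, 0, 0, 0, 0, 16, 0, 1935, [11377, 11399, 1754]⟩) (.leaf ⟨10, 4657, 4684, 0, 0, 0, 0, 93, 0, 0, []⟩))) (.node (.node (.leaf ⟨8, 1187, 1179, 0, 0, 0, 0, 47, 3, 1187, [7295, 7293, 7262]⟩) (.leaf ⟨10, 3560, 3968, 0, 0, 0, 0, 93, 0, 0, []⟩)) (.node (.leaf ⟨10, 2593, 2595, 0, 0, 0, 0, 93, 0, 0, []⟩) (.leaf ⟨0, 0, 0, 0, 0, 0, 0, 0, 0, 0, []⟩)))))) (.node (.node (.node (.node (.node (.leaf ⟨2, 136, 137, 0, 0, 0, 0, 1,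 3, 136, [643, 3, 646]⟩) (.leaf ⟨6, 2801, 2780, 0, 0, 0, 0, 53, 0, 2780, [16859, 16850, 17030]⟩)) (.node (.leaf ⟨10, 1566, 1566, 1, 0, 1, 0, 28, 3, 1566, [8805, 8838, 8804]⟩) (.leaf ⟨8, 4160, 4128, (-3), 0, (-3), 0, 52, 3, 4160, [24747, 25223, 24662]⟩))) (.node (.node (.leaf ⟨6, 758, 759, 0, 0, 0, 0, 93, 0, 0, []⟩) (.leaf ⟨3, 3561, 3562, 0, 0, 0, 0, 93, 0, 0, []⟩)) (.node (.leaf ⟨11, 2000, 2228, 0, 0, 0, 0, 93, 0, 0, []⟩) (.leaf ⟨2, 4907, 1608, 0, 0, 0, 0, 28, 0, 1608, [9101, 9099, 29316]⟩)))) (.node (.node (.node (.leaf ⟨6, 516, 512, 0, 0, 0, 0, 54, 0, 512, [2671, 2693, 2694]⟩) (.leaf ⟨6, 3134, 3135, 0, 0, 0, 0, 93, 0, 0, []⟩)) (.node (.leaf ⟨4, 1322, 1827, 0, 0, 0, 0, 93, 0, 0, []⟩) (.leaf ⟨0, 458, 458, 1, 0, 1, 0, 3, 0, 458, [2415, 27270, 2414]⟩))) (.node (.node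 (.leaf ⟨6, 1054, 1054, (-1), 0, 1, 0, 39, 3, 1054, [6657, 6790, 6656]⟩) (.leaf ⟨10, 3834, 3885, 0, 0, 0, 0, 58, 3, 3834, [22893, 18609, 23168]⟩)) (.node (.leaf ⟨7, 2490, 2491, 0, 0, 0, 0, 93, 0, 0, []⟩) (.leaf ⟨9, 564, 564, (-1), 0, (-1), 0, 35, 3, 564, [3029, 31366, 3028]⟩))))) (.node (.node (.node (.node (.leaf ⟨0, 228, 256, 0, 0, 0, 0, 6, 0, 256, [1625, 1671, 1546]⟩) (.leaf ⟨6, 2957, 2213, (-187), 0, (-61), 0, 55, 0, 2213, [12875, 12912, 18054]⟩)) (.node (.leaf ⟨10, 1671, 1671, (-1), 0, 1, 0, 43, 3, 1671, [9787, 9064, 9786]⟩) (.leaf ⟨7, 4443, 4444, 0, 0, 0, 0, 93, 0, 0, []⟩))) (.node (.node (.leaf ⟨10, 907, 907, (-1), 0, (-1), 0, 36, 3, 907, [5761, 5532, 5760]⟩) (.leaf ⟨7, 3746, 3747, 0, 0, 0, 0, 93, 0, 0, []⟩)) (.node (.leaf ⟨4, 629, 629, (-1), 0, (-1), 0, 40,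 0, 629, [3495, 13958, 3494]⟩) (.leaf ⟨6, 5051, 5053, 0, 0, 0, 0, 52, 2, 5050, [30336, 30333, 30342]⟩)))) (.node (.node (.node (.leaf ⟨10, 90, 90, 1, 0, 1, 0, 43, 3, 90, [389, 3718, 388]⟩) (.leaf ⟨10, 3327, 3325, 0, 0, 0, 0, 58, 3, 3327, [20103, 5727, 20094]⟩)) (.node (.leaf ⟨7, 2001, 2013, 0, 0, 0, 0, 93, 0, 0, []⟩) (.leaf ⟨2, 4567, 4567, 1, 0, 1, 0, 27, 0, 4567, [27065, 28294, 27064]⟩))) (.node (.node (.leaf ⟨1, 1332, 1333, 0, 0, 0, 0, 93, 0, 0, []⟩) (.leaf ⟨10, 4041, 3877, 0, 0, 0, 0, 61, 3, 4041, [24195, 24198, 23094]⟩)) (.node (.leaf ⟨2, 2673, 2676, 0, 0, 0, 0, 23, 0, 2676, [16003, 16006, 15988]⟩) (.leaf ⟨0, 0, 0, 0, 0, 0, 0, 0, 0, 0, []⟩))))))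

def factsPart69 : ATree TFact :=
  .node (.node (.node (.node (.node (.node (.leaf ⟨3, 45, 54, 0, 0, 0, 0, 93, 0, 0, []⟩) (.leaf ⟨6, 2732, 2733, 0, 0, 0, 0, 93, 0, 0, []⟩)) (.node (.leaf ⟨3, 1258, 1373, (-17), 0, (-9), 0, 33, 2, 1257, [7552, 8329, 8044]⟩) (.leaf ⟨6, 4143, 4144, 0, 0, 0, 0, 93, 0, 0, []⟩))) (.node (.node (.leaf ⟨7, 698, 690, 0, 0, 0, 0, 25, 3, 698, [4229, 4196, 4168]⟩) (.leaf ⟨10, 3426, 3427, 0, 0, 0, 0, 93, 0, 0, []⟩)) (.node (.leaf ⟨7, 2117, 2120, (-21), 0, (-1), 0, 46, 3, 2117, [12305, 12425, 12310]⟩) (.leaf ⟨10, 4848, 4841, 0, 0, 0, 0, 61, 3, 4848, [28809, 8822, 28782]⟩)))) (.node (.node (.node (.leaf ⟨10, 380, 402, 0, 0, 0, 0, 65, 4, 379, [2060, 2059, 2180, 2182, 2184]⟩) (.leaf ⟨5, 3074, 3075, 0, 0, 0, 0, 93, 0, 0, []⟩)) (.node (.leaf ⟨3, 308,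 308, 1, 0, (-1), 0, 33, 0, 308, [1795, 10376, 1794]⟩) (.leaf ⟨9, 2642, 4509, 0, 0, 0, 0, 93, 0, 0, []⟩))) (.node (.node (.leaf ⟨1, 313, 774, 0, 0, 0, 0, 18, 0, 774, [4849, 6281, 1804]⟩) (.leaf ⟨8, 965, 3798, 0, 0, 0, 0, 93, 0, 0, []⟩)) (.node (.leaf ⟨1, 565, 2440, 0, 0, 0, 0, 93, 0, 0, []⟩) (.leaf ⟨8, 5132, 5136, 0, 0, 0, 0, 47, 3, 5132, [30837, 30854, 30856]⟩))))) (.node (.node (.node (.node (.leaf ⟨4, 161, 161, (-1), 0, 1, 0, 40, 0, 161, [919, 1160, 918]⟩) (.leaf ⟨6, 2870, 2871, 0, 0, 0, 0, 93, 0, 0, []⟩)) (.node (.leaf ⟨0, 106, 106, (-1), 0, (-1), 0, 6, 0, 106, [451, 9352, 450]⟩) (.leaf ⟨9, 4340, 4284, 0, 0, 0, 0, 42, 3, 4340, [25733, 25736, 25418]⟩))) (.node (.node (.leaf ⟨7, 820, 821, 0, 0, 0, 0, 93, 0, 0, []⟩) (.leaf ⟨10, 3648, 3674, 0, 0, 0, 0, 93, 0, 0, []⟩))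 (.node (.leaf ⟨4, 1590, 1590, (-1), 0, 1, 0, 30, 5, 1590, [8951, 8949, 13448, 8948, 8950]⟩) (.leaf ⟨10, 15, 15, (-1), 0, (-1), 0, 54, 3, 15, [29, 29832, 28]⟩)))) (.node (.node (.node (.leaf ⟨5, 587, 588, 0, 0, 0, 0, 93, 0, 0, []⟩) (.leaf ⟨7, 3232, 3233, 0, 0, 0, 0, 93, 0, 0, []⟩)) (.node (.leaf ⟨1, 294, 1936, 0, 0, 0, 0, 15, 0, 1936, [11379, 11401, 1756]⟩) (.leaf ⟨2, 4682, 4684, 0, 0, 0, 0, 28, 2, 4681, [27778, 27775, 27784]⟩))) (.node (.node (.leaf ⟨8, 1180, 1188, 0, 0, 0, 0, 41, 3, 1180, [7265, 7305, 7296]⟩) (.leaf ⟨4, 3623, 3968, 0, 0, 0, 0, 43, 2, 3561, [21402, 21127, 23688]⟩)) (.node (.leaf ⟨7, 2595, 2596, 0, 0, 0, 0, 93, 0, 0, []⟩) (.leaf ⟨0, 0, 0, 0, 0, 0, 0, 0, 0, 0, []⟩)))))) (.node (.node (.node (.node (.node (.leaf ⟨10, 137, 137, 1, 0, 1, 0, 9, 3, 137,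 [647, 560, 646]⟩) (.leaf ⟨7, 2779, 2779, (-1), 0, 1, 0, 56, 4, 125, [16848, 519, 1302, 518, 16848]⟩)) (.node (.leaf ⟨5, 1560, 1560, (-1), 0, 1, 0, 49, 0, 1560, [8791, 8815, 8840, 8814, 8790]⟩) (.leaf ⟨8, 4129, 4161, 3, 0, 3, 0, 47, 3, 4129, [24665, 25225, 24748]⟩))) (.node (.node (.leaf ⟨5, 309, 760, 0, 0, 0, 0, 93, 0, 0, []⟩) (.leaf ⟨7, 3562, 3563, 0, 0, 0, 0, 93, 0, 0, []⟩)) (.node (.leaf ⟨9, 2224, 2228, 0, 0, 0, 0, 64, 0, 2228, [12937, 12852, 12928]⟩) (.leaf ⟨3, 4895, 1608, (-129), 0, (-15), 0, 66, 2, 2410, [13935, 14373, 14641, 8875, 29132, 9394, 4809, 4741, 7150, 9048, 10525, 9775, 10294, 2681, 2654, 29134, 29136, 29140, 9953, 16351, 14815, 8273, 8275, 10567, 29144, 10573, 29146, 9731, 8936, 29148, 10442, 10124, 12062, 29154, 29156, 29160, 12717, 29169, 29182,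 29196, 29207, 29212, 29205, 29214, 29216, 15754, 29226, 28673, 10320, 29273, 20726, 16435, 16420, 29276, 29298, 29295, 29302, 29306, 29308, 29312, 29314, 29319, 29320]⟩)))) (.node (.node (.node (.leaf ⟨5, 384, 517, 0, 0, 0, 0, 93, 0, 0, []⟩) (.leaf ⟨2, 3135, 917, 0, 0, 0, 0, 24, 0, 917, [5851, 19079, 19080]⟩)) (.node (.leaf ⟨3, 260, 1828, 0, 0, 0, 0, 93, 0, 0, []⟩) (.leaf ⟨0, 1959, 1959, (-1), 0, (-1), 0, 6, 0, 1959, [11491, 27272, 11490]⟩))) (.node (.node (.leaf ⟨6, 1055, 1055, (-1), 0, (-1), 0, 32, 3, 1055, [6659, 6792, 6658]⟩) (.leaf ⟨10, 3886, 3835, 0, 0, 0, 0, 54, 3, 3886, [23171, 23177, 22896]⟩)) (.node (.leaf ⟨9, 2475, 2491, 0, 0, 0, 0, 57, 3, 2475, [14901, 14982, 14984]⟩) (.leaf ⟨9, 568, 568, 1, 0, 1, 0, 63, 0, 568, [3047, 31368, 3046]⟩))))) (.node (.node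 (.node (.node (.leaf ⟨0, 229, 257, 0, 0, 0, 0, 5, 0, 257, [1627, 1673, 1548]⟩) (.leaf ⟨10, 2840, 2958, 0, 0, 0, 0, 93, 0, 0, []⟩)) (.node (.leaf ⟨10, 1672, 1672, (-1), 0, (-1), 0, 58, 3, 1672, [9789, 9864, 9788]⟩) (.leaf ⟨4, 3050, 4435, 0, 0, 0, 0, 43, 2, 2644, [18434, 15853, 26230]⟩))) (.node (.node (.leaf ⟨10, 908, 908, (-1), 0, 1, 0, 63, 3, 908, [5765, 5768, 5764]⟩) (.leaf ⟨4, 3747, 3745, 0, 0, 0, 0, 40, 0, 3745, [22145, 22151, 22152]⟩)) (.node (.leaf ⟨4, 630, 630, 1, 0, 1, 0, 39, 0, 630, [3499, 13960, 3498]⟩) (.leaf ⟨10, 5046, 5054, 0, 0, 0, 0, 93, 0, 0, []⟩)))) (.node (.node (.node (.leaf ⟨10, 91, 91, 1, 0, (-1), 0, 58, 3, 91, [391, 3720, 390]⟩) (.leaf ⟨4, 901, 901, 1, 0, (-11), 0, 42, 0, 901, [5737, 5948, 5736]⟩)) (.node (.leaf ⟨6, 2013, 2014, 0, 0, 0, 0, 93,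 0, 0, []⟩) (.leaf ⟨2, 4568, 4568, (-1), 0, (-1), 0, 25, 0, 4568, [27069, 28296, 27068]⟩))) (.node (.node (.leaf ⟨3, 1333, 348, (-13), 0, (-21), 0, 12, 1, 321, [7815, 7816, 6299]⟩) (.leaf ⟨5, 3131, 962, 0, 0, 0, 0, 46, 0, 962, [6115, 24126, 19044]⟩)) (.node (.leaf ⟨2, 2674, 2677, 0, 0, 0, 0, 24, 0, 2677, [16005, 16009, 15990]⟩) (.leaf ⟨0, 0, 0, 0, 0, 0, 0, 0, 0, 0, []⟩))))))

def factsPart70 : ATree TFact :=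
  .node (.node (.node (.node (.node (.node (.leaf ⟨10, 54, 55, 0, 0, 0, 0, 93, 0, 0, []⟩) (.leaf ⟨2, 2721, 825, 0, 0, 0, 0, 26, 0, 825, [5281, 3117, 16482]⟩)) (.node (.leaf ⟨3, 1374, 1259, 17, 0, 9, 0, 34, 2, 1373, [8046, 8331, 7554]⟩) (.leaf ⟨11, 979, 4145, 0, 0, 0, 0, 93, 0, 0, []⟩))) (.node (.node (.leaf ⟨6, 688, 688, 1, 0, (-1), 0, 39, 3, 688, [4165, 2794, 4164]⟩) (.leaf ⟨7, 3427, 3428, 0, 0, 0, 0, 93, 0, 0, []⟩)) (.node (.leaf ⟨7, 2121, 2118, 21, 0, 1, 0, 40, 3, 2121, [12313, 12427, 12306]⟩) (.leaf ⟨5, 4848, 4848, (-1), 0, 1, 0, 47, 0, 4848, [28809, 8832, 28808]⟩)))) (.node (.node (.node (.leaf ⟨7, 402, 403, 0, 0, 0, 0, 93, 0, 0, []⟩) (.leaf ⟨0, 396, 396, 1, 0, 1, 0, 6, 0, 396, [2163, 9292, 2162]⟩)) (.node (.leaf ⟨3, 309, 309, (-1), 0, 1, 0, 32, 0, 309, [1797,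 10378, 1796]⟩) (.leaf ⟨5, 4506, 4509, 0, 0, 0, 0, 48, 2, 2643, [26750, 15851, 26762]⟩))) (.node (.node (.leaf ⟨1, 314, 775, 0, 0, 0, 0, 19, 0, 775, [4851, 6283, 1806]⟩) (.leaf ⟨10, 965, 3550, 0, 0, 0, 0, 54, 3, 965, [6125, 22623, 21094]⟩)) (.node (.leaf ⟨4, 2419, 2440, 0, 0, 0, 0, 13, 3, 2419, [14249, 3040, 14474]⟩) (.leaf ⟨6, 5136, 5137, 0, 0, 0, 0, 93, 0, 0, []⟩))))) (.node (.node (.node (.node (.leaf ⟨4, 162, 162, 1, 0, (-1), 0, 39, 0, 162, [921, 1162, 920]⟩) (.leaf ⟨5, 2871, 2872, 0, 0, 0, 0, 93, 0, 0, []⟩)) (.node (.leaf ⟨0, 107, 107, 1, 0, 1, 0, 5, 0, 107, [453, 9354, 452]⟩) (.leaf ⟨9, 4341, 4285, 0, 0, 0, 0, 57, 3, 4341, [25735, 25738, 25422]⟩))) (.node (.node (.leaf ⟨4, 821, 817, 0, 0, 0, 0, 40, 0, 817, [5221, 5257, 5258]⟩) (.leaf ⟨6, 3545, 3674, 0, 0, 0,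 0, 54, 0, 3674, [21643, 21637, 21078]⟩)) (.node (.leaf ⟨4, 1774, 1774, (-1), 0, (-1), 0, 22, 3, 1774, [10577, 13450, 10576]⟩) (.leaf ⟨5, 4915, 4915, (-1), 0, (-1), 0, 49, 4, 755, [29424, 4737, 29834, 4736, 29424]⟩)))) (.node (.node (.node (.leaf ⟨3, 587, 585, 0, 0, 0, 0, 36, 2, 461, [3208, 2423, 3188]⟩) (.leaf ⟨6, 3233, 3234, 0, 0, 0, 0, 93, 0, 0, []⟩)) (.node (.leaf ⟨1, 1930, 1937, 0, 0, 0, 0, 17, 0, 1937, [11381, 11403, 11350]⟩) (.leaf ⟨5, 4684, 4685, 0, 0, 0, 0, 93, 0, 0, []⟩))) (.node (.node (.leaf ⟨8, 1181, 1189, 0, 0, 0, 0, 34, 3, 1181, [7267, 7306, 7298]⟩) (.leaf ⟨8, 967, 3969, 0, 0, 0, 0, 93, 0, 0, []⟩)) (.node (.leaf ⟨10, 2596, 2594, 0, 0, 0, 0, 58, 3, 2596, [15499, 15497, 15478]⟩) (.leaf ⟨0, 0, 0, 0, 0, 0, 0, 0, 0, 0, []⟩)))))) (.node (.node (.node (.node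 (.node (.leaf ⟨7, 137, 137, 1, 0, 1, 0, 6, 3, 137, [647, 344, 646]⟩) (.leaf ⟨7, 2801, 2801, 1, 0, (-1), 0, 57, 0, 2801, [17031, 17034, 17030]⟩)) (.node (.leaf ⟨6, 1552, 1552, (-1), 0, 1, 0, 45, 5, 1552, [8757, 8793, 8842, 8792, 8756]⟩) (.leaf ⟨8, 4162, 4130, (-3), 0, (-3), 0, 41, 3, 4162, [24751, 25227, 24666]⟩))) (.node (.node (.leaf ⟨4, 760, 761, 0, 0, 0, 0, 93, 0, 0, []⟩) (.leaf ⟨4, 3548, 3557, 0, 0, 0, 0, 40, 0, 3557, [21119, 2273, 21086]⟩)) (.node (.leaf ⟨7, 2228, 2229, 0, 0, 0, 0, 93, 0, 0, []⟩) (.leaf ⟨4, 1608, 1788, 27, 0, (-1), 0, 43, 2, 1607, [9100, 14529, 10678]⟩)))) (.node (.node (.node (.leaf ⟨4, 517, 518, 0, 0, 0, 0, 93, 0, 0, []⟩) (.leaf ⟨3, 2721, 2721, (-1), 0, (-1), 0, 34, 0, 2721, [16483, 4204, 16482]⟩)) (.node (.leaf ⟨10, 1828, 1829, 0, 0, 0, 0,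 93, 0, 0, []⟩) (.leaf ⟨0, 1971, 1971, 1, 0, 1, 0, 5, 0, 1971, [11653, 27274, 11652]⟩))) (.node (.node (.leaf ⟨6, 1056, 1056, 1, 0, 1, 0, 53, 0, 1056, [6661, 6794, 6660]⟩) (.leaf ⟨10, 3887, 3836, 0, 0, 0, 0, 61, 3, 3887, [23173, 23178, 22900]⟩)) (.node (.leaf ⟨10, 1109, 2491, 17, 0, 9, 0, 63, 3, 1109, [14887, 14973, 14986]⟩) (.leaf ⟨9, 700, 700, 1, 0, (-1), 0, 48, 3, 700, [4259, 31370, 4258]⟩))))) (.node (.node (.node (.node (.leaf ⟨0, 234, 258, 0, 0, 0, 0, 7, 0, 258, [1629, 1675, 1572]⟩) (.leaf ⟨7, 2958, 2959, 0, 0, 0, 0, 93, 0, 0, []⟩)) (.node (.leaf ⟨10, 1673, 1673, (-1), 0, 1, 0, 54, 3, 1673, [9791, 9866, 9790]⟩) (.leaf ⟨4, 4436, 4396, 0, 0, 0, 0, 44, 0, 4396, [26121, 26250, 26232]⟩))) (.node (.node (.leaf ⟨5, 904, 904, 1, 0, 1, 0, 49, 0, 904, [5733, 5767, 5770,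 5766, 5732]⟩) (.leaf ⟨5, 3746, 3746, (-1), 0, 1, 0, 48, 0, 3746, [22149, 860, 22148]⟩)) (.node (.leaf ⟨5, 633, 633, 1, 0, 1, 0, 38, 5, 633, [3509, 3503, 13962, 3502, 3508]⟩) (.leaf ⟨0, 5048, 5054, 0, 0, 0, 0, 9, 2, 5047, [30320, 30319, 30346]⟩)))) (.node (.node (.node (.leaf ⟨10, 92, 92, 1, 0, 1, 0, 54, 3, 92, [393, 3722, 392]⟩) (.leaf ⟨4, 3327, 3327, 1, 0, 11, 0, 40, 2, 901, [20102, 20106, 20102]⟩)) (.node (.leaf ⟨8, 2014, 2015, 0, 0, 0, 0, 93, 0, 0, []⟩) (.leaf ⟨10, 4567, 4772, 0, 0, 0, 0, 93, 0, 0, []⟩))) (.node (.node (.leaf ⟨5, 24, 1334, 0, 0, 0, 0, 93, 0, 0, []⟩) (.leaf ⟨9, 3145, 4042, 0, 0, 0, 0, 93, 0, 0, []⟩)) (.node (.leaf ⟨2, 2664, 2665, 0, 0, 0, 0, 28, 2, 2656, [15948, 15921, 15950]⟩) (.leaf ⟨0, 0, 0, 0, 0, 0, 0, 0, 0, 0, []⟩))))))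

def factsPart71 : ATree TFact :=
  .node (.node (.node (.node (.node (.node (.leaf ⟨11, 55, 56, 0, 0, 0, 0, 93, 0, 0, []⟩) (.leaf ⟨2, 2722, 828, 0, 0, 0, 0, 23, 0, 828, [5293, 16525, 16484]⟩)) (.node (.leaf ⟨11, 1368, 1432, 0, 0, 0, 0, 93, 0, 0, []⟩) (.leaf ⟨5, 4145, 4146, 0, 0, 0, 0, 93, 0, 0, []⟩))) (.node (.node (.leaf ⟨6, 689, 689, 1, 0, 1, 0, 32, 3, 689, [4167, 4236, 4166]⟩) (.leaf ⟨6, 3428, 3429, 0, 0, 0, 0, 93, 0, 0, []⟩)) (.node (.leaf ⟨3, 2121, 2144, 0, 0, 0, 0, 93, 0, 0, []⟩) (.leaf ⟨10, 4842, 4842, (-1), 0, 1, 0, 49, 5, 4842, [28785, 28811, 28812, 28810, 28784]⟩)))) (.node (.node (.node (.leaf ⟨10, 381, 403, 0, 0, 0, 0, 58, 3, 381, [2063, 2186, 2188]⟩) (.leaf ⟨0, 397, 397, (-1), 0, (-1), 0, 5, 0, 397, [2167, 18572, 2166]⟩)) (.node (.leaf ⟨3, 760, 760,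 1, 0, (-1), 0, 31, 0, 760, [4747, 10380, 4746]⟩) (.leaf ⟨10, 4509, 4509, (-1), 0, 1, 0, 63, 3, 4509, [26763, 26344, 26762]⟩))) (.node (.node (.leaf ⟨1, 315, 776, 0, 0, 0, 0, 14, 0, 776, [4853, 6285, 1808]⟩) (.leaf ⟨10, 3798, 3551, 0, 0, 0, 0, 61, 3, 3798, [22667, 22668, 21096]⟩)) (.node (.leaf ⟨0, 2440, 2441, 0, 0, 0, 0, 93, 0, 0, []⟩) (.leaf ⟨8, 5133, 5137, 0, 0, 0, 0, 52, 3, 5133, [30839, 30858, 30860]⟩))))) (.node (.node (.node (.node (.leaf ⟨5, 160, 160, 1, 0, (-1), 0, 23, 3, 160, [917, 1012, 916]⟩) (.leaf ⟨10, 2872, 2873, 0, 0, 0, 0, 93, 0, 0, []⟩)) (.node (.leaf ⟨2, 107, 107, 1, 0, (-1), 0, 23, 2, 110, [467, 802, 467]⟩) (.leaf ⟨10, 2645, 4342, 0, 0, 0, 0, 93, 0, 0, []⟩))) (.node (.node (.leaf ⟨5, 96, 96, 1, 0, 1, 0, 47, 0, 96, [405, 3784, 404]⟩) (.leaf ⟨5,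 3556, 3675, 0, 0, 0, 0, 93, 0, 0, []⟩)) (.node (.leaf ⟨2, 1585, 1585, (-1), 0, (-1), 0, 28, 0, 1585, [8941, 9118, 8940]⟩) (.leaf ⟨5, 4982, 4982, 1, 0, 1, 0, 50, 0, 4982, [29829, 29836, 29828]⟩)))) (.node (.node (.node (.leaf ⟨3, 586, 588, 0, 0, 0, 0, 31, 0, 588, [3211, 3212, 3196]⟩) (.leaf ⟨5, 3234, 3235, 0, 0, 0, 0, 93, 0, 0, []⟩)) (.node (.leaf ⟨1, 1931, 1938, 0, 0, 0, 0, 14, 0, 1938, [11383, 11405, 11352]⟩) (.leaf ⟨2, 4685, 4683, 0, 0, 0, 0, 23, 0, 4683, [27781, 27786, 27788]⟩))) (.node (.node (.leaf ⟨8, 1182, 1190, 0, 0, 0, 0, 61, 0, 1190, [7301, 7309, 7268]⟩) (.leaf ⟨5, 3969, 3970, 0, 0, 0, 0, 93, 0, 0, []⟩)) (.node (.leaf ⟨10, 2592, 2597, 0, 0, 0, 0, 93, 0, 0, []⟩) (.leaf ⟨0, 0, 0, 0, 0, 0, 0, 0, 0, 0, []⟩)))))) (.node (.node (.node (.node (.node (.leaf ⟨6,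 137, 137, 1, 0, 1, 0, 5, 3, 137, [647, 532, 646]⟩) (.leaf ⟨6, 2800, 2800, (-1), 0, (-1), 0, 51, 0, 2800, [17027, 17033, 17036, 17032, 17026]⟩)) (.node (.leaf ⟨6, 1553, 1553, (-1), 0, (-1), 0, 39, 3, 1553, [8759, 8844, 8758]⟩) (.leaf ⟨8, 4131, 4163, 3, 0, 3, 0, 34, 3, 4131, [24669, 25229, 24752]⟩))) (.node (.node (.leaf ⟨10, 761, 762, 0, 0, 0, 0, 93, 0, 0, []⟩) (.leaf ⟨4, 3550, 3558, 0, 0, 0, 0, 39, 0, 3558, [21121, 21133, 21094]⟩)) (.node (.leaf ⟨9, 2225, 2229, 0, 0, 0, 0, 57, 3, 2225, [12931, 12938, 12940]⟩) (.leaf ⟨6, 1786, 1786, (-1), 0, (-1), 0, 5, 3, 1786, [10671, 14378, 10670]⟩)))) (.node (.node (.node (.leaf ⟨10, 518, 519, 0, 0, 0, 0, 93, 0, 0, []⟩) (.leaf ⟨3, 2722, 2722, 1, 0, 1, 0, 31, 0, 2722, [16485, 19084, 16484]⟩)) (.node (.leaf ⟨8, 1319, 1828, 0, 0,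 0, 0, 34, 3, 1319, [7765, 1746, 10890]⟩) (.leaf ⟨0, 4511, 4511, (-1), 0, (-1), 0, 4, 0, 4511, [26827, 27276, 26826]⟩))) (.node (.node (.leaf ⟨6, 1057, 1057, (-1), 0, (-1), 0, 54, 0, 1057, [6663, 6796, 6662]⟩) (.leaf ⟨10, 3888, 3884, 0, 0, 0, 0, 58, 3, 3888, [23175, 23180, 23164]⟩)) (.node (.leaf ⟨11, 21, 2492, 0, 0, 0, 0, 93, 0, 0, []⟩) (.leaf ⟨9, 2417, 2417, 1, 0, 1, 0, 53, 3, 2417, [14137, 31372, 14136]⟩))))) (.node (.node (.node (.node (.leaf ⟨0, 235, 259, 0, 0, 0, 0, 4, 0, 259, [1631, 1677, 1574]⟩) (.leaf ⟨6, 2959, 2960, 0, 0, 0, 0, 93, 0, 0, []⟩)) (.node (.leaf ⟨5, 1682, 1682, (-1), 0, 1, 0, 49, 4, 1674, [9860, 9793, 9868, 9792, 9860]⟩) (.leaf ⟨4, 4437, 4397, 0, 0, 0, 0, 40, 0, 4397, [26123, 26253, 26234]⟩))) (.node (.node (.leaf ⟨5, 905, 905, (-1), 0, (-1),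 0, 50, 0, 905, [5735, 5772, 5734]⟩) (.leaf ⟨5, 3747, 3747, 1, 0, (-1), 0, 46, 0, 3747, [22153, 22156, 22152]⟩)) (.node (.leaf ⟨11, 629, 629, 1, 0, (-1), 0, 59, 3, 629, [3495, 13946, 3494]⟩) (.leaf ⟨7, 5054, 5055, 0, 0, 0, 0, 93, 0, 0, []⟩)))) (.node (.node (.node (.leaf ⟨6, 89, 89, (-1), 0, (-1), 0, 45, 5, 89, [387, 2579, 2868, 2578, 386]⟩) (.leaf ⟨4, 3325, 3325, 1, 0, (-11), 0, 43, 2, 3327, [20104, 20108, 20104]⟩)) (.node (.leaf ⟨5, 2015, 2016, 0, 0, 0, 0, 93, 0, 0, []⟩) (.leaf ⟨7, 4772, 4773, 0, 0, 0, 0, 93, 0, 0, []⟩))) (.node (.node (.leaf ⟨3, 20, 1324, 0, 0, 0, 0, 35, 2, 19, [38, 37, 7782]⟩) (.leaf ⟨6, 4042, 3130, 0, 0, 0, 0, 53, 0, 3130, [19041, 19130, 24204]⟩)) (.node (.leaf ⟨11, 2677, 2664, (-1), 0, 5, 0, 29, 1, 2665, [15999, 16010, 16013]⟩) (.leaf ⟨0, 0,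 0, 0, 0, 0, 0, 0, 0, 0, []⟩))))))

def factsPart72 : ATree TFact :=
  .node (.node (.node (.node (.node (.node (.leaf ⟨5, 56, 57, 0, 0, 0, 0, 93, 0, 0, []⟩) (.leaf ⟨2, 2723, 860, 0, 0, 0, 0, 22, 0, 860, [5491, 16527, 16486]⟩)) (.node (.leaf ⟨5, 1432, 1433, 0, 0, 0, 0, 93, 0, 0, []⟩) (.leaf ⟨7, 4146, 4147, 0, 0, 0, 0, 93, 0, 0, []⟩))) (.node (.node (.leaf ⟨6, 690, 690, 1, 0, (-1), 0, 24, 3, 690, [4169, 4238, 4168]⟩) (.leaf ⟨5, 3429, 3430, 0, 0, 0, 0, 93, 0, 0, []⟩)) (.node (.leaf ⟨7, 2119, 2144, (-21), 0, (-1), 0, 33, 3, 2119, [12309, 12429, 12430]⟩) (.leaf ⟨10, 4843, 4843, (-1), 0, (-1), 0, 43, 3, 4843, [28787, 28814, 28786]⟩)))) (.node (.node (.node (.leaf ⟨6, 403, 404, 0, 0, 0, 0, 93, 0, 0, []⟩) (.leaf ⟨0, 398, 398, 1, 0, 1, 0, 7, 0, 398, [2171, 18574, 2170]⟩))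 (.node (.leaf ⟨4, 1411, 1411, 1, 0, (-1), 0, 30, 5, 1411, [8149, 4749, 10382, 4748, 8148]⟩) (.leaf ⟨5, 4507, 4507, 1, 0, 1, 0, 49, 0, 4507, [26755, 26764, 26766, 26765, 26754]⟩))) (.node (.node (.leaf ⟨1, 316, 796, 0, 0, 0, 0, 16, 0, 796, [5109, 6287, 1810]⟩) (.leaf ⟨7, 415, 3799, 0, 0, 0, 0, 93, 0, 0, []⟩)) (.node (.leaf ⟨4, 2439, 2441, 0, 0, 0, 0, 3, 3, 2439, [14471, 14476, 14478]⟩) (.leaf ⟨6, 1605, 5138, 0, 0, 0, 0, 93, 0, 0, []⟩))))) (.node (.node (.node (.node (.leaf ⟨5, 161, 161, (-1), 0, 1, 0, 46, 0, 161, [919, 1166, 918]⟩) (.leaf ⟨2, 2859, 2868, 0, 0, 0, 0, 23, 0, 2868, [17541, 13131, 17514]⟩)) (.node (.leaf ⟨7, 148, 148, (-1), 0, 1, 0, 51, 5, 148, [841, 819, 3368, 818, 840]⟩) (.leaf ⟨5, 4342, 4343, 0, 0, 0, 0, 93, 0, 0, []⟩))) (.node (.node (.leaf ⟨5, 820,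 820, (-1), 0, (-1), 0, 48, 0, 820, [5255, 5262, 5254]⟩) (.leaf ⟨4, 3675, 3676, 0, 0, 0, 0, 93, 0, 0, []⟩)) (.node (.leaf ⟨2, 1586, 1586, 1, 0, 1, 0, 25, 0, 1586, [8943, 13454, 8942]⟩) (.leaf ⟨4, 1724, 1724, (-1), 0, 1, 0, 38, 0, 1724, [10151, 29831, 29838, 29830, 10150]⟩)))) (.node (.node (.node (.leaf ⟨5, 463, 589, 0, 0, 0, 0, 93, 0, 0, []⟩) (.leaf ⟨10, 3235, 3236, 0, 0, 0, 0, 93, 0, 0, []⟩)) (.node (.leaf ⟨7, 1933, 1939, 0, 0, 0, 0, 93, 0, 0, []⟩) (.leaf ⟨10, 4656, 4686, 0, 0, 0, 0, 93, 0, 0, []⟩))) (.node (.node (.leaf ⟨8, 1183, 1191, 0, 0, 0, 0, 62, 0, 1191, [7303, 7311, 7270]⟩) (.leaf ⟨10, 3970, 3971, 0, 0, 0, 0, 93, 0, 0, []⟩)) (.node (.leaf ⟨9, 2590, 2598, 0, 0, 0, 0, 93, 0, 0, []⟩) (.leaf ⟨0, 0, 0, 0, 0, 0, 0, 0, 0, 0, []⟩)))))) (.node (.node (.node (.node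 (.node (.leaf ⟨5, 137, 137, 1, 0, 1, 0, 4, 3, 137, [647, 582, 646]⟩) (.leaf ⟨5, 2795, 2795, 1, 0, (-1), 0, 45, 0, 2795, [16993, 17029, 17038, 17028, 16992]⟩)) (.node (.leaf ⟨3, 12, 205, 0, 0, 0, 0, 36, 2, 11, [22, 21, 1492]⟩) (.leaf ⟨8, 4164, 4132, (-3), 0, (-3), 0, 61, 2, 4163, [24754, 25231, 24670]⟩))) (.node (.node (.leaf ⟨5, 762, 763, 0, 0, 0, 0, 93, 0, 0, []⟩) (.leaf ⟨4, 3551, 3559, 0, 0, 0, 0, 41, 0, 3559, [21123, 21135, 21096]⟩)) (.node (.leaf ⟨6, 2229, 2230, 0, 0, 0, 0, 93, 0, 0, []⟩) (.leaf ⟨6, 1787, 1787, 1, 0, 1, 0, 54, 0, 1787, [10675, 29326, 10674]⟩)))) (.node (.node (.node (.leaf ⟨5, 519, 520, 0, 0, 0, 0, 93, 0, 0, []⟩) (.leaf ⟨3, 3133, 3133, (-1), 0, (-1), 0, 35, 0, 3133, [19073, 19086, 19072]⟩)) (.node (.leaf ⟨8, 1320, 1829, 0, 0, 0, 0, 61, 0, 1829,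 [10893, 10895, 7766]⟩) (.leaf ⟨11, 1954, 4602, 0, 0, 0, 0, 93, 0, 0, []⟩))) (.node (.node (.leaf ⟨7, 1059, 1059, (-1), 0, (-1), 0, 51, 5, 1059, [6667, 6665, 6798, 6664, 6666]⟩) (.leaf ⟨8, 3885, 3889, 0, 0, 0, 0, 93, 0, 0, []⟩)) (.node (.leaf ⟨5, 2492, 2493, 0, 0, 0, 0, 93, 0, 0, []⟩) (.leaf ⟨8, 568, 2130, 0, 0, 0, 0, 61, 0, 2130, [12347, 30847, 3046]⟩))))) (.node (.node (.node (.node (.leaf ⟨0, 236, 260, 0, 0, 0, 0, 3, 0, 260, [1633, 1679, 1576]⟩) (.leaf ⟨5, 2960, 2961, 0, 0, 0, 0, 93, 0, 0, []⟩)) (.node (.leaf ⟨4, 1681, 1681, 1, 0, 1, 0, 38, 0, 1681, [9857, 9862, 9870, 9863, 9856]⟩) (.leaf ⟨4, 4438, 4398, 0, 0, 0, 0, 39, 0, 4398, [26125, 26255, 26236]⟩))) (.node (.node (.leaf ⟨3, 903, 864, 0, 0, 0, 0, 35, 2, 900, [5730, 5725, 5502]⟩) (.leaf ⟨9, 147, 3748, 0, 0,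 0, 0, 93, 0, 0, []⟩)) (.node (.leaf ⟨11, 630, 630, 1, 0, 1, 0, 55, 3, 630, [3499, 13966, 3498]⟩) (.leaf ⟨0, 5055, 5049, 0, 0, 0, 0, 6, 0, 5049, [30331, 30348, 30350]⟩)))) (.node (.node (.node (.leaf ⟨6, 90, 90, (-1), 0, 1, 0, 39, 3, 90, [389, 3726, 388]⟩) (.leaf ⟨5, 3324, 3324, 1, 0, (-11), 0, 38, 3, 3325, [20099, 20100, 20110, 20099, 20100]⟩)) (.node (.leaf ⟨4, 2016, 2017, 0, 0, 0, 0, 93, 0, 0, []⟩) (.leaf ⟨10, 4773, 4568, 0, 0, 0, 0, 58, 3, 4773, [28303, 28301, 27068]⟩))) (.node (.node (.leaf ⟨3, 1325, 21, 0, 0, 0, 0, 36, 0, 21, [41, 7822, 7784]⟩) (.leaf ⟨8, 352, 352, (-1), 0, (-1), 0, 61, 0, 352, [1917, 21472, 1916]⟩)) (.node (.leaf ⟨9, 429, 2675, 0, 0, 0, 0, 63, 2, 428, [2300, 2299, 16000]⟩) (.leaf ⟨0, 0, 0, 0, 0, 0, 0, 0, 0, 0, []⟩))))))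

def factsPart73 : ATree TFact :=
  .node (.node (.node (.node (.node (.node (.leaf ⟨10, 57, 58, 0, 0, 0, 0, 93, 0, 0, []⟩) (.leaf ⟨3, 2725, 936, 0, 0, 0, 0, 21, 5, 2725, [16491, 16489, 16528, 5760, 6002]⟩)) (.node (.leaf ⟨11, 1433, 1369, 0, 0, 0, 0, 50, 3, 1433, [8337, 8335, 8036]⟩) (.leaf ⟨6, 4147, 4148, 0, 0, 0, 0, 93, 0, 0, []⟩))) (.node (.node (.leaf ⟨5, 688, 688, 1, 0, (-1), 0, 38, 5, 688, [4165, 2767, 2810, 2766, 4164]⟩) (.leaf ⟨1, 3422, 2651, 0, 0, 0, 0, 18, 2, 3421, [20608, 20607, 15894]⟩)) (.node (.leaf ⟨7, 2107, 2145, 0, 0, 0, 0, 93, 0, 0, []⟩) (.leaf ⟨10, 4844, 4844, (-1), 0, 1, 0, 36, 3, 4844, [28789, 28816, 28788]⟩)))) (.node (.node (.node (.leaf ⟨10, 382, 404, 0, 0, 0, 0, 54, 3, 382, [2065, 2190, 2192]⟩) (.leaf ⟨0, 399, 399, (-1), 0, (-1), 0, 4, 0,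 399, [2175, 18576, 2174]⟩)) (.node (.leaf ⟨4, 1412, 1412, 1, 0, 1, 0, 22, 3, 1412, [8151, 10384, 8150]⟩) (.leaf ⟨5, 4508, 4508, (-1), 0, (-1), 0, 50, 0, 4508, [26759, 26768, 26758]⟩))) (.node (.node (.leaf ⟨1, 317, 797, 0, 0, 0, 0, 15, 0, 797, [5111, 6289, 1812]⟩) (.leaf ⟨5, 3799, 964, 0, 0, 0, 0, 46, 0, 964, [6123, 2240, 22672]⟩)) (.node (.leaf ⟨10, 2441, 2442, 0, 0, 0, 0, 93, 0, 0, []⟩) (.leaf ⟨4, 5138, 5139, 0, 0, 0, 0, 93, 0, 0, []⟩))))) (.node (.node (.node (.node (.leaf ⟨6, 165, 165, (-1), 0, 1, 0, 45, 5, 165, [927, 921, 1168, 920, 926]⟩) (.leaf ⟨2, 2863, 2869, 0, 0, 0, 0, 24, 0, 2869, [17543, 17553, 17526]⟩)) (.node (.leaf ⟨4, 86, 86, (-7), 0, (-5), 0, 66, 45, 107, [876, 3374, 453, 3384, 3714, 458, 434, 3722, 391, 3728, 1360, 389, 410, 1374, 1386, 370, 378,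 1402, 9356, 9358, 461, 865, 858, 841, 819, 828, 426, 410, 3934, 369, 341, 362, 339, 4534, 329, 3872, 2865, 4556, 4558, 2866, 2863, 4876, 3801, 4878, 4888, 4886, 4884, 3798, 3814, 3802, 2864, 334, 1452, 1457, 1449, 1440, 1434, 849, 840, 9360, 1422, 1414, 414]⟩) (.leaf ⟨6, 4343, 4344, 0, 0, 0, 0, 93, 0, 0, []⟩))) (.node (.node (.leaf ⟨5, 821, 821, 1, 0, 1, 0, 46, 0, 821, [5259, 5264, 5258]⟩) (.leaf ⟨7, 3544, 3675, 0, 0, 0, 0, 46, 3, 3544, [21077, 21116, 21646]⟩)) (.node (.leaf ⟨2, 1587, 1587, (-1), 0, (-1), 0, 24, 0, 1587, [8945, 13456, 8944]⟩) (.leaf ⟨3, 1728, 1728, 1, 0, 1, 0, 30, 0, 1728, [10169, 10167, 29840, 10166, 10168]⟩)))) (.node (.node (.node (.leaf ⟨2, 463, 587, 0, 0, 0, 0, 28, 2, 462, [2426, 2425, 3208]⟩) (.leaf ⟨1, 3169, 3231, 0, 0, 0, 0, 19, 0, 3231,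 [19591, 18211, 19276]⟩)) (.node (.leaf ⟨6, 1939, 1940, 0, 0, 0, 0, 93, 0, 0, []⟩) (.leaf ⟨3, 4684, 4686, 0, 0, 0, 0, 36, 2, 4657, [27784, 27621, 27792]⟩))) (.node (.node (.leaf ⟨5, 1191, 1192, 0, 0, 0, 0, 93, 0, 0, []⟩) (.leaf ⟨10, 3557, 966, 0, 0, 0, 0, 58, 3, 3557, [21119, 2265, 6136]⟩)) (.node (.leaf ⟨1, 2592, 2598, 0, 0, 0, 0, 18, 2, 2591, [15474, 15473, 15504]⟩) (.leaf ⟨0, 0, 0, 0, 0, 0, 0, 0, 0, 0, []⟩)))))) (.node (.node (.node (.node (.node (.leaf ⟨4, 137, 137, 1, 0, 1, 0, 3, 3, 137, [647, 600, 646]⟩) (.leaf ⟨3, 392, 392, 1, 0, (-1), 0, 30, 0, 392, [2095, 16921, 16914, 16920, 2094]⟩)) (.node (.leaf ⟨3, 206, 13, 0, 0, 0, 0, 31, 0, 13, [25, 8848, 1494]⟩) (.leaf ⟨8, 4133, 4165, 3, 0, 3, 0, 47, 3, 4133, [24673, 25233, 24766]⟩))) (.node (.node (.leaf ⟨5, 308,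 709, 0, 0, 0, 0, 46, 2, 307, [1794, 1793, 4284]⟩) (.leaf ⟨5, 3553, 3561, 0, 0, 0, 0, 38, 5, 3553, [21105, 21101, 21136, 21124, 21126]⟩)) (.node (.leaf ⟨9, 2226, 2230, 0, 0, 0, 0, 53, 3, 2226, [12933, 12942, 12944]⟩) (.leaf ⟨0, 1750, 4908, 0, 0, 0, 0, 93, 0, 0, []⟩)))) (.node (.node (.node (.leaf ⟨11, 127, 517, 0, 0, 0, 0, 50, 3, 127, [523, 2118, 2698]⟩) (.leaf ⟨3, 3134, 3134, 1, 0, 1, 0, 33, 0, 3134, [19077, 19088, 19076]⟩)) (.node (.leaf ⟨5, 1829, 1830, 0, 0, 0, 0, 93, 0, 0, []⟩) (.leaf ⟨7, 4602, 4603, 0, 0, 0, 0, 93, 0, 0, []⟩))) (.node (.node (.leaf ⟨7, 1078, 1078, (-1), 0, 1, 0, 46, 3, 1078, [6755, 6800, 6754]⟩) (.leaf ⟨6, 3887, 3889, 0, 0, 0, 0, 52, 2, 3886, [23172, 23171, 23184]⟩)) (.node (.leaf ⟨8, 703, 2494, 0, 0, 0, 0, 93, 0, 0, []⟩) (.leaf ⟨8, 700, 2673,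 0, 0, 0, 0, 47, 3, 700, [4259, 31376, 15988]⟩))))) (.node (.node (.node (.node (.leaf ⟨0, 237, 261, 0, 0, 0, 0, 9, 0, 261, [1635, 1681, 1578]⟩) (.leaf ⟨4, 2961, 2962, 0, 0, 0, 0, 93, 0, 0, []⟩)) (.node (.leaf ⟨3, 1679, 1679, (-1), 0, 1, 0, 30, 0, 1679, [9851, 9859, 9872, 9858, 9850]⟩) (.leaf ⟨5, 4440, 4400, 0, 0, 0, 0, 38, 5, 4440, [26241, 26239, 26256, 26126, 26128]⟩))) (.node (.node (.leaf ⟨3, 866, 904, 0, 0, 0, 0, 36, 0, 904, [5733, 5776, 5522]⟩) (.leaf ⟨6, 3748, 3746, 0, 0, 0, 0, 53, 0, 3746, [22149, 844, 22160]⟩)) (.node (.leaf ⟨11, 631, 631, 1, 0, (-1), 0, 50, 3, 631, [3503, 13968, 3502]⟩) (.leaf ⟨8, 5055, 5056, 0, 0, 0, 0, 93, 0, 0, []⟩)))) (.node (.node (.node (.leaf ⟨7, 92, 92, (-1), 0, 1, 0, 51, 5, 92, [393, 391, 3728, 390, 392]⟩) (.leaf ⟨5, 3320, 3320,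 1, 0, 11, 0, 31, 3, 3320, [20093, 20112, 20092]⟩)) (.node (.leaf ⟨3, 2017, 2018, 0, 0, 0, 0, 93, 0, 0, []⟩) (.leaf ⟨6, 3058, 4567, 0, 0, 0, 0, 53, 0, 4567, [27065, 12333, 18480]⟩))) (.node (.node (.leaf ⟨3, 1326, 22, 0, 0, 0, 0, 31, 0, 22, [43, 7825, 7786]⟩) (.leaf ⟨7, 3145, 3145, (-1), 0, (-1), 0, 56, 4, 534, [19128, 2853, 24208, 2852, 19128]⟩)) (.node (.leaf ⟨9, 2676, 2662, 0, 0, 0, 0, 48, 3, 2676, [16003, 16017, 15942]⟩) (.leaf ⟨0, 0, 0, 0, 0, 0, 0, 0, 0, 0, []⟩))))))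

def factsPart74 : ATree TFact :=
  .node (.node (.node (.node (.node (.node (.leaf ⟨7, 58, 59, 0, 0, 0, 0, 93, 0, 0, []⟩) (.leaf ⟨3, 2726, 2730, 0, 0, 0, 0, 12, 3, 2726, [16493, 16530, 16516]⟩)) (.node (.leaf ⟨6, 1433, 1434, 0, 0, 0, 0, 93, 0, 0, []⟩) (.leaf ⟨5, 4148, 4149, 0, 0, 0, 0, 93, 0, 0, []⟩))) (.node (.node (.leaf ⟨5, 689, 689, 1, 0, 1, 0, 31, 3, 689, [4167, 4242, 4166]⟩) (.leaf ⟨1, 3413, 3423, 0, 0, 0, 0, 16, 0, 3423, [20611, 20626, 20578]⟩)) (.node (.leaf ⟨10, 2103, 2146, 0, 0, 0, 0, 93, 0, 0, []⟩) (.leaf ⟨10, 4845, 4845, (-1), 0, (-1), 0, 28, 3, 4845, [28791, 28818, 28790]⟩)))) (.node (.node (.node (.leaf ⟨8, 396, 405, 0, 0, 0, 0, 93, 0, 0, []⟩) (.leaf ⟨0, 400, 400, 1, 0, 1, 0, 8, 0, 400, [2179, 18578, 2178]⟩)) (.node (.leaf ⟨4, 1645, 1645, 1, 0, (-1),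 0, 13, 3, 1645, [9575, 10386, 9574]⟩) (.leaf ⟨4, 4263, 4263, 1, 0, (-1), 0, 38, 0, 4263, [25353, 26761, 26770, 26760, 25352]⟩))) (.node (.node (.leaf ⟨1, 318, 798, 0, 0, 0, 0, 14, 0, 798, [5113, 6291, 1814]⟩) (.leaf ⟨9, 443, 3800, 0, 0, 0, 0, 93, 0, 0, []⟩)) (.node (.leaf ⟨10, 2440, 2443, 0, 0, 0, 0, 93, 0, 0, []⟩) (.leaf ⟨6, 5139, 1776, 0, 0, 0, 0, 39, 3, 5139, [30867, 30865, 10614]⟩))))) (.node (.node (.node (.node (.leaf ⟨6, 160, 160, 1, 0, (-1), 0, 24, 3, 160, [917, 1004, 916]⟩) (.leaf ⟨2, 2864, 2870, 0, 0, 0, 0, 25, 0, 2870, [17545, 17555, 17528]⟩)) (.node (.leaf ⟨4, 547, 547, (-7), 0, 5, 0, 44, 2, 86, [9350, 9362, 9350]⟩) (.leaf ⟨7, 4344, 4345, 0, 0, 0, 0, 93, 0, 0, []⟩))) (.node (.node (.leaf ⟨8, 496, 822, 0, 0, 0, 0, 93, 0, 0, []⟩) (.leaf ⟨7, 3673, 3676,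 0, 0, 0, 0, 40, 3, 3673, [21599, 21650, 21648]⟩)) (.node (.leaf ⟨2, 1588, 1588, 1, 0, 1, 0, 23, 0, 1588, [8947, 13458, 8946]⟩) (.leaf ⟨5, 1775, 4983, 0, 0, 0, 0, 93, 0, 0, []⟩)))) (.node (.node (.node (.leaf ⟨2, 588, 589, 0, 0, 0, 0, 23, 0, 589, [3217, 3218, 3210]⟩) (.leaf ⟨1, 3170, 3232, 0, 0, 0, 0, 20, 0, 3232, [19593, 19603, 19278]⟩)) (.node (.leaf ⟨8, 1940, 1941, 0, 0, 0, 0, 93, 0, 0, []⟩) (.leaf ⟨5, 4686, 4687, 0, 0, 0, 0, 93, 0, 0, []⟩))) (.node (.node (.leaf ⟨8, 1184, 1192, 0, 0, 0, 0, 47, 3, 1184, [7285, 7312, 7314]⟩) (.leaf ⟨10, 967, 3558, 0, 0, 0, 0, 54, 3, 967, [6139, 23699, 21120]⟩)) (.node (.leaf ⟨10, 2598, 2599, 0, 0, 0, 0, 93, 0, 0, []⟩) (.leaf ⟨0, 0, 0, 0, 0, 0, 0, 0, 0, 0, []⟩)))))) (.node (.node (.node (.node (.node (.leaf ⟨3, 137, 137, 1, 0, 1,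 0, 2, 3, 137, [647, 618, 646]⟩) (.leaf ⟨3, 393, 393, (-1), 0, 1, 0, 35, 0, 393, [2097, 17042, 2096]⟩)) (.node (.leaf ⟨3, 207, 14, 0, 0, 0, 0, 33, 0, 14, [27, 8851, 1496]⟩) (.leaf ⟨8, 4144, 4134, (-101), 0, 53, 0, 41, 3, 4144, [25217, 25235, 24674]⟩))) (.node (.node (.leaf ⟨6, 711, 760, 0, 0, 0, 0, 45, 5, 711, [4289, 4287, 4755, 1796, 4746]⟩) (.leaf ⟨5, 3554, 3562, 0, 0, 0, 0, 31, 3, 3554, [21109, 21138, 21128]⟩)) (.node (.leaf ⟨5, 2230, 2231, 0, 0, 0, 0, 93, 0, 0, []⟩) (.leaf ⟨10, 4908, 4909, 0, 0, 0, 0, 93, 0, 0, []⟩)))) (.node (.node (.node (.leaf ⟨11, 169, 518, 0, 0, 0, 0, 44, 3, 169, [1001, 2706, 2700]⟩) (.leaf ⟨3, 3135, 3135, (-1), 0, (-1), 0, 32, 0, 3135, [19081, 19090, 19080]⟩)) (.node (.leaf ⟨8, 1321, 1830, 0, 0, 0, 0, 47, 3, 1321, [7769, 10896, 10898]⟩)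 (.leaf ⟨6, 4603, 4604, 0, 0, 0, 0, 93, 0, 0, []⟩))) (.node (.node (.leaf ⟨7, 1079, 1079, (-1), 0, (-1), 0, 40, 3, 1079, [6757, 6802, 6756]⟩) (.leaf ⟨5, 3076, 3128, 0, 0, 0, 0, 48, 2, 846, [18604, 5363, 19030]⟩)) (.node (.leaf ⟨6, 2258, 2494, 0, 0, 0, 0, 52, 2, 704, [13054, 4275, 14994]⟩) (.leaf ⟨8, 2417, 2674, 0, 0, 0, 0, 52, 3, 2417, [14137, 31378, 15990]⟩))))) (.node (.node (.node (.node (.leaf ⟨0, 238, 262, 0, 0, 0, 0, 4, 0, 262, [1637, 1683, 1586]⟩) (.leaf ⟨3, 2962, 2963, 0, 0, 0, 0, 93, 0, 0, []⟩)) (.node (.leaf ⟨2, 1676, 1683, 0, 0, 0, 0, 93, 0, 0, []⟩) (.leaf ⟨10, 4442, 4432, 0, 0, 0, 0, 49, 5, 4442, [26245, 26243, 26258, 26216, 26218]⟩))) (.node (.node (.leaf ⟨11, 866, 909, 0, 0, 0, 0, 93, 0, 0, []⟩) (.leaf ⟨7, 3748, 3748, 1, 0, (-1), 0, 57, 0, 3748, [22161,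 838, 22160]⟩)) (.node (.leaf ⟨11, 633, 633, 1, 0, 1, 0, 44, 3, 633, [3509, 13970, 3508]⟩) (.leaf ⟨0, 5056, 5053, 0, 0, 0, 0, 7, 0, 5053, [30343, 30353, 30354]⟩)))) (.node (.node (.node (.leaf ⟨6, 83, 83, (-1), 0, 1, 0, 45, 5, 83, [369, 341, 2942, 340, 368]⟩) (.leaf ⟨6, 3322, 3322, 1, 0, 11, 0, 45, 3, 3320, [20062, 20068, 20114, 20062, 20068]⟩)) (.node (.leaf ⟨2, 2018, 2019, 0, 0, 0, 0, 93, 0, 0, []⟩) (.leaf ⟨6, 3059, 4772, 0, 0, 0, 0, 54, 0, 4772, [28301, 28307, 18484]⟩))) (.node (.node (.leaf ⟨3, 1327, 23, 0, 0, 0, 0, 33, 0, 23, [45, 7827, 7788]⟩) (.leaf ⟨7, 4042, 4042, 1, 0, 1, 0, 57, 0, 4042, [24205, 24210, 24204]⟩)) (.node (.leaf ⟨9, 2677, 2663, 0, 0, 0, 0, 53, 3, 2677, [16005, 16018, 15944]⟩) (.leaf ⟨0, 0, 0, 0, 0, 0, 0, 0, 0, 0, []⟩))))))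

def factsPart75 : ATree TFact :=
  .node (.node (.node (.node (.node (.node (.leaf ⟨6, 59, 60, 0, 0, 0, 0, 93, 0, 0, []⟩) (.leaf ⟨3, 2727, 2731, 0, 0, 0, 0, 35, 0, 2731, [16519, 16533, 16494]⟩)) (.node (.leaf ⟨11, 1370, 1434, 0, 0, 0, 0, 55, 3, 1370, [8039, 8339, 8340]⟩) (.leaf ⟨4, 4149, 4150, 0, 0, 0, 0, 93, 0, 0, []⟩))) (.node (.node (.leaf ⟨5, 690, 690, 1, 0, (-1), 0, 23, 3, 690, [4169, 4244, 4168]⟩) (.leaf ⟨1, 3414, 3424, 0, 0, 0, 0, 15, 0, 3424, [20613, 20629, 20580]⟩)) (.node (.leaf ⟨4, 2105, 2146, 0, 0, 0, 0, 43, 2, 2104, [12270, 12269, 12436]⟩) (.leaf ⟨10, 4846, 4846, (-1), 0, 1, 0, 19, 3, 4846, [28793, 28820, 28792]⟩)))) (.node (.node (.node (.leaf ⟨6, 398, 405, 0, 0, 0, 0, 52, 2, 397, [2170, 2167, 2196]⟩) (.leaf ⟨0, 401, 401, (-1), 0, (-1), 0, 9, 0, 401,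 [2183, 18580, 2182]⟩)) (.node (.leaf ⟨4, 1646, 1646, 1, 0, 1, 0, 3, 3, 1646, [9577, 10388, 9576]⟩) (.leaf ⟨4, 4264, 4264, (-1), 0, 1, 0, 40, 0, 4264, [25355, 26772, 25354]⟩))) (.node (.node (.leaf ⟨1, 319, 799, 0, 0, 0, 0, 13, 0, 799, [5115, 6293, 1816]⟩) (.leaf ⟨6, 3800, 415, 0, 0, 0, 0, 53, 0, 415, [2239, 2360, 22676]⟩)) (.node (.leaf ⟨1, 2443, 566, 0, 0, 0, 0, 19, 2, 2440, [14484, 14475, 3032]⟩) (.leaf ⟨5, 1736, 1776, 0, 0, 0, 0, 38, 5, 1736, [10207, 10203, 29932, 9082, 10614]⟩))))) (.node (.node (.node (.node (.leaf ⟨7, 162, 162, 1, 0, (-1), 0, 51, 5, 162, [921, 919, 1172, 918, 920]⟩) (.leaf ⟨2, 2865, 2871, 0, 0, 0, 0, 24, 0, 2871, [17547, 17557, 17530]⟩)) (.node (.leaf ⟨4, 640, 446, 35, 0, (-7), 0, 66, 45, 1620, [9264, 9269, 9273, 4927, 4938, 9274, 9276, 3453,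 3472, 3488, 3403, 9290, 3440, 3448, 3500, 3528, 3499, 3543, 9308, 9330, 9333, 9334, 4434, 9191, 9338, 3001, 2979, 2977, 2539, 2537, 2535, 2533, 2453, 2627, 2158, 2846, 2204, 3176, 2162, 2245, 9342, 2855, 3167, 3158, 3102, 3150, 3131, 9344, 9348, 9364, 2926, 2909, 2907, 2892, 5986, 2989, 2473, 2454, 2456, 2458, 4492, 3593, 2814]⟩) (.leaf ⟨11, 452, 4346, 0, 0, 0, 0, 93, 0, 0, []⟩))) (.node (.node (.leaf ⟨11, 96, 822, 0, 0, 0, 0, 62, 3, 96, [405, 4024, 5268]⟩) (.leaf ⟨2, 3554, 3677, 0, 0, 0, 0, 93, 0, 0, []⟩)) (.node (.leaf ⟨2, 1589, 1589, (-1), 0, (-1), 0, 22, 0, 1589, [8949, 13460, 8948]⟩) (.leaf ⟨4, 4983, 4984, 0, 0, 0, 0, 93, 0, 0, []⟩)))) (.node (.node (.node (.leaf ⟨4, 432, 590, 0, 0, 0, 0, 93, 0, 0, []⟩) (.leaf ⟨1, 3220, 3233, 0, 0, 0, 0, 16, 0, 3233, [19595,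 19605, 19558]⟩)) (.node (.leaf ⟨5, 1941, 1942, 0, 0, 0, 0, 93, 0, 0, []⟩) (.leaf ⟨3, 4687, 4685, 0, 0, 0, 0, 31, 0, 4685, [27789, 27794, 27796]⟩))) (.node (.node (.leaf ⟨4, 1192, 1193, 0, 0, 0, 0, 93, 0, 0, []⟩) (.leaf ⟨10, 3969, 3559, 0, 0, 0, 0, 61, 3, 3969, [23693, 23700, 21122]⟩)) (.node (.leaf ⟨1, 2599, 2597, 0, 0, 0, 0, 19, 0, 2597, [15503, 15506, 15508]⟩) (.leaf ⟨0, 0, 0, 0, 0, 0, 0, 0, 0, 0, []⟩)))))) (.node (.node (.node (.node (.node (.leaf ⟨10, 136, 136, 1, 0, (-1), 0, 9, 3, 136, [643, 562, 642]⟩) (.leaf ⟨3, 2761, 2761, 1, 0, (-1), 0, 33, 0, 2761, [16737, 17044, 16736]⟩)) (.node (.leaf ⟨3, 208, 15, 0, 0, 0, 0, 32, 0, 15, [29, 8853, 1498]⟩) (.leaf ⟨5, 4119, 4233, 0, 0, 0, 0, 93, 0, 0, []⟩))) (.node (.node (.leaf ⟨6, 712, 761, 0, 0, 0, 0, 39, 3, 712, [4291,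 4756, 4748]⟩) (.leaf ⟨5, 3555, 3563, 0, 0, 0, 0, 46, 0, 3563, [21131, 21141, 21112]⟩)) (.node (.leaf ⟨9, 2227, 2231, 0, 0, 0, 0, 48, 3, 2227, [12935, 12946, 12948]⟩) (.leaf ⟨2, 1646, 4908, 0, 0, 0, 0, 1, 3, 1646, [9577, 10314, 29330]⟩)))) (.node (.node (.node (.leaf ⟨11, 243, 112, 0, 0, 0, 0, 50, 3, 243, [1599, 1597, 474]⟩) (.leaf ⟨9, 2723, 3136, 0, 0, 0, 0, 93, 0, 0, []⟩)) (.node (.leaf ⟨6, 1830, 1831, 0, 0, 0, 0, 93, 0, 0, []⟩) (.leaf ⟨5, 4604, 4605, 0, 0, 0, 0, 93, 0, 0, []⟩))) (.node (.node (.leaf ⟨7, 1080, 1080, 1, 0, 1, 0, 58, 0, 1080, [6763, 6804, 6762]⟩) (.leaf ⟨5, 3129, 3885, 0, 0, 0, 0, 46, 0, 3885, [23169, 23188, 19036]⟩)) (.node (.leaf ⟨8, 14, 2495, 0, 0, 0, 0, 93, 0, 0, []⟩) (.leaf ⟨0, 422, 422, 1, 0, 1, 0, 2, 0, 422, [2279, 23366, 2278]⟩))))) (.node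 (.node (.node (.node (.leaf ⟨0, 239, 263, 0, 0, 0, 0, 6, 0, 263, [1639, 1685, 1590]⟩) (.leaf ⟨2, 2963, 2964, 0, 0, 0, 0, 93, 0, 0, []⟩)) (.node (.leaf ⟨10, 1683, 1684, 0, 0, 0, 0, 93, 0, 0, []⟩) (.leaf ⟨10, 4443, 4433, 0, 0, 0, 0, 54, 3, 4443, [26247, 26260, 26220]⟩))) (.node (.node (.leaf ⟨3, 909, 905, 0, 0, 0, 0, 37, 0, 905, [5735, 5779, 5780]⟩) (.leaf ⟨6, 3747, 3747, (-1), 0, (-1), 0, 51, 0, 3747, [22153, 22163, 22164, 22162, 22152]⟩)) (.node (.leaf ⟨7, 786, 786, (-1), 0, 1, 0, 59, 0, 786, [4929, 3186, 4928]⟩) (.leaf ⟨10, 5045, 5057, 0, 0, 0, 0, 93, 0, 0, []⟩)))) (.node (.node (.node (.leaf ⟨4, 657, 75, 0, 0, 0, 0, 43, 2, 656, [3656, 3655, 286]⟩) (.leaf ⟨6, 3323, 3323, 1, 0, (-11), 0, 54, 2, 3322, [20076, 20116, 20076]⟩)) (.node (.leaf ⟨1, 2019, 2020, 0, 0, 0,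 0, 93, 0, 0, []⟩) (.leaf ⟨2, 921, 921, 1, 0, 1, 0, 27, 0, 921, [5873, 5996, 5872]⟩))) (.node (.node (.leaf ⟨3, 1328, 24, 0, 0, 0, 0, 32, 0, 24, [47, 7829, 7790]⟩) (.leaf ⟨6, 3131, 3131, (-1), 0, 1, 0, 51, 0, 3131, [19045, 24207, 24212, 24206, 19044]⟩)) (.node (.leaf ⟨9, 2658, 2664, 0, 0, 0, 0, 63, 2, 2657, [15932, 15923, 15948]⟩) (.leaf ⟨0, 0, 0, 0, 0, 0, 0, 0, 0, 0, []⟩))))))

def factsPart76 : ATree TFact :=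
  .node (.node (.node (.node (.node (.node (.leaf ⟨5, 60, 61, 0, 0, 0, 0, 93, 0, 0, []⟩) (.leaf ⟨3, 2728, 2732, 0, 0, 0, 0, 33, 0, 2732, [16521, 16535, 16496]⟩)) (.node (.leaf ⟨4, 1434, 1435, 0, 0, 0, 0, 93, 0, 0, []⟩) (.leaf ⟨10, 4150, 4151, 0, 0, 0, 0, 93, 0, 0, []⟩))) (.node (.node (.leaf ⟨2, 684, 684, (-1), 0, 1, 0, 22, 2, 533, [4127, 2828, 4127]⟩) (.leaf ⟨1, 3415, 3425, 0, 0, 0, 0, 17, 0, 3425, [20615, 20631, 20582]⟩)) (.node (.leaf ⟨10, 363, 2147, 0, 0, 0, 0, 93, 0, 0, []⟩) (.leaf ⟨10, 4847, 4847, (-1), 0, (-1), 0, 63, 3, 4847, [28805, 28822, 28804]⟩)))) (.node (.node (.node (.leaf ⟨4, 349, 349, (-1), 0, 1, 0, 44, 0, 349, [1911, 1432, 1910]⟩) (.leaf ⟨0, 402, 402, 1, 0, 1, 0, 10, 0, 402, [2185, 18582, 2184]⟩)) (.node (.leaf ⟨4, 1647, 1647, (-1), 0, (-1), 0,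 43, 0, 1647, [9579, 10390, 9578]⟩) (.leaf ⟨4, 4265, 4265, 1, 0, (-1), 0, 39, 0, 4265, [25357, 26774, 25356]⟩))) (.node (.node (.leaf ⟨1, 320, 800, 0, 0, 0, 0, 12, 0, 800, [5117, 6295, 1818]⟩) (.leaf ⟨8, 406, 406, (-1), 0, 1, 0, 61, 0, 406, [2221, 21474, 2220]⟩)) (.node (.leaf ⟨3, 2443, 2443, 1, 0, (-1), 0, 12, 1, 566, [3092, 14487, 14487]⟩) (.leaf ⟨6, 2442, 1736, (-27), 0, (-1), 0, 5, 1, 1738, [16435, 14491, 10263]⟩))))) (.node (.node (.node (.node (.leaf ⟨7, 165, 165, 1, 0, 1, 0, 46, 3, 165, [927, 1174, 926]⟩) (.leaf ⟨2, 2866, 2872, 0, 0, 0, 0, 23, 0, 2872, [17549, 17559, 17534]⟩)) (.node (.leaf ⟨3, 628, 628, 1, 0, 1, 0, 36, 0, 628, [3493, 3436, 3492]⟩) (.leaf ⟨8, 1618, 4346, 0, 0, 0, 0, 62, 0, 4346, [25751, 4687, 9248]⟩))) (.node (.node (.leaf ⟨9, 822, 823, 0,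 0, 0, 0, 93, 0, 0, []⟩) (.leaf ⟨7, 3677, 3678, 0, 0, 0, 0, 93, 0, 0, []⟩)) (.node (.leaf ⟨3, 1774, 1774, (-1), 0, (-1), 0, 21, 5, 1774, [10577, 8951, 13462, 8950, 10576]⟩) (.leaf ⟨2, 1727, 4983, 0, 0, 0, 0, 23, 0, 4983, [29845, 10593, 10160]⟩)))) (.node (.node (.node (.leaf ⟨7, 590, 591, 0, 0, 0, 0, 93, 0, 0, []⟩) (.leaf ⟨1, 3221, 3234, 0, 0, 0, 0, 15, 0, 3234, [19597, 19607, 19560]⟩)) (.node (.leaf ⟨8, 1939, 1943, 0, 0, 0, 0, 93, 0, 0, []⟩) (.leaf ⟨10, 4655, 4688, 0, 0, 0, 0, 93, 0, 0, []⟩))) (.node (.node (.leaf ⟨8, 1185, 1193, 0, 0, 0, 0, 41, 3, 1185, [7289, 7316, 7318]⟩) (.leaf ⟨5, 3971, 3968, 0, 0, 0, 0, 49, 4, 3970, [23696, 23695, 23702, 21124, 23688]⟩)) (.node (.leaf ⟨2, 2598, 2500, 0, 0, 0, 0, 27, 2, 2590, [15504, 15471, 15024]⟩) (.leaf ⟨0, 0, 0, 0, 0, 0,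 0, 0, 0, 0, []⟩)))))) (.node (.node (.node (.node (.node (.leaf ⟨7, 136, 136, 1, 0, (-1), 0, 6, 3, 136, [643, 346, 642]⟩) (.leaf ⟨3, 2796, 2796, (-1), 0, 1, 0, 32, 0, 2796, [16997, 17046, 16996]⟩)) (.node (.leaf ⟨3, 1529, 755, 0, 0, 0, 0, 31, 0, 755, [4737, 8855, 8636]⟩) (.leaf ⟨4, 4233, 4234, 0, 0, 0, 0, 93, 0, 0, []⟩))) (.node (.node (.leaf ⟨6, 713, 762, 0, 0, 0, 0, 54, 0, 762, [4751, 4759, 4292]⟩) (.leaf ⟨7, 3561, 3564, 0, 0, 0, 0, 93, 0, 0, []⟩)) (.node (.leaf ⟨0, 2217, 2232, 0, 0, 0, 0, 93, 0, 0, []⟩) (.leaf ⟨2, 1647, 4909, 0, 0, 0, 0, 28, 0, 4909, [29333, 29335, 9578]⟩)))) (.node (.node (.node (.leaf ⟨11, 113, 244, 0, 0, 0, 0, 44, 3, 113, [479, 2711, 1600]⟩) (.leaf ⟨7, 3136, 3137, 0, 0, 0, 0, 93, 0, 0, []⟩)) (.node (.leaf ⟨8, 1322, 1831, 0, 0, 0, 0, 52, 3,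 1322, [7771, 10900, 10902]⟩) (.leaf ⟨5, 4602, 4606, 0, 0, 0, 0, 93, 0, 0, []⟩))) (.node (.node (.leaf ⟨8, 1075, 1075, 1, 0, 1, 0, 56, 5, 1075, [6743, 6765, 6806, 6764, 6742]⟩) (.leaf ⟨8, 3129, 3890, 0, 0, 0, 0, 93, 0, 0, []⟩)) (.node (.leaf ⟨5, 2494, 2495, 0, 0, 0, 0, 47, 0, 2495, [14999, 10508, 14994]⟩) (.leaf ⟨0, 2130, 2130, (-1), 0, (-1), 0, 9, 0, 2130, [12347, 31382, 12346]⟩))))) (.node (.node (.node (.node (.leaf ⟨0, 240, 264, 0, 0, 0, 0, 5, 0, 264, [1641, 1687, 1592]⟩) (.leaf ⟨4, 2958, 2525, 0, 0, 0, 0, 43, 0, 2525, [15159, 17418, 18058]⟩)) (.node (.leaf ⟨5, 1684, 1685, 0, 0, 0, 0, 93, 0, 0, []⟩) (.leaf ⟨10, 4444, 4434, 0, 0, 0, 0, 58, 3, 4444, [26249, 26262, 26222]⟩))) (.node (.node (.leaf ⟨4, 864, 837, 0, 0, 0, 0, 42, 2, 863, [5502, 5501, 5330]⟩) (.leaf ⟨10,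 3746, 3746, 1, 0, 1, 0, 63, 3, 3746, [22149, 1424, 22148]⟩)) (.node (.leaf ⟨3, 754, 793, 0, 0, 0, 0, 31, 0, 793, [5025, 5083, 4732]⟩) (.leaf ⟨7, 5057, 5058, 0, 0, 0, 0, 93, 0, 0, []⟩)))) (.node (.node (.node (.leaf ⟨3, 656, 656, (-1), 0, (-1), 0, 30, 4, 72, [3654, 281, 1356, 280, 3654]⟩) (.leaf ⟨5, 895, 895, (-1), 0, (-1), 0, 49, 4, 877, [5678, 5573, 5634, 5572, 5678]⟩)) (.node (.leaf ⟨4, 2003, 2013, 0, 0, 0, 0, 40, 2, 2002, [11860, 11859, 11912]⟩) (.leaf ⟨2, 922, 922, (-1), 0, (-1), 0, 25, 0, 922, [5875, 28310, 5874]⟩))) (.node (.node (.leaf ⟨3, 1329, 1334, 0, 0, 0, 0, 31, 0, 1334, [7821, 7831, 7792]⟩) (.leaf ⟨5, 963, 963, 1, 0, 1, 0, 45, 0, 963, [6119, 24203, 24214, 24202, 6118]⟩)) (.node (.leaf ⟨11, 2663, 2658, (-1), 0, (-5), 0, 64, 1, 2664, [16015, 16020, 16023]⟩)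 (.leaf ⟨0, 0, 0, 0, 0, 0, 0, 0, 0, 0, []⟩))))))

def factsPart77 : ATree TFact :=
  .node (.node (.node (.node (.node (.node (.leaf ⟨3, 55, 46, 0, 0, 0, 0, 36, 2, 54, [140, 139, 90]⟩) (.leaf ⟨3, 2729, 2733, 0, 0, 0, 0, 32, 0, 2733, [16523, 16537, 16498]⟩)) (.node (.leaf ⟨11, 1371, 1435, 0, 0, 0, 0, 44, 3, 1371, [8041, 8342, 8344]⟩) (.leaf ⟨5, 4151, 4152, 0, 0, 0, 0, 93, 0, 0, []⟩))) (.node (.node (.leaf ⟨3, 602, 602, (-1), 0, 1, 0, 21, 3, 684, [4125, 4121, 4248, 4125, 4121]⟩) (.leaf ⟨1, 3416, 3426, 0, 0, 0, 0, 14, 0, 3426, [20617, 20633, 20584]⟩)) (.node (.leaf ⟨10, 2090, 361, 0, 0, 0, 0, 58, 3, 2090, [12239, 11499, 1934]⟩) (.leaf ⟨5, 4840, 4840, 1, 0, (-1), 0, 49, 0, 4840, [28779, 28807, 28824, 28806, 28778]⟩)))) (.node (.node (.node (.leaf ⟨5, 351, 351, (-1), 0,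 1, 0, 38, 5, 351, [1915, 1913, 2200, 1912, 1914]⟩) (.leaf ⟨0, 403, 403, (-1), 0, (-1), 0, 6, 0, 403, [2189, 18584, 2188]⟩)) (.node (.leaf ⟨6, 1687, 1648, 60, 0, (-20), 0, 66, 26, 1649, [9604, 9613, 9621, 9639, 9648, 9658, 5400, 4305, 9664, 9676, 9682, 4303, 9695, 9700, 9702, 9708, 9714, 9722, 9727, 9729, 9735, 9733, 9746, 9756, 9772, 9140, 9782, 9781, 9784, 9833, 9846, 9848, 9850, 9874, 9888, 9903, 9906, 9924, 9936, 9946, 9954, 9956, 9958, 10140, 10149, 10154, 10166, 10168, 10181, 10196, 10208, 10265, 10275, 10282, 10302, 10340, 10348, 10357, 10358, 10366, 10372, 10392, 9580]⟩) (.leaf ⟨5, 4496, 4496, 1, 0, (-1), 0, 38, 5, 4496, [26669, 26667, 26776, 26666, 26668]⟩))) (.node (.node (.leaf ⟨1, 348, 321, 13, 0, (-21), 0, 11, 4, 340, [1908, 1988, 6267, 6297, 1820]⟩)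 (.leaf ⟨7, 443, 443, (-1), 0, 1, 0, 56, 4, 407, [2358, 2223, 22680, 2222, 2358]⟩)) (.node (.leaf ⟨0, 2442, 2443, 0, 0, 0, 0, 9, 2, 2441, [14482, 14479, 14484]⟩) (.leaf ⟨5, 5139, 5133, 27, 0, (-1), 0, 45, 4, 1776, [30869, 30871, 30873, 30836, 30838]⟩))))) (.node (.node (.node (.node (.leaf ⟨10, 174, 165, (-1), 0, (-5), 0, 66, 7, 116, [930, 936, 491, 942, 948, 952, 958, 960, 951, 932, 938, 479, 944, 954, 544, 526, 528, 964, 970, 972, 508, 976, 980, 503, 984, 988, 992, 506, 928, 487, 934, 940, 946, 483, 956, 698, 950, 966, 994, 996, 998, 510, 1003, 1010, 1018, 1026, 1001, 781, 772, 764, 1028, 1030, 1040, 1054, 782, 1152, 1147, 1118, 1158, 1164, 926, 1170, 1176]⟩) (.leaf ⟨2, 2867, 2873, 0, 0, 0, 0, 28, 0, 2873, [17551, 17561, 17538]⟩)) (.node (.leaf ⟨3, 639, 639, (-1),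 0, (-1), 0, 31, 0, 639, [3539, 9368, 3538]⟩) (.leaf ⟨5, 4346, 4347, 0, 0, 0, 0, 93, 0, 0, []⟩))) (.node (.node (.leaf ⟨11, 820, 823, 0, 0, 0, 0, 64, 3, 820, [5255, 5270, 5272]⟩) (.leaf ⟨6, 3678, 3679, 0, 0, 0, 0, 93, 0, 0, []⟩)) (.node (.leaf ⟨6, 1585, 1585, (-1), 0, (-1), 0, 54, 0, 1585, [8941, 6776, 8940]⟩) (.leaf ⟨2, 1728, 4984, 0, 0, 0, 0, 22, 0, 4984, [29847, 29849, 10168]⟩)))) (.node (.node (.node (.leaf ⟨6, 591, 592, 0, 0, 0, 0, 93, 0, 0, []⟩) (.leaf ⟨1, 3222, 3235, 0, 0, 0, 0, 14, 0, 3235, [19599, 19609, 19570]⟩)) (.node (.leaf ⟨6, 1941, 1943, 0, 0, 0, 0, 52, 2, 1940, [11412, 11411, 11416]⟩) (.leaf ⟨4, 4686, 4688, 0, 0, 0, 0, 43, 2, 4656, [27792, 27619, 27800]⟩))) (.node (.node (.leaf ⟨7, 1193, 1194, 0, 0, 0, 0, 93, 0, 0, []⟩) (.leaf ⟨8, 966, 3972, 0, 0,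 0, 0, 93, 0, 0, []⟩)) (.node (.leaf ⟨2, 2501, 2599, 0, 0, 0, 0, 28, 0, 2599, [15509, 15512, 15026]⟩) (.leaf ⟨0, 0, 0, 0, 0, 0, 0, 0, 0, 0, []⟩)))))) (.node (.node (.node (.node (.node (.leaf ⟨6, 136, 136, 1, 0, (-1), 0, 5, 3, 136, [643, 534, 642]⟩) (.leaf ⟨0, 157, 175, 0, 0, 0, 0, 7, 0, 175, [1181, 1147, 910]⟩)) (.node (.leaf ⟨4, 1531, 1153, 0, 0, 0, 0, 30, 5, 1531, [8641, 8639, 8856, 4738, 7116]⟩) (.leaf ⟨10, 4234, 4235, 0, 0, 0, 0, 93, 0, 0, []⟩))) (.node (.node (.leaf ⟨11, 724, 764, 0, 0, 0, 0, 93, 0, 0, []⟩) (.leaf ⟨3, 3563, 3564, 0, 0, 0, 0, 33, 2, 3562, [21130, 21129, 21144]⟩)) (.node (.leaf ⟨10, 2232, 2233, 0, 0, 0, 0, 93, 0, 0, []⟩) (.leaf ⟨0, 2619, 4910, 0, 0, 0, 0, 93, 0, 0, []⟩)))) (.node (.node (.node (.leaf ⟨11, 114, 266, 0, 0, 0, 0, 37, 3, 114, [483,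 2712, 1692]⟩) (.leaf ⟨6, 3137, 3138, 0, 0, 0, 0, 93, 0, 0, []⟩)) (.node (.leaf ⟨4, 1831, 1832, 0, 0, 0, 0, 93, 0, 0, []⟩) (.leaf ⟨7, 4606, 4607, 0, 0, 0, 0, 93, 0, 0, []⟩))) (.node (.node (.leaf ⟨8, 1076, 1076, 1, 0, (-1), 0, 52, 3, 1076, [6747, 6808, 6746]⟩) (.leaf ⟨5, 3890, 3889, 0, 0, 0, 0, 47, 0, 3889, [23185, 23191, 23192]⟩)) (.node (.leaf ⟨6, 16, 2495, 0, 0, 0, 0, 52, 2, 15, [30, 29, 14998]⟩) (.leaf ⟨0, 2673, 2673, 1, 0, 1, 0, 4, 0, 2673, [15989, 31384, 15988]⟩))))) (.node (.node (.node (.node (.leaf ⟨0, 241, 265, 0, 0, 0, 0, 4, 0, 265, [1643, 1689, 1594]⟩) (.leaf ⟨4, 2959, 2951, 0, 0, 0, 0, 40, 0, 2951, [18029, 18073, 18060]⟩)) (.node (.leaf ⟨4, 1685, 1686, 0, 0, 0, 0, 93, 0, 0, []⟩) (.leaf ⟨10, 4439, 4445, 0, 0, 0, 0, 93, 0, 0, []⟩))) (.node (.node (.leaf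 ⟨4, 838, 866, 0, 0, 0, 0, 43, 0, 866, [5523, 5784, 5334]⟩) (.leaf ⟨2, 3746, 820, 0, 0, 0, 0, 27, 0, 820, [5255, 1417, 22148]⟩)) (.node (.leaf ⟨7, 792, 1618, 0, 0, 0, 0, 59, 0, 1618, [9249, 4255, 5022]⟩) (.leaf ⟨9, 5054, 5057, 0, 0, 0, 0, 63, 2, 5046, [30346, 30317, 30358]⟩)))) (.node (.node (.node (.leaf ⟨3, 657, 657, 1, 0, 1, 0, 36, 0, 657, [3657, 3736, 3656]⟩) (.leaf ⟨5, 3306, 3306, 1, 0, 1, 0, 50, 0, 3306, [19977, 20120, 19976]⟩)) (.node (.leaf ⟨4, 2014, 2004, 0, 0, 0, 0, 39, 0, 2004, [11863, 11928, 11914]⟩) (.leaf ⟨2, 923, 923, 1, 0, 1, 0, 24, 0, 923, [5877, 28312, 5876]⟩))) (.node (.node (.leaf ⟨4, 1334, 1335, 0, 0, 0, 0, 93, 0, 0, []⟩) (.leaf ⟨5, 4041, 4041, (-1), 0, (-1), 0, 47, 0, 4041, [24195, 24216, 24194]⟩)) (.node (.leaf ⟨11, 2661, 2659, (-1), 0, 5, 0,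 50, 3, 2661, [15947, 16024, 15934]⟩) (.leaf ⟨0, 0, 0, 0, 0, 0, 0, 0, 0, 0, []⟩))))))

def factsPart78 : ATree TFact :=
  .node (.node (.node (.node (.node (.node (.leaf ⟨3, 47, 56, 0, 0, 0, 0, 37, 0, 56, [143, 154, 92]⟩) (.leaf ⟨8, 167, 2734, 0, 0, 0, 0, 93, 0, 0, []⟩)) (.node (.leaf ⟨5, 1435, 1436, 0, 0, 0, 0, 93, 0, 0, []⟩) (.leaf ⟨7, 439, 4153, 0, 0, 0, 0, 93, 0, 0, []⟩))) (.node (.node (.leaf ⟨3, 601, 601, (-1), 0, (-1), 0, 36, 2, 602, [3259, 4250, 3259]⟩) (.leaf ⟨1, 3417, 3427, 0, 0, 0, 0, 19, 0, 3427, [20619, 20635, 20586]⟩)) (.node (.leaf ⟨10, 362, 2091, 0, 0, 0, 0, 54, 3, 362, [1937, 12443, 12240]⟩) (.leaf ⟨1, 2262, 4849, 0, 0, 0, 0, 93, 0, 0, []⟩)))) (.node (.node (.node (.leaf ⟨5, 395, 395, (-1), 0, (-1), 0, 31, 3, 395, [2159, 2202, 2158]⟩) (.leaf ⟨0, 404,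 404, 1, 0, 1, 0, 5, 0, 404, [2193, 18586, 2192]⟩)) (.node (.leaf ⟨8, 1687, 1642, 0, 0, 0, 0, 41, 3, 1687, [9905, 7176, 9568]⟩) (.leaf ⟨10, 4502, 4502, 1, 0, (-1), 0, 49, 5, 4502, [26707, 26703, 26778, 26702, 26706]⟩))) (.node (.node (.leaf ⟨10, 288, 991, 0, 0, 0, 0, 93, 0, 0, []⟩) (.leaf ⟨7, 3800, 3800, 1, 0, (-1), 0, 57, 0, 3800, [22677, 22682, 22676]⟩)) (.node (.leaf ⟨3, 2442, 2442, (-1), 0, 1, 0, 2, 1, 2443, [14488, 14491, 14491]⟩) (.leaf ⟨8, 1604, 5128, 0, 0, 0, 0, 62, 0, 5128, [30821, 14967, 9080]⟩))))) (.node (.node (.node (.node (.leaf ⟨8, 116, 175, 0, 0, 0, 0, 93, 0, 0, []⟩) (.leaf ⟨5, 2085, 2874, 0, 0, 0, 0, 93, 0, 0, []⟩)) (.node (.leaf ⟨3, 640, 640, 1, 0, 1, 0, 33, 0, 640, [3541, 9370, 3540]⟩) (.leaf ⟨8, 1619, 4347, 0, 0, 0, 0, 47, 3, 1619, [9251, 25752,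 25754]⟩))) (.node (.node (.leaf ⟨7, 823, 824, 0, 0, 0, 0, 93, 0, 0, []⟩) (.leaf ⟨5, 3679, 3680, 0, 0, 0, 0, 93, 0, 0, []⟩)) (.node (.leaf ⟨7, 1587, 1587, (-1), 0, (-1), 0, 51, 5, 1587, [8945, 8943, 13466, 8942, 8944]⟩) (.leaf ⟨7, 2352, 1684, (-17), 0, (-9), 0, 25, 3, 2352, [13514, 9833, 9885]⟩)))) (.node (.node (.node (.leaf ⟨4, 591, 433, 0, 0, 0, 0, 40, 2, 590, [3224, 3223, 2338]⟩) (.leaf ⟨1, 3230, 3236, 0, 0, 0, 0, 19, 0, 3236, [19601, 19611, 19588]⟩)) (.node (.leaf ⟨8, 1935, 1944, 0, 0, 0, 0, 93, 0, 0, []⟩) (.leaf ⟨10, 3600, 3600, 1, 0, 1, 0, 49, 5, 3600, [21323, 2265, 6150, 2264, 21322]⟩))) (.node (.node (.leaf ⟨8, 1167, 1194, 0, 0, 0, 0, 56, 5, 1167, [7221, 7255, 7290, 7320, 7322]⟩) (.leaf ⟨6, 3969, 3972, 0, 0, 0, 0, 52, 2, 967, [23692, 6139, 23706]⟩)) (.node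 (.leaf ⟨8, 2497, 515, 0, 0, 0, 0, 47, 3, 2497, [15019, 15017, 2688]⟩) (.leaf ⟨0, 0, 0, 0, 0, 0, 0, 0, 0, 0, []⟩)))))) (.node (.node (.node (.node (.node (.leaf ⟨5, 136, 136, 1, 0, (-1), 0, 4, 3, 136, [643, 584, 642]⟩) (.leaf ⟨0, 158, 176, 0, 0, 0, 0, 4, 0, 176, [1183, 17051, 912]⟩)) (.node (.leaf ⟨4, 1550, 1154, 0, 0, 0, 0, 22, 3, 1550, [8753, 8858, 7118]⟩) (.leaf ⟨9, 4137, 4117, 0, 0, 0, 0, 53, 3, 4137, [24701, 4718, 24640]⟩))) (.node (.node (.leaf ⟨10, 618, 764, 0, 0, 0, 0, 65, 4, 172, [3358, 1077, 4314, 4334, 4762]⟩) (.leaf ⟨7, 3560, 3565, 0, 0, 0, 0, 93, 0, 0, []⟩)) (.node (.leaf ⟨7, 2233, 2234, 0, 0, 0, 0, 93, 0, 0, []⟩) (.leaf ⟨10, 4910, 4911, 0, 0, 0, 0, 93, 0, 0, []⟩)))) (.node (.node (.node (.leaf ⟨11, 118, 506, 0, 0, 0, 0, 29, 3, 118, [499, 2714, 2658]⟩)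 (.leaf ⟨4, 3136, 3133, 0, 0, 0, 0, 42, 2, 2723, [19094, 16487, 19072]⟩)) (.node (.leaf ⟨8, 1827, 1832, 0, 0, 0, 0, 41, 3, 1827, [10889, 10904, 10906]⟩) (.leaf ⟨5, 4607, 4603, 0, 0, 0, 0, 46, 2, 4606, [27290, 27289, 27282]⟩))) (.node (.node (.leaf ⟨8, 1077, 1077, 1, 0, 1, 0, 47, 3, 1077, [6751, 6810, 6750]⟩) (.leaf ⟨4, 3355, 845, 0, 0, 0, 0, 41, 0, 845, [5359, 3329, 20284]⟩)) (.node (.leaf ⟨6, 2259, 17, 0, 0, 0, 0, 45, 5, 2259, [13057, 14996, 15000, 15003, 32]⟩) (.leaf ⟨0, 2674, 2674, (-1), 0, (-1), 0, 5, 0, 2674, [15991, 31386, 15990]⟩))))) (.node (.node (.node (.node (.leaf ⟨3, 244, 266, 0, 0, 0, 0, 93, 0, 0, []⟩) (.leaf ⟨4, 2960, 2952, 0, 0, 0, 0, 39, 0, 2952, [18031, 18075, 18062]⟩)) (.node (.leaf ⟨2, 1684, 1677, 0, 0, 0, 0, 28, 2, 1683, [9878, 9877, 9798]⟩) (.leaf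 ⟨4, 4441, 4445, 0, 0, 0, 0, 43, 2, 4440, [26242, 26241, 26266]⟩))) (.node (.node (.leaf ⟨11, 838, 910, 0, 0, 0, 0, 93, 0, 0, []⟩) (.leaf ⟨4, 3112, 3112, 1, 0, (-1), 0, 42, 2, 87, [18854, 810, 18854]⟩)) (.node (.leaf ⟨7, 793, 1619, 0, 0, 0, 0, 46, 3, 793, [5025, 13978, 9250]⟩) (.leaf ⟨9, 5058, 5055, 0, 0, 0, 0, 57, 3, 5058, [30361, 30363, 30350]⟩)))) (.node (.node (.node (.leaf ⟨2, 656, 656, (-1), 0, (-1), 0, 22, 0, 656, [3655, 1370, 3654]⟩) (.leaf ⟨4, 879, 895, 0, 0, 0, 0, 43, 2, 878, [5576, 5575, 5678]⟩)) (.node (.leaf ⟨4, 2015, 2005, 0, 0, 0, 0, 41, 0, 2005, [11865, 11931, 11916]⟩) (.leaf ⟨2, 924, 924, (-1), 0, (-1), 0, 23, 0, 924, [5885, 28314, 5884]⟩))) (.node (.node (.leaf ⟨3, 1335, 1336, 0, 0, 0, 0, 93, 0, 0, []⟩) (.leaf ⟨10, 3878, 3878, (-1), 0, (-1), 0, 49,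 5, 3878, [23099, 24201, 24218, 24200, 23098]⟩)) (.node (.leaf ⟨2, 2645, 2678, 0, 0, 0, 0, 93, 0, 0, []⟩) (.leaf ⟨0, 0, 0, 0, 0, 0, 0, 0, 0, 0, []⟩))))))

def factsPart79 : ATree TFact :=
  .node (.node (.node (.node (.node (.node (.leaf ⟨3, 48, 57, 0, 0, 0, 0, 31, 0, 57, [145, 157, 94]⟩) (.leaf ⟨5, 2734, 2735, 0, 0, 0, 0, 93, 0, 0, []⟩)) (.node (.leaf ⟨11, 1372, 1436, 0, 0, 0, 0, 50, 3, 1372, [8043, 8346, 8348]⟩) (.leaf ⟨6, 4153, 4154, 0, 0, 0, 0, 93, 0, 0, []⟩))) (.node (.node (.leaf ⟨7, 587, 683, 0, 0, 0, 0, 58, 0, 683, [4119, 3263, 3208]⟩) (.leaf ⟨1, 3418, 3428, 0, 0, 0, 0, 16, 0, 3428, [20621, 20637, 20588]⟩)) (.node (.leaf ⟨5, 2147, 2146, 0, 0, 0, 0, 49, 4, 363, [12440, 1939, 12444, 12266, 12436]⟩) (.leaf ⟨9, 4849, 4850, 0, 0, 0, 0, 93, 0, 0, []⟩)))) (.node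 (.node (.node (.leaf ⟨5, 396, 396, 1, 0, 1, 0, 46, 0, 396, [2163, 2204, 2162]⟩) (.leaf ⟨0, 3040, 3040, (-1), 0, (-1), 0, 4, 0, 3040, [18383, 18588, 18382]⟩)) (.node (.leaf ⟨6, 1633, 1642, (-60), 0, 20, 0, 52, 2, 1648, [9588, 10395, 10396]⟩) (.leaf ⟨10, 4503, 4503, 1, 0, 1, 0, 54, 3, 4503, [26711, 26780, 26710]⟩))) (.node (.node (.leaf ⟨4, 290, 991, 0, 0, 0, 0, 43, 2, 289, [1740, 1739, 6300]⟩) (.leaf ⟨6, 3799, 3799, (-1), 0, (-1), 0, 51, 0, 3799, [22673, 22679, 22684, 22678, 22672]⟩)) (.node (.leaf ⟨3, 2441, 2441, (-1), 0, (-1), 0, 36, 2, 2442, [14483, 14492, 14483]⟩) (.leaf ⟨8, 1605, 5129, 0, 0, 0, 0, 47, 3, 1605, [9083, 30876, 30822]⟩))))) (.node (.node (.node (.node (.leaf ⟨5, 175, 176, 0, 0, 0, 0, 93, 0, 0, []⟩) (.leaf ⟨5, 2283, 2875, 0, 0, 0, 0, 93, 0, 0, []⟩))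 (.node (.leaf ⟨11, 433, 433, 1, 0, 1, 0, 59, 3, 433, [2339, 4904, 2338]⟩) (.leaf ⟨6, 4347, 4348, 0, 0, 0, 0, 93, 0, 0, []⟩))) (.node (.node (.leaf ⟨11, 821, 824, 0, 0, 0, 0, 59, 3, 821, [5259, 5274, 5276]⟩) (.leaf ⟨4, 3680, 3681, 0, 0, 0, 0, 93, 0, 0, []⟩)) (.node (.leaf ⟨7, 1588, 1588, (-1), 0, 1, 0, 46, 3, 1588, [8947, 13468, 8946]⟩) (.leaf ⟨6, 2357, 2352, 0, 0, 0, 0, 54, 0, 2352, [13511, 13563, 13552]⟩)))) (.node (.node (.node (.leaf ⟨4, 434, 592, 0, 0, 0, 0, 39, 0, 592, [3227, 3228, 2340]⟩) (.leaf ⟨4, 3024, 3237, 0, 0, 0, 0, 93, 0, 0, []⟩)) (.node (.leaf ⟨5, 1935, 1939, 0, 0, 0, 0, 46, 2, 1934, [11376, 11375, 11408]⟩) (.leaf ⟨10, 4304, 4304, 1, 0, (-1), 0, 54, 3, 4304, [25515, 27804, 25514]⟩))) (.node (.node (.leaf ⟨6, 1194, 1195, 0, 0, 0, 0, 93, 0, 0, []⟩) (.leaf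 ⟨5, 3972, 3972, 1, 0, 1, 0, 47, 0, 3972, [23707, 6152, 23706]⟩)) (.node (.leaf ⟨8, 516, 2508, 0, 0, 0, 0, 61, 0, 2508, [15047, 15516, 2694]⟩) (.leaf ⟨0, 0, 0, 0, 0, 0, 0, 0, 0, 0, []⟩)))))) (.node (.node (.node (.node (.node (.leaf ⟨4, 136, 136, 1, 0, (-1), 0, 3, 3, 136, [643, 602, 642]⟩) (.leaf ⟨0, 2775, 389, 0, 0, 0, 0, 8, 0, 389, [2089, 17053, 16832]⟩)) (.node (.leaf ⟨4, 1551, 1155, 0, 0, 0, 0, 43, 0, 1155, [7121, 8861, 8754]⟩) (.leaf ⟨9, 4138, 4118, 0, 0, 0, 0, 57, 3, 4138, [24703, 25244, 24642]⟩))) (.node (.node (.leaf ⟨4, 721, 764, (-21), 0, 1, 0, 43, 0, 764, [4765, 3424, 4308]⟩) (.leaf ⟨4, 3564, 3565, 0, 0, 0, 0, 40, 2, 3561, [21144, 21127, 21148]⟩)) (.node (.leaf ⟨6, 2234, 2235, 0, 0, 0, 0, 93, 0, 0, []⟩) (.leaf ⟨0, 4911, 2620, 0, 0, 0, 0, 9, 2, 4910, [29340,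 29339, 15606]⟩)))) (.node (.node (.node (.leaf ⟨7, 506, 521, 0, 0, 0, 0, 93, 0, 0, []⟩) (.leaf ⟨4, 3134, 3137, 0, 0, 0, 0, 40, 0, 3137, [19097, 19100, 19076]⟩)) (.node (.leaf ⟨7, 1832, 1833, 0, 0, 0, 0, 93, 0, 0, []⟩) (.leaf ⟨6, 4607, 4608, 0, 0, 0, 0, 93, 0, 0, []⟩))) (.node (.node (.leaf ⟨5, 1057, 1083, 0, 0, 0, 0, 93, 0, 0, []⟩) (.leaf ⟨9, 3355, 3891, 0, 0, 0, 0, 93, 0, 0, []⟩)) (.node (.leaf ⟨6, 2260, 18, 0, 0, 0, 0, 39, 3, 2260, [13059, 15004, 34]⟩) (.leaf ⟨0, 4388, 4388, 1, 0, 1, 0, 6, 0, 4388, [26085, 31388, 26084]⟩))))) (.node (.node (.node (.node (.leaf ⟨10, 266, 267, 0, 0, 0, 0, 93, 0, 0, []⟩) (.leaf ⟨5, 2962, 2954, 0, 0, 0, 0, 38, 5, 2962, [18067, 18065, 18076, 18032, 18034]⟩)) (.node (.leaf ⟨2, 1678, 1685, 0, 0, 0, 0, 23, 0, 1685, [9881, 9884, 9848]⟩)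 (.leaf ⟨3, 2642, 2642, (-1), 0, (-1), 0, 34, 0, 2642, [15849, 4976, 15848]⟩))) (.node (.node (.leaf ⟨4, 910, 909, 0, 0, 0, 0, 44, 0, 909, [5781, 5787, 5788]⟩) (.leaf ⟨10, 85, 85, 1, 0, 1, 0, 61, 3, 85, [373, 1388, 372]⟩)) (.node (.leaf ⟨4, 603, 793, (-27), 0, 1, 0, 40, 2, 589, [3270, 9257, 13981]⟩) (.leaf ⟨1, 2678, 5059, 0, 0, 0, 0, 93, 0, 0, []⟩)))) (.node (.node (.node (.leaf ⟨2, 657, 657, 1, 0, 1, 0, 28, 0, 657, [3657, 3740, 3656]⟩) (.leaf ⟨4, 3306, 880, 0, 0, 0, 0, 44, 0, 880, [5579, 20124, 19976]⟩)) (.node (.leaf ⟨5, 2017, 2007, 0, 0, 0, 0, 38, 5, 2017, [11921, 11919, 11932, 11866, 11868]⟩) (.leaf ⟨2, 925, 925, 1, 0, 1, 0, 28, 0, 925, [5897, 28316, 5896]⟩))) (.node (.node (.leaf ⟨4, 1331, 1336, 0, 0, 0, 0, 30, 5, 1331, [7797, 7795, 7832, 7834, 7836]⟩) (.leaf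 ⟨11, 4033, 4033, (-1), 0, (-1), 0, 65, 5, 4033, [24121, 24193, 24220, 24192, 24120]⟩)) (.node (.leaf ⟨9, 2678, 2679, 0, 0, 0, 0, 93, 0, 0, []⟩) (.leaf ⟨0, 0, 0, 0, 0, 0, 0, 0, 0, 0, []⟩))))))

def factsPart80 : ATree TFact :=
  .node (.node (.node (.node (.node (.node (.leaf ⟨3, 49, 58, 0, 0, 0, 0, 36, 0, 58, [147, 159, 96]⟩) (.leaf ⟨9, 2735, 2736, 0, 0, 0, 0, 93, 0, 0, []⟩)) (.node (.leaf ⟨7, 1436, 1437, 0, 0, 0, 0, 93, 0, 0, []⟩) (.leaf ⟨5, 4154, 4155, 0, 0, 0, 0, 93, 0, 0, []⟩))) (.node (.node (.leaf ⟨6, 568, 587, 0, 0, 0, 0, 54, 0, 587, [3209, 4115, 3046]⟩) (.leaf ⟨1, 3419, 3429, 0, 0, 0, 0, 15, 0, 3429, [20623, 20639, 20590]⟩)) (.node (.leaf ⟨4, 365, 2147, 0, 0, 0, 0, 43, 2, 364, [1942, 1941, 12440]⟩) (.leaf ⟨10, 4850, 4851, 0, 0, 0, 0, 93, 0, 0, []⟩)))) (.node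 (.node (.node (.leaf ⟨5, 405, 405, (-1), 0, (-1), 0, 47, 0, 405, [2197, 2206, 2196]⟩) (.leaf ⟨0, 3041, 3041, 1, 0, 1, 0, 9, 0, 3041, [18385, 18590, 18384]⟩)) (.node (.leaf ⟨7, 1644, 1635, 60, 0, 20, 0, 51, 3, 1642, [9570, 9572, 10399, 9542, 9544]⟩) (.leaf ⟨0, 433, 433, 1, 0, 1, 0, 6, 0, 433, [2339, 9296, 2338]⟩))) (.node (.node (.leaf ⟨10, 343, 992, 0, 0, 0, 0, 93, 0, 0, []⟩) (.leaf ⟨5, 965, 965, 1, 0, (-1), 0, 45, 0, 965, [6125, 22675, 22686, 22674, 6124]⟩)) (.node (.leaf ⟨1, 1770, 2444, 0, 0, 0, 0, 93, 0, 0, []⟩) (.leaf ⟨8, 5138, 5130, 0, 0, 0, 0, 52, 3, 5138, [30865, 30878, 30824]⟩))))) (.node (.node (.node (.node (.leaf ⟨8, 176, 117, 0, 0, 0, 0, 47, 3, 176, [1183, 1181, 494]⟩) (.leaf ⟨3, 2875, 2859, 0, 0, 0, 0, 31, 0, 2859, [17515, 13143, 17566]⟩)) (.node (.leaf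 ⟨11, 434, 434, 1, 0, (-1), 0, 55, 3, 434, [2341, 9374, 2340]⟩) (.leaf ⟨8, 2452, 4348, 0, 0, 0, 0, 52, 3, 2452, [14647, 25756, 25758]⟩))) (.node (.node (.leaf ⟨8, 492, 825, 0, 0, 0, 0, 93, 0, 0, []⟩) (.leaf ⟨2, 3678, 3555, 0, 0, 0, 0, 25, 2, 3677, [21656, 21655, 21112]⟩)) (.node (.leaf ⟨7, 1589, 1589, (-1), 0, (-1), 0, 40, 3, 1589, [8949, 13470, 8948]⟩) (.leaf ⟨5, 4981, 2355, 17, 0, (-1), 0, 31, 3, 4981, [29803, 29461, 13549]⟩)))) (.node (.node (.node (.leaf ⟨5, 592, 593, 0, 0, 0, 0, 93, 0, 0, []⟩) (.leaf ⟨10, 358, 3238, 0, 0, 0, 0, 93, 0, 0, []⟩)) (.node (.leaf ⟨5, 1943, 1944, 0, 0, 0, 0, 47, 0, 1944, [11421, 11422, 11416]⟩) (.leaf ⟨10, 4653, 4653, 1, 0, 1, 0, 58, 3, 4653, [27613, 27806, 27612]⟩))) (.node (.node (.leaf ⟨8, 1168, 1195, 0, 0, 0, 0, 52, 3, 1168, [7223,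 7324, 7326]⟩) (.leaf ⟨6, 3970, 3970, 1, 0, 1, 0, 45, 5, 3970, [23695, 23708, 23710, 23709, 23694]⟩)) (.node (.leaf ⟨1, 2508, 2508, 1, 0, 1, 0, 17, 0, 2508, [15519, 2750, 15518]⟩) (.leaf ⟨0, 0, 0, 0, 0, 0, 0, 0, 0, 0, []⟩)))))) (.node (.node (.node (.node (.node (.leaf ⟨2, 135, 135, 1, 0, 1, 0, 1, 3, 135, [639, 620, 638]⟩) (.leaf ⟨0, 2776, 390, 0, 0, 0, 0, 9, 0, 390, [2091, 17055, 16834]⟩)) (.node (.leaf ⟨4, 1156, 1570, 0, 0, 0, 0, 93, 0, 0, []⟩) (.leaf ⟨9, 4139, 4119, 0, 0, 0, 0, 53, 3, 4139, [24705, 25246, 24644]⟩))) (.node (.node (.leaf ⟨11, 723, 765, 0, 0, 0, 0, 93, 0, 0, []⟩) (.leaf ⟨7, 3559, 3566, 0, 0, 0, 0, 93, 0, 0, []⟩)) (.node (.leaf ⟨5, 2235, 2236, 0, 0, 0, 0, 93, 0, 0, []⟩) (.leaf ⟨0, 4909, 2708, 0, 0, 0, 0, 9, 2, 4908, [29332, 29331, 16412]⟩)))) (.node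 (.node (.node (.leaf ⟨11, 119, 521, 0, 0, 0, 0, 59, 3, 119, [501, 2716, 2718]⟩) (.leaf ⟨4, 3135, 3138, 0, 0, 0, 0, 39, 0, 3138, [19099, 19103, 19080]⟩)) (.node (.leaf ⟨7, 1292, 1827, (-13), 0, (-21), 0, 40, 3, 1292, [7857, 7773, 10888]⟩) (.leaf ⟨5, 4608, 4609, 0, 0, 0, 0, 93, 0, 0, []⟩))) (.node (.node (.leaf ⟨7, 1083, 1084, 0, 0, 0, 0, 93, 0, 0, []⟩) (.leaf ⟨4, 3891, 3128, 0, 0, 0, 0, 42, 0, 3128, [19031, 23197, 23198]⟩)) (.node (.leaf ⟨6, 2261, 19, 0, 0, 0, 0, 32, 3, 2261, [13061, 15006, 36]⟩) (.leaf ⟨0, 4389, 4389, (-1), 0, (-1), 0, 5, 0, 4389, [26087, 31390, 26086]⟩))))) (.node (.node (.node (.node (.leaf ⟨5, 267, 268, 0, 0, 0, 0, 93, 0, 0, []⟩) (.leaf ⟨5, 2963, 2955, 0, 0, 0, 0, 31, 3, 2963, [18069, 18078, 18036]⟩)) (.node (.leaf ⟨2, 1679, 1686, 0, 0, 0, 0,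 22, 0, 1686, [9883, 9887, 9850]⟩) (.leaf ⟨3, 2643, 2643, 1, 0, 1, 0, 31, 0, 2643, [15851, 26270, 15850]⟩))) (.node (.node (.leaf ⟨11, 843, 911, 0, 0, 0, 0, 93, 0, 0, []⟩) (.leaf ⟨10, 3114, 3114, 1, 0, (-1), 0, 63, 3, 3114, [18867, 22174, 18866]⟩)) (.node (.leaf ⟨4, 396, 396, 1, 0, 1, 0, 40, 0, 396, [2163, 2846, 2162]⟩) (.leaf ⟨10, 5059, 5060, 0, 0, 0, 0, 93, 0, 0, []⟩)))) (.node (.node (.node (.leaf ⟨4, 81, 666, 0, 0, 0, 0, 93, 0, 0, []⟩) (.leaf ⟨6, 3311, 884, 0, 0, 0, 0, 54, 0, 884, [5591, 5563, 20008]⟩)) (.node (.leaf ⟨5, 2018, 2008, 0, 0, 0, 0, 31, 3, 2018, [11923, 11934, 11870]⟩) (.leaf ⟨10, 3133, 3133, (-1), 0, (-1), 0, 63, 3, 3133, [19073, 20290, 19072]⟩))) (.node (.node (.leaf ⟨2, 1336, 1337, 0, 0, 0, 0, 93, 0, 0, []⟩) (.leaf ⟨11, 4035, 4035, (-1), 0, 1, 0,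 59, 3, 4035, [24143, 24222, 24142]⟩)) (.node (.leaf ⟨5, 439, 2678, 0, 0, 0, 0, 23, 3, 439, [2351, 15884, 16028]⟩) (.leaf ⟨0, 0, 0, 0, 0, 0, 0, 0, 0, 0, []⟩))))))

def factsPart81 : ATree TFact :=
  .node (.node (.node (.node (.node (.node (.leaf ⟨3, 50, 59, 0, 0, 0, 0, 33, 0, 59, [149, 161, 98]⟩) (.leaf ⟨10, 2736, 2737, 0, 0, 0, 0, 93, 0, 0, []⟩)) (.node (.leaf ⟨11, 1373, 1437, 0, 0, 0, 0, 59, 3, 1373, [8045, 8350, 8352]⟩) (.leaf ⟨4, 4155, 4156, 0, 0, 0, 0, 93, 0, 0, []⟩))) (.node (.node (.leaf ⟨5, 568, 700, 0, 0, 0, 0, 93, 0, 0, []⟩) (.leaf ⟨1, 3420, 3430, 0, 0, 0, 0, 14, 0, 3430, [20625, 20641, 20592]⟩)) (.node (.leaf ⟨4, 366, 2106, 0, 0, 0, 0, 38, 0, 2106, [12273, 12438, 12447, 12449, 1944]⟩) (.leaf ⟨4, 4838, 4849, 0, 0, 0, 0, 13, 3, 4838, [28767, 13080, 28828]⟩))))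 (.node (.node (.node (.leaf ⟨6, 399, 399, (-1), 0, (-1), 0, 45, 5, 399, [2175, 2198, 2208, 2199, 2174]⟩) (.leaf ⟨2, 402, 402, 1, 0, (-1), 0, 28, 0, 402, [2187, 2148, 2186]⟩)) (.node (.leaf ⟨9, 1642, 1625, 0, 0, 0, 0, 42, 3, 1642, [9569, 7188, 9516]⟩) (.leaf ⟨0, 434, 434, (-1), 0, (-1), 0, 5, 0, 434, [2341, 26784, 2340]⟩))) (.node (.node (.leaf ⟨10, 256, 341, 0, 0, 0, 0, 58, 3, 256, [1625, 1623, 1876]⟩) (.leaf ⟨5, 3798, 3798, (-1), 0, 1, 0, 47, 0, 3798, [22667, 22688, 22666]⟩)) (.node (.leaf ⟨0, 2444, 2445, 0, 0, 0, 0, 93, 0, 0, []⟩) (.leaf ⟨8, 5139, 5131, 0, 0, 0, 0, 41, 3, 5139, [30867, 30880, 30826]⟩))))) (.node (.node (.node (.node (.leaf ⟨4, 176, 177, 0, 0, 0, 0, 93, 0, 0, []⟩) (.leaf ⟨6, 2875, 2876, 0, 0, 0, 0, 93, 0, 0, []⟩)) (.node (.leaf ⟨5, 590, 590, 1,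 0, 1, 0, 38, 5, 590, [3223, 2337, 2848, 2336, 3222]⟩) (.leaf ⟨7, 4348, 4349, 0, 0, 0, 0, 93, 0, 0, []⟩))) (.node (.node (.leaf ⟨10, 822, 825, 0, 0, 0, 0, 61, 3, 822, [5269, 2570, 5280]⟩) (.leaf ⟨2, 3556, 3679, 0, 0, 0, 0, 24, 0, 3679, [21659, 21664, 21114]⟩)) (.node (.leaf ⟨7, 1590, 1590, (-1), 0, 1, 0, 33, 3, 1590, [8951, 13472, 8950]⟩) (.leaf ⟨5, 4980, 2357, 17, 0, 1, 0, 23, 3, 4980, [29801, 29856, 13555]⟩)))) (.node (.node (.node (.leaf ⟨4, 593, 594, 0, 0, 0, 0, 93, 0, 0, []⟩) (.leaf ⟨11, 3238, 3239, 0, 0, 0, 0, 93, 0, 0, []⟩)) (.node (.leaf ⟨6, 1937, 1944, 0, 0, 0, 0, 52, 2, 1936, [11380, 11379, 11420]⟩) (.leaf ⟨10, 4654, 4654, 1, 0, (-1), 0, 54, 3, 4654, [27615, 27808, 27614]⟩))) (.node (.node (.leaf ⟨6, 1192, 1196, 0, 0, 0, 0, 93, 0, 0, []⟩) (.leaf ⟨6, 3971,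 3971, (-1), 0, (-1), 0, 54, 0, 3971, [23697, 23712, 23696]⟩)) (.node (.leaf ⟨1, 2507, 2507, 1, 0, (-1), 0, 13, 2, 2508, [15049, 15520, 15049]⟩) (.leaf ⟨0, 0, 0, 0, 0, 0, 0, 0, 0, 0, []⟩)))))) (.node (.node (.node (.node (.node (.leaf ⟨10, 135, 135, 1, 0, 1, 0, 9, 3, 135, [639, 564, 638]⟩) (.leaf ⟨10, 125, 125, 1, 0, (-1), 0, 58, 3, 125, [519, 1096, 518]⟩)) (.node (.leaf ⟨5, 1553, 1570, 0, 0, 0, 0, 38, 5, 1553, [8759, 8757, 8862, 7122, 8864]⟩) (.leaf ⟨9, 4140, 4233, 0, 0, 0, 0, 48, 3, 4140, [24707, 25248, 25238]⟩))) (.node (.node (.leaf ⟨5, 764, 765, 0, 0, 0, 0, 50, 0, 765, [4769, 4341, 4762]⟩) (.leaf ⟨5, 3565, 3566, 0, 0, 0, 0, 46, 2, 3560, [21148, 21125, 21152]⟩)) (.node (.leaf ⟨1, 1612, 2237, 0, 0, 0, 0, 93, 0, 0, []⟩) (.leaf ⟨7, 4911, 4909, (-61), 0, (-19), 0,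 6, 3, 4911, [29342, 16419, 29345]⟩)))) (.node (.node (.node (.leaf ⟨6, 521, 522, 0, 0, 0, 0, 93, 0, 0, []⟩) (.leaf ⟨5, 3138, 3139, 0, 0, 0, 0, 93, 0, 0, []⟩)) (.node (.leaf ⟨8, 1284, 1815, 0, 0, 0, 0, 26, 3, 1284, [7633, 7246, 10834]⟩) (.leaf ⟨6, 4605, 4609, 0, 0, 0, 0, 45, 5, 4605, [27287, 27285, 27293, 27294, 27296]⟩))) (.node (.node (.leaf ⟨6, 1084, 1085, 0, 0, 0, 0, 93, 0, 0, []⟩) (.leaf ⟨7, 3891, 3892, 0, 0, 0, 0, 93, 0, 0, []⟩)) (.node (.leaf ⟨6, 2279, 20, 0, 0, 0, 0, 53, 0, 20, [39, 15009, 13124]⟩) (.leaf ⟨0, 4390, 4390, 1, 0, 1, 0, 4, 0, 4390, [26089, 31392, 26088]⟩))))) (.node (.node (.node (.node (.leaf ⟨7, 268, 269, 0, 0, 0, 0, 93, 0, 0, []⟩) (.leaf ⟨5, 2964, 2956, 0, 0, 0, 0, 23, 3, 2964, [18071, 18080, 18038]⟩)) (.node (.leaf ⟨4, 1672, 14, 0, 0, 0, 0,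 40, 2, 1671, [9788, 9787, 26]⟩) (.leaf ⟨3, 4435, 4435, (-1), 0, (-1), 0, 36, 0, 4435, [26231, 26272, 26230]⟩))) (.node (.node (.leaf ⟨5, 911, 910, 0, 0, 0, 0, 50, 0, 910, [5789, 5353, 5792]⟩) (.leaf ⟨2, 85, 85, 1, 0, 1, 0, 26, 0, 85, [373, 1376, 372]⟩)) (.node (.leaf ⟨3, 583, 583, (-1), 0, (-1), 0, 32, 0, 583, [3127, 4952, 3126]⟩) (.leaf ⟨8, 2619, 5059, 0, 0, 0, 0, 17, 3, 2619, [15603, 25220, 30366]⟩)))) (.node (.node (.node (.leaf ⟨6, 666, 656, 0, 0, 0, 0, 39, 3, 666, [3745, 336, 3654]⟩) (.leaf ⟨7, 3311, 3328, 0, 0, 0, 0, 93, 0, 0, []⟩)) (.node (.leaf ⟨5, 2019, 2009, 0, 0, 0, 0, 23, 3, 2019, [11925, 11936, 11872]⟩) (.leaf ⟨10, 3134, 3134, (-1), 0, 1, 0, 58, 3, 3134, [19077, 28320, 19076]⟩))) (.node (.node (.leaf ⟨4, 1332, 1337, 0, 0, 0, 0, 22, 3, 1332, [7799, 7838,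 7840]⟩) (.leaf ⟨11, 4036, 4036, (-1), 0, (-1), 0, 55, 3, 4036, [24145, 24224, 24144]⟩)) (.node (.leaf ⟨5, 440, 2679, 0, 0, 0, 0, 48, 0, 2679, [16031, 16033, 2352]⟩) (.leaf ⟨0, 0, 0, 0, 0, 0, 0, 0, 0, 0, []⟩))))))

def factsPart82 : ATree TFact :=
  .node (.node (.node (.node (.node (.node (.leaf ⟨3, 51, 60, 0, 0, 0, 0, 32, 0, 60, [151, 163, 100]⟩) (.leaf ⟨11, 2737, 2738, 0, 0, 0, 0, 93, 0, 0, []⟩)) (.node (.leaf ⟨8, 1437, 1438, 0, 0, 0, 0, 93, 0, 0, []⟩) (.leaf ⟨3, 4156, 4157, 0, 0, 0, 0, 93, 0, 0, []⟩))) (.node (.node (.leaf ⟨10, 559, 701, 0, 0, 0, 0, 93, 0, 0, []⟩) (.leaf ⟨7, 3400, 3431, 0, 0, 0, 0, 93, 0, 0, []⟩)) (.node (.leaf ⟨4, 367, 2107, 0, 0, 0, 0, 39, 0, 2107, [12275, 12451, 1946]⟩) (.leaf ⟨4, 4839, 4850, 0, 0, 0, 0, 42, 0, 4850, [28831, 28835, 28774]⟩))))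 (.node (.node (.node (.leaf ⟨6, 400, 400, 1, 0, 1, 0, 53, 0, 400, [2179, 2210, 2178]⟩) (.leaf ⟨2, 403, 403, 1, 0, 1, 0, 25, 2, 402, [2188, 18594, 2188]⟩)) (.node (.leaf ⟨9, 1643, 1626, 0, 0, 0, 0, 57, 3, 1643, [9571, 10402, 9518]⟩) (.leaf ⟨0, 435, 435, 1, 0, 1, 0, 7, 0, 435, [2343, 26786, 2342]⟩))) (.node (.node (.leaf ⟨10, 342, 257, 0, 0, 0, 0, 54, 3, 342, [1879, 6307, 1626]⟩) (.leaf ⟨10, 3552, 3552, (-1), 0, 1, 0, 49, 5, 3552, [21101, 22671, 22690, 22670, 21100]⟩)) (.node (.leaf ⟨1, 1575, 564, 0, 0, 0, 0, 12, 0, 564, [3029, 3067, 8904]⟩) (.leaf ⟨5, 5137, 5131, (-27), 0, 1, 0, 47, 2, 5133, [30862, 30875, 30882]⟩))))) (.node (.node (.node (.node (.leaf ⟨8, 174, 177, 0, 0, 0, 0, 41, 3, 174, [1141, 1185, 1186]⟩) (.leaf ⟨3, 2876, 2863, 0, 0, 0, 0, 32, 0, 2863, [17527,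 17569, 17570]⟩)) (.node (.leaf ⟨5, 591, 591, (-1), 0, (-1), 0, 46, 0, 591, [3225, 9378, 3224]⟩) (.leaf ⟨8, 789, 4342, 0, 0, 0, 0, 61, 0, 4342, [25743, 25219, 4992]⟩))) (.node (.node (.leaf ⟨9, 825, 826, 0, 0, 0, 0, 93, 0, 0, []⟩) (.leaf ⟨2, 3675, 3680, 0, 0, 0, 0, 23, 0, 3680, [21661, 21667, 21646]⟩)) (.node (.leaf ⟨5, 1586, 1586, (-1), 0, 1, 0, 46, 0, 1586, [8943, 9760, 8942]⟩) (.leaf ⟨11, 1560, 4985, 0, 0, 0, 0, 93, 0, 0, []⟩)))) (.node (.node (.node (.leaf ⟨5, 460, 594, 0, 0, 0, 0, 38, 5, 460, [2421, 2419, 3230, 3232, 3234]⟩) (.leaf ⟨7, 3239, 3240, 0, 0, 0, 0, 93, 0, 0, []⟩)) (.node (.leaf ⟨6, 1942, 1938, 0, 0, 0, 0, 45, 5, 1942, [11415, 11418, 11424, 11427, 11382]⟩) (.leaf ⟨5, 4688, 4688, 1, 0, (-1), 0, 49, 4, 4655, [27800, 27617, 27810, 27616, 27800]⟩))) (.node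 (.node (.leaf ⟨4, 1196, 1197, 0, 0, 0, 0, 93, 0, 0, []⟩) (.leaf ⟨7, 3971, 3973, 0, 0, 0, 0, 93, 0, 0, []⟩)) (.node (.leaf ⟨1, 2502, 2502, 1, 0, 1, 0, 12, 2, 2507, [15105, 15522, 15105]⟩) (.leaf ⟨0, 0, 0, 0, 0, 0, 0, 0, 0, 0, []⟩)))))) (.node (.node (.node (.node (.node (.leaf ⟨7, 135, 135, 1, 0, 1, 0, 6, 3, 135, [639, 348, 638]⟩) (.leaf ⟨10, 2779, 2779, 1, 0, 1, 0, 61, 3, 2779, [16849, 17058, 16848]⟩)) (.node (.leaf ⟨3, 1154, 1412, 0, 0, 0, 0, 21, 5, 1154, [7119, 7117, 4806, 8148, 8150]⟩) (.leaf ⟨9, 4141, 4234, 0, 0, 0, 0, 42, 3, 4141, [24709, 25250, 25240]⟩))) (.node (.node (.leaf ⟨11, 573, 766, 0, 0, 0, 0, 93, 0, 0, []⟩) (.leaf ⟨11, 421, 3557, 0, 0, 0, 0, 59, 3, 421, [2269, 2267, 21118]⟩)) (.node (.leaf ⟨0, 2237, 2238, 0, 0, 0, 0, 93, 0, 0, []⟩) (.leaf ⟨2, 1785,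 2619, 0, 0, 0, 0, 11, 5, 1785, [10667, 8131, 8180, 3242, 15602]⟩)))) (.node (.node (.node (.leaf ⟨11, 120, 522, 0, 0, 0, 0, 55, 3, 120, [503, 2720, 2722]⟩) (.leaf ⟨4, 960, 3140, 0, 0, 0, 0, 93, 0, 0, []⟩)) (.node (.leaf ⟨8, 1292, 1816, 0, 0, 0, 0, 17, 3, 1292, [7683, 10914, 10836]⟩) (.leaf ⟨2, 4602, 466, 0, 0, 0, 0, 29, 0, 466, [2433, 24906, 27280]⟩))) (.node (.node (.leaf ⟨8, 1085, 1086, 0, 0, 0, 0, 93, 0, 0, []⟩) (.leaf ⟨4, 3892, 3129, 0, 0, 0, 0, 40, 0, 3129, [19037, 23201, 23202]⟩)) (.node (.leaf ⟨6, 2280, 21, 0, 0, 0, 0, 54, 0, 21, [41, 15011, 13128]⟩) (.leaf ⟨1, 1005, 2130, 0, 0, 0, 0, 19, 0, 2130, [12347, 17743, 6362]⟩))))) (.node (.node (.node (.node (.leaf ⟨6, 269, 270, 0, 0, 0, 0, 93, 0, 0, []⟩) (.leaf ⟨6, 2841, 2965, 0, 0, 0, 0, 93, 0, 0, []⟩)) (.node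 (.leaf ⟨4, 15, 1673, 0, 0, 0, 0, 39, 0, 1673, [9791, 9890, 28]⟩) (.leaf ⟨3, 4436, 4436, 1, 0, 1, 0, 37, 0, 4436, [26233, 26274, 26232]⟩))) (.node (.node (.leaf ⟨7, 840, 912, 0, 0, 0, 0, 93, 0, 0, []⟩) (.leaf ⟨2, 3114, 3114, (-1), 0, (-1), 0, 27, 0, 3114, [18867, 22178, 18866]⟩)) (.node (.leaf ⟨11, 102, 610, 0, 0, 0, 0, 55, 3, 102, [437, 9174, 3310]⟩) (.leaf ⟨8, 2620, 5060, 0, 0, 0, 0, 61, 0, 5060, [30369, 30371, 15606]⟩)))) (.node (.node (.node (.leaf ⟨7, 666, 666, 1, 0, 1, 0, 40, 3, 666, [3745, 360, 3744]⟩) (.leaf ⟨5, 3311, 3311, 1, 0, 1, 0, 49, 0, 3311, [20009, 5507, 5532, 5506, 20008]⟩)) (.node (.leaf ⟨5, 2020, 2010, 0, 0, 0, 0, 14, 3, 2020, [11927, 11938, 11874]⟩) (.leaf ⟨10, 3135, 3135, (-1), 0, (-1), 0, 54, 3, 3135, [19081, 28322, 19080]⟩))) (.node (.node (.leaf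 ⟨1, 1337, 1338, 0, 0, 0, 0, 93, 0, 0, []⟩) (.leaf ⟨11, 4037, 4037, (-1), 0, 1, 0, 50, 3, 4037, [24149, 24226, 24148]⟩)) (.node (.leaf ⟨10, 2679, 2680, 0, 0, 0, 0, 93, 0, 0, []⟩) (.leaf ⟨0, 0, 0, 0, 0, 0, 0, 0, 0, 0, []⟩))))))

def factsPart83 : ATree TFact :=
  .node (.node (.node (.node (.node (.node (.leaf ⟨3, 52, 61, 0, 0, 0, 0, 31, 0, 61, [153, 165, 102]⟩) (.leaf ⟨7, 2738, 2739, 0, 0, 0, 0, 93, 0, 0, []⟩)) (.node (.leaf ⟨11, 1374, 1438, 0, 0, 0, 0, 62, 3, 1374, [8047, 8354, 8356]⟩) (.leaf ⟨10, 4157, 4158, 0, 0, 0, 0, 93, 0, 0, []⟩))) (.node (.node (.leaf ⟨4, 701, 568, 0, 0, 0, 0, 43, 0, 568, [3047, 3039, 4260]⟩) (.leaf ⟨10, 3402, 3431, 0, 0, 0, 0, 58, 3, 3402, [20531, 20529, 20644]⟩)) (.node (.leaf ⟨4, 368, 2145, 0, 0, 0, 0, 40, 0, 2145, [12435, 12453, 1948]⟩)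 (.leaf ⟨4, 4840, 4851, 0, 0, 0, 0, 43, 0, 4851, [28833, 28837, 28778]⟩)))) (.node (.node (.node (.leaf ⟨6, 401, 401, (-1), 0, (-1), 0, 54, 0, 401, [2183, 2212, 2182]⟩) (.leaf ⟨2, 404, 404, 1, 0, (-1), 0, 24, 2, 403, [2192, 18596, 2192]⟩)) (.node (.leaf ⟨9, 1644, 1627, 0, 0, 0, 0, 53, 3, 1644, [9573, 10404, 9520]⟩) (.leaf ⟨0, 436, 436, (-1), 0, (-1), 0, 4, 0, 436, [2345, 26788, 2344]⟩))) (.node (.node (.leaf ⟨5, 992, 991, 0, 0, 0, 0, 49, 4, 343, [6304, 1881, 6308, 1736, 6300]⟩) (.leaf ⟨10, 3553, 3553, (-1), 0, (-1), 0, 43, 3, 3553, [21105, 22692, 21104]⟩)) (.node (.leaf ⟨2, 2444, 2440, 0, 0, 0, 0, 11, 5, 2444, [14497, 10559, 14500, 3030, 14474]⟩) (.leaf ⟨0, 2898, 5140, 0, 0, 0, 0, 93, 0, 0, []⟩))))) (.node (.node (.node (.node (.leaf ⟨8, 164, 165, 0, 0, 0, 0, 47,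 3, 164, [925, 923, 926]⟩) (.leaf ⟨11, 2313, 2877, 0, 0, 0, 0, 93, 0, 0, []⟩)) (.node (.leaf ⟨6, 593, 593, (-1), 0, (-1), 0, 45, 5, 593, [3233, 3227, 9380, 3226, 3232]⟩) (.leaf ⟨8, 791, 4343, 0, 0, 0, 0, 47, 3, 791, [5019, 25764, 25744]⟩))) (.node (.node (.leaf ⟨10, 823, 826, 0, 0, 0, 0, 63, 3, 823, [5273, 5282, 5284]⟩) (.leaf ⟨2, 3676, 3681, 0, 0, 0, 0, 22, 0, 3681, [21663, 21669, 21648]⟩)) (.node (.leaf ⟨6, 1588, 1588, (-1), 0, 1, 0, 45, 5, 1588, [8947, 8945, 13476, 8944, 8946]⟩) (.leaf ⟨4, 4985, 4980, 0, 0, 0, 0, 44, 0, 4980, [29797, 13593, 29860]⟩)))) (.node (.node (.node (.leaf ⟨3, 594, 595, 0, 0, 0, 0, 93, 0, 0, []⟩) (.leaf ⟨6, 3240, 3241, 0, 0, 0, 0, 93, 0, 0, []⟩)) (.node (.leaf ⟨7, 442, 1945, 0, 0, 0, 0, 93, 0, 0, []⟩) (.leaf ⟨4, 4687, 4687, (-1), 0, (-1),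 0, 38, 0, 4687, [27797, 27802, 27812, 27803, 27796]⟩))) (.node (.node (.leaf ⟨6, 1197, 1193, 0, 0, 0, 0, 39, 3, 1197, [7333, 7331, 7318]⟩) (.leaf ⟨7, 3970, 3974, 0, 0, 0, 0, 93, 0, 0, []⟩)) (.node (.leaf ⟨1, 2501, 2501, 1, 0, (-1), 0, 18, 2, 2502, [15031, 15524, 15031]⟩) (.leaf ⟨0, 0, 0, 0, 0, 0, 0, 0, 0, 0, []⟩)))))) (.node (.node (.node (.node (.node (.leaf ⟨6, 135, 135, 1, 0, 1, 0, 5, 3, 135, [639, 536, 638]⟩) (.leaf ⟨10, 2801, 2801, 1, 0, (-1), 0, 63, 3, 2801, [17031, 17060, 17030]⟩)) (.node (.leaf ⟨3, 1155, 1413, 0, 0, 0, 0, 36, 0, 1413, [8153, 8869, 7120]⟩) (.leaf ⟨9, 4142, 4235, 0, 0, 0, 0, 63, 0, 4235, [25243, 25253, 24710]⟩))) (.node (.node (.leaf ⟨4, 765, 766, 0, 0, 0, 0, 44, 0, 766, [4773, 4332, 4768]⟩) (.leaf ⟨11, 3558, 3044, 0, 0, 0, 0, 55, 3, 3558,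 [21121, 21157, 18394]⟩)) (.node (.leaf ⟨10, 2238, 2239, 0, 0, 0, 0, 93, 0, 0, []⟩) (.leaf ⟨2, 1786, 4910, 0, 0, 0, 0, 1, 3, 1786, [10671, 29348, 29338]⟩)))) (.node (.node (.node (.leaf ⟨5, 522, 523, 0, 0, 0, 0, 93, 0, 0, []⟩) (.leaf ⟨9, 3140, 3141, 0, 0, 0, 0, 93, 0, 0, []⟩)) (.node (.leaf ⟨8, 1833, 1817, 13, 0, (-21), 0, 56, 3, 1827, [10908, 10910, 10913, 10916, 10838]⟩) (.leaf ⟨2, 4603, 1966, 0, 0, 0, 0, 25, 0, 1966, [11517, 27301, 27282]⟩))) (.node (.node (.leaf ⟨5, 1086, 1087, 0, 0, 0, 0, 93, 0, 0, []⟩) (.leaf ⟨8, 3892, 3893, 0, 0, 0, 0, 93, 0, 0, []⟩)) (.node (.leaf ⟨6, 2281, 2492, 0, 0, 0, 0, 55, 0, 2492, [14991, 15013, 13132]⟩) (.leaf ⟨1, 2391, 2673, 0, 0, 0, 0, 14, 0, 2673, [15989, 31397, 13814]⟩))))) (.node (.node (.node (.node (.leaf ⟨8, 270, 271, 0, 0,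 0, 0, 93, 0, 0, []⟩) (.leaf ⟨10, 2959, 2841, 0, 0, 0, 0, 58, 3, 2959, [18061, 18059, 17412]⟩)) (.node (.leaf ⟨5, 756, 1675, 0, 0, 0, 0, 38, 5, 756, [4739, 4737, 9892, 9792, 9794]⟩) (.leaf ⟨3, 4437, 4437, (-1), 0, (-1), 0, 33, 0, 4437, [26235, 26276, 26234]⟩))) (.node (.node (.leaf ⟨8, 535, 913, 0, 0, 0, 0, 93, 0, 0, []⟩) (.leaf ⟨3, 3121, 3114, 0, 0, 0, 0, 35, 0, 3114, [18867, 817, 18930]⟩)) (.node (.leaf ⟨11, 664, 611, 0, 0, 0, 0, 50, 3, 664, [3683, 13988, 3312]⟩) (.leaf ⟨7, 5060, 5061, 0, 0, 0, 0, 93, 0, 0, []⟩)))) (.node (.node (.node (.leaf ⟨6, 661, 661, (-1), 0, 1, 0, 51, 0, 661, [3673, 3747, 3748, 3746, 3672]⟩) (.leaf ⟨5, 3328, 3328, (-1), 0, (-1), 0, 46, 0, 3328, [20131, 20132, 20130]⟩)) (.node (.leaf ⟨5, 1471, 2021, 0, 0, 0, 0, 93, 0, 0, []⟩) (.leaf ⟨6, 3133,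 3133, (-1), 0, (-1), 0, 53, 0, 3133, [19073, 24874, 19072]⟩))) (.node (.node (.leaf ⟨4, 1333, 1338, 0, 0, 0, 0, 13, 3, 1333, [7817, 7842, 7844]⟩) (.leaf ⟨5, 3807, 4043, 0, 0, 0, 0, 93, 0, 0, []⟩)) (.node (.leaf ⟨5, 2680, 2681, 0, 0, 0, 0, 93, 0, 0, []⟩) (.leaf ⟨0, 0, 0, 0, 0, 0, 0, 0, 0, 0, []⟩))))))

def factsPart84 : ATree TFact :=
  .node (.node (.node (.node (.node (.node (.leaf ⟨4, 57, 62, 0, 0, 0, 0, 93, 0, 0, []⟩) (.leaf ⟨6, 2739, 2740, 0, 0, 0, 0, 93, 0, 0, []⟩)) (.node (.leaf ⟨3, 1357, 1438, (-17), 0, (-9), 0, 37, 2, 1259, [8010, 8333, 8358]⟩) (.leaf ⟨7, 2678, 4159, 0, 0, 0, 0, 93, 0, 0, []⟩))) (.node (.node (.leaf ⟨5, 701, 701, (-1), 0, (-1), 0, 49, 0, 701, [4261, 3173, 3146, 3172, 4260]⟩) (.leaf ⟨7, 3399, 3432, 0, 0, 0, 0, 93, 0, 0, []⟩)) (.node (.leaf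 ⟨3, 2112, 774, 0, 0, 0, 0, 35, 2, 2111, [12294, 12293, 4848]⟩) (.leaf ⟨1, 1984, 4852, 0, 0, 0, 0, 93, 0, 0, []⟩)))) (.node (.node (.node (.leaf ⟨6, 402, 402, 1, 0, 1, 0, 55, 0, 402, [2185, 2214, 2184]⟩) (.leaf ⟨2, 3040, 3040, 1, 0, 1, 0, 23, 2, 404, [18382, 18598, 18382]⟩)) (.node (.leaf ⟨7, 1641, 1627, (-60), 0, (-20), 0, 57, 2, 1635, [9566, 10401, 10406]⟩) (.leaf ⟨0, 437, 437, 1, 0, 1, 0, 3, 0, 437, [2347, 26790, 2346]⟩))) (.node (.node (.leaf ⟨4, 345, 992, 0, 0, 0, 0, 43, 2, 344, [1884, 1883, 6304]⟩) (.leaf ⟨10, 3554, 3554, (-1), 0, 1, 0, 36, 3, 3554, [21109, 22694, 21108]⟩)) (.node (.leaf ⟨2, 2445, 2441, 0, 0, 0, 0, 1, 3, 2445, [14499, 14502, 14478]⟩) (.leaf ⟨10, 5140, 5141, 0, 0, 0, 0, 93, 0, 0, []⟩))))) (.node (.node (.node (.node (.leaf ⟨10, 177, 164, (-1),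 0, 5, 0, 61, 1, 165, [1179, 1188, 1191]⟩) (.leaf ⟨10, 273, 2878, 0, 0, 0, 0, 93, 0, 0, []⟩)) (.node (.leaf ⟨6, 594, 594, (-1), 0, 1, 0, 39, 3, 594, [3235, 9382, 3234]⟩) (.leaf ⟨8, 2454, 4344, 0, 0, 0, 0, 52, 3, 2454, [14657, 25766, 25746]⟩))) (.node (.node (.leaf ⟨7, 826, 827, 0, 0, 0, 0, 93, 0, 0, []⟩) (.leaf ⟨5, 3639, 3682, 0, 0, 0, 0, 93, 0, 0, []⟩)) (.node (.leaf ⟨6, 1589, 1589, (-1), 0, (-1), 0, 39, 3, 1589, [8949, 13478, 8948]⟩) (.leaf ⟨2, 1557, 1557, 1, 0, (-1), 0, 22, 0, 1557, [8775, 14612, 8774]⟩)))) (.node (.node (.node (.leaf ⟨5, 461, 595, 0, 0, 0, 0, 31, 3, 461, [2423, 3236, 3238]⟩) (.leaf ⟨5, 3241, 3242, 0, 0, 0, 0, 93, 0, 0, []⟩)) (.node (.leaf ⟨6, 1945, 1946, 0, 0, 0, 0, 93, 0, 0, []⟩) (.leaf ⟨5, 4653, 4299, 0, 0, 0, 0, 46, 0, 4299, [25491, 25517,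 27612]⟩))) (.node (.node (.leaf ⟨7, 1197, 1198, 0, 0, 0, 0, 93, 0, 0, []⟩) (.leaf ⟨10, 3973, 3974, 0, 0, 0, 0, 58, 3, 3973, [23717, 23697, 23718]⟩)) (.node (.leaf ⟨2, 2597, 2597, 1, 0, (-1), 0, 11, 5, 2597, [15511, 15515, 15526, 15514, 15510]⟩) (.leaf ⟨0, 0, 0, 0, 0, 0, 0, 0, 0, 0, []⟩)))))) (.node (.node (.node (.node (.node (.leaf ⟨5, 135, 135, 1, 0, 1, 0, 4, 3, 135, [639, 586, 638]⟩) (.leaf ⟨8, 161, 2802, 0, 0, 0, 0, 93, 0, 0, []⟩)) (.node (.leaf ⟨3, 1156, 1414, 0, 0, 0, 0, 31, 0, 1414, [8155, 8871, 7122]⟩) (.leaf ⟨5, 4235, 4236, 0, 0, 0, 0, 93, 0, 0, []⟩))) (.node (.node (.leaf ⟨5, 713, 766, (-21), 0, 1, 0, 38, 5, 713, [4346, 4325, 4766, 4770, 4774]⟩) (.leaf ⟨8, 3044, 3567, 0, 0, 0, 0, 93, 0, 0, []⟩)) (.node (.leaf ⟨8, 2237, 2217, 0, 0, 0, 0, 17, 3, 2237, [12963,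 10938, 12914]⟩) (.leaf ⟨2, 1787, 4911, 0, 0, 0, 0, 28, 0, 4911, [29341, 29351, 10674]⟩)))) (.node (.node (.node (.leaf ⟨11, 121, 523, 0, 0, 0, 0, 50, 3, 121, [505, 2724, 2726]⟩) (.leaf ⟨7, 3141, 3142, 0, 0, 0, 0, 93, 0, 0, []⟩)) (.node (.leaf ⟨10, 253, 1834, 0, 0, 0, 0, 93, 0, 0, []⟩) (.leaf ⟨2, 4604, 2077, 0, 0, 0, 0, 24, 0, 2077, [12155, 27303, 27284]⟩))) (.node (.node (.leaf ⟨4, 1087, 1088, 0, 0, 0, 0, 93, 0, 0, []⟩) (.leaf ⟨4, 3893, 3890, 0, 0, 0, 0, 41, 0, 3890, [23193, 23205, 23206]⟩)) (.node (.leaf ⟨8, 514, 2496, 0, 0, 0, 0, 93, 0, 0, []⟩) (.leaf ⟨1, 2392, 2674, 0, 0, 0, 0, 15, 0, 2674, [15991, 31399, 13816]⟩))))) (.node (.node (.node (.node (.leaf ⟨5, 271, 272, 0, 0, 0, 0, 93, 0, 0, []⟩) (.leaf ⟨10, 2965, 2960, 0, 0, 0, 0, 54, 3, 2965, [18085, 18087, 18062]⟩))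 (.node (.leaf ⟨5, 1153, 1676, 0, 0, 0, 0, 31, 3, 1153, [7117, 9894, 9796]⟩) (.leaf ⟨3, 4438, 4438, 1, 0, 1, 0, 32, 0, 4438, [26237, 26278, 26236]⟩))) (.node (.node (.leaf ⟨6, 839, 913, 0, 0, 0, 0, 52, 2, 651, [5336, 3617, 5798]⟩) (.leaf ⟨2, 3745, 817, 0, 0, 0, 0, 25, 0, 817, [5221, 22049, 22144]⟩)) (.node (.leaf ⟨3, 641, 641, (-1), 0, (-1), 0, 32, 0, 641, [3545, 9372, 3544]⟩) (.leaf ⟨8, 1750, 5045, 0, 0, 0, 0, 17, 3, 1750, [10313, 15926, 30314]⟩)))) (.node (.node (.node (.leaf ⟨4, 662, 662, 1, 0, 1, 0, 38, 4, 656, [3676, 3655, 1384, 3654, 3676]⟩) (.leaf ⟨7, 863, 3329, 0, 0, 0, 0, 93, 0, 0, []⟩)) (.node (.leaf ⟨7, 2021, 2022, 0, 0, 0, 0, 93, 0, 0, []⟩) (.leaf ⟨7, 3135, 3135, (-1), 0, (-1), 0, 51, 5, 3135, [19081, 19077, 28326, 19076, 19080]⟩))) (.node (.node (.leaf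 ⟨2, 1334, 1169, 0, 0, 0, 0, 23, 0, 1169, [7229, 115, 7820]⟩) (.leaf ⟨7, 4043, 4044, 0, 0, 0, 0, 93, 0, 0, []⟩)) (.node (.leaf ⟨10, 2660, 2681, 0, 0, 0, 0, 49, 5, 2660, [15939, 2355, 16034, 16036, 16038]⟩) (.leaf ⟨0, 0, 0, 0, 0, 0, 0, 0, 0, 0, []⟩))))))

def factsPart85 : ATree TFact :=
  .node (.node (.node (.node (.node (.node (.leaf ⟨10, 62, 63, 0, 0, 0, 0, 93, 0, 0, []⟩) (.leaf ⟨5, 2740, 2741, 0, 0, 0, 0, 93, 0, 0, []⟩)) (.node (.leaf ⟨7, 1360, 1439, 0, 0, 0, 0, 93, 0, 0, []⟩) (.leaf ⟨6, 4159, 4160, 0, 0, 0, 0, 93, 0, 0, []⟩))) (.node (.node (.leaf ⟨4, 700, 700, 1, 0, (-1), 0, 38, 0, 700, [4259, 4263, 4264, 4262, 4258]⟩) (.leaf ⟨5, 3431, 3432, 0, 0, 0, 0, 46, 2, 3400, [20644, 20527, 20648]⟩)) (.node (.leaf ⟨3, 775, 2113, 0, 0, 0, 0, 36, 0, 2113, [12297, 12456,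 4850]⟩) (.leaf ⟨9, 4852, 4853, 0, 0, 0, 0, 93, 0, 0, []⟩)))) (.node (.node (.node (.leaf ⟨7, 404, 404, 1, 0, 1, 0, 51, 5, 404, [2193, 2189, 2216, 2188, 2192]⟩) (.leaf ⟨2, 3041, 3041, 1, 0, (-1), 0, 28, 2, 3040, [18384, 18600, 18384]⟩)) (.node (.leaf ⟨8, 1641, 1757, 0, 0, 0, 0, 93, 0, 0, []⟩) (.leaf ⟨0, 438, 438, (-1), 0, (-1), 0, 2, 0, 438, [2349, 26792, 2348]⟩))) (.node (.node (.leaf ⟨4, 346, 291, 0, 0, 0, 0, 38, 0, 291, [1743, 6302, 6311, 6313, 1886]⟩) (.leaf ⟨10, 3677, 3677, (-1), 0, (-1), 0, 28, 3, 3677, [21655, 22696, 21654]⟩)) (.node (.leaf ⟨10, 2445, 2446, 0, 0, 0, 0, 93, 0, 0, []⟩) (.leaf ⟨9, 5140, 5134, 0, 0, 0, 0, 8, 3, 5140, [30887, 17693, 30840]⟩))))) (.node (.node (.node (.node (.leaf ⟨2, 157, 163, 0, 0, 0, 0, 26, 0, 163, [923, 1119, 910]⟩) (.leaf ⟨9,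 2313, 2878, 0, 0, 0, 0, 63, 2, 2312, [13286, 13283, 17576]⟩)) (.node (.leaf ⟨6, 595, 595, (-1), 0, (-1), 0, 32, 3, 595, [3239, 9384, 3238]⟩) (.leaf ⟨8, 4349, 4345, 4, 0, 10, 0, 56, 3, 2452, [25760, 25762, 14667, 25768, 25748]⟩))) (.node (.node (.leaf ⟨10, 824, 827, 0, 0, 0, 0, 58, 3, 824, [5277, 5286, 5288]⟩) (.leaf ⟨7, 3682, 3683, 0, 0, 0, 0, 93, 0, 0, []⟩)) (.node (.leaf ⟨6, 1590, 1590, (-1), 0, 1, 0, 32, 3, 1590, [8951, 13480, 8950]⟩) (.leaf ⟨3, 1559, 1559, 1, 0, (-1), 0, 21, 5, 1559, [8779, 8777, 29864, 8776, 8778]⟩)))) (.node (.node (.node (.leaf ⟨2, 595, 596, 0, 0, 0, 0, 93, 0, 0, []⟩) (.leaf ⟨5, 3239, 3243, 0, 0, 0, 0, 93, 0, 0, []⟩)) (.node (.leaf ⟨8, 1946, 1947, 0, 0, 0, 0, 93, 0, 0, []⟩) (.leaf ⟨6, 4655, 4301, 0, 0, 0, 0, 45, 5, 4655, [27617, 27615, 27816,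 25492, 25494]⟩))) (.node (.node (.leaf ⟨6, 1198, 1199, 0, 0, 0, 0, 93, 0, 0, []⟩) (.leaf ⟨7, 3969, 3975, 0, 0, 0, 0, 93, 0, 0, []⟩)) (.node (.leaf ⟨0, 2595, 2597, 0, 0, 0, 0, 9, 2, 2593, [15496, 15477, 15502]⟩) (.leaf ⟨0, 0, 0, 0, 0, 0, 0, 0, 0, 0, []⟩)))))) (.node (.node (.node (.node (.node (.leaf ⟨3, 132, 132, 1, 0, (-1), 0, 2, 3, 132, [555, 604, 554]⟩) (.leaf ⟨9, 2802, 2803, 0, 0, 0, 0, 93, 0, 0, []⟩)) (.node (.leaf ⟨5, 1416, 1571, 0, 0, 0, 0, 93, 0, 0, []⟩) (.leaf ⟨9, 4143, 4236, 0, 0, 0, 0, 48, 3, 4143, [24713, 25254, 25256]⟩))) (.node (.node (.leaf ⟨4, 504, 767, 0, 0, 0, 0, 93, 0, 0, []⟩) (.leaf ⟨11, 3559, 3567, 0, 0, 0, 0, 62, 3, 3559, [21123, 21158, 21160]⟩)) (.node (.leaf ⟨8, 2238, 2232, 0, 0, 0, 0, 7, 3, 2238, [12965, 12968, 12952]⟩) (.leaf ⟨7, 1647, 1787,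 61, 0, 19, 0, 25, 3, 1647, [29336, 29347, 29353]⟩)))) (.node (.node (.node (.leaf ⟨10, 523, 524, 0, 0, 0, 0, 93, 0, 0, []⟩) (.leaf ⟨4, 2721, 959, 0, 0, 0, 0, 41, 0, 959, [6103, 3169, 16482]⟩)) (.node (.leaf ⟨7, 1834, 1835, 0, 0, 0, 0, 93, 0, 0, []⟩) (.leaf ⟨2, 4605, 2078, 0, 0, 0, 0, 23, 0, 2078, [12157, 27305, 27286]⟩))) (.node (.node (.leaf ⟨10, 1088, 1089, 0, 0, 0, 0, 93, 0, 0, []⟩) (.leaf ⟨3, 3355, 3355, 1, 0, 1, 0, 34, 0, 3355, [20285, 13986, 20284]⟩)) (.node (.leaf ⟨5, 2496, 2497, 0, 0, 0, 0, 93, 0, 0, []⟩) (.leaf ⟨7, 2392, 5192, 0, 0, 0, 0, 93, 0, 0, []⟩))))) (.node (.node (.node (.node (.leaf ⟨4, 272, 273, 0, 0, 0, 0, 93, 0, 0, []⟩) (.leaf ⟨9, 209, 2966, 0, 0, 0, 0, 93, 0, 0, []⟩)) (.node (.leaf ⟨5, 1154, 1683, 0, 0, 0, 0, 23, 3, 1154, [7119, 9896, 9876]⟩)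 (.leaf ⟨3, 4439, 4439, (-1), 0, (-1), 0, 31, 0, 4439, [26239, 26280, 26238]⟩))) (.node (.node (.leaf ⟨9, 913, 914, 0, 0, 0, 0, 93, 0, 0, []⟩) (.leaf ⟨4, 3735, 3735, (-1), 0, (-1), 0, 40, 0, 3735, [22017, 22054, 22016]⟩)) (.node (.leaf ⟨11, 684, 2413, 0, 0, 0, 0, 93, 0, 0, []⟩) (.leaf ⟨8, 2708, 5057, 0, 0, 0, 0, 61, 0, 5057, [30359, 30377, 16412]⟩)))) (.node (.node (.node (.leaf ⟨4, 663, 663, (-1), 0, (-1), 0, 40, 0, 663, [3679, 3752, 3678]⟩) (.leaf ⟨10, 3328, 3329, 0, 0, 0, 0, 58, 3, 3328, [20131, 20009, 20136]⟩)) (.node (.leaf ⟨6, 2022, 2023, 0, 0, 0, 0, 93, 0, 0, []⟩) (.leaf ⟨4, 4002, 3130, 0, 0, 0, 0, 42, 0, 3130, [19041, 19115, 23870]⟩))) (.node (.node (.leaf ⟨2, 1335, 1170, 0, 0, 0, 0, 22, 0, 1170, [7231, 7849, 7834]⟩) (.leaf ⟨5, 4030, 4045, 0, 0, 0, 0, 93,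 0, 0, []⟩)) (.node (.leaf ⟨6, 2681, 2682, 0, 0, 0, 0, 93, 0, 0, []⟩) (.leaf ⟨0, 0, 0, 0, 0, 0, 0, 0, 0, 0, []⟩))))))

def factsPart86 : ATree TFact :=
  .node (.node (.node (.node (.node (.node (.leaf ⟨7, 63, 64, 0, 0, 0, 0, 93, 0, 0, []⟩) (.leaf ⟨4, 2741, 2742, 0, 0, 0, 0, 93, 0, 0, []⟩)) (.node (.leaf ⟨6, 1439, 1440, 0, 0, 0, 0, 93, 0, 0, []⟩) (.leaf ⟨5, 4160, 4161, 0, 0, 0, 0, 93, 0, 0, []⟩))) (.node (.node (.leaf ⟨5, 567, 702, 0, 0, 0, 0, 93, 0, 0, []⟩) (.leaf ⟨7, 2712, 3433, 0, 0, 0, 0, 93, 0, 0, []⟩)) (.node (.leaf ⟨3, 776, 2114, 0, 0, 0, 0, 31, 0, 2114, [12299, 12459, 4852]⟩) (.leaf ⟨10, 4853, 4854, 0, 0, 0, 0, 93, 0, 0, []⟩)))) (.node (.node (.node (.leaf ⟨10, 395, 406, 0, 0, 0, 0, 93, 0, 0, []⟩) (.leaf ⟨9, 846, 3076, 0, 0, 0, 0, 93, 0, 0, []⟩)) (.node (.leaf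 ⟨7, 1757, 1758, 0, 0, 0, 0, 93, 0, 0, []⟩) (.leaf ⟨0, 981, 981, 1, 0, 1, 0, 8, 0, 981, [6215, 26794, 6214]⟩))) (.node (.node (.leaf ⟨4, 347, 303, 0, 0, 0, 0, 39, 0, 303, [1785, 6315, 1888]⟩) (.leaf ⟨0, 3698, 3698, (-1), 0, (-1), 0, 7, 0, 3698, [21731, 5130, 21730]⟩)) (.node (.leaf ⟨7, 1770, 1770, (-1), 0, (-1), 0, 25, 3, 1770, [10559, 14354, 10558]⟩) (.leaf ⟨9, 5135, 5141, 0, 0, 0, 0, 63, 0, 5141, [30889, 30890, 30842]⟩))))) (.node (.node (.node (.node (.leaf ⟨2, 158, 164, 0, 0, 0, 0, 23, 0, 164, [925, 1195, 912]⟩) (.leaf ⟨11, 2878, 2879, 0, 0, 0, 0, 93, 0, 0, []⟩)) (.node (.leaf ⟨7, 644, 595, (-9), 0, (-25), 0, 68, 32, 446, [9170, 2838, 4132, 2387, 2385, 2337, 2606, 2798, 2802, 9172, 2797, 1913, 3132, 3138, 3135, 4952, 3327, 4950, 9175, 2030, 2010, 433, 3370, 2008,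 448, 3712, 3382, 2160, 2220, 2336, 2338, 2340, 2418, 2617, 4140, 4146, 9182, 4220, 4598, 9184, 9192, 9198, 9203, 9206, 9210, 9239, 9240, 9235, 9242, 9244, 3216, 9246, 9257, 9251, 9249, 4119, 8880, 4132, 9367, 9372, 3542, 3498, 3528, 3502, 3504, 9226, 9225, 5386, 3349, 3320, 3302, 3290, 5052, 3273, 3286, 2767, 2810, 2816, 2818, 4134, 2825, 2419, 3202, 9376, 2418, 2420, 2422, 3240, 9386]⟩) (.leaf ⟨10, 2678, 4350, 0, 0, 0, 0, 93, 0, 0, []⟩))) (.node (.node (.leaf ⟨5, 825, 828, 0, 0, 0, 0, 93, 0, 0, []⟩) (.leaf ⟨6, 3683, 3684, 0, 0, 0, 0, 93, 0, 0, []⟩)) (.node (.leaf ⟨7, 575, 575, 1, 0, (-1), 0, 58, 0, 575, [3075, 10496, 3074]⟩) (.leaf ⟨3, 1560, 1560, (-1), 0, 1, 0, 36, 0, 1560, [8791, 29866, 8790]⟩)))) (.node (.node (.node (.leaf ⟨5, 462, 596, 0, 0, 0, 0, 23, 3, 462,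 [2425, 3240, 3242]⟩) (.leaf ⟨7, 3243, 3244, 0, 0, 0, 0, 93, 0, 0, []⟩)) (.node (.leaf ⟨5, 1947, 1948, 0, 0, 0, 0, 93, 0, 0, []⟩) (.leaf ⟨6, 4656, 4302, 0, 0, 0, 0, 39, 3, 4656, [27619, 27818, 25496]⟩))) (.node (.node (.leaf ⟨7, 1195, 1199, 0, 0, 0, 0, 51, 5, 1195, [7327, 7323, 7335, 7336, 7338]⟩) (.leaf ⟨5, 3974, 3975, 0, 0, 0, 0, 46, 2, 3970, [23718, 23695, 23722]⟩)) (.node (.leaf ⟨2, 2595, 2595, (-1), 0, 1, 0, 1, 1, 2597, [15528, 15531, 15531]⟩) (.leaf ⟨0, 0, 0, 0, 0, 0, 0, 0, 0, 0, []⟩)))))) (.node (.node (.node (.node (.node (.leaf ⟨2, 132, 132, (-1), 0, (-1), 0, 1, 3, 132, [555, 622, 554]⟩) (.leaf ⟨2, 2779, 2802, 0, 0, 0, 0, 26, 0, 2802, [17065, 1116, 16848]⟩)) (.node (.leaf ⟨2, 1571, 1414, 0, 0, 0, 0, 23, 0, 1414, [8155, 8186, 8874]⟩) (.leaf ⟨6, 4236, 4237,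 0, 0, 0, 0, 93, 0, 0, []⟩))) (.node (.node (.leaf ⟨10, 767, 768, 0, 0, 0, 0, 93, 0, 0, []⟩) (.leaf ⟨7, 3567, 3568, 0, 0, 0, 0, 93, 0, 0, []⟩)) (.node (.leaf ⟨8, 2239, 2233, 0, 0, 0, 0, 61, 0, 2233, [12955, 12971, 12966]⟩) (.leaf ⟨3, 1750, 1750, (-1), 0, 1, 0, 12, 3, 1750, [10313, 14106, 10312]⟩)))) (.node (.node (.node (.leaf ⟨11, 519, 524, 17, 0, 1, 0, 65, 5, 519, [2703, 2709, 1002, 2728, 2730]⟩) (.leaf ⟨5, 2723, 3140, 0, 0, 0, 0, 38, 5, 2723, [16487, 16485, 19114, 6106, 19108]⟩)) (.node (.leaf ⟨6, 1835, 1836, 0, 0, 0, 0, 93, 0, 0, []⟩) (.leaf ⟨2, 4609, 4212, 59, 0, 31, 0, 24, 2, 4605, [27298, 27306, 25073]⟩))) (.node (.node (.leaf ⟨8, 1058, 1090, 0, 0, 0, 0, 93, 0, 0, []⟩) (.leaf ⟨3, 3891, 3891, (-1), 0, (-1), 0, 35, 0, 3891, [23199, 23210, 23198]⟩)) (.node (.leaf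 ⟨4, 2497, 2498, 0, 0, 0, 0, 93, 0, 0, []⟩) (.leaf ⟨1, 5192, 4388, 0, 0, 0, 0, 16, 0, 4388, [26085, 31401, 31402]⟩))))) (.node (.node (.node (.node (.leaf ⟨3, 273, 274, 0, 0, 0, 0, 93, 0, 0, []⟩) (.leaf ⟨5, 2840, 2966, 0, 0, 0, 0, 48, 2, 210, [17408, 1503, 18090]⟩)) (.node (.leaf ⟨10, 1156, 1685, 0, 0, 0, 0, 49, 5, 1156, [7123, 7121, 9898, 9878, 9880]⟩) (.leaf ⟨3, 4445, 4445, 1, 0, 1, 0, 36, 0, 4445, [26267, 26282, 26266]⟩))) (.node (.node (.leaf ⟨6, 914, 840, 0, 0, 0, 0, 53, 0, 840, [5339, 5800, 5802]⟩) (.leaf ⟨7, 3733, 3733, (-1), 0, (-1), 0, 51, 5, 3733, [22009, 22005, 22056, 22004, 22008]⟩)) (.node (.leaf ⟨11, 599, 599, 1, 0, 1, 0, 44, 3, 599, [3253, 9262, 3252]⟩) (.leaf ⟨8, 5061, 5058, (-61), 0, 19, 0, 56, 3, 2620, [30372, 30374, 16419, 30378, 30360]⟩)))) (.node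 (.node (.node (.leaf ⟨3, 662, 662, 1, 0, 1, 0, 31, 0, 662, [3677, 3736, 3676]⟩) (.leaf ⟨11, 3329, 3329, 1, 0, 1, 0, 59, 3, 3329, [20137, 5516, 20136]⟩)) (.node (.leaf ⟨8, 2023, 2024, 0, 0, 0, 0, 93, 0, 0, []⟩) (.leaf ⟨4, 4003, 3131, 0, 0, 0, 0, 40, 0, 3131, [19045, 28331, 23874]⟩))) (.node (.node (.leaf ⟨3, 1337, 1284, 0, 0, 0, 0, 21, 5, 1337, [7841, 7837, 7850, 7232, 7632]⟩) (.leaf ⟨10, 4045, 4046, 0, 0, 0, 0, 93, 0, 0, []⟩)) (.node (.leaf ⟨10, 2661, 2682, 0, 0, 0, 0, 54, 3, 2661, [15941, 16040, 16042]⟩) (.leaf ⟨0, 0, 0, 0, 0, 0, 0, 0, 0, 0, []⟩))))))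

def factsPart87 : ATree TFact :=
  .node (.node (.node (.node (.node (.node (.leaf ⟨6, 64, 65, 0, 0, 0, 0, 93, 0, 0, []⟩) (.leaf ⟨10, 2742, 2743, 0, 0, 0, 0, 93, 0, 0, []⟩)) (.node (.leaf ⟨8, 1440, 1441, 0, 0, 0, 0, 93, 0, 0, []⟩) (.leaf ⟨4, 4161, 4162, 0, 0, 0, 0, 93, 0, 0, []⟩))) (.node (.node (.leaf ⟨3, 702, 700, 0, 0, 0, 0, 31, 0, 700, [4259, 3048, 4268]⟩) (.leaf ⟨6, 3433, 3434, 0, 0, 0, 0, 93, 0, 0, []⟩)) (.node (.leaf ⟨3, 796, 2115, 0, 0, 0, 0, 33, 0, 2115, [12301, 12461, 5108]⟩) (.leaf ⟨3, 2262, 1984, 0, 0, 0, 0, 21, 5, 2262, [13063, 13061, 13194, 6328, 11730]⟩)))) (.node (.node (.node (.leaf ⟨7, 406, 407, 0, 0, 0, 0, 93, 0, 0, []⟩) (.leaf ⟨3, 3076, 400, 0, 0, 0, 0, 35, 0, 400, [2179, 5375, 18604]⟩)) (.node (.leaf ⟨8, 1629, 1758, 60, 0, (-20), 0, 56, 3, 1627,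 [9522, 9524, 10409, 10410, 10412]⟩) (.leaf ⟨0, 1932, 1932, (-1), 0, (-1), 0, 9, 0, 1932, [11371, 26796, 11370]⟩))) (.node (.node (.leaf ⟨4, 348, 304, 0, 0, 0, 0, 40, 0, 304, [1787, 6317, 1890]⟩) (.leaf ⟨0, 3699, 3699, 1, 0, 1, 0, 4, 0, 3699, [21733, 22700, 21732]⟩)) (.node (.leaf ⟨7, 2444, 2444, (-1), 0, 1, 0, 16, 3, 2444, [14497, 14508, 14496]⟩) (.leaf ⟨5, 5141, 5142, 0, 0, 0, 0, 93, 0, 0, []⟩))))) (.node (.node (.node (.node (.leaf ⟨2, 177, 159, (-1), 0, 5, 0, 28, 2, 164, [1193, 1197, 914]⟩) (.leaf ⟨9, 2879, 2877, 0, 0, 0, 0, 64, 0, 2877, [17575, 17578, 17580]⟩)) (.node (.leaf ⟨7, 1407, 1411, 9, 0, 25, 0, 16, 3, 1407, [8180, 9389, 8167]⟩) (.leaf ⟨5, 4350, 4351, 0, 0, 0, 0, 93, 0, 0, []⟩))) (.node (.node (.leaf ⟨9, 828, 829, 0, 0, 0, 0, 93, 0, 0, []⟩) (.leaf ⟨8,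 3684, 3685, 0, 0, 0, 0, 93, 0, 0, []⟩)) (.node (.leaf ⟨6, 575, 1764, 0, 0, 0, 0, 54, 0, 1764, [10447, 10499, 3074]⟩) (.leaf ⟨3, 4985, 4985, 1, 0, (-1), 0, 37, 0, 4985, [29861, 29868, 29860]⟩)))) (.node (.node (.node (.leaf ⟨10, 596, 597, 0, 0, 0, 0, 93, 0, 0, []⟩) (.leaf ⟨5, 3244, 3240, 0, 0, 0, 0, 46, 2, 3243, [19628, 19627, 19620]⟩)) (.node (.leaf ⟨2, 440, 981, 0, 0, 0, 0, 27, 2, 439, [2352, 2351, 6214]⟩) (.leaf ⟨6, 4686, 4307, 0, 0, 0, 0, 54, 0, 4307, [25551, 27821, 27792]⟩))) (.node (.node (.leaf ⟨5, 1197, 1200, 0, 0, 0, 0, 93, 0, 0, []⟩) (.leaf ⟨10, 3975, 3566, 0, 0, 0, 0, 58, 3, 3975, [23723, 23702, 21152]⟩)) (.node (.leaf ⟨2, 2596, 2596, (-1), 0, (-1), 0, 25, 2, 2595, [15498, 15532, 15498]⟩) (.leaf ⟨0, 0, 0, 0, 0, 0, 0, 0, 0, 0, []⟩)))))) (.node (.node (.node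 (.node (.node (.leaf ⟨7, 132, 132, 1, 0, (-1), 0, 6, 3, 132, [555, 350, 554]⟩) (.leaf ⟨2, 2801, 2803, 0, 0, 0, 0, 27, 0, 2803, [17067, 17069, 17030]⟩)) (.node (.leaf ⟨5, 1071, 1572, 0, 0, 0, 0, 93, 0, 0, []⟩) (.leaf ⟨9, 4144, 4237, 0, 0, 0, 0, 53, 3, 4144, [24715, 25258, 25260]⟩))) (.node (.node (.leaf ⟨11, 768, 769, 0, 0, 0, 0, 93, 0, 0, []⟩) (.leaf ⟨11, 3566, 3568, 0, 0, 0, 0, 59, 3, 3566, [21153, 21162, 21164]⟩)) (.node (.leaf ⟨11, 1546, 2240, 0, 0, 0, 0, 93, 0, 0, []⟩) (.leaf ⟨3, 4908, 4908, (-1), 0, (-1), 0, 2, 3, 4908, [29331, 29356, 29330]⟩)))) (.node (.node (.node (.leaf ⟨10, 513, 521, 0, 0, 0, 0, 58, 3, 513, [2685, 2661, 2718]⟩) (.leaf ⟨5, 3136, 3141, 0, 0, 0, 0, 48, 0, 3141, [19111, 19117, 19094]⟩)) (.node (.leaf ⟨9, 255, 1834, 0, 0, 0, 0, 63, 2, 254, [1622,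 1621, 10920]⟩) (.leaf ⟨9, 4602, 1933, 0, 0, 0, 0, 64, 0, 1933, [11373, 11472, 27280]⟩))) (.node (.node (.leaf ⟨6, 1060, 1090, 0, 0, 0, 0, 52, 2, 1059, [6668, 6667, 6828]⟩) (.leaf ⟨3, 3892, 3892, 1, 0, 1, 0, 33, 0, 3892, [23203, 23212, 23202]⟩)) (.node (.leaf ⟨3, 2498, 2499, 0, 0, 0, 0, 93, 0, 0, []⟩) (.leaf ⟨6, 5192, 5193, 0, 0, 0, 0, 93, 0, 0, []⟩))))) (.node (.node (.node (.node (.leaf ⟨9, 274, 275, 0, 0, 0, 0, 93, 0, 0, []⟩) (.leaf ⟨7, 2966, 2967, 0, 0, 0, 0, 93, 0, 0, []⟩)) (.node (.leaf ⟨10, 1570, 1686, 0, 0, 0, 0, 43, 3, 1570, [8865, 9900, 9882]⟩) (.leaf ⟨11, 4350, 4446, 0, 0, 0, 0, 93, 0, 0, []⟩))) (.node (.node (.leaf ⟨7, 913, 913, 1, 0, (-1), 0, 56, 4, 535, [5798, 2859, 5656, 2858, 5798]⟩) (.leaf ⟨6, 3721, 3749, 0, 0, 0, 0, 93, 0, 0, []⟩)) (.node (.leaf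 ⟨10, 2413, 2413, 1, 0, 1, 0, 65, 4, 684, [13994, 4123, 13996, 4122, 13994]⟩) (.leaf ⟨9, 5059, 5062, 0, 0, 0, 0, 93, 0, 0, []⟩)))) (.node (.node (.node (.leaf ⟨3, 663, 663, (-1), 0, (-1), 0, 33, 0, 663, [3679, 3756, 3678]⟩) (.leaf ⟨7, 860, 3330, 0, 0, 0, 0, 93, 0, 0, []⟩)) (.node (.leaf ⟨5, 2024, 2025, 0, 0, 0, 0, 93, 0, 0, []⟩) (.leaf ⟨3, 3130, 415, 0, 0, 0, 0, 35, 0, 415, [2239, 6127, 19040]⟩))) (.node (.node (.leaf ⟨3, 1338, 1292, 0, 0, 0, 0, 12, 3, 1338, [7845, 7852, 7682]⟩) (.leaf ⟨8, 4032, 4045, 0, 0, 0, 0, 47, 3, 4032, [24119, 24117, 24234]⟩)) (.node (.leaf ⟨11, 2649, 2682, (-67), 0, (-5), 0, 65, 5, 2649, [15891, 15919, 15936, 16027, 16044]⟩) (.leaf ⟨0, 0, 0, 0, 0, 0, 0, 0, 0, 0, []⟩))))))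

def factsPart88 : ATree TFact :=
  .node (.node (.node (.node (.node (.node (.leaf ⟨4, 63, 58, 0, 0, 0, 0, 43, 2, 62, [170, 169, 146]⟩) (.leaf ⟨5, 2743, 2744, 0, 0, 0, 0, 93, 0, 0, []⟩)) (.node (.leaf ⟨5, 1441, 1442, 0, 0, 0, 0, 93, 0, 0, []⟩) (.leaf ⟨3, 4162, 4163, 0, 0, 0, 0, 93, 0, 0, []⟩))) (.node (.node (.leaf ⟨7, 12, 703, 0, 0, 0, 0, 93, 0, 0, []⟩) (.leaf ⟨8, 3434, 3435, 0, 0, 0, 0, 93, 0, 0, []⟩)) (.node (.leaf ⟨3, 797, 2116, 0, 0, 0, 0, 32, 0, 2116, [12303, 12463, 5110]⟩) (.leaf ⟨3, 4849, 4852, 0, 0, 0, 0, 12, 3, 4849, [28829, 28846, 28840]⟩)))) (.node (.node (.node (.leaf ⟨6, 407, 408, 0, 0, 0, 0, 93, 0, 0, []⟩) (.leaf ⟨10, 3076, 3077, 0, 0, 0, 0, 93, 0, 0, []⟩)) (.node (.leaf ⟨4, 1758, 1518, (-60), 0, (-20), 0, 41, 0, 1518, [9515, 9532, 10414]⟩) (.leaf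 ⟨0, 1950, 1950, 1, 0, 1, 0, 4, 0, 1950, [11457, 26798, 11456]⟩))) (.node (.node (.leaf ⟨1, 331, 304, (-13), 0, 21, 0, 13, 2, 321, [1856, 6299, 6318]⟩) (.leaf ⟨0, 3700, 3700, (-1), 0, (-1), 0, 9, 0, 3700, [21735, 22702, 21734]⟩)) (.node (.leaf ⟨7, 2445, 2445, (-1), 0, (-1), 0, 6, 3, 2445, [14499, 14510, 14498]⟩) (.leaf ⟨9, 5136, 5142, 0, 0, 0, 0, 48, 3, 5136, [30857, 30892, 30894]⟩))))) (.node (.node (.node (.node (.leaf ⟨1, 175, 108, 0, 0, 0, 0, 17, 0, 108, [455, 493, 1180]⟩) (.leaf ⟨8, 768, 2878, 0, 0, 0, 0, 61, 0, 2878, [17577, 6549, 4780]⟩)) (.node (.leaf ⟨7, 1412, 1408, (-9), 0, (-25), 0, 25, 3, 1412, [8151, 9391, 8130]⟩) (.leaf ⟨6, 4351, 4352, 0, 0, 0, 0, 93, 0, 0, []⟩))) (.node (.node (.leaf ⟨7, 829, 830, 0, 0, 0, 0, 93, 0, 0, []⟩) (.leaf ⟨5, 3685, 3686, 0,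 0, 0, 0, 93, 0, 0, []⟩)) (.node (.leaf ⟨5, 1764, 2350, 0, 0, 0, 0, 93, 0, 0, []⟩) (.leaf ⟨2, 1560, 1732, 0, 0, 0, 0, 28, 2, 1559, [8790, 8779, 10182]⟩)))) (.node (.node (.node (.leaf ⟨5, 597, 598, 0, 0, 0, 0, 93, 0, 0, []⟩) (.leaf ⟨6, 3244, 3245, 0, 0, 0, 0, 93, 0, 0, []⟩)) (.node (.leaf ⟨2, 1932, 441, 0, 0, 0, 0, 28, 0, 441, [2355, 11438, 11370]⟩) (.leaf ⟨2, 4308, 4308, (-1), 0, (-1), 0, 25, 2, 4297, [25552, 26026, 25552]⟩))) (.node (.node (.leaf ⟨7, 1200, 1201, 0, 0, 0, 0, 93, 0, 0, []⟩) (.leaf ⟨9, 419, 2141, 0, 0, 0, 0, 63, 2, 418, [2264, 2263, 12392]⟩)) (.node (.leaf ⟨2, 2594, 2594, (-1), 0, 1, 0, 28, 2, 2596, [15500, 15534, 15500]⟩) (.leaf ⟨0, 0, 0, 0, 0, 0, 0, 0, 0, 0, []⟩)))))) (.node (.node (.node (.node (.node (.leaf ⟨6, 132, 132, 1, 0, (-1), 0, 5, 3, 132,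 [555, 538, 554]⟩) (.leaf ⟨3, 2802, 2802, 1, 0, (-1), 0, 34, 0, 2802, [17065, 1156, 17064]⟩)) (.node (.leaf ⟨5, 600, 644, (-3), 0, (-3), 0, 23, 3, 600, [3256, 4179, 3559]⟩) (.leaf ⟨8, 4121, 4233, 0, 0, 0, 0, 47, 3, 4121, [24649, 24647, 25238]⟩))) (.node (.node (.leaf ⟨5, 269, 569, 0, 0, 0, 0, 46, 2, 268, [1698, 1697, 3052]⟩) (.leaf ⟨11, 418, 418, 1, 0, 1, 0, 64, 3, 418, [2263, 2324, 2262]⟩)) (.node (.leaf ⟨0, 1545, 1767, 0, 0, 0, 0, 1, 0, 1767, [10479, 10681, 8712]⟩) (.leaf ⟨4, 1750, 1750, 1, 0, 1, 0, 13, 3, 1750, [10313, 14114, 10312]⟩)))) (.node (.node (.node (.leaf ⟨10, 522, 514, 0, 0, 0, 0, 54, 3, 522, [2723, 2735, 2686]⟩) (.leaf ⟨5, 3137, 3142, 0, 0, 0, 0, 46, 0, 3142, [19113, 19119, 19096]⟩)) (.node (.leaf ⟨9, 1835, 256, 0, 0, 0, 0, 57, 3, 1835, [10923, 10927,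 1624]⟩) (.leaf ⟨9, 4606, 1934, 0, 0, 0, 0, 48, 3, 4606, [27289, 27310, 11374]⟩))) (.node (.node (.leaf ⟨8, 1084, 1091, 0, 0, 0, 0, 93, 0, 0, []⟩) (.leaf ⟨3, 3893, 3893, (-1), 0, (-1), 0, 34, 0, 3893, [23207, 23214, 23206]⟩)) (.node (.leaf ⟨9, 2499, 2500, 0, 0, 0, 0, 93, 0, 0, []⟩) (.leaf ⟨1, 5193, 4389, 0, 0, 0, 0, 15, 0, 4389, [26087, 31405, 31406]⟩))))) (.node (.node (.node (.node (.leaf ⟨10, 275, 276, 0, 0, 0, 0, 93, 0, 0, []⟩) (.leaf ⟨5, 2967, 2841, 0, 0, 0, 0, 46, 0, 2841, [17413, 18092, 18094]⟩)) (.node (.leaf ⟨4, 1162, 1687, 0, 0, 0, 0, 93, 0, 0, []⟩) (.leaf ⟨5, 4446, 4447, 0, 0, 0, 0, 93, 0, 0, []⟩))) (.node (.node (.leaf ⟨7, 914, 914, (-1), 0, 1, 0, 57, 0, 914, [5803, 5806, 5802]⟩) (.leaf ⟨10, 3733, 3749, 0, 0, 0, 0, 54, 3, 3733, [22009, 22059, 22190]⟩))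 (.node (.leaf ⟨7, 753, 2413, 0, 0, 0, 0, 59, 0, 2413, [13995, 4727, 4730]⟩) (.leaf ⟨10, 5062, 5063, 0, 0, 0, 0, 93, 0, 0, []⟩)))) (.node (.node (.node (.leaf ⟨2, 662, 662, 1, 0, 1, 0, 23, 0, 662, [3677, 3740, 3676]⟩) (.leaf ⟨5, 3330, 3329, 0, 0, 0, 0, 46, 0, 3329, [20137, 5507, 20142]⟩)) (.node (.leaf ⟨4, 2025, 2026, 0, 0, 0, 0, 93, 0, 0, []⟩) (.leaf ⟨3, 3131, 3799, 0, 0, 0, 0, 33, 0, 3799, [22673, 28335, 19044]⟩))) (.node (.node (.leaf ⟨4, 1323, 1292, 13, 0, (-21), 0, 30, 3, 348, [6318, 7780, 7819, 7846, 7854]⟩) (.leaf ⟨8, 4046, 4033, 0, 0, 0, 0, 61, 0, 4033, [24121, 24238, 24236]⟩)) (.node (.leaf ⟨1, 2682, 2639, 67, 0, (-5), 0, 20, 0, 2639, [15847, 15878, 16046]⟩) (.leaf ⟨0, 0, 0, 0, 0, 0, 0, 0, 0, 0, []⟩))))))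

def factsPart89 : ATree TFact :=
  .node (.node (.node (.node (.node (.node (.leaf ⟨4, 59, 64, 0, 0, 0, 0, 40, 0, 64, [173, 176, 148]⟩) (.leaf ⟨4, 374, 2745, 0, 0, 0, 0, 93, 0, 0, []⟩)) (.node (.leaf ⟨4, 1442, 1443, 0, 0, 0, 0, 93, 0, 0, []⟩) (.leaf ⟨10, 4163, 4164, 0, 0, 0, 0, 93, 0, 0, []⟩))) (.node (.node (.leaf ⟨6, 703, 704, 0, 0, 0, 0, 93, 0, 0, []⟩) (.leaf ⟨7, 3435, 3436, 0, 0, 0, 0, 93, 0, 0, []⟩)) (.node (.leaf ⟨3, 798, 2117, 0, 0, 0, 0, 31, 0, 2117, [12305, 12465, 5112]⟩) (.leaf ⟨3, 4850, 4853, 0, 0, 0, 0, 35, 0, 4853, [28843, 28849, 28830]⟩)))) (.node (.node (.node (.leaf ⟨8, 408, 409, 0, 0, 0, 0, 93, 0, 0, []⟩) (.leaf ⟨3, 3077, 401, 0, 0, 0, 0, 36, 0, 401, [2183, 18607, 18608]⟩)) (.node (.leaf ⟨0, 1495, 1759, 0, 0, 0, 0, 93, 0, 0, []⟩) (.leaf ⟨0, 1951,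 1951, (-1), 0, (-1), 0, 3, 0, 1951, [11459, 26800, 11458]⟩))) (.node (.node (.leaf ⟨8, 710, 993, 0, 0, 0, 0, 93, 0, 0, []⟩) (.leaf ⟨10, 3768, 3801, 0, 0, 0, 0, 93, 0, 0, []⟩)) (.node (.leaf ⟨7, 2446, 2446, 1, 0, 1, 0, 58, 0, 2446, [14507, 14512, 14506]⟩) (.leaf ⟨6, 5142, 5143, 0, 0, 0, 0, 93, 0, 0, []⟩))))) (.node (.node (.node (.node (.leaf ⟨1, 176, 109, 0, 0, 0, 0, 14, 0, 109, [457, 1201, 1182]⟩) (.leaf ⟨8, 769, 2879, 0, 0, 0, 0, 62, 0, 2879, [17581, 17585, 4782]⟩)) (.node (.leaf ⟨3, 1416, 762, 0, 0, 0, 0, 36, 2, 1411, [8160, 8149, 4750]⟩) (.leaf ⟨7, 4352, 4353, 0, 0, 0, 0, 93, 0, 0, []⟩))) (.node (.node (.leaf ⟨5, 829, 826, 0, 0, 0, 0, 48, 2, 828, [5294, 5293, 5284]⟩) (.leaf ⟨4, 3686, 3687, 0, 0, 0, 0, 93, 0, 0, []⟩)) (.node (.leaf ⟨4, 1764, 512, 0, 0, 0, 0, 43,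 2, 1667, [10446, 9775, 2670]⟩) (.leaf ⟨2, 1733, 4985, 0, 0, 0, 0, 29, 0, 4985, [29861, 29872, 10186]⟩)))) (.node (.node (.node (.leaf ⟨10, 589, 598, 0, 0, 0, 0, 49, 5, 589, [3217, 2427, 3244, 3246, 3248]⟩) (.leaf ⟨5, 3245, 3246, 0, 0, 0, 0, 93, 0, 0, []⟩)) (.node (.leaf ⟨2, 1933, 442, 0, 0, 0, 0, 29, 0, 442, [2357, 11441, 11372]⟩) (.leaf ⟨2, 4309, 4309, (-1), 0, 1, 0, 24, 2, 4308, [25554, 27824, 25554]⟩))) (.node (.node (.leaf ⟨5, 1201, 1198, 0, 0, 0, 0, 46, 2, 1200, [7344, 7343, 7336]⟩) (.leaf ⟨2, 2141, 2141, 1, 0, (-1), 0, 22, 2, 2139, [12397, 22632, 12397]⟩)) (.node (.leaf ⟨2, 2472, 2600, 0, 0, 0, 0, 93, 0, 0, []⟩) (.leaf ⟨0, 0, 0, 0, 0, 0, 0, 0, 0, 0, []⟩)))))) (.node (.node (.node (.node (.node (.leaf ⟨4, 78, 78, 1, 0, 1, 0, 3, 3, 78, [323, 588, 322]⟩) (.leaf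 ⟨3, 2803, 2803, (-1), 0, 1, 0, 35, 0, 2803, [17067, 17072, 17066]⟩)) (.node (.leaf ⟨1, 1049, 445, 0, 0, 0, 0, 15, 0, 445, [2385, 2645, 6646]⟩) (.leaf ⟨8, 4234, 4122, 0, 0, 0, 0, 41, 3, 4234, [25241, 25265, 24650]⟩))) (.node (.node (.leaf ⟨6, 571, 504, 0, 0, 0, 0, 45, 5, 571, [3061, 3057, 4785, 1700, 2650]⟩) (.leaf ⟨10, 420, 420, 1, 0, 1, 0, 65, 4, 419, [2266, 2265, 21168, 2264, 2266]⟩)) (.node (.leaf ⟨0, 1546, 1838, 0, 0, 0, 0, 9, 0, 1838, [10945, 12977, 8714]⟩) (.leaf ⟨4, 4908, 4908, 1, 0, (-1), 0, 3, 3, 4908, [29331, 29360, 29330]⟩)))) (.node (.node (.node (.leaf ⟨5, 524, 516, 0, 0, 0, 0, 49, 4, 523, [2730, 2727, 2736, 2688, 2694]⟩) (.leaf ⟨6, 3142, 3143, 0, 0, 0, 0, 93, 0, 0, []⟩)) (.node (.leaf ⟨9, 1836, 257, 0, 0, 0, 0, 53, 3, 1836, [10925, 10928, 1626]⟩) (.leaf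 ⟨9, 4607, 1935, 0, 0, 0, 0, 57, 3, 4607, [27291, 27312, 11376]⟩))) (.node (.node (.leaf ⟨5, 1084, 1058, 0, 0, 0, 0, 46, 2, 1083, [6816, 6815, 6664]⟩) (.leaf ⟨8, 824, 3894, 0, 0, 0, 0, 93, 0, 0, []⟩)) (.node (.leaf ⟨10, 2500, 2501, 0, 0, 0, 0, 93, 0, 0, []⟩) (.leaf ⟨5, 5193, 5194, 0, 0, 0, 0, 93, 0, 0, []⟩))))) (.node (.node (.node (.node (.leaf ⟨11, 276, 277, 0, 0, 0, 0, 93, 0, 0, []⟩) (.leaf ⟨9, 2848, 2968, 0, 0, 0, 0, 93, 0, 0, []⟩)) (.node (.leaf ⟨7, 1570, 1687, 0, 0, 0, 0, 40, 3, 1570, [8865, 7160, 9904]⟩) (.leaf ⟨11, 4447, 4351, 0, 0, 0, 0, 50, 3, 4447, [26289, 26287, 25774]⟩))) (.node (.node (.leaf ⟨6, 912, 912, 1, 0, 1, 0, 51, 0, 912, [5797, 5805, 5808, 5804, 5796]⟩) (.leaf ⟨1, 2760, 3721, 0, 0, 0, 0, 16, 0, 3721, [21867, 2133, 16724]⟩)) (.node (.leaf ⟨3,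 632, 632, 1, 0, 1, 0, 36, 0, 632, [3505, 13956, 3504]⟩) (.leaf ⟨9, 5063, 5060, 0, 0, 0, 0, 63, 2, 5062, [30384, 30383, 30368]⟩)))) (.node (.node (.node (.leaf ⟨2, 663, 663, (-1), 0, (-1), 0, 25, 0, 663, [3679, 3760, 3678]⟩) (.leaf ⟨4, 3330, 3315, 0, 0, 0, 0, 40, 2, 860, [20142, 5491, 20040]⟩)) (.node (.leaf ⟨3, 2026, 2027, 0, 0, 0, 0, 93, 0, 0, []⟩) (.leaf ⟨10, 3636, 3799, 0, 0, 0, 0, 58, 3, 3636, [21461, 2250, 22672]⟩))) (.node (.node (.leaf ⟨3, 267, 245, 0, 0, 0, 0, 36, 2, 266, [1694, 1693, 1602]⟩) (.leaf ⟨5, 3806, 4047, 0, 0, 0, 0, 93, 0, 0, []⟩)) (.node (.leaf ⟨2, 2679, 2646, 0, 0, 0, 0, 27, 2, 2678, [16030, 16029, 15856]⟩) (.leaf ⟨0, 0, 0, 0, 0, 0, 0, 0, 0, 0, []⟩))))))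

def factsPart90 : ATree TFact :=
  .node (.node (.node (.node (.node (.node (.leaf ⟨4, 60, 65, 0, 0, 0, 0, 39, 0, 65, [175, 179, 150]⟩) (.leaf ⟨10, 2745, 2746, 0, 0, 0, 0, 93, 0, 0, []⟩)) (.node (.leaf ⟨3, 1443, 1444, 0, 0, 0, 0, 93, 0, 0, []⟩) (.leaf ⟨5, 4153, 4159, 0, 0, 0, 0, 46, 0, 4159, [24745, 16033, 24732]⟩))) (.node (.node (.leaf ⟨5, 704, 705, 0, 0, 0, 0, 93, 0, 0, []⟩) (.leaf ⟨7, 2711, 3437, 0, 0, 0, 0, 93, 0, 0, []⟩)) (.node (.leaf ⟨4, 800, 2119, 0, 0, 0, 0, 30, 5, 800, [5117, 5115, 12466, 12306, 12308]⟩) (.leaf ⟨3, 4851, 4854, 0, 0, 0, 0, 36, 0, 4854, [28845, 28851, 28832]⟩)))) (.node (.node (.node (.leaf ⟨5, 409, 410, 0, 0, 0, 0, 93, 0, 0, []⟩) (.leaf ⟨11, 3077, 3078, 0, 0, 0, 0, 93, 0, 0, []⟩)) (.node (.leaf ⟨10, 1759, 1760, 0, 0, 0, 0, 93, 0, 0, []⟩)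 (.leaf ⟨0, 1952, 1952, 1, 0, 1, 0, 6, 0, 1952, [11461, 26802, 11460]⟩))) (.node (.node (.leaf ⟨5, 993, 994, 0, 0, 0, 0, 93, 0, 0, []⟩) (.leaf ⟨2, 3700, 3801, 0, 0, 0, 0, 28, 0, 3801, [22707, 22473, 21734]⟩)) (.node (.leaf ⟨6, 2444, 1744, 0, 0, 0, 0, 15, 3, 2444, [14497, 10566, 10266]⟩) (.leaf ⟨9, 5137, 5143, 0, 0, 0, 0, 53, 3, 5137, [30861, 30896, 30898]⟩))))) (.node (.node (.node (.node (.leaf ⟨1, 177, 155, 0, 0, 0, 0, 13, 0, 155, [899, 1203, 1186]⟩) (.leaf ⟨8, 2259, 705, 0, 0, 0, 0, 47, 3, 2259, [13057, 13055, 4276]⟩)) (.node (.leaf ⟨10, 307, 307, (-1), 0, 1, 0, 49, 5, 307, [1793, 1791, 3482, 1790, 1792]⟩) (.leaf ⟨2, 4350, 4342, 0, 0, 0, 0, 28, 2, 2678, [25772, 16029, 25742]⟩))) (.node (.node (.leaf ⟨5, 827, 830, 0, 0, 0, 0, 46, 0, 830, [5297, 5298, 5288]⟩) (.leaf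 ⟨7, 3687, 3688, 0, 0, 0, 0, 93, 0, 0, []⟩)) (.node (.leaf ⟨5, 506, 506, (-1), 0, (-1), 0, 23, 3, 506, [2659, 9670, 2658]⟩) (.leaf ⟨11, 1557, 1557, 1, 0, (-1), 0, 44, 3, 1557, [8775, 29434, 8774]⟩)))) (.node (.node (.node (.leaf ⟨4, 532, 599, 0, 0, 0, 0, 93, 0, 0, []⟩) (.leaf ⟨6, 3242, 3246, 0, 0, 0, 0, 45, 5, 3242, [19625, 19623, 19631, 19632, 19634]⟩)) (.node (.leaf ⟨2, 1939, 1945, 0, 0, 0, 0, 25, 0, 1945, [11431, 11443, 11408]⟩) (.leaf ⟨2, 4310, 4310, (-1), 0, (-1), 0, 23, 2, 4309, [25556, 27826, 25556]⟩))) (.node (.node (.leaf ⟨2, 274, 1202, 0, 0, 0, 0, 93, 0, 0, []⟩) (.leaf ⟨2, 419, 419, 1, 0, 1, 0, 27, 2, 2141, [23729, 23730, 23729]⟩)) (.node (.leaf ⟨1, 2600, 2601, 0, 0, 0, 0, 93, 0, 0, []⟩) (.leaf ⟨0, 0, 0, 0, 0, 0, 0, 0, 0, 0, []⟩)))))) (.node (.node (.node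 (.node (.node (.leaf ⟨3, 78, 78, (-1), 0, 1, 0, 2, 3, 78, [323, 606, 322]⟩) (.leaf ⟨4, 2802, 2802, 1, 0, (-1), 0, 41, 0, 2802, [17065, 1162, 17064]⟩)) (.node (.leaf ⟨1, 1050, 446, 0, 0, 0, 0, 16, 0, 446, [2387, 8883, 6648]⟩) (.leaf ⟨8, 4235, 4123, 0, 0, 0, 0, 61, 0, 4123, [24653, 25267, 25242]⟩))) (.node (.node (.leaf ⟨6, 572, 767, 0, 0, 0, 0, 39, 3, 572, [3065, 4786, 4778]⟩) (.leaf ⟨10, 421, 421, 1, 0, (-1), 0, 58, 3, 421, [2269, 21170, 2268]⟩)) (.node (.leaf ⟨0, 2240, 2192, 0, 0, 0, 0, 10, 0, 2192, [12689, 12979, 12974]⟩) (.leaf ⟨0, 1742, 4912, 0, 0, 0, 0, 93, 0, 0, []⟩)))) (.node (.node (.node (.leaf ⟨11, 520, 516, 17, 0, (-1), 0, 50, 3, 520, [2705, 2732, 2738]⟩) (.leaf ⟨5, 3143, 3144, 0, 0, 0, 0, 93, 0, 0, []⟩)) (.node (.leaf ⟨8, 250, 1609, 0, 0, 0, 0, 47, 3,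 250, [1613, 1611, 9102]⟩) (.leaf ⟨9, 4608, 1936, 0, 0, 0, 0, 53, 3, 4608, [27295, 27314, 11378]⟩))) (.node (.node (.leaf ⟨5, 1090, 1091, 0, 0, 0, 0, 47, 0, 1091, [6833, 6834, 6828]⟩) (.leaf ⟨2, 3355, 822, 0, 0, 0, 0, 26, 0, 822, [5269, 9345, 20284]⟩)) (.node (.leaf ⟨10, 2499, 2502, 0, 0, 0, 0, 93, 0, 0, []⟩) (.leaf ⟨1, 5194, 4390, 0, 0, 0, 0, 14, 0, 4390, [26089, 31409, 31410]⟩))))) (.node (.node (.node (.node (.leaf ⟨7, 277, 278, 0, 0, 0, 0, 93, 0, 0, []⟩) (.leaf ⟨6, 2968, 2966, 0, 0, 0, 0, 53, 0, 2966, [18091, 17450, 18098]⟩)) (.node (.leaf ⟨5, 1464, 1688, 0, 0, 0, 0, 93, 0, 0, []⟩) (.leaf ⟨10, 4372, 4351, 0, 0, 0, 0, 49, 5, 4372, [26009, 2431, 16032, 25772, 25774]⟩))) (.node (.node (.leaf ⟨7, 842, 915, 0, 0, 0, 0, 93, 0, 0, []⟩) (.leaf ⟨1, 2798, 3749, 0, 0, 0,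 0, 15, 0, 3749, [22191, 22195, 17022]⟩)) (.node (.leaf ⟨2, 628, 628, 1, 0, 1, 0, 28, 0, 628, [3493, 3444, 3492]⟩) (.leaf ⟨7, 5063, 5064, 0, 0, 0, 0, 93, 0, 0, []⟩)))) (.node (.node (.node (.leaf ⟨0, 99, 99, 1, 0, 1, 0, 4, 0, 99, [425, 3562, 424]⟩) (.leaf ⟨7, 832, 3331, 0, 0, 0, 0, 93, 0, 0, []⟩)) (.node (.leaf ⟨2, 2027, 2028, 0, 0, 0, 0, 93, 0, 0, []⟩) (.leaf ⟨2, 416, 416, 1, 0, (-11), 0, 23, 2, 400, [2252, 22328, 2252]⟩))) (.node (.node (.leaf ⟨3, 246, 268, 0, 0, 0, 0, 31, 0, 268, [1697, 7858, 1604]⟩) (.leaf ⟨6, 3123, 4047, 0, 0, 0, 0, 45, 5, 3123, [18987, 16611, 22768, 22772, 24242]⟩)) (.node (.leaf ⟨2, 2647, 2680, 0, 0, 0, 0, 28, 0, 2680, [16037, 16050, 15858]⟩) (.leaf ⟨0, 0, 0, 0, 0, 0, 0, 0, 0, 0, []⟩))))))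

def factsPart91 : ATree TFact :=
  .node (.node (.node (.node (.node (.node (.leaf ⟨5, 63, 66, 0, 0, 0, 0, 93, 0, 0, []⟩) (.leaf ⟨1, 166, 101, 0, 0, 0, 0, 16, 0, 101, [433, 481, 950]⟩)) (.node (.leaf ⟨10, 1444, 1445, 0, 0, 0, 0, 93, 0, 0, []⟩) (.leaf ⟨6, 4155, 4161, 0, 0, 0, 0, 45, 5, 4155, [24737, 24735, 24756, 24746, 24748]⟩))) (.node (.node (.leaf ⟨4, 705, 706, 0, 0, 0, 0, 93, 0, 0, []⟩) (.leaf ⟨6, 3437, 3438, 0, 0, 0, 0, 93, 0, 0, []⟩)) (.node (.leaf ⟨2, 2145, 2119, 13, 0, 21, 0, 22, 2, 368, [12454, 6267, 12468]⟩) (.leaf ⟨10, 4719, 4855, 0, 0, 0, 0, 93, 0, 0, []⟩)))) (.node (.node (.node (.leaf ⟨9, 410, 411, 0, 0, 0, 0, 93, 0, 0, []⟩) (.leaf ⟨3, 3078, 402, 0, 0, 0, 0, 37, 0, 402, [2185, 18611, 18612]⟩)) (.node (.leaf ⟨5, 1760, 1761, 0, 0, 0, 0, 93, 0, 0, []⟩)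 (.leaf ⟨0, 4278, 4278, (-1), 0, (-1), 0, 5, 0, 4278, [25407, 26804, 25406]⟩))) (.node (.node (.leaf ⟨4, 994, 995, 0, 0, 0, 0, 93, 0, 0, []⟩) (.leaf ⟨3, 3768, 3768, (-1), 0, 1, 0, 34, 2, 806, [22515, 5194, 22515]⟩)) (.node (.leaf ⟨6, 2445, 1745, 0, 0, 0, 0, 5, 3, 2445, [14499, 14516, 10268]⟩) (.leaf ⟨5, 5127, 5143, 27, 0, (-1), 0, 48, 2, 5131, [30834, 30885, 30900]⟩))))) (.node (.node (.node (.node (.leaf ⟨1, 157, 157, (-1), 0, (-1), 0, 17, 0, 157, [911, 794, 910]⟩) (.leaf ⟨8, 706, 2260, 0, 0, 0, 0, 41, 3, 706, [4279, 17589, 13058]⟩)) (.node (.leaf ⟨10, 308, 308, (-1), 0, (-1), 0, 58, 3, 308, [1795, 9396, 1794]⟩) (.leaf ⟨2, 4343, 4351, 0, 0, 0, 0, 23, 0, 4351, [25775, 25780, 25744]⟩))) (.node (.node (.leaf ⟨8, 491, 831, 0, 0, 0, 0, 93, 0, 0, []⟩) (.leaf ⟨6, 3688,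 3689, 0, 0, 0, 0, 93, 0, 0, []⟩)) (.node (.leaf ⟨10, 508, 508, (-1), 0, (-1), 0, 49, 5, 508, [2663, 2661, 13492, 2660, 2662]⟩) (.leaf ⟨11, 1558, 1558, 1, 0, 1, 0, 37, 3, 1558, [8777, 29876, 8776]⟩)))) (.node (.node (.node (.leaf ⟨3, 599, 600, 0, 0, 0, 0, 93, 0, 0, []⟩) (.leaf ⟨2, 3238, 884, 0, 0, 0, 0, 28, 0, 884, [5591, 18261, 19616]⟩)) (.node (.leaf ⟨2, 1940, 1946, 0, 0, 0, 0, 24, 0, 1946, [11433, 11445, 11410]⟩) (.leaf ⟨2, 4311, 4311, (-1), 0, 1, 0, 22, 2, 4310, [25558, 27828, 25558]⟩))) (.node (.node (.leaf ⟨9, 1202, 1203, 0, 0, 0, 0, 93, 0, 0, []⟩) (.leaf ⟨2, 3557, 3557, 1, 0, (-1), 0, 25, 2, 419, [21118, 23732, 21118]⟩)) (.node (.leaf ⟨9, 2601, 2602, 0, 0, 0, 0, 93, 0, 0, []⟩) (.leaf ⟨0, 0, 0, 0, 0, 0, 0, 0, 0, 0, []⟩)))))) (.node (.node (.node (.node (.node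 (.leaf ⟨2, 78, 78, 1, 0, 1, 0, 1, 3, 78, [323, 624, 322]⟩) (.leaf ⟨4, 2803, 2803, (-1), 0, 1, 0, 42, 0, 2803, [17067, 17076, 17066]⟩)) (.node (.leaf ⟨1, 1051, 447, 0, 0, 0, 0, 15, 0, 447, [2389, 8885, 6650]⟩) (.leaf ⟨8, 4236, 4124, 0, 0, 0, 0, 47, 3, 4236, [25257, 25268, 24654]⟩))) (.node (.node (.leaf ⟨6, 573, 768, 0, 0, 0, 0, 54, 0, 768, [4781, 4789, 3068]⟩) (.leaf ⟨10, 3044, 3044, 1, 0, 1, 0, 54, 3, 3044, [18395, 21172, 18394]⟩)) (.node (.leaf ⟨10, 2237, 2241, 0, 0, 0, 0, 93, 0, 0, []⟩) (.leaf ⟨11, 4912, 4912, 1, 0, 1, 0, 10, 3, 4912, [29365, 29228, 29364]⟩)))) (.node (.node (.node (.leaf ⟨1, 517, 517, 1, 0, 1, 0, 14, 0, 517, [2699, 2138, 2698]⟩) (.leaf ⟨6, 3139, 3144, 0, 0, 0, 0, 45, 5, 3139, [19107, 19099, 19120, 19122, 19124]⟩)) (.node (.leaf ⟨8, 1610, 251,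 0, 0, 0, 0, 41, 3, 1610, [9105, 10933, 1614]⟩) (.leaf ⟨9, 4609, 2120, 0, 0, 0, 0, 48, 3, 4609, [27297, 27316, 12310]⟩))) (.node (.node (.leaf ⟨6, 1086, 1091, 0, 0, 0, 0, 52, 2, 1085, [6820, 6819, 6832]⟩) (.leaf ⟨2, 3891, 823, 0, 0, 0, 0, 27, 0, 823, [5273, 23221, 23198]⟩)) (.node (.leaf ⟨9, 2501, 2502, 0, 0, 0, 0, 63, 2, 2500, [15026, 15025, 15028]⟩) (.leaf ⟨7, 2394, 5195, 0, 0, 0, 0, 93, 0, 0, []⟩))))) (.node (.node (.node (.node (.leaf ⟨6, 278, 279, 0, 0, 0, 0, 93, 0, 0, []⟩) (.leaf ⟨8, 8, 8, 1, 0, 1, 0, 62, 0, 8, [15, 1296, 14]⟩)) (.node (.leaf ⟨10, 1688, 1689, 0, 0, 0, 0, 93, 0, 0, []⟩) (.leaf ⟨2, 1955, 4372, 0, 0, 0, 0, 23, 0, 4372, [26009, 24906, 11466]⟩))) (.node (.node (.leaf ⟨5, 912, 915, 0, 0, 0, 0, 46, 0, 915, [5813, 5348, 5796]⟩) (.leaf ⟨1, 2761, 2761,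 (-1), 0, (-1), 0, 16, 0, 2761, [16737, 22032, 16736]⟩)) (.node (.leaf ⟨2, 629, 629, (-1), 0, (-1), 0, 25, 0, 629, [3495, 14004, 3494]⟩) (.leaf ⟨9, 5061, 5064, 0, 0, 0, 0, 57, 3, 5061, [30375, 30387, 30388]⟩)))) (.node (.node (.node (.leaf ⟨0, 100, 100, (-1), 0, (-1), 0, 3, 0, 100, [429, 3764, 428]⟩) (.leaf ⟨5, 3318, 3331, 0, 0, 0, 0, 46, 2, 853, [20052, 5435, 20148]⟩)) (.node (.leaf ⟨0, 1994, 1465, 0, 0, 0, 0, 7, 0, 1465, [8455, 9919, 11842]⟩) (.leaf ⟨2, 3636, 3636, 1, 0, 11, 0, 25, 2, 416, [21460, 28340, 21460]⟩))) (.node (.node (.leaf ⟨3, 247, 269, 0, 0, 0, 0, 33, 0, 269, [1699, 7861, 1606]⟩) (.leaf ⟨6, 3081, 4045, 0, 0, 0, 0, 45, 5, 3081, [18625, 18621, 24132, 24114, 24234]⟩)) (.node (.leaf ⟨2, 2648, 2681, 0, 0, 0, 0, 23, 0, 2681, [16039, 16053, 15860]⟩) (.leaf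 ⟨0, 0, 0, 0, 0, 0, 0, 0, 0, 0, []⟩))))))

def factsPart92 : ATree TFact :=
  .node (.node (.node (.node (.node (.node (.leaf ⟨7, 66, 67, 0, 0, 0, 0, 93, 0, 0, []⟩) (.leaf ⟨1, 167, 102, 0, 0, 0, 0, 15, 0, 102, [437, 16567, 966]⟩)) (.node (.leaf ⟨11, 1445, 1446, 0, 0, 0, 0, 93, 0, 0, []⟩) (.leaf ⟨6, 4156, 4162, 0, 0, 0, 0, 39, 3, 4156, [24739, 24758, 24750]⟩))) (.node (.node (.leaf ⟨10, 706, 707, 0, 0, 0, 0, 93, 0, 0, []⟩) (.leaf ⟨8, 3438, 3439, 0, 0, 0, 0, 93, 0, 0, []⟩)) (.node (.leaf ⟨2, 2144, 2107, 8, 0, (-22), 0, 25, 2, 2119, [12432, 12471, 12435]⟩) (.leaf ⟨1, 709, 629, 0, 0, 0, 0, 16, 0, 629, [3495, 6268, 4284]⟩)))) (.node (.node (.node (.leaf ⟨10, 411, 412, 0, 0, 0, 0, 93, 0, 0, []⟩) (.leaf ⟨7, 3078, 3079, 0, 0, 0, 0, 93, 0, 0, []⟩)) (.node (.leaf ⟨7, 1761,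 1762, 0, 0, 0, 0, 93, 0, 0, []⟩) (.leaf ⟨0, 4279, 4279, 1, 0, 1, 0, 4, 0, 4279, [25409, 26806, 25408]⟩))) (.node (.node (.leaf ⟨3, 995, 996, 0, 0, 0, 0, 93, 0, 0, []⟩) (.leaf ⟨3, 3801, 3801, (-1), 0, (-1), 0, 36, 2, 3768, [22706, 22710, 22706]⟩)) (.node (.leaf ⟨6, 2446, 1780, 0, 0, 0, 0, 54, 0, 1780, [10629, 14519, 14506]⟩) (.leaf ⟨10, 2897, 5144, 0, 0, 0, 0, 93, 0, 0, []⟩))))) (.node (.node (.node (.node (.leaf ⟨1, 158, 158, 1, 0, 1, 0, 14, 0, 158, [913, 1206, 912]⟩) (.leaf ⟨8, 707, 2505, 0, 0, 0, 0, 61, 0, 2505, [15037, 17591, 4280]⟩)) (.node (.leaf ⟨10, 309, 309, (-1), 0, 1, 0, 54, 3, 309, [1797, 9398, 1796]⟩) (.leaf ⟨2, 4344, 4352, 0, 0, 0, 0, 24, 0, 4352, [25777, 25783, 25746]⟩))) (.node (.node (.leaf ⟨6, 825, 831, 0, 0, 0, 0, 52, 2, 492, [5280, 2553, 5302]⟩)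 (.leaf ⟨5, 3689, 3690, 0, 0, 0, 0, 93, 0, 0, []⟩)) (.node (.leaf ⟨10, 509, 509, (-1), 0, 1, 0, 58, 3, 509, [2665, 13494, 2664]⟩) (.leaf ⟨10, 1733, 1733, 1, 0, 1, 0, 65, 4, 1732, [10186, 10183, 29878, 10182, 10186]⟩)))) (.node (.node (.node (.leaf ⟨2, 600, 601, 0, 0, 0, 0, 93, 0, 0, []⟩) (.leaf ⟨2, 3239, 3025, 0, 0, 0, 0, 29, 0, 3025, [18323, 19639, 19618]⟩)) (.node (.leaf ⟨2, 1941, 1947, 0, 0, 0, 0, 26, 0, 1947, [11435, 11447, 11412]⟩) (.leaf ⟨3, 4311, 4689, 0, 0, 0, 0, 93, 0, 0, []⟩))) (.node (.node (.leaf ⟨10, 1203, 1204, 0, 0, 0, 0, 93, 0, 0, []⟩) (.leaf ⟨2, 3558, 3558, 1, 0, 1, 0, 24, 2, 3557, [21120, 23734, 21120]⟩)) (.node (.leaf ⟨0, 2602, 2603, 0, 0, 0, 0, 93, 0, 0, []⟩) (.leaf ⟨0, 0, 0, 0, 0, 0, 0, 0, 0, 0, []⟩)))))) (.node (.node (.node (.node (.node (.leaf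 ⟨7, 131, 131, (-1), 0, (-1), 0, 58, 0, 131, [551, 354, 550]⟩) (.leaf ⟨5, 2802, 2802, 1, 0, (-1), 0, 47, 0, 2802, [17065, 1168, 17064]⟩)) (.node (.leaf ⟨1, 1068, 532, 0, 0, 0, 0, 14, 0, 532, [2819, 8887, 6692]⟩) (.leaf ⟨8, 4237, 4125, 0, 0, 0, 0, 52, 3, 4237, [25261, 25270, 24656]⟩))) (.node (.node (.leaf ⟨6, 766, 769, 0, 0, 0, 0, 55, 0, 769, [4783, 4791, 4772]⟩) (.leaf ⟨10, 3567, 3567, 1, 0, (-1), 0, 61, 3, 3567, [21161, 21174, 21160]⟩)) (.node (.leaf ⟨2, 2237, 1742, 0, 0, 0, 0, 11, 5, 2237, [12963, 9115, 12698, 4228, 10248]⟩) (.leaf ⟨10, 1735, 4912, 27, 0, 1, 0, 9, 3, 1735, [10257, 10251, 29364]⟩)))) (.node (.node (.node (.leaf ⟨1, 518, 518, (-1), 0, (-1), 0, 13, 0, 518, [2701, 2742, 2700]⟩) (.leaf ⟨8, 534, 3145, 0, 0, 0, 0, 93, 0, 0, []⟩)) (.node (.leaf ⟨8, 1611,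 252, 0, 0, 0, 0, 34, 3, 1611, [9107, 10934, 1616]⟩) (.leaf ⟨2, 4511, 2120, (-59), 0, (-31), 0, 27, 2, 4212, [27000, 27309, 27318]⟩))) (.node (.node (.leaf ⟨6, 1061, 1087, 0, 0, 0, 0, 45, 5, 1061, [6671, 6830, 6836, 6839, 6822]⟩) (.leaf ⟨2, 3892, 824, 0, 0, 0, 0, 25, 0, 824, [5277, 23223, 23202]⟩)) (.node (.leaf ⟨10, 2261, 2503, 0, 0, 0, 0, 93, 0, 0, []⟩) (.leaf ⟨6, 5195, 5196, 0, 0, 0, 0, 93, 0, 0, []⟩))))) (.node (.node (.node (.node (.leaf ⟨8, 279, 280, 0, 0, 0, 0, 93, 0, 0, []⟩) (.leaf ⟨8, 9, 9, 1, 0, (-1), 0, 47, 3, 9, [17, 18102, 16]⟩)) (.node (.leaf ⟨11, 1689, 1690, 0, 0, 0, 0, 93, 0, 0, []⟩) (.leaf ⟨3, 3053, 1955, 0, 0, 0, 0, 31, 0, 1955, [11467, 24904, 18440]⟩))) (.node (.node (.leaf ⟨7, 841, 916, 0, 0, 0, 0, 93, 0, 0, []⟩) (.leaf ⟨1, 2796, 2796, 1, 0, 1,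 0, 15, 0, 2796, [16997, 22198, 16996]⟩)) (.node (.leaf ⟨2, 630, 630, 1, 0, 1, 0, 24, 0, 630, [3499, 14006, 3498]⟩) (.leaf ⟨8, 5064, 5065, 0, 0, 0, 0, 93, 0, 0, []⟩)))) (.node (.node (.node (.leaf ⟨0, 101, 101, 1, 0, 1, 0, 6, 0, 101, [433, 3766, 432]⟩) (.leaf ⟨6, 3331, 3331, 1, 0, 1, 0, 51, 0, 3331, [20149, 5462, 5474, 5463, 20148]⟩)) (.node (.leaf ⟨0, 1995, 1466, 0, 0, 0, 0, 4, 0, 1466, [8457, 11959, 11844]⟩) (.leaf ⟨2, 3799, 3799, 1, 0, (-11), 0, 28, 2, 3636, [28338, 28342, 28338]⟩))) (.node (.node (.leaf ⟨3, 248, 270, 0, 0, 0, 0, 32, 0, 270, [1701, 7863, 1608]⟩) (.leaf ⟨6, 3082, 4046, 0, 0, 0, 0, 54, 0, 4046, [24237, 24247, 18628]⟩)) (.node (.leaf ⟨6, 2648, 2683, 0, 0, 0, 0, 93, 0, 0, []⟩) (.leaf ⟨0, 0, 0, 0, 0, 0, 0, 0, 0, 0, []⟩))))))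

def factsPart93 : ATree TFact :=
  .node (.node (.node (.node (.node (.node (.leaf ⟨5, 67, 64, 0, 0, 0, 0, 46, 2, 66, [184, 183, 172]⟩) (.leaf ⟨1, 2734, 103, 0, 0, 0, 0, 17, 0, 103, [441, 16569, 16540]⟩)) (.node (.leaf ⟨5, 1446, 1447, 0, 0, 0, 0, 93, 0, 0, []⟩) (.leaf ⟨6, 4157, 4163, 0, 0, 0, 0, 32, 3, 4157, [24741, 24760, 24752]⟩))) (.node (.node (.leaf ⟨11, 707, 708, 0, 0, 0, 0, 93, 0, 0, []⟩) (.leaf ⟨7, 3439, 3440, 0, 0, 0, 0, 93, 0, 0, []⟩)) (.node (.leaf ⟨8, 1938, 2120, 0, 0, 0, 0, 47, 3, 1938, [11383, 11381, 12310]⟩) (.leaf ⟨1, 710, 630, 0, 0, 0, 0, 15, 0, 630, [3499, 28857, 4286]⟩)))) (.node (.node (.node (.leaf ⟨11, 412, 413, 0, 0, 0, 0, 93, 0, 0, []⟩) (.leaf ⟨3, 3079, 403, 0, 0, 0, 0, 33, 0, 403, [2189, 18615, 18616]⟩)) (.node (.leaf ⟨6, 1762, 1763, 0,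 0, 0, 0, 93, 0, 0, []⟩) (.leaf ⟨0, 4280, 4280, (-1), 0, (-1), 0, 3, 0, 4280, [25411, 26808, 25410]⟩))) (.node (.node (.leaf ⟨8, 709, 997, 0, 0, 0, 0, 93, 0, 0, []⟩) (.leaf ⟨10, 3780, 3769, 50, 0, 6, 0, 36, 1, 3774, [22485, 22508, 22523]⟩)) (.node (.leaf ⟨4, 2238, 1745, 0, 0, 0, 0, 3, 3, 2238, [12965, 13898, 10268]⟩) (.leaf ⟨5, 5144, 5145, 0, 0, 0, 0, 93, 0, 0, []⟩))))) (.node (.node (.node (.node (.leaf ⟨1, 159, 159, (-1), 0, (-1), 0, 19, 0, 159, [915, 1208, 914]⟩) (.leaf ⟨5, 2505, 2880, 0, 0, 0, 0, 93, 0, 0, []⟩)) (.node (.leaf ⟨5, 1595, 1595, (-1), 0, 1, 0, 49, 4, 760, [9000, 4747, 9400, 4746, 9000]⟩) (.leaf ⟨2, 4345, 4353, 0, 0, 0, 0, 25, 0, 4353, [25779, 25785, 25748]⟩))) (.node (.node (.leaf ⟨5, 831, 831, 1, 0, (-1), 0, 47, 0, 831, [5303, 4048, 5302]⟩) (.leaf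 ⟨10, 3690, 3691, 0, 0, 0, 0, 93, 0, 0, []⟩)) (.node (.leaf ⟨10, 510, 510, (-1), 0, (-1), 0, 54, 3, 510, [2667, 13496, 2666]⟩) (.leaf ⟨7, 1557, 1557, 1, 0, (-1), 0, 40, 3, 1557, [8775, 14604, 8774]⟩)))) (.node (.node (.node (.leaf ⟨10, 601, 602, 0, 0, 0, 0, 93, 0, 0, []⟩) (.leaf ⟨2, 3240, 3026, 0, 0, 0, 0, 25, 0, 3026, [18325, 19641, 19620]⟩)) (.node (.leaf ⟨2, 1942, 1948, 0, 0, 0, 0, 23, 0, 1948, [11437, 11449, 11414]⟩) (.leaf ⟨3, 4308, 4373, 0, 0, 0, 0, 33, 0, 4373, [26033, 25503, 25552]⟩))) (.node (.node (.leaf ⟨5, 1204, 1205, 0, 0, 0, 0, 93, 0, 0, []⟩) (.leaf ⟨2, 3559, 3559, 1, 0, (-1), 0, 26, 2, 3558, [21122, 23736, 21122]⟩)) (.node (.leaf ⟨10, 2603, 2604, 0, 0, 0, 0, 93, 0, 0, []⟩) (.leaf ⟨0, 0, 0, 0, 0, 0, 0, 0, 0, 0, []⟩)))))) (.node (.node (.node (.node (.node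 (.leaf ⟨10, 113, 113, 1, 0, 1, 0, 43, 3, 113, [479, 544, 478]⟩) (.leaf ⟨5, 2803, 2803, (-1), 0, 1, 0, 48, 0, 2803, [17067, 17080, 17066]⟩)) (.node (.leaf ⟨1, 1069, 599, 0, 0, 0, 0, 13, 0, 599, [3253, 8889, 6694]⟩) (.leaf ⟨9, 4115, 4125, 101, 0, 53, 0, 60, 3, 4134, [24694, 24698, 25237, 25262, 25272]⟩))) (.node (.node (.leaf ⟨5, 769, 770, 0, 0, 0, 0, 93, 0, 0, []⟩) (.leaf ⟨10, 3568, 3568, 1, 0, 1, 0, 58, 3, 3568, [21165, 21176, 21164]⟩)) (.node (.leaf ⟨2, 2241, 1743, 0, 0, 0, 0, 28, 0, 1743, [10251, 12985, 12982]⟩) (.leaf ⟨10, 1557, 4913, 0, 0, 0, 0, 93, 0, 0, []⟩)))) (.node (.node (.node (.leaf ⟨1, 519, 519, 1, 0, 1, 0, 19, 0, 519, [2703, 2744, 2702]⟩) (.leaf ⟨6, 959, 3145, 0, 0, 0, 0, 52, 2, 556, [6102, 3003, 19128]⟩)) (.node (.leaf ⟨8, 1612, 253, 0, 0, 0, 0, 26,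 3, 1612, [9115, 10936, 1618]⟩) (.leaf ⟨3, 3064, 1933, 0, 0, 0, 0, 37, 0, 1933, [11373, 25501, 18516]⟩))) (.node (.node (.leaf ⟨6, 1062, 1088, 0, 0, 0, 0, 39, 3, 1062, [6673, 6840, 6824]⟩) (.leaf ⟨2, 3893, 3894, 0, 0, 0, 0, 26, 0, 3894, [23219, 23225, 23206]⟩)) (.node (.leaf ⟨11, 2503, 2504, 0, 0, 0, 0, 93, 0, 0, []⟩) (.leaf ⟨5, 5196, 5197, 0, 0, 0, 0, 93, 0, 0, []⟩))))) (.node (.node (.node (.node (.leaf ⟨5, 280, 281, 0, 0, 0, 0, 93, 0, 0, []⟩) (.leaf ⟨8, 10, 10, 1, 0, 1, 0, 41, 3, 10, [19, 18104, 18]⟩)) (.node (.leaf ⟨0, 1533, 1462, 0, 0, 0, 0, 5, 0, 1462, [8449, 1653, 8644]⟩) (.leaf ⟨3, 4372, 4372, 1, 0, (-1), 0, 21, 5, 4372, [26295, 26297, 26024, 26296, 26294]⟩))) (.node (.node (.leaf ⟨9, 915, 916, 0, 0, 0, 0, 57, 3, 915, [5813, 5347, 5816]⟩) (.leaf ⟨2, 3749,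 3749, 1, 0, 3, 0, 11, 5, 3749, [22197, 17261, 22200, 17260, 22196]⟩)) (.node (.leaf ⟨2, 631, 631, (-1), 0, (-1), 0, 23, 0, 631, [3503, 14008, 3502]⟩) (.leaf ⟨9, 5056, 5065, 61, 0, 19, 0, 60, 3, 5058, [30364, 30354, 30381, 30390, 30392]⟩)))) (.node (.node (.node (.leaf ⟨0, 102, 102, (-1), 0, (-1), 0, 5, 0, 102, [437, 3768, 436]⟩) (.leaf ⟨4, 832, 832, (-1), 0, 1, 0, 43, 2, 855, [5450, 18888, 5450]⟩)) (.node (.leaf ⟨0, 1996, 1467, 0, 0, 0, 0, 3, 0, 1467, [8459, 11961, 11846]⟩) (.leaf ⟨5, 3637, 3637, 1, 0, 1, 0, 48, 0, 3637, [21465, 2208, 21464]⟩))) (.node (.node (.leaf ⟨3, 249, 271, 0, 0, 0, 0, 34, 0, 271, [1703, 7865, 1610]⟩) (.leaf ⟨4, 4047, 4046, 38, 0, (-10), 0, 39, 2, 3123, [24244, 18997, 24248]⟩)) (.node (.leaf ⟨2, 2683, 2682, 0, 0, 0, 0, 24, 0, 2682, [16043,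 16055, 16056]⟩) (.leaf ⟨0, 0, 0, 0, 0, 0, 0, 0, 0, 0, []⟩))))))

def factsPart94 : ATree TFact :=
  .node (.node (.node (.node (.node (.node (.leaf ⟨6, 66, 68, 0, 0, 0, 0, 93, 0, 0, []⟩) (.leaf ⟨1, 2735, 104, 0, 0, 0, 0, 14, 0, 104, [445, 16571, 16542]⟩)) (.node (.leaf ⟨6, 1447, 1448, 0, 0, 0, 0, 93, 0, 0, []⟩) (.leaf ⟨6, 4158, 4164, 0, 0, 0, 0, 54, 0, 4164, [24755, 24763, 24742]⟩))) (.node (.node (.leaf ⟨7, 306, 709, 0, 0, 0, 0, 93, 0, 0, []⟩) (.leaf ⟨10, 3433, 3437, 0, 0, 0, 0, 58, 3, 3433, [20653, 16453, 20660]⟩)) (.node (.leaf ⟨8, 2121, 2101, 0, 0, 0, 0, 41, 3, 2121, [12313, 12475, 12260]⟩) (.leaf ⟨1, 993, 2122, 0, 0, 0, 0, 17, 0, 2122, [12315, 28859, 6322]⟩)))) (.node (.node (.node (.leaf ⟨7, 413, 414, 0, 0, 0, 0, 93, 0, 0, []⟩) (.leaf ⟨6, 3079, 3080, 0, 0,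 0, 0, 93, 0, 0, []⟩)) (.node (.leaf ⟨4, 1462, 1462, 1, 0, 1, 0, 39, 0, 1462, [8449, 9762, 8448]⟩) (.leaf ⟨0, 4281, 4281, 1, 0, 1, 0, 2, 0, 4281, [25413, 26810, 25412]⟩))) (.node (.node (.leaf ⟨6, 993, 997, 0, 0, 0, 0, 52, 2, 710, [6322, 4287, 6330]⟩) (.leaf ⟨4, 3801, 3780, (-50), 0, 6, 0, 43, 2, 3768, [22706, 22464, 22715]⟩)) (.node (.leaf ⟨4, 2239, 1780, 0, 0, 0, 0, 43, 0, 1780, [10629, 14523, 12966]⟩) (.leaf ⟨6, 5145, 5146, 0, 0, 0, 0, 93, 0, 0, []⟩))))) (.node (.node (.node (.node (.leaf ⟨2, 155, 155, (-1), 0, (-11), 0, 11, 3, 159, [1199, 1204, 1210, 1199, 1204]⟩) (.leaf ⟨8, 2366, 2880, 0, 0, 0, 0, 47, 3, 2366, [13613, 17592, 17594]⟩)) (.node (.leaf ⟨6, 306, 306, 1, 0, (-1), 0, 54, 0, 306, [1791, 3466, 1790]⟩) (.leaf ⟨8, 727, 4339, 0, 0, 0, 0, 52, 3, 727, [4393,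 11482, 25730]⟩))) (.node (.node (.leaf ⟨6, 828, 828, 1, 0, (-1), 0, 45, 5, 828, [5293, 5304, 5306, 5305, 5292]⟩) (.leaf ⟨7, 3644, 3692, 0, 0, 0, 0, 93, 0, 0, []⟩)) (.node (.leaf ⟨5, 512, 512, (-1), 0, (-1), 0, 49, 4, 511, [2670, 2669, 13498, 2668, 2670]⟩) (.leaf ⟨7, 1558, 1558, 1, 0, 1, 0, 33, 3, 1558, [8777, 29882, 8776]⟩)))) (.node (.node (.node (.leaf ⟨7, 460, 599, 0, 0, 0, 0, 40, 3, 460, [2421, 2824, 3252]⟩) (.leaf ⟨2, 3241, 3027, 0, 0, 0, 0, 24, 0, 3027, [18337, 19643, 19622]⟩)) (.node (.leaf ⟨8, 1945, 1949, 0, 0, 0, 0, 93, 0, 0, []⟩) (.leaf ⟨3, 4309, 4374, 0, 0, 0, 0, 32, 0, 4374, [26035, 27835, 25554]⟩))) (.node (.node (.leaf ⟨6, 1205, 1206, 0, 0, 0, 0, 93, 0, 0, []⟩) (.leaf ⟨2, 3566, 3566, 1, 0, 1, 0, 25, 2, 3559, [21152, 23738, 21152]⟩)) (.node (.leaf ⟨6,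 2590, 2600, 0, 0, 0, 0, 24, 3, 2590, [15471, 15128, 15538]⟩) (.leaf ⟨0, 0, 0, 0, 0, 0, 0, 0, 0, 0, []⟩)))))) (.node (.node (.node (.node (.node (.leaf ⟨10, 114, 114, 1, 0, (-1), 0, 36, 3, 114, [483, 698, 482]⟩) (.leaf ⟨9, 163, 2804, 0, 0, 0, 0, 93, 0, 0, []⟩)) (.node (.leaf ⟨1, 1070, 600, 0, 0, 0, 0, 12, 0, 600, [3255, 8891, 6696]⟩) (.leaf ⟨9, 4126, 4116, (-101), 0, (-53), 0, 57, 3, 4126, [24659, 25275, 24632]⟩))) (.node (.node (.leaf ⟨6, 763, 770, (-21), 0, 1, 0, 45, 5, 763, [4753, 4761, 4776, 4792, 4794]⟩) (.leaf ⟨5, 3567, 3569, 0, 0, 0, 0, 93, 0, 0, []⟩)) (.node (.leaf ⟨5, 2241, 2192, (-27), 0, (-1), 0, 23, 3, 2241, [12986, 10655, 12692]⟩) (.leaf ⟨3, 1732, 4913, 0, 0, 0, 0, 36, 2, 1558, [10182, 8777, 29370]⟩)))) (.node (.node (.node (.leaf ⟨1, 520, 520, (-1),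 0, (-1), 0, 14, 0, 520, [2705, 2746, 2704]⟩) (.leaf ⟨8, 354, 3146, 0, 0, 0, 0, 93, 0, 0, []⟩)) (.node (.leaf ⟨10, 1612, 1837, 0, 0, 0, 0, 93, 0, 0, []⟩) (.leaf ⟨3, 3065, 1934, 0, 0, 0, 0, 31, 0, 1934, [11375, 27323, 18522]⟩))) (.node (.node (.leaf ⟨6, 1063, 1089, 0, 0, 0, 0, 54, 0, 1089, [6827, 6843, 6674]⟩) (.leaf ⟨8, 827, 3895, 0, 0, 0, 0, 93, 0, 0, []⟩)) (.node (.leaf ⟨10, 2260, 2505, 0, 0, 0, 0, 93, 0, 0, []⟩) (.leaf ⟨2, 5192, 5195, 0, 0, 0, 0, 25, 0, 5195, [31415, 13833, 31402]⟩))))) (.node (.node (.node (.node (.leaf ⟨4, 281, 282, 0, 0, 0, 0, 93, 0, 0, []⟩) (.leaf ⟨8, 205, 205, (-1), 0, (-1), 0, 61, 0, 205, [1493, 18106, 1492]⟩)) (.node (.leaf ⟨0, 1534, 1463, 0, 0, 0, 0, 6, 0, 1463, [8451, 9915, 8646]⟩) (.leaf ⟨3, 4351, 4351, (-1), 0, 1, 0, 36, 0, 4351, [26293,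 26298, 26292]⟩))) (.node (.node (.leaf ⟨11, 93, 839, 0, 0, 0, 0, 62, 3, 93, [395, 4504, 5336]⟩) (.leaf ⟨3, 3709, 3749, 0, 0, 0, 0, 32, 0, 3749, [22191, 21875, 21788]⟩)) (.node (.leaf ⟨2, 632, 632, 1, 0, 1, 0, 28, 0, 632, [3505, 14010, 3504]⟩) (.leaf ⟨5, 5063, 5066, 0, 0, 0, 0, 93, 0, 0, []⟩)))) (.node (.node (.node (.leaf ⟨0, 664, 664, 1, 0, 1, 0, 4, 0, 664, [3683, 3770, 3682]⟩) (.leaf ⟨7, 822, 3332, 0, 0, 0, 0, 93, 0, 0, []⟩)) (.node (.leaf ⟨0, 1997, 1468, 0, 0, 0, 0, 2, 0, 1468, [8461, 11963, 11848]⟩) (.leaf ⟨4, 405, 405, (-1), 0, (-1), 0, 41, 0, 405, [2197, 13984, 2196]⟩))) (.node (.node (.leaf ⟨3, 250, 272, 0, 0, 0, 0, 31, 0, 272, [1705, 7867, 1612]⟩) (.leaf ⟨8, 4043, 4047, 0, 0, 0, 0, 47, 3, 4043, [24231, 22775, 24242]⟩)) (.node (.leaf ⟨6, 2640, 2684, 0, 0,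 0, 0, 93, 0, 0, []⟩) (.leaf ⟨0, 0, 0, 0, 0, 0, 0, 0, 0, 0, []⟩))))))

def factsPart95 : ATree TFact :=
  .node (.node (.node (.node (.node (.node (.leaf ⟨7, 68, 68, 0, 1, 0, 1, 92, 36, 0, [0, 2, 4, 6, 8, 10, 12, 14, 16, 18, 20, 22, 24, 26, 28, 30, 32, 34, 36, 72, 74, 76, 78, 80, 82, 84, 86, 88, 138, 140, 142, 144, 168, 170, 182, 188, 0, 2, 4, 6, 8, 10, 12, 14, 16, 18, 20, 22, 24, 26, 28, 30, 32, 34, 36, 72, 74, 76, 78, 80, 82, 84, 86, 88, 138, 140, 142, 144, 168, 170, 182, 188]⟩) (.leaf ⟨1, 2736, 369, 0, 0, 0, 0, 18, 0, 369, [1991, 16573, 16544]⟩)) (.node (.leaf ⟨4, 1448, 1449, 0, 0, 0, 0, 93, 0, 0, []⟩) (.leaf ⟨5, 4164, 4165, 0, 0, 0, 0, 93, 0, 0, []⟩))) (.node (.node (.leaf ⟨6, 709, 710, 0, 0, 0, 0, 93, 0, 0, []⟩) (.leaf ⟨10, 3438, 3434, 0, 0, 0, 0, 54, 3, 3438,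 [20663, 20669, 20654]⟩)) (.node (.leaf ⟨8, 2144, 2102, 0, 0, 0, 0, 34, 3, 2144, [12431, 12476, 12264]⟩) (.leaf ⟨1, 994, 2123, 0, 0, 0, 0, 14, 0, 2123, [12317, 28861, 6324]⟩)))) (.node (.node (.node (.leaf ⟨9, 409, 415, 0, 0, 0, 0, 93, 0, 0, []⟩) (.leaf ⟨3, 3080, 404, 0, 0, 0, 0, 32, 0, 404, [2193, 18619, 18620]⟩)) (.node (.leaf ⟨4, 1463, 1463, (-1), 0, (-1), 0, 40, 0, 1463, [8451, 10428, 8450]⟩) (.leaf ⟨0, 4282, 4282, (-1), 0, (-1), 0, 9, 0, 4282, [25415, 26812, 25414]⟩))) (.node (.node (.leaf ⟨8, 308, 998, 0, 0, 0, 0, 93, 0, 0, []⟩) (.leaf ⟨8, 853, 542, 0, 0, 0, 0, 47, 3, 853, [5435, 5313, 2898]⟩)) (.node (.leaf ⟨4, 2240, 1606, 0, 0, 0, 0, 44, 0, 1606, [9091, 9483, 12974]⟩) (.leaf ⟨1, 5144, 2675, 0, 0, 0, 0, 19, 2, 2897, [30904, 17691, 16000]⟩))))) (.node (.node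 (.node (.node (.leaf ⟨2, 156, 156, (-1), 0, 11, 0, 25, 2, 155, [900, 1212, 900]⟩) (.leaf ⟨6, 2880, 2881, 0, 0, 0, 0, 93, 0, 0, []⟩)) (.node (.leaf ⟨7, 710, 710, 1, 0, (-1), 0, 51, 5, 710, [4287, 4285, 9404, 4284, 4286]⟩) (.leaf ⟨8, 742, 4340, 0, 0, 0, 0, 41, 3, 742, [4617, 25788, 25732]⟩))) (.node (.node (.leaf ⟨6, 829, 829, (-1), 0, 1, 0, 53, 0, 829, [5295, 5308, 5294]⟩) (.leaf ⟨6, 3692, 3693, 0, 0, 0, 0, 93, 0, 0, []⟩)) (.node (.leaf ⟨4, 2350, 2350, 1, 0, (-1), 0, 38, 0, 2350, [13489, 13490, 13500, 13491, 13488]⟩) (.leaf ⟨7, 1732, 1732, (-1), 0, (-1), 0, 58, 0, 1732, [10183, 29884, 10182]⟩)))) (.node (.node (.node (.leaf ⟨7, 461, 600, 0, 0, 0, 0, 33, 3, 461, [2423, 3260, 3254]⟩) (.leaf ⟨2, 3242, 3028, 0, 0, 0, 0, 23, 0, 3028, [18339, 19645, 19624]⟩)) (.node (.leaf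 ⟨6, 1947, 1949, 0, 0, 0, 0, 52, 2, 1946, [11434, 11433, 11452]⟩) (.leaf ⟨3, 4310, 4375, 0, 0, 0, 0, 31, 0, 4375, [26037, 27837, 25556]⟩))) (.node (.node (.leaf ⟨7, 1206, 1207, 0, 0, 0, 0, 93, 0, 0, []⟩) (.leaf ⟨2, 3975, 3975, 1, 0, (-1), 0, 28, 2, 3566, [23727, 23740, 23727]⟩)) (.node (.leaf ⟨6, 2591, 2601, 0, 0, 0, 0, 15, 3, 2591, [15473, 15548, 15540]⟩) (.leaf ⟨0, 0, 0, 0, 0, 0, 0, 0, 0, 0, []⟩)))))) (.node (.node (.node (.node (.node (.leaf ⟨10, 118, 118, 1, 0, 1, 0, 28, 3, 118, [499, 700, 498]⟩) (.leaf ⟨6, 163, 2802, 0, 0, 0, 0, 52, 2, 162, [922, 921, 17064]⟩)) (.node (.leaf ⟨5, 1411, 1070, 3, 0, 3, 0, 14, 3, 1411, [8166, 8881, 8893]⟩) (.leaf ⟨11, 4123, 4238, 0, 0, 0, 0, 93, 0, 0, []⟩))) (.node (.node (.leaf ⟨2, 13, 307, 0, 0, 0, 0, 23, 0, 307, [1793, 4350, 24]⟩)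 (.leaf ⟨7, 3569, 3570, 0, 0, 0, 0, 93, 0, 0, []⟩)) (.node (.leaf ⟨0, 2239, 2241, 0, 0, 0, 0, 9, 2, 2238, [12966, 12965, 12982]⟩) (.leaf ⟨11, 4913, 4914, 0, 0, 0, 0, 93, 0, 0, []⟩)))) (.node (.node (.node (.leaf ⟨1, 516, 516, (-1), 0, (-1), 0, 20, 2, 520, [2740, 2748, 2740]⟩) (.leaf ⟨5, 3145, 3146, 0, 0, 0, 0, 47, 0, 3146, [19133, 3296, 19128]⟩)) (.node (.leaf ⟨8, 1837, 1834, 0, 0, 0, 0, 61, 0, 1834, [10921, 10939, 10940]⟩) (.leaf ⟨7, 3065, 4610, 0, 0, 0, 0, 93, 0, 0, []⟩))) (.node (.node (.leaf ⟨7, 1089, 1092, 0, 0, 0, 0, 93, 0, 0, []⟩) (.leaf ⟨10, 3894, 3895, 0, 0, 0, 0, 61, 3, 3894, [23219, 5290, 23228]⟩)) (.node (.leaf ⟨3, 2503, 2505, 0, 0, 0, 0, 36, 2, 2261, [15032, 13061, 15036]⟩) (.leaf ⟨2, 5193, 5196, 0, 0, 0, 0, 24, 0, 5196, [31417, 31421, 31406]⟩))))) (.node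 (.node (.node (.node (.leaf ⟨3, 282, 283, 0, 0, 0, 0, 93, 0, 0, []⟩) (.leaf ⟨8, 206, 206, (-1), 0, 1, 0, 47, 3, 206, [1495, 18108, 1494]⟩)) (.node (.leaf ⟨0, 1535, 1464, 0, 0, 0, 0, 5, 0, 1464, [8453, 9917, 8648]⟩) (.leaf ⟨3, 4447, 4447, (-1), 0, (-1), 0, 37, 2, 4351, [26291, 26300, 26291]⟩))) (.node (.node (.leaf ⟨11, 97, 841, 0, 0, 0, 0, 50, 3, 97, [419, 5820, 5344]⟩) (.leaf ⟨4, 3709, 3709, (-1), 0, (-1), 0, 39, 0, 3709, [21789, 22062, 21788]⟩)) (.node (.leaf ⟨0, 599, 599, 1, 0, 1, 0, 3, 0, 599, [3253, 9304, 3252]⟩) (.leaf ⟨7, 5066, 5067, 0, 0, 0, 0, 93, 0, 0, []⟩)))) (.node (.node (.node (.leaf ⟨5, 92, 667, 0, 0, 0, 0, 93, 0, 0, []⟩) (.leaf ⟨10, 3332, 3317, 0, 0, 0, 0, 58, 3, 3332, [20157, 5282, 20044]⟩)) (.node (.leaf ⟨0, 1998, 1469, 0, 0, 0, 0, 1, 0, 1469, [8463,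 11965, 11850]⟩) (.leaf ⟨4, 3637, 3637, 1, 0, 1, 0, 42, 0, 3637, [21465, 28348, 21464]⟩))) (.node (.node (.leaf ⟨4, 252, 274, 0, 0, 0, 0, 30, 5, 252, [1617, 1615, 7868, 1706, 1708]⟩) (.leaf ⟨4, 4033, 4043, (-38), 0, 10, 0, 41, 2, 4046, [24240, 24251, 24253]⟩)) (.node (.leaf ⟨1, 2684, 2683, 0, 0, 0, 0, 15, 0, 2683, [16057, 15877, 16060]⟩) (.leaf ⟨0, 0, 0, 0, 0, 0, 0, 0, 0, 0, []⟩))))))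

def factsPart96 : ATree TFact :=
  .node (.node (.node (.node (.node (.node (.leaf ⟨6, 67, 67, 0, 1, 0, 1, 51, 4, 66, [184, 188, 190, 189, 184]⟩) (.leaf ⟨1, 2737, 370, 0, 0, 0, 0, 19, 0, 370, [1993, 16575, 16546]⟩)) (.node (.leaf ⟨5, 1449, 1450, 0, 0, 0, 0, 93, 0, 0, []⟩) (.leaf ⟨7, 2142, 4166, 0, 0, 0, 0, 93, 0, 0, []⟩))) (.node (.node (.leaf ⟨5, 710, 711, 0, 0, 0, 0, 93, 0, 0, []⟩) (.leaf ⟨10, 3439, 3435, 0, 0, 0, 0, 61, 3, 3439, [20665, 20670, 20656]⟩)) (.node (.leaf ⟨2, 2110, 2102, (-8), 0, 22, 0, 26, 2, 2107, [12290, 12473, 12478]⟩) (.leaf ⟨1, 995, 2124, 0, 0, 0, 0, 13, 0, 2124, [12319, 28863, 6326]⟩)))) (.node (.node (.node (.leaf ⟨5, 411, 415, 0, 0, 0, 0, 48, 2, 410, [2230, 2229, 2238]⟩) (.leaf ⟨5, 3080, 3081, 0, 0, 0, 0, 93, 0, 0, []⟩)) (.node (.leaf ⟨4,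 1464, 1464, 1, 0, 1, 0, 39, 0, 1464, [8453, 10430, 8452]⟩) (.leaf ⟨10, 2164, 4510, 0, 0, 0, 0, 93, 0, 0, []⟩))) (.node (.node (.leaf ⟨5, 997, 998, 0, 0, 0, 0, 47, 0, 998, [6335, 4754, 6330]⟩) (.leaf ⟨8, 543, 920, 0, 0, 0, 0, 41, 3, 543, [2901, 22719, 5870]⟩)) (.node (.leaf ⟨4, 1781, 1607, (-27), 0, 1, 0, 38, 4, 1780, [10630, 14525, 12993, 14526, 9092]⟩) (.leaf ⟨1, 2676, 5145, 0, 0, 0, 0, 14, 0, 5145, [30907, 30910, 16002]⟩))))) (.node (.node (.node (.node (.leaf ⟨1, 160, 178, 0, 0, 0, 0, 93, 0, 0, []⟩) (.leaf ⟨8, 2367, 2881, 0, 0, 0, 0, 52, 3, 2367, [13617, 17596, 17598]⟩)) (.node (.leaf ⟨7, 711, 711, 1, 0, 1, 0, 46, 3, 711, [4289, 9406, 4288]⟩) (.leaf ⟨8, 597, 4350, 0, 0, 0, 0, 61, 0, 4350, [25773, 25221, 3246]⟩))) (.node (.node (.leaf ⟨8, 541, 832, 0, 0, 0, 0,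 93, 0, 0, []⟩) (.leaf ⟨5, 3693, 3694, 0, 0, 0, 0, 93, 0, 0, []⟩)) (.node (.leaf ⟨5, 1670, 2351, 0, 0, 0, 0, 93, 0, 0, []⟩) (.leaf ⟨7, 1733, 1733, 1, 0, 1, 0, 59, 0, 1733, [10187, 29886, 10186]⟩)))) (.node (.node (.node (.leaf ⟨7, 462, 601, 0, 0, 0, 0, 25, 3, 462, [2425, 3262, 3256]⟩) (.leaf ⟨2, 3246, 3024, 27, 0, 1, 0, 24, 2, 3242, [19636, 19646, 18341]⟩)) (.node (.leaf ⟨5, 1932, 1950, 0, 0, 0, 0, 93, 0, 0, []⟩) (.leaf ⟨4, 4689, 4377, 0, 0, 0, 0, 30, 5, 4689, [27833, 25559, 27838, 26038, 26040]⟩))) (.node (.node (.leaf ⟨6, 1207, 1208, 0, 0, 0, 0, 93, 0, 0, []⟩) (.leaf ⟨2, 3974, 3974, 1, 0, 1, 0, 23, 2, 3975, [23725, 23742, 23725]⟩)) (.node (.leaf ⟨6, 2592, 2602, 0, 0, 0, 0, 53, 0, 2602, [15543, 15551, 15474]⟩) (.leaf ⟨0, 0, 0, 0, 0, 0, 0, 0, 0, 0, []⟩)))))) (.node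 (.node (.node (.node (.node (.leaf ⟨0, 111, 7, 0, 0, 0, 0, 9, 2, 69, [470, 275, 12]⟩) (.leaf ⟨6, 2803, 2804, 0, 0, 0, 0, 53, 0, 2804, [17085, 17086, 17066]⟩)) (.node (.leaf ⟨10, 1572, 1571, (-3), 0, 3, 0, 49, 3, 1070, [6698, 8878, 8895, 8160, 8874]⟩) (.leaf ⟨5, 4238, 4239, 0, 0, 0, 0, 93, 0, 0, []⟩))) (.node (.node (.leaf ⟨2, 14, 308, 0, 0, 0, 0, 25, 0, 308, [1795, 4799, 26]⟩) (.leaf ⟨5, 3570, 3568, 0, 0, 0, 0, 46, 2, 3569, [21182, 21181, 21164]⟩)) (.node (.leaf ⟨5, 2240, 2239, 27, 0, 1, 0, 4, 3, 2240, [12980, 12989, 12991]⟩) (.leaf ⟨3, 4914, 1733, 0, 0, 0, 0, 37, 0, 1733, [10187, 29372, 29374]⟩)))) (.node (.node (.node (.leaf ⟨1, 512, 512, 1, 0, 1, 0, 15, 0, 512, [2697, 2750, 2696]⟩) (.leaf ⟨6, 356, 3146, 0, 0, 0, 0, 52, 2, 355, [1924, 1923, 19132]⟩)) (.node (.leaf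 ⟨10, 1767, 1838, 0, 0, 0, 0, 93, 0, 0, []⟩) (.leaf ⟨3, 4610, 1935, 0, 0, 0, 0, 33, 0, 1935, [11377, 27325, 27326]⟩))) (.node (.node (.leaf ⟨6, 1092, 1093, 0, 0, 0, 0, 93, 0, 0, []⟩) (.leaf ⟨9, 467, 467, 1, 0, (-1), 0, 64, 0, 467, [2447, 21892, 2446]⟩)) (.node (.leaf ⟨11, 2505, 2506, 0, 0, 0, 0, 93, 0, 0, []⟩) (.leaf ⟨2, 5194, 5197, 0, 0, 0, 0, 23, 0, 5197, [31419, 31423, 31410]⟩))))) (.node (.node (.node (.node (.leaf ⟨2, 283, 284, 0, 0, 0, 0, 93, 0, 0, []⟩) (.leaf ⟨7, 2848, 2848, (-1), 0, 1, 0, 56, 4, 207, [17446, 1497, 18110, 1496, 17446]⟩)) (.node (.leaf ⟨0, 1536, 1688, 0, 0, 0, 0, 4, 0, 1688, [9909, 9919, 8650]⟩) (.leaf ⟨2, 4362, 4446, 0, 0, 0, 0, 29, 0, 4446, [26287, 25780, 25848]⟩))) (.node (.node (.leaf ⟨3, 841, 841, (-1), 0, 1, 0, 37, 0, 841, [5823, 806,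 5822]⟩) (.leaf ⟨6, 3742, 3742, 1, 0, 1, 0, 45, 5, 3742, [22099, 21789, 22064, 21788, 22098]⟩)) (.node (.leaf ⟨0, 684, 684, (-1), 0, (-1), 0, 9, 0, 684, [4123, 14014, 4122]⟩) (.leaf ⟨8, 5067, 5068, 0, 0, 0, 0, 93, 0, 0, []⟩)))) (.node (.node (.node (.leaf ⟨2, 664, 667, 0, 0, 0, 0, 23, 0, 667, [3775, 439, 3682]⟩) (.leaf ⟨11, 198, 3332, 0, 0, 0, 0, 59, 3, 198, [1411, 5270, 20156]⟩)) (.node (.leaf ⟨0, 1999, 1470, 0, 0, 0, 0, 8, 0, 1470, [8465, 11967, 11852]⟩) (.leaf ⟨3, 3126, 405, 0, 0, 0, 0, 34, 0, 405, [2197, 3342, 19018]⟩))) (.node (.node (.leaf ⟨4, 253, 1202, 0, 0, 0, 0, 22, 3, 253, [1619, 7870, 7348]⟩) (.leaf ⟨4, 4044, 4035, 38, 0, (-10), 0, 40, 2, 4043, [24232, 24255, 24142]⟩)) (.node (.leaf ⟨6, 1397, 2685, 0, 0, 0, 0, 93, 0, 0, []⟩) (.leaf ⟨0, 0, 0, 0, 0, 0, 0,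 0, 0, 0, []⟩))))))

def factsPart97 : ATree TFact :=
  .node (.node (.node (.node (.node (.node (.leaf ⟨5, 65, 65, 0, 1, 0, 1, 45, 4, 64, [174, 187, 192, 186, 174]⟩) (.leaf ⟨1, 2738, 371, 0, 0, 0, 0, 20, 0, 371, [1995, 16577, 16548]⟩)) (.node (.leaf ⟨8, 1439, 1451, 0, 0, 0, 0, 93, 0, 0, []⟩) (.leaf ⟨6, 4166, 4167, 0, 0, 0, 0, 93, 0, 0, []⟩))) (.node (.node (.leaf ⟨4, 711, 712, 0, 0, 0, 0, 93, 0, 0, []⟩) (.leaf ⟨10, 3440, 3436, 0, 0, 0, 0, 58, 3, 3440, [20667, 20672, 20658]⟩)) (.node (.leaf ⟨3, 2096, 2108, 0, 0, 0, 0, 36, 2, 2095, [12250, 12249, 12276]⟩) (.leaf ⟨1, 996, 2125, 0, 0, 0, 0, 12, 0, 2125, [12321, 28865, 6328]⟩)))) (.node (.node (.node (.leaf ⟨9, 398, 416, 0, 0, 0, 0, 93, 0, 0, []⟩) (.leaf ⟨3, 3081, 3040, 0, 0, 0, 0, 31, 0, 3040, [18383, 18623, 18624]⟩))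 (.node (.leaf ⟨5, 1711, 1711, 1, 0, 1, 0, 38, 5, 1711, [10047, 9909, 10432, 9908, 10046]⟩) (.leaf ⟨6, 2075, 4279, 0, 0, 0, 0, 45, 5, 2075, [12143, 12111, 11510, 25406, 25408]⟩))) (.node (.node (.leaf ⟨6, 310, 998, 0, 0, 0, 0, 52, 2, 309, [1798, 1797, 6334]⟩) (.leaf ⟨8, 544, 926, 0, 0, 0, 0, 34, 3, 544, [2903, 22720, 5922]⟩)) (.node (.leaf ⟨7, 2241, 2432, 0, 0, 0, 0, 58, 0, 2432, [14399, 14411, 12982]⟩) (.leaf ⟨1, 2677, 5146, 0, 0, 0, 0, 15, 0, 5146, [30909, 30913, 16004]⟩))))) (.node (.node (.node (.node (.leaf ⟨7, 178, 179, 0, 0, 0, 0, 93, 0, 0, []⟩) (.leaf ⟨2, 2881, 2879, (-21), 0, 1, 0, 26, 0, 2879, [17587, 13636, 17600]⟩)) (.node (.leaf ⟨7, 714, 714, (-1), 0, (-1), 0, 58, 0, 714, [4295, 9408, 4294]⟩) (.leaf ⟨8, 598, 4351, 0, 0, 0, 0, 47, 3, 598, [3249, 25792,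 25774]⟩))) (.node (.node (.leaf ⟨9, 832, 833, 0, 0, 0, 0, 93, 0, 0, []⟩) (.leaf ⟨8, 3640, 3695, 0, 0, 0, 0, 93, 0, 0, []⟩)) (.node (.leaf ⟨3, 1670, 1764, 0, 0, 0, 0, 36, 2, 1668, [9784, 9779, 10446]⟩) (.leaf ⟨11, 2449, 4986, 0, 0, 0, 0, 93, 0, 0, []⟩)))) (.node (.node (.node (.leaf ⟨7, 463, 602, 0, 0, 0, 0, 58, 0, 602, [3259, 3265, 2426]⟩) (.leaf ⟨3, 2989, 3247, 0, 0, 0, 0, 93, 0, 0, []⟩)) (.node (.leaf ⟨4, 1950, 1951, 0, 0, 0, 0, 93, 0, 0, []⟩) (.leaf ⟨4, 1952, 4373, 0, 0, 0, 0, 40, 2, 1951, [11460, 11459, 26032]⟩))) (.node (.node (.leaf ⟨8, 1208, 1209, 0, 0, 0, 0, 93, 0, 0, []⟩) (.leaf ⟨7, 423, 3976, 0, 0, 0, 0, 93, 0, 0, []⟩)) (.node (.leaf ⟨6, 2593, 2603, 0, 0, 0, 0, 5, 3, 2593, [15477, 15552, 15544]⟩) (.leaf ⟨0, 0, 0, 0, 0, 0, 0, 0, 0, 0, []⟩)))))) (.node (.node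 (.node (.node (.node (.leaf ⟨0, 122, 112, 0, 0, 0, 0, 4, 0, 112, [475, 704, 512]⟩) (.leaf ⟨7, 2804, 2805, 0, 0, 0, 0, 93, 0, 0, []⟩)) (.node (.leaf ⟨5, 1067, 1573, 0, 0, 0, 0, 93, 0, 0, []⟩) (.leaf ⟨11, 4239, 4124, 0, 0, 0, 0, 50, 3, 4239, [25281, 25279, 24654]⟩))) (.node (.node (.leaf ⟨2, 15, 309, 0, 0, 0, 0, 24, 0, 309, [1797, 4801, 28]⟩) (.leaf ⟨5, 3044, 3571, 0, 0, 0, 0, 93, 0, 0, []⟩)) (.node (.leaf ⟨8, 2240, 2224, 0, 0, 0, 0, 62, 0, 2224, [12929, 12843, 12974]⟩) (.leaf ⟨4, 4913, 1652, 0, 0, 0, 0, 43, 2, 1557, [29370, 8775, 9614]⟩)))) (.node (.node (.node (.leaf ⟨2, 501, 501, 1, 0, 1, 0, 11, 5, 501, [2657, 2682, 2752, 2683, 2656]⟩) (.leaf ⟨6, 960, 357, 0, 0, 0, 0, 45, 5, 960, [6107, 19130, 19134, 19137, 1926]⟩)) (.node (.leaf ⟨7, 1612, 1767, 0, 0, 0, 0, 25,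 3, 1612, [9115, 10120, 10478]⟩) (.leaf ⟨6, 4610, 4611, 0, 0, 0, 0, 93, 0, 0, []⟩))) (.node (.node (.leaf ⟨7, 1076, 1093, 0, 0, 0, 0, 51, 5, 1076, [6747, 6743, 6844, 6846, 6848]⟩) (.leaf ⟨9, 468, 468, 1, 0, 1, 0, 48, 3, 468, [2449, 23232, 2448]⟩)) (.node (.leaf ⟨3, 2506, 2504, 0, 0, 0, 0, 37, 0, 2504, [15035, 15038, 15040]⟩) (.leaf ⟨11, 1149, 5198, 0, 0, 0, 0, 93, 0, 0, []⟩))))) (.node (.node (.node (.node (.leaf ⟨7, 284, 285, 0, 0, 0, 0, 93, 0, 0, []⟩) (.leaf ⟨7, 2968, 2968, 1, 0, (-1), 0, 57, 0, 2968, [18099, 18112, 18098]⟩)) (.node (.leaf ⟨0, 1544, 1689, 0, 0, 0, 0, 9, 0, 1689, [9911, 9921, 8694]⟩) (.leaf ⟨2, 4363, 4447, 0, 0, 0, 0, 23, 0, 4447, [26289, 26305, 25850]⟩))) (.node (.node (.leaf ⟨3, 916, 916, (-1), 0, (-1), 0, 33, 2, 841, [5816, 5824, 5816]⟩) (.leaf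 ⟨7, 3742, 3742, 1, 0, 1, 0, 46, 3, 3742, [22099, 22066, 22098]⟩)) (.node (.leaf ⟨0, 2413, 2413, 1, 0, 1, 0, 10, 0, 2413, [13995, 14016, 13994]⟩) (.leaf ⟨5, 5067, 5064, 0, 0, 0, 0, 46, 2, 5066, [30398, 30397, 30388]⟩)))) (.node (.node (.node (.leaf ⟨3, 667, 667, 1, 0, 1, 0, 21, 3, 110, [3703, 3776, 802, 3703, 3776]⟩) (.leaf ⟨5, 198, 198, (-1), 0, (-1), 0, 46, 0, 198, [1411, 5262, 1410]⟩)) (.node (.leaf ⟨0, 2000, 1471, 0, 0, 0, 0, 9, 0, 1471, [8467, 11969, 11854]⟩) (.leaf ⟨3, 3127, 3637, 0, 0, 0, 0, 35, 0, 3637, [21465, 28353, 19020]⟩))) (.node (.node (.leaf ⟨4, 254, 1203, 0, 0, 0, 0, 42, 0, 1203, [7351, 7873, 1620]⟩) (.leaf ⟨6, 4044, 4048, 0, 0, 0, 0, 93, 0, 0, []⟩)) (.node (.leaf ⟨2, 1395, 2635, 0, 0, 0, 0, 27, 2, 1390, [8096, 8087, 15830]⟩) (.leaf ⟨0, 0, 0, 0, 0,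 0, 0, 0, 0, 0, []⟩))))))

def factsPart98 : ATree TFact :=
  .node (.node (.node (.node (.node (.node (.leaf ⟨4, 61, 61, 0, 1, 0, 1, 38, 4, 60, [152, 180, 194, 181, 152]⟩) (.leaf ⟨1, 2739, 372, 0, 0, 0, 0, 16, 0, 372, [1997, 16579, 16550]⟩)) (.node (.leaf ⟨6, 1441, 1451, 0, 0, 0, 0, 52, 2, 1440, [8366, 8365, 8386]⟩) (.leaf ⟨5, 4167, 4168, 0, 0, 0, 0, 93, 0, 0, []⟩))) (.node (.node (.leaf ⟨10, 712, 713, 0, 0, 0, 0, 93, 0, 0, []⟩) (.leaf ⟨7, 2690, 3441, 0, 0, 0, 0, 93, 0, 0, []⟩)) (.node (.leaf ⟨3, 2109, 2097, 0, 0, 0, 0, 31, 0, 2097, [12253, 12482, 12284]⟩) (.leaf ⟨2, 4852, 4718, 0, 0, 0, 0, 11, 5, 4852, [28841, 11731, 28866, 19866, 28038]⟩)))) (.node (.node (.node (.leaf ⟨10, 407, 396, 0, 0, 0, 0, 58, 3, 407, [2223, 2221, 2162]⟩) (.leaf ⟨10, 3081, 3082, 0, 0, 0,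 0, 93, 0, 0, []⟩)) (.node (.leaf ⟨5, 1716, 1716, 1, 0, (-1), 0, 31, 3, 1716, [10099, 10434, 10098]⟩) (.leaf ⟨6, 2076, 4280, 0, 0, 0, 0, 39, 3, 2076, [12147, 26818, 25410]⟩))) (.node (.node (.leaf ⟨6, 994, 311, 0, 0, 0, 0, 45, 5, 994, [6325, 6332, 6336, 6339, 1800]⟩) (.leaf ⟨9, 72, 72, 1, 0, 1, 0, 35, 3, 72, [281, 21890, 280]⟩)) (.node (.leaf ⟨3, 1709, 1720, 0, 0, 0, 0, 31, 0, 1720, [10129, 10031, 10032]⟩) (.leaf ⟨1, 5057, 2664, 0, 0, 0, 0, 19, 2, 5045, [30358, 30315, 15948]⟩))))) (.node (.node (.node (.node (.leaf ⟨6, 179, 180, 0, 0, 0, 0, 93, 0, 0, []⟩) (.leaf ⟨9, 2283, 2505, 0, 0, 0, 0, 63, 2, 2282, [13140, 13137, 15036]⟩)) (.node (.leaf ⟨3, 1554, 703, 0, 0, 0, 0, 33, 0, 703, [4273, 8848, 8768]⟩) (.leaf ⟨8, 693, 4352, 0, 0, 0, 0, 52, 3, 693, [4189, 25794, 25776]⟩)))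 (.node (.node (.leaf ⟨3, 825, 832, 0, 0, 0, 0, 34, 0, 832, [5313, 2993, 5280]⟩) (.leaf ⟨6, 3642, 3695, 0, 0, 0, 0, 52, 2, 3641, [21508, 21507, 21698]⟩)) (.node (.leaf ⟨3, 2350, 2351, 0, 0, 0, 0, 31, 0, 2351, [13505, 13506, 13488]⟩) (.leaf ⟨3, 4986, 1729, 0, 0, 0, 0, 37, 0, 1729, [10171, 14592, 29890]⟩)))) (.node (.node (.node (.leaf ⟨5, 602, 603, 0, 0, 0, 0, 93, 0, 0, []⟩) (.leaf ⟨10, 3247, 3248, 0, 0, 0, 0, 93, 0, 0, []⟩)) (.node (.leaf ⟨7, 1951, 1952, 0, 0, 0, 0, 93, 0, 0, []⟩) (.leaf ⟨4, 4374, 4278, 0, 0, 0, 0, 39, 0, 4278, [25407, 27842, 26034]⟩))) (.node (.node (.leaf ⟨5, 1209, 1210, 0, 0, 0, 0, 93, 0, 0, []⟩) (.leaf ⟨6, 3976, 3977, 0, 0, 0, 0, 93, 0, 0, []⟩)) (.node (.leaf ⟨6, 2595, 2604, 0, 0, 0, 0, 54, 0, 2604, [15547, 15555, 15496]⟩) (.leaf ⟨0, 0, 0, 0,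 0, 0, 0, 0, 0, 0, []⟩)))))) (.node (.node (.node (.node (.node (.leaf ⟨7, 122, 138, 0, 0, 0, 0, 93, 0, 0, []⟩) (.leaf ⟨10, 161, 161, 1, 0, 1, 0, 58, 3, 161, [919, 1098, 918]⟩)) (.node (.leaf ⟨7, 1573, 1572, 0, 0, 0, 0, 46, 3, 1573, [8899, 6708, 8878]⟩) (.leaf ⟨6, 4239, 4240, 0, 0, 0, 0, 93, 0, 0, []⟩))) (.node (.node (.leaf ⟨2, 755, 760, 0, 0, 0, 0, 23, 0, 760, [4747, 4803, 4736]⟩) (.leaf ⟨8, 3569, 3571, 0, 0, 0, 0, 47, 3, 3569, [21181, 21161, 21186]⟩)) (.node (.leaf ⟨5, 2233, 2224, (-27), 0, (-1), 0, 47, 2, 2239, [12972, 12993, 12994]⟩) (.leaf ⟨4, 1653, 4914, 0, 0, 0, 0, 44, 0, 4914, [29375, 29378, 9618]⟩)))) (.node (.node (.node (.leaf ⟨3, 500, 500, 1, 0, 1, 0, 21, 3, 501, [2621, 2638, 2754, 2621, 2638]⟩) (.leaf ⟨6, 3140, 358, 0, 0, 0, 0, 39, 3, 3140, [19109, 19138,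 1928]⟩)) (.node (.leaf ⟨7, 1837, 1838, 0, 0, 0, 0, 58, 0, 1838, [10945, 10947, 10940]⟩) (.leaf ⟨3, 4611, 1936, 0, 0, 0, 0, 32, 0, 1936, [11379, 27329, 27330]⟩))) (.node (.node (.leaf ⟨5, 1093, 1094, 0, 0, 0, 0, 93, 0, 0, []⟩) (.leaf ⟨9, 479, 479, (-1), 0, (-1), 0, 63, 0, 479, [2471, 23234, 2470]⟩)) (.node (.leaf ⟨10, 2498, 2507, 0, 0, 0, 0, 93, 0, 0, []⟩) (.leaf ⟨7, 5198, 5199, 0, 0, 0, 0, 93, 0, 0, []⟩))))) (.node (.node (.node (.node (.leaf ⟨6, 285, 286, 0, 0, 0, 0, 93, 0, 0, []⟩) (.leaf ⟨6, 2967, 2967, (-1), 0, (-1), 0, 51, 0, 2967, [18095, 18101, 18114, 18100, 18094]⟩)) (.node (.leaf ⟨0, 1649, 1690, 0, 0, 0, 0, 10, 0, 1690, [9913, 9923, 9590]⟩) (.leaf ⟨3, 4342, 3050, 0, 0, 0, 0, 36, 2, 2645, [25742, 15855, 18434]⟩))) (.node (.node (.leaf ⟨3, 915, 915, (-1), 0,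 1, 0, 35, 2, 916, [5819, 5826, 5819]⟩) (.leaf ⟨5, 3745, 3737, 0, 0, 0, 0, 46, 0, 3737, [22037, 2028, 22144]⟩)) (.node (.leaf ⟨4, 1620, 2413, 0, 0, 0, 0, 44, 0, 2413, [13995, 4126, 9258]⟩) (.leaf ⟨5, 5065, 5068, 0, 0, 0, 0, 47, 0, 5068, [30401, 30402, 30392]⟩)))) (.node (.node (.node (.leaf ⟨5, 94, 201, 0, 0, 0, 0, 46, 2, 89, [396, 387, 1444]⟩) (.leaf ⟨4, 198, 819, 0, 0, 0, 0, 40, 0, 819, [5247, 407, 1410]⟩)) (.node (.leaf ⟨0, 2001, 2021, 0, 0, 0, 0, 4, 0, 2021, [11943, 11971, 11856]⟩) (.leaf ⟨2, 3126, 913, 0, 0, 0, 0, 26, 0, 913, [5799, 3631, 19018]⟩))) (.node (.node (.leaf ⟨4, 255, 1204, 0, 0, 0, 0, 43, 0, 1204, [7353, 7875, 1622]⟩) (.leaf ⟨4, 4036, 4048, (-38), 0, 10, 0, 39, 2, 4035, [24144, 24257, 24258]⟩)) (.node (.leaf ⟨2, 2636, 1396, 0, 0, 0, 0, 28, 0, 1396,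 [8099, 16066, 15832]⟩) (.leaf ⟨0, 0, 0, 0, 0, 0, 0, 0, 0, 0, []⟩))))))

def factsPart99 : ATree TFact :=
  .node (.node (.node (.node (.node (.node (.leaf ⟨3, 53, 53, 0, 1, 0, 1, 30, 4, 52, [104, 166, 196, 167, 104]⟩) (.leaf ⟨1, 2740, 373, 0, 0, 0, 0, 15, 0, 373, [1999, 16581, 16552]⟩)) (.node (.leaf ⟨8, 1362, 1452, 0, 0, 0, 0, 93, 0, 0, []⟩) (.leaf ⟨4, 4168, 4169, 0, 0, 0, 0, 93, 0, 0, []⟩))) (.node (.node (.leaf ⟨10, 711, 714, 0, 0, 0, 0, 93, 0, 0, []⟩) (.leaf ⟨6, 3441, 3442, 0, 0, 0, 0, 93, 0, 0, []⟩)) (.node (.leaf ⟨3, 2110, 2098, 0, 0, 0, 0, 32, 0, 2098, [12255, 12485, 12288]⟩) (.leaf ⟨2, 4853, 4719, 0, 0, 0, 0, 27, 0, 4719, [28041, 28869, 28842]⟩)))) (.node (.node (.node (.leaf ⟨10, 397, 408, 0, 0, 0, 0, 54, 3, 397, [2167, 2245, 2224]⟩) (.leaf ⟨3, 3082, 3041,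 0, 0, 0, 0, 36, 0, 3041, [18385, 18627, 18628]⟩)) (.node (.leaf ⟨10, 1718, 1718, 1, 0, (-1), 0, 49, 5, 1718, [10103, 10101, 10436, 10100, 10102]⟩) (.leaf ⟨6, 2164, 4281, 0, 0, 0, 0, 32, 3, 2164, [12559, 26820, 25412]⟩))) (.node (.node (.leaf ⟨6, 995, 312, 0, 0, 0, 0, 39, 3, 995, [6327, 6340, 1802]⟩) (.leaf ⟨9, 75, 75, (-1), 0, (-1), 0, 63, 0, 75, [287, 22724, 286]⟩)) (.node (.leaf ⟨7, 1743, 1720, (-27), 0, 1, 0, 33, 3, 1743, [10255, 10065, 14532]⟩) (.leaf ⟨11, 5146, 5057, (-1), 0, (-5), 0, 20, 1, 2664, [16015, 30914, 30917]⟩))))) (.node (.node (.node (.node (.leaf ⟨8, 180, 181, 0, 0, 0, 0, 93, 0, 0, []⟩) (.leaf ⟨9, 2880, 2875, 0, 0, 0, 0, 48, 3, 2880, [17595, 17605, 17566]⟩)) (.node (.leaf ⟨3, 1555, 704, 0, 0, 0, 0, 32, 0, 704, [4275, 9413, 8770]⟩) (.leaf ⟨8, 4341,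 4353, 9, 0, (-3), 0, 56, 3, 742, [25790, 25734, 4621, 25796, 25778]⟩))) (.node (.node (.leaf ⟨3, 826, 833, 0, 0, 0, 0, 35, 0, 833, [5315, 5317, 5284]⟩) (.leaf ⟨8, 3683, 3696, 0, 0, 0, 0, 93, 0, 0, []⟩)) (.node (.leaf ⟨10, 1669, 2352, 0, 0, 0, 0, 93, 0, 0, []⟩) (.leaf ⟨5, 4986, 4987, 0, 0, 0, 0, 93, 0, 0, []⟩)))) (.node (.node (.node (.leaf ⟨7, 589, 603, 0, 0, 0, 0, 46, 3, 589, [3217, 3266, 3268]⟩) (.leaf ⟨11, 3248, 3249, 0, 0, 0, 0, 93, 0, 0, []⟩)) (.node (.leaf ⟨8, 1952, 1953, 0, 0, 0, 0, 93, 0, 0, []⟩) (.leaf ⟨5, 4376, 4280, 0, 0, 0, 0, 38, 5, 4376, [26039, 26037, 27844, 25408, 25410]⟩))) (.node (.node (.leaf ⟨4, 1210, 1211, 0, 0, 0, 0, 93, 0, 0, []⟩) (.leaf ⟨8, 3977, 3978, 0, 0, 0, 0, 93, 0, 0, []⟩)) (.node (.leaf ⟨5, 2604, 2605, 0, 0, 0, 0, 93, 0, 0, []⟩) (.leaf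 ⟨0, 0, 0, 0, 0, 0, 0, 0, 0, 0, []⟩)))))) (.node (.node (.node (.node (.node (.leaf ⟨0, 138, 129, 0, 0, 0, 0, 6, 0, 129, [527, 707, 708]⟩) (.leaf ⟨10, 162, 162, 1, 0, (-1), 0, 54, 3, 162, [921, 17092, 920]⟩)) (.node (.leaf ⟨6, 1573, 1574, 0, 0, 0, 0, 93, 0, 0, []⟩) (.leaf ⟨11, 4125, 4240, 0, 0, 0, 0, 55, 3, 4125, [24657, 25283, 25284]⟩))) (.node (.node (.leaf ⟨2, 756, 761, 0, 0, 0, 0, 22, 0, 761, [4749, 4805, 4738]⟩) (.leaf ⟨7, 3057, 3572, 0, 0, 0, 0, 93, 0, 0, []⟩)) (.node (.leaf ⟨5, 2225, 2234, 27, 0, 1, 0, 46, 2, 2224, [12930, 12997, 12956]⟩) (.leaf ⟨7, 1655, 1655, (-1), 0, 1, 0, 51, 5, 1655, [9625, 9623, 3462, 9622, 9624]⟩)))) (.node (.node (.node (.leaf ⟨6, 353, 525, 0, 0, 0, 0, 93, 0, 0, []⟩) (.leaf ⟨6, 3141, 2998, 0, 0, 0, 0, 53, 0, 2998, [18229, 19141, 19110]⟩))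 (.node (.leaf ⟨10, 1469, 1839, 0, 0, 0, 0, 93, 0, 0, []⟩) (.leaf ⟨5, 4611, 4612, 0, 0, 0, 0, 93, 0, 0, []⟩))) (.node (.node (.leaf ⟨7, 1077, 1094, 0, 0, 0, 0, 46, 3, 1077, [6751, 6850, 6852]⟩) (.leaf ⟨9, 491, 491, (-1), 0, 1, 0, 57, 3, 491, [2551, 23236, 2550]⟩)) (.node (.leaf ⟨10, 2497, 2508, 0, 0, 0, 0, 93, 0, 0, []⟩) (.leaf ⟨6, 5199, 5200, 0, 0, 0, 0, 93, 0, 0, []⟩))))) (.node (.node (.node (.node (.leaf ⟨5, 286, 287, 0, 0, 0, 0, 93, 0, 0, []⟩) (.leaf ⟨5, 2965, 2965, 1, 0, (-1), 0, 45, 0, 2965, [18085, 18097, 18116, 18096, 18084]⟩)) (.node (.leaf ⟨2, 1462, 1462, 1, 0, 1, 0, 24, 0, 1462, [8449, 9124, 8448]⟩) (.leaf ⟨3, 4396, 4362, 0, 0, 0, 0, 37, 0, 4362, [25849, 26308, 26120]⟩))) (.node (.node (.leaf ⟨4, 822, 839, 0, 0, 0, 0, 41, 0, 839, [5337, 4029, 5268]⟩) (.leaf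 ⟨6, 3744, 377, 0, 0, 0, 0, 53, 0, 377, [2027, 2006, 22118]⟩)) (.node (.leaf ⟨2, 2413, 2413, 1, 0, (-1), 0, 22, 0, 2413, [14021, 9330, 14020]⟩) (.leaf ⟨5, 5060, 5069, 0, 0, 0, 0, 93, 0, 0, []⟩)))) (.node (.node (.node (.leaf ⟨6, 201, 201, 1, 0, (-1), 0, 51, 0, 201, [1445, 2579, 2584, 2578, 1444]⟩) (.leaf ⟨6, 195, 3333, 0, 0, 0, 0, 93, 0, 0, []⟩)) (.node (.leaf ⟨0, 2013, 2022, 0, 0, 0, 0, 6, 0, 2022, [11945, 11973, 11912]⟩) (.leaf ⟨2, 3127, 914, 0, 0, 0, 0, 27, 0, 914, [5803, 28357, 19020]⟩))) (.node (.node (.leaf ⟨4, 256, 1299, 0, 0, 0, 0, 40, 0, 1299, [7709, 7877, 1624]⟩) (.leaf ⟨2, 3983, 4049, 0, 0, 0, 0, 93, 0, 0, []⟩)) (.node (.leaf ⟨2, 2640, 1397, 0, 0, 0, 0, 23, 0, 1397, [8103, 16069, 15840]⟩) (.leaf ⟨0, 0, 0, 0, 0, 0, 0, 0, 0, 0, []⟩))))))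

def factsPart100 : ATree TFact :=
  .node (.node (.node (.node (.node (.node (.leaf ⟨2, 36, 36, 0, 1, 0, 1, 21, 4, 35, [70, 136, 198, 137, 70]⟩) (.leaf ⟨1, 2741, 374, 0, 0, 0, 0, 14, 0, 374, [2001, 16583, 16554]⟩)) (.node (.leaf ⟨5, 1362, 1439, 0, 0, 0, 0, 46, 2, 1361, [8022, 8021, 8362]⟩) (.leaf ⟨10, 4169, 4170, 0, 0, 0, 0, 93, 0, 0, []⟩))) (.node (.node (.leaf ⟨7, 266, 715, 0, 0, 0, 0, 93, 0, 0, []⟩) (.leaf ⟨9, 3437, 3441, 0, 0, 0, 0, 57, 3, 3437, [20661, 16451, 20676]⟩)) (.node (.leaf ⟨2, 2100, 2098, (-51), 0, 9, 0, 21, 4, 2099, [12258, 12263, 12264, 12481, 12486]⟩) (.leaf ⟨2, 4854, 4855, 0, 0, 0, 0, 28, 0, 4855, [28855, 28871, 28844]⟩)))) (.node (.node (.node (.leaf ⟨10, 398, 409, 0, 0, 0, 0, 61, 3, 398, [2171, 2246, 2226]⟩) (.leaf ⟨7, 911, 3083, 0, 0, 0, 0,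 93, 0, 0, []⟩)) (.node (.leaf ⟨7, 1719, 1718, 0, 0, 0, 0, 46, 3, 1719, [10125, 10122, 10102]⟩) (.leaf ⟨6, 4510, 4282, 0, 0, 0, 0, 54, 0, 4282, [25415, 26823, 26816]⟩))) (.node (.node (.leaf ⟨6, 996, 322, 0, 0, 0, 0, 32, 3, 996, [6329, 6342, 1822]⟩) (.leaf ⟨9, 537, 537, 1, 0, 1, 0, 64, 0, 537, [2881, 22726, 2880]⟩)) (.node (.leaf ⟨2, 1720, 2432, 27, 0, 1, 0, 25, 0, 2432, [14531, 12986, 14534]⟩) (.leaf ⟨9, 2899, 5144, 0, 0, 0, 0, 63, 2, 2898, [17694, 17693, 30904]⟩))))) (.node (.node (.node (.node (.leaf ⟨5, 181, 182, 0, 0, 0, 0, 93, 0, 0, []⟩) (.leaf ⟨9, 2881, 2876, 0, 0, 0, 0, 53, 3, 2881, [17599, 17606, 17570]⟩)) (.node (.leaf ⟨3, 1556, 705, 0, 0, 0, 0, 31, 0, 705, [4277, 9415, 8772]⟩) (.leaf ⟨2, 4349, 4341, (-5), 0, 7, 0, 26, 2, 4345, [25771, 25786, 25799]⟩)))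 (.node (.node (.leaf ⟨8, 487, 834, 0, 0, 0, 0, 93, 0, 0, []⟩) (.leaf ⟨5, 3683, 3640, 0, 0, 0, 0, 46, 2, 3682, [21674, 21673, 21504]⟩)) (.node (.leaf ⟨5, 2352, 2353, 0, 0, 0, 0, 93, 0, 0, []⟩) (.leaf ⟨3, 4987, 1730, 0, 0, 0, 0, 31, 0, 1730, [10173, 29893, 29894]⟩)))) (.node (.node (.node (.leaf ⟨10, 528, 604, 0, 0, 0, 0, 93, 0, 0, []⟩) (.leaf ⟨7, 3249, 3250, 0, 0, 0, 0, 93, 0, 0, []⟩)) (.node (.leaf ⟨10, 438, 1954, 0, 0, 0, 0, 93, 0, 0, []⟩) (.leaf ⟨5, 4377, 4281, 0, 0, 0, 0, 31, 3, 4377, [26041, 27846, 25412]⟩))) (.node (.node (.leaf ⟨3, 1211, 1212, 0, 0, 0, 0, 93, 0, 0, []⟩) (.leaf ⟨5, 3978, 3979, 0, 0, 0, 0, 93, 0, 0, []⟩)) (.node (.leaf ⟨1, 1118, 2606, 0, 0, 0, 0, 93, 0, 0, []⟩) (.leaf ⟨0, 0, 0, 0, 0, 0, 0, 0, 0, 0, []⟩)))))) (.node (.node (.node (.node (.node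 (.leaf ⟨6, 138, 139, 0, 0, 0, 0, 93, 0, 0, []⟩) (.leaf ⟨10, 163, 163, 1, 0, 1, 0, 61, 3, 163, [923, 17094, 922]⟩)) (.node (.leaf ⟨3, 572, 1575, 0, 0, 0, 0, 93, 0, 0, []⟩) (.leaf ⟨7, 4240, 4241, 0, 0, 0, 0, 93, 0, 0, []⟩))) (.node (.node (.leaf ⟨2, 757, 762, 0, 0, 0, 0, 28, 0, 762, [4751, 4807, 4740]⟩) (.leaf ⟨6, 3572, 3573, 0, 0, 0, 0, 93, 0, 0, []⟩)) (.node (.leaf ⟨6, 2236, 2227, (-27), 0, 1, 0, 45, 3, 2234, [12958, 12960, 12999, 12932, 12934]⟩) (.leaf ⟨5, 1654, 1654, 1, 0, (-1), 0, 46, 0, 1654, [9623, 3478, 9622]⟩)))) (.node (.node (.node (.leaf ⟨7, 525, 526, 0, 0, 0, 0, 93, 0, 0, []⟩) (.leaf ⟨7, 2998, 3147, 0, 0, 0, 0, 93, 0, 0, []⟩)) (.node (.leaf ⟨8, 1466, 1688, 0, 0, 0, 0, 47, 3, 1466, [8457, 8455, 9908]⟩) (.leaf ⟨3, 4612, 2120, 0, 0, 0, 0, 31, 0, 2120, [12311,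 27333, 27334]⟩))) (.node (.node (.leaf ⟨5, 1089, 1095, 0, 0, 0, 0, 93, 0, 0, []⟩) (.leaf ⟨9, 492, 492, (-1), 0, (-1), 0, 53, 3, 492, [2553, 23238, 2552]⟩)) (.node (.leaf ⟨4, 2507, 2508, 0, 0, 0, 0, 43, 2, 2498, [15044, 15021, 15046]⟩) (.leaf ⟨2, 1149, 2483, 0, 0, 0, 0, 28, 2, 37, [7100, 73, 14940]⟩))))) (.node (.node (.node (.node (.leaf ⟨5, 257, 288, 0, 0, 0, 0, 93, 0, 0, []⟩) (.leaf ⟨10, 2961, 2961, 1, 0, (-1), 0, 49, 5, 2961, [18065, 18089, 18118, 18088, 18064]⟩)) (.node (.leaf ⟨2, 1463, 1463, (-1), 0, (-1), 0, 25, 0, 1463, [8451, 9926, 8450]⟩) (.leaf ⟨3, 4405, 4363, 0, 0, 0, 0, 31, 0, 4363, [25851, 26311, 26138]⟩))) (.node (.node (.leaf ⟨4, 841, 841, 1, 0, (-1), 0, 38, 0, 841, [5345, 5831, 5528, 5830, 5344]⟩) (.leaf ⟨7, 376, 376, (-1), 0, (-1), 0, 56, 4, 101,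 [2004, 433, 886, 432, 2004]⟩)) (.node (.leaf ⟨3, 2413, 1618, 0, 0, 0, 0, 37, 0, 1618, [9249, 4124, 13994]⟩) (.leaf ⟨7, 5069, 5070, 0, 0, 0, 0, 93, 0, 0, []⟩)))) (.node (.node (.node (.leaf ⟨5, 95, 95, (-1), 0, (-1), 0, 45, 0, 95, [401, 3780, 3782, 3781, 400]⟩) (.leaf ⟨7, 3333, 3333, 1, 0, 1, 0, 51, 5, 3333, [20167, 1347, 1366, 1346, 20166]⟩)) (.node (.leaf ⟨0, 2014, 2023, 0, 0, 0, 0, 5, 0, 2023, [11947, 11975, 11914]⟩) (.leaf ⟨10, 913, 873, 0, 0, 0, 0, 61, 3, 913, [5799, 2861, 5550]⟩))) (.node (.node (.leaf ⟨4, 257, 1300, 0, 0, 0, 0, 39, 0, 1300, [7711, 7879, 1626]⟩) (.leaf ⟨2, 3140, 863, 0, 0, 0, 0, 22, 0, 863, [5501, 6109, 19108]⟩)) (.node (.leaf ⟨2, 2684, 2685, 0, 0, 0, 0, 24, 0, 2685, [16065, 16071, 16060]⟩) (.leaf ⟨0, 0, 0, 0, 0, 0, 0, 0, 0, 0, []⟩))))))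

def factsPart101 : ATree TFact :=
  .node (.node (.node (.node (.node (.node (.leaf ⟨2, 0, 0, 1, 0, 1, 0, 82, 0, 0, []⟩) (.leaf ⟨1, 2742, 2745, 0, 0, 0, 0, 13, 0, 2745, [16563, 16585, 16556]⟩)) (.node (.leaf ⟨5, 1451, 1452, 0, 0, 0, 0, 47, 0, 1452, [8391, 8392, 8386]⟩) (.leaf ⟨7, 4145, 4171, 0, 0, 0, 0, 93, 0, 0, []⟩))) (.node (.node (.leaf ⟨6, 715, 716, 0, 0, 0, 0, 93, 0, 0, []⟩) (.leaf ⟨9, 3442, 3438, 0, 0, 0, 0, 53, 3, 3442, [20679, 20681, 20662]⟩)) (.node (.leaf ⟨6, 2099, 2082, (-59), 0, (-31), 0, 39, 3, 2099, [12257, 11661, 12178]⟩) (.leaf ⟨7, 4719, 4856, 0, 0, 0, 0, 93, 0, 0, []⟩)))) (.node (.node (.node (.leaf ⟨10, 416, 415, 0, 0, 0, 0, 63, 3, 416, [2243, 2248, 2238]⟩) (.leaf ⟨6, 3083, 3084, 0, 0, 0, 0, 93, 0, 0, []⟩)) (.node (.leaf ⟨6, 1584, 1705, 0, 0,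 0, 0, 54, 0, 1705, [10017, 9755, 8936]⟩) (.leaf ⟨5, 1971, 4511, 0, 0, 0, 0, 93, 0, 0, []⟩))) (.node (.node (.leaf ⟨9, 996, 999, 0, 0, 0, 0, 93, 0, 0, []⟩) (.leaf ⟨9, 538, 538, 1, 0, (-1), 0, 48, 3, 538, [2883, 22728, 2882]⟩)) (.node (.leaf ⟨11, 2349, 2447, 0, 0, 0, 0, 93, 0, 0, []⟩) (.leaf ⟨9, 5145, 2900, 0, 0, 0, 0, 48, 3, 5145, [30907, 30921, 17696]⟩))))) (.node (.node (.node (.node (.leaf ⟨7, 182, 183, 0, 0, 0, 0, 93, 0, 0, []⟩) (.leaf ⟨2, 2876, 2877, (-21), 0, (-1), 0, 27, 0, 2877, [17583, 17603, 17608]⟩)) (.node (.leaf ⟨5, 1561, 1561, (-1), 0, (-1), 0, 46, 0, 1561, [8795, 8732, 8794]⟩) (.leaf ⟨11, 456, 4354, 0, 0, 0, 0, 93, 0, 0, []⟩))) (.node (.node (.leaf ⟨9, 834, 835, 0, 0, 0, 0, 93, 0, 0, []⟩) (.leaf ⟨5, 3695, 3696, 0, 0, 0, 0, 47, 0, 3696, [21703, 21704,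 21698]⟩)) (.node (.leaf ⟨2, 2352, 1670, 0, 0, 0, 0, 28, 2, 1669, [13510, 9781, 9784]⟩) (.leaf ⟨4, 1651, 4986, 0, 0, 0, 0, 44, 0, 4986, [29891, 14594, 9610]⟩)))) (.node (.node (.node (.leaf ⟨11, 604, 605, 0, 0, 0, 0, 93, 0, 0, []⟩) (.leaf ⟨6, 3250, 3251, 0, 0, 0, 0, 93, 0, 0, []⟩)) (.node (.leaf ⟨5, 1954, 1955, 0, 0, 0, 0, 93, 0, 0, []⟩) (.leaf ⟨6, 3984, 360, 0, 0, 0, 0, 53, 0, 360, [1933, 26547, 23774]⟩))) (.node (.node (.leaf ⟨10, 1212, 1213, 0, 0, 0, 0, 93, 0, 0, []⟩) (.leaf ⟨7, 3979, 3980, 0, 0, 0, 0, 93, 0, 0, []⟩)) (.node (.leaf ⟨10, 2606, 2607, 0, 0, 0, 0, 93, 0, 0, []⟩) (.leaf ⟨0, 0, 0, 0, 0, 0, 0, 0, 0, 0, []⟩)))))) (.node (.node (.node (.node (.node (.leaf ⟨0, 139, 130, 0, 0, 0, 0, 5, 0, 130, [529, 711, 712]⟩) (.leaf ⟨10, 2804, 2804, 1, 0, (-1), 0, 63, 3,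 2804, [17085, 17096, 17084]⟩)) (.node (.leaf ⟨10, 1575, 1576, 0, 0, 0, 0, 93, 0, 0, []⟩) (.leaf ⟨11, 4126, 4241, 0, 0, 0, 0, 59, 3, 4126, [24659, 25286, 25288]⟩))) (.node (.node (.leaf ⟨2, 758, 763, 0, 0, 0, 0, 23, 0, 763, [4753, 4809, 4742]⟩) (.leaf ⟨5, 3573, 3574, 0, 0, 0, 0, 93, 0, 0, []⟩)) (.node (.leaf ⟨9, 2219, 2232, 0, 0, 0, 0, 8, 3, 2219, [12919, 12917, 12952]⟩) (.leaf ⟨4, 383, 383, 1, 0, 1, 0, 40, 0, 383, [2077, 9282, 2076]⟩)))) (.node (.node (.node (.leaf ⟨6, 526, 527, 0, 0, 0, 0, 93, 0, 0, []⟩) (.leaf ⟨6, 3147, 3148, 0, 0, 0, 0, 93, 0, 0, []⟩)) (.node (.leaf ⟨8, 1711, 1467, 0, 0, 0, 0, 41, 3, 1711, [10047, 10953, 8458]⟩) (.leaf ⟨4, 4612, 4613, 0, 0, 0, 0, 93, 0, 0, []⟩))) (.node (.node (.leaf ⟨7, 1095, 1096, 0, 0, 0, 0, 93, 0, 0, []⟩) (.leaf ⟨8, 826, 826,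 (-1), 0, (-1), 0, 60, 4, 825, [5284, 5281, 23240, 5280, 5284]⟩)) (.node (.leaf ⟨8, 522, 2509, 0, 0, 0, 0, 93, 0, 0, []⟩) (.leaf ⟨11, 2483, 5201, 0, 0, 0, 0, 93, 0, 0, []⟩))))) (.node (.node (.node (.node (.leaf ⟨4, 288, 289, 0, 0, 0, 0, 93, 0, 0, []⟩) (.leaf ⟨10, 2962, 2962, 1, 0, 1, 0, 43, 3, 2962, [18067, 18120, 18066]⟩)) (.node (.leaf ⟨2, 1464, 1464, 1, 0, 1, 0, 24, 0, 1464, [8453, 9928, 8452]⟩) (.leaf ⟨2, 4405, 4405, 1, 0, (-1), 0, 21, 2, 4447, [26302, 26307, 26313, 26307, 26313]⟩))) (.node (.node (.leaf ⟨4, 842, 842, (-1), 0, 1, 0, 42, 0, 842, [5347, 5832, 5346]⟩) (.leaf ⟨7, 3744, 3744, 1, 0, 1, 0, 57, 0, 3744, [22119, 22216, 22118]⟩)) (.node (.leaf ⟨6, 560, 698, 0, 0, 0, 0, 24, 3, 560, [3011, 4198, 4228]⟩) (.leaf ⟨9, 5069, 5066, 0, 0, 0, 0, 48, 3, 5069, [30407,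 30387, 30396]⟩)))) (.node (.node (.node (.leaf ⟨4, 667, 667, 1, 0, (-1), 0, 38, 0, 667, [3775, 403, 3784, 402, 3774]⟩) (.leaf ⟨6, 819, 819, 1, 0, 1, 0, 51, 0, 819, [5247, 1352, 5234, 1353, 5246]⟩)) (.node (.leaf ⟨0, 2015, 2024, 0, 0, 0, 0, 7, 0, 2024, [11949, 11977, 11916]⟩) (.leaf ⟨10, 914, 3882, 0, 0, 0, 0, 63, 3, 914, [5803, 28360, 23128]⟩))) (.node (.node (.leaf ⟨5, 289, 1302, 0, 0, 0, 0, 38, 5, 289, [1739, 1737, 7880, 7712, 7714]⟩) (.leaf ⟨3, 4049, 938, 0, 0, 0, 0, 21, 5, 4049, [24263, 23773, 24264, 5724, 6010]⟩)) (.node (.leaf ⟨1, 1397, 2401, 0, 0, 0, 0, 14, 0, 2401, [13883, 14801, 8102]⟩) (.leaf ⟨0, 0, 0, 0, 0, 0, 0, 0, 0, 0, []⟩))))))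

def factsPart102 : ATree TFact :=
  .node (.node (.node (.node (.node (.node (.leaf ⟨1, 2, 2, 1, 0, 1, 0, 11, 4, 1, [2, 1, 202, 0, 2]⟩) (.leaf ⟨1, 2743, 2746, 0, 0, 0, 0, 19, 0, 2746, [16565, 16587, 16558]⟩)) (.node (.leaf ⟨6, 1364, 1452, 0, 0, 0, 0, 52, 2, 1363, [8026, 8025, 8390]⟩) (.leaf ⟨6, 4171, 4172, 0, 0, 0, 0, 93, 0, 0, []⟩))) (.node (.node (.leaf ⟨5, 716, 717, 0, 0, 0, 0, 93, 0, 0, []⟩) (.leaf ⟨7, 1737, 1751, 0, 0, 0, 0, 16, 3, 1737, [10211, 3264, 10316]⟩)) (.node (.leaf ⟨6, 2089, 2100, 59, 0, 31, 0, 32, 3, 2089, [12237, 12491, 12258]⟩) (.leaf ⟨6, 4856, 4857, 0, 0, 0, 0, 93, 0, 0, []⟩)))) (.node (.node (.node (.leaf ⟨5, 400, 416, 0, 0, 0, 0, 48, 2, 399, [2178, 2175, 2242]⟩) (.leaf ⟨5, 3084, 3085, 0, 0, 0, 0, 93, 0, 0, []⟩)) (.node (.leaf ⟨6, 1719, 1719,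 (-1), 0, 1, 0, 45, 5, 1719, [10125, 10443, 8986, 10442, 10124]⟩) (.leaf ⟨10, 4511, 4512, 0, 0, 0, 0, 93, 0, 0, []⟩))) (.node (.node (.leaf ⟨6, 999, 323, 0, 0, 0, 0, 53, 0, 323, [1825, 6345, 6346]⟩) (.leaf ⟨9, 539, 539, (-1), 0, 1, 0, 63, 0, 539, [2893, 22730, 2892]⟩)) (.node (.leaf ⟨4, 2447, 1708, 0, 0, 0, 0, 44, 0, 1708, [10029, 14310, 14538]⟩) (.leaf ⟨9, 5146, 2901, 0, 0, 0, 0, 53, 3, 5146, [30909, 30922, 17698]⟩))))) (.node (.node (.node (.node (.leaf ⟨5, 180, 184, 0, 0, 0, 0, 93, 0, 0, []⟩) (.leaf ⟨3, 2877, 277, 0, 0, 0, 0, 37, 0, 277, [1715, 13289, 17574]⟩)) (.node (.leaf ⟨6, 1563, 1563, (-1), 0, (-1), 0, 45, 5, 1563, [8799, 8797, 9418, 8796, 8798]⟩) (.leaf ⟨9, 4346, 4354, 0, 0, 0, 0, 64, 0, 4354, [25803, 2408, 25750]⟩))) (.node (.node (.leaf ⟨4, 825, 834, 0,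 0, 0, 0, 41, 0, 834, [5321, 2561, 5280]⟩) (.leaf ⟨6, 3685, 3696, 0, 0, 0, 0, 52, 2, 3684, [21678, 21677, 21702]⟩)) (.node (.leaf ⟨2, 2351, 2353, 0, 0, 0, 0, 23, 0, 2353, [13513, 13514, 13504]⟩) (.leaf ⟨5, 1651, 1651, 1, 0, (-1), 0, 50, 0, 1651, [9611, 14600, 9610]⟩)))) (.node (.node (.node (.leaf ⟨11, 352, 352, 1, 0, (-1), 0, 65, 5, 352, [1917, 2157, 870, 2156, 1916]⟩) (.leaf ⟨5, 3251, 3252, 0, 0, 0, 0, 93, 0, 0, []⟩)) (.node (.leaf ⟨4, 1955, 1956, 0, 0, 0, 0, 93, 0, 0, []⟩) (.leaf ⟨6, 4291, 1961, 0, 0, 0, 0, 54, 0, 1961, [11499, 27851, 25444]⟩))) (.node (.node (.leaf ⟨11, 1213, 1214, 0, 0, 0, 0, 93, 0, 0, []⟩) (.leaf ⟨3, 966, 3976, 0, 0, 0, 0, 33, 0, 3976, [23747, 2288, 6136]⟩)) (.node (.leaf ⟨5, 2607, 2608, 0, 0, 0, 0, 93, 0, 0, []⟩) (.leaf ⟨0, 0, 0, 0, 0, 0, 0,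 0, 0, 0, []⟩)))))) (.node (.node (.node (.node (.node (.leaf ⟨2, 7, 7, 1, 0, (-1), 0, 28, 0, 7, [13, 626, 12]⟩) (.leaf ⟨10, 2805, 2805, 1, 0, 1, 0, 58, 3, 2805, [17091, 17098, 17090]⟩)) (.node (.leaf ⟨5, 1576, 1577, 0, 0, 0, 0, 93, 0, 0, []⟩) (.leaf ⟨9, 3535, 4241, 101, 0, 53, 0, 64, 2, 4116, [24638, 25277, 25290]⟩))) (.node (.node (.leaf ⟨2, 770, 759, 21, 0, 1, 0, 24, 2, 763, [4796, 4811, 4744]⟩) (.leaf ⟨5, 421, 3572, 21, 0, 1, 0, 46, 2, 420, [2268, 18515, 21190]⟩)) (.node (.leaf ⟨9, 2233, 2220, 0, 0, 0, 0, 63, 0, 2220, [12921, 13002, 12954]⟩) (.leaf ⟨3, 1567, 1567, 1, 0, 1, 0, 33, 0, 1567, [8817, 9280, 8816]⟩)))) (.node (.node (.node (.leaf ⟨7, 527, 355, 0, 0, 0, 0, 51, 3, 525, [2760, 2762, 2759, 1920, 1922]⟩) (.leaf ⟨7, 3143, 3148, 0, 0, 0, 0, 51, 5, 3143, [19123,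 19113, 19142, 19144, 19146]⟩)) (.node (.leaf ⟨8, 1716, 1468, 0, 0, 0, 0, 34, 3, 1716, [10099, 10954, 8460]⟩) (.leaf ⟨5, 3068, 3068, (-1), 0, 1, 0, 50, 0, 3068, [18535, 25720, 18534]⟩))) (.node (.node (.leaf ⟨5, 1096, 1092, 0, 0, 0, 0, 46, 2, 1095, [6858, 6857, 6846]⟩) (.leaf ⟨7, 3895, 3895, (-1), 0, (-1), 0, 56, 4, 827, [23228, 5289, 23242, 5288, 23228]⟩)) (.node (.leaf ⟨5, 2509, 2510, 0, 0, 0, 0, 93, 0, 0, []⟩) (.leaf ⟨2, 5201, 5198, 0, 0, 0, 0, 29, 0, 5198, [31427, 31432, 31434]⟩))))) (.node (.node (.node (.node (.leaf ⟨10, 289, 290, 0, 0, 0, 0, 93, 0, 0, []⟩) (.leaf ⟨10, 2963, 2963, 1, 0, (-1), 0, 36, 3, 2963, [18069, 18122, 18068]⟩)) (.node (.leaf ⟨2, 1688, 1688, (-1), 0, (-1), 0, 23, 0, 1688, [9909, 9930, 9908]⟩) (.leaf ⟨2, 4396, 4396, 1, 0, 1, 0, 23, 2, 4405,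 [26139, 26314, 26139]⟩))) (.node (.node (.leaf ⟨4, 915, 915, 1, 0, (-1), 0, 40, 0, 915, [5813, 5834, 5812]⟩) (.leaf ⟨6, 3745, 3745, (-1), 0, 1, 0, 51, 0, 3745, [22145, 22215, 22218, 22214, 22144]⟩)) (.node (.leaf ⟨6, 561, 699, 0, 0, 0, 0, 54, 0, 699, [4231, 14027, 3020]⟩) (.leaf ⟨9, 5070, 5067, 0, 0, 0, 0, 57, 3, 5070, [30409, 30410, 30398]⟩)))) (.node (.node (.node (.leaf ⟨7, 86, 86, (-1), 0, 1, 0, 51, 5, 86, [379, 371, 3732, 370, 378]⟩) (.leaf ⟨5, 3333, 3333, (-1), 0, 1, 0, 45, 0, 3333, [20167, 20038, 20170, 20039, 20166]⟩)) (.node (.leaf ⟨0, 2016, 2025, 0, 0, 0, 0, 4, 0, 2025, [11951, 11979, 11918]⟩) (.leaf ⟨0, 747, 747, 1, 0, 1, 0, 8, 0, 747, [4701, 27262, 4700]⟩))) (.node (.node (.leaf ⟨5, 1319, 1303, 0, 0, 0, 0, 31, 3, 1319, [7765, 7882, 7716]⟩) (.leaf ⟨9,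 4049, 4050, 0, 0, 0, 0, 93, 0, 0, []⟩)) (.node (.leaf ⟨1, 2685, 2405, 0, 0, 0, 0, 15, 0, 2405, [13917, 16075, 16064]⟩) (.leaf ⟨0, 0, 0, 0, 0, 0, 0, 0, 0, 0, []⟩))))))

def factsPart103 : ATree TFact :=
  .node (.node (.node (.node (.node (.node (.leaf ⟨1, 3, 3, (-1), 0, (-1), 0, 12, 0, 3, [5, 204, 4]⟩) (.leaf ⟨2, 2745, 811, 0, 0, 0, 0, 22, 0, 811, [5199, 5161, 16562]⟩)) (.node (.leaf ⟨6, 1442, 1365, 0, 0, 0, 0, 45, 5, 1442, [8369, 8388, 8394, 8397, 8028]⟩) (.leaf ⟨5, 4172, 4173, 0, 0, 0, 0, 93, 0, 0, []⟩))) (.node (.node (.leaf ⟨4, 717, 718, 0, 0, 0, 0, 93, 0, 0, []⟩) (.leaf ⟨8, 1751, 3421, 0, 0, 0, 0, 17, 3, 1751, [10317, 15910, 20606]⟩)) (.node (.leaf ⟨2, 2097, 2089, (-8), 0, 22, 0, 24, 2, 2098, [12255, 12489, 12493]⟩) (.leaf ⟨5, 4857, 4858, 0, 0, 0, 0, 93, 0,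 0, []⟩)))) (.node (.node (.node (.leaf ⟨5, 401, 412, 0, 0, 0, 0, 49, 0, 412, [2233, 2240, 2251, 2253, 2182]⟩) (.leaf ⟨10, 3085, 3086, 0, 0, 0, 0, 93, 0, 0, []⟩)) (.node (.leaf ⟨10, 1667, 1764, 0, 0, 0, 0, 93, 0, 0, []⟩) (.leaf ⟨6, 4455, 4513, 0, 0, 0, 0, 93, 0, 0, []⟩))) (.node (.node (.leaf ⟨10, 999, 1000, 0, 0, 0, 0, 93, 0, 0, []⟩) (.leaf ⟨9, 540, 540, (-1), 0, (-1), 0, 57, 3, 540, [2895, 22732, 2894]⟩)) (.node (.leaf ⟨10, 247, 247, (-1), 0, 1, 0, 58, 3, 247, [1607, 10086, 1606]⟩) (.leaf ⟨11, 2901, 5054, (-1), 0, 5, 0, 64, 1, 5057, [30919, 30924, 30363]⟩))))) (.node (.node (.node (.node (.leaf ⟨1, 179, 161, 0, 0, 0, 0, 16, 2, 178, [1218, 1217, 918]⟩) (.leaf ⟨3, 2869, 1922, (-21), 0, (-1), 0, 21, 5, 2869, [17555, 17573, 17610, 17612, 11358]⟩)) (.node (.leaf ⟨6,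 1564, 1564, (-1), 0, 1, 0, 39, 3, 1564, [8801, 9420, 8800]⟩) (.leaf ⟨5, 4354, 4355, 0, 0, 0, 0, 93, 0, 0, []⟩))) (.node (.node (.leaf ⟨4, 826, 835, 0, 0, 0, 0, 42, 0, 835, [5323, 5325, 5284]⟩) (.leaf ⟨6, 3643, 3686, 0, 0, 0, 0, 45, 5, 3643, [21511, 21700, 21706, 21709, 21680]⟩)) (.node (.leaf ⟨10, 1049, 1049, (-1), 0, (-1), 0, 54, 3, 1049, [6647, 13310, 6646]⟩) (.leaf ⟨4, 4987, 4987, (-1), 0, (-1), 0, 38, 0, 4987, [29895, 29899, 29900, 29898, 29894]⟩)))) (.node (.node (.node (.leaf ⟨11, 353, 353, 1, 0, 1, 0, 50, 3, 353, [1919, 3276, 1918]⟩) (.leaf ⟨10, 3252, 3253, 0, 0, 0, 0, 93, 0, 0, []⟩)) (.node (.leaf ⟨7, 1956, 1957, 0, 0, 0, 0, 93, 0, 0, []⟩) (.leaf ⟨6, 1962, 1962, 1, 0, (-1), 0, 45, 5, 1962, [11501, 27853, 25452, 27852, 11500]⟩))) (.node (.node (.leaf ⟨5, 1214,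 1215, 0, 0, 0, 0, 93, 0, 0, []⟩) (.leaf ⟨3, 967, 3977, 0, 0, 0, 0, 32, 0, 3977, [23749, 23757, 6138]⟩)) (.node (.leaf ⟨6, 2608, 2609, 0, 0, 0, 0, 93, 0, 0, []⟩) (.leaf ⟨0, 0, 0, 0, 0, 0, 0, 0, 0, 0, []⟩)))))) (.node (.node (.node (.node (.node (.leaf ⟨2, 122, 122, (-1), 0, 1, 0, 23, 0, 122, [513, 716, 512]⟩) (.leaf ⟨2, 2780, 2804, 0, 0, 0, 0, 27, 0, 2804, [17085, 1195, 16858]⟩)) (.node (.leaf ⟨6, 1577, 1578, 0, 0, 0, 0, 93, 0, 0, []⟩) (.leaf ⟨6, 4241, 4242, 0, 0, 0, 0, 93, 0, 0, []⟩))) (.node (.node (.leaf ⟨1, 767, 460, 0, 0, 0, 0, 13, 0, 460, [2421, 2653, 4778]⟩) (.leaf ⟨6, 3574, 3571, (-21), 0, 1, 0, 45, 3, 3572, [21192, 21194, 21197, 18394, 21186]⟩)) (.node (.leaf ⟨9, 2234, 2221, 0, 0, 0, 0, 57, 3, 2234, [12957, 13004, 12922]⟩) (.leaf ⟨3, 1568, 1568, (-1), 0,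 (-1), 0, 32, 0, 1568, [8819, 29388, 8818]⟩)))) (.node (.node (.node (.leaf ⟨5, 527, 528, 0, 0, 0, 0, 93, 0, 0, []⟩) (.leaf ⟨5, 3148, 3149, 0, 0, 0, 0, 93, 0, 0, []⟩)) (.node (.leaf ⟨8, 1767, 1469, 0, 0, 0, 0, 26, 3, 1767, [10479, 10956, 8462]⟩) (.leaf ⟨4, 3065, 3065, 1, 0, 1, 0, 38, 0, 3065, [18523, 18537, 27340, 18536, 18522]⟩))) (.node (.node (.leaf ⟨6, 1096, 1097, 0, 0, 0, 0, 93, 0, 0, []⟩) (.leaf ⟨6, 3895, 3895, 1, 0, (-1), 0, 52, 0, 3895, [23229, 5862, 23228]⟩)) (.node (.leaf ⟨10, 2510, 2511, 0, 0, 0, 0, 93, 0, 0, []⟩) (.leaf ⟨10, 18, 5202, 0, 0, 0, 0, 93, 0, 0, []⟩))))) (.node (.node (.node (.node (.leaf ⟨5, 290, 291, 0, 0, 0, 0, 93, 0, 0, []⟩) (.leaf ⟨10, 2964, 2964, 1, 0, 1, 0, 28, 3, 2964, [18071, 18124, 18070]⟩)) (.node (.leaf ⟨2, 1689, 1689, 1, 0, 1, 0,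 28, 0, 1689, [9911, 9932, 9910]⟩) (.leaf ⟨2, 4436, 4436, 1, 0, (-1), 0, 22, 2, 4396, [26253, 26316, 26253]⟩))) (.node (.node (.leaf ⟨11, 816, 840, 0, 0, 0, 0, 64, 3, 816, [5217, 5820, 5338]⟩) (.leaf ⟨5, 3738, 3738, 1, 0, 1, 0, 45, 0, 3738, [22069, 22213, 22220, 22212, 22068]⟩)) (.node (.leaf ⟨7, 560, 560, (-1), 0, (-1), 0, 25, 3, 560, [3011, 11544, 3010]⟩) (.leaf ⟨5, 1072, 5071, 0, 0, 0, 0, 93, 0, 0, []⟩)))) (.node (.node (.node (.leaf ⟨4, 76, 658, 0, 0, 0, 0, 40, 0, 658, [3659, 3734, 288]⟩) (.leaf ⟨6, 194, 3334, 0, 0, 0, 0, 93, 0, 0, []⟩)) (.node (.leaf ⟨0, 2017, 2026, 0, 0, 0, 0, 3, 0, 2026, [11953, 11981, 11920]⟩) (.leaf ⟨0, 748, 748, (-1), 0, (-1), 0, 9, 0, 748, [4705, 28364, 4704]⟩))) (.node (.node (.leaf ⟨10, 1321, 1305, 0, 0, 0, 0, 49, 5, 1321, [7769, 7767,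 7884, 7718, 7720]⟩) (.leaf ⟨3, 4050, 939, 0, 0, 0, 0, 35, 0, 939, [6013, 24267, 24268]⟩)) (.node (.leaf ⟨2, 2639, 2405, (-67), 0, (-5), 0, 11, 5, 2639, [16049, 16059, 16063, 16072, 16076]⟩) (.leaf ⟨0, 0, 0, 0, 0, 0, 0, 0, 0, 0, []⟩))))))

def factsPart104 : ATree TFact :=
  .node (.node (.node (.node (.node (.node (.leaf ⟨1, 4, 4, 1, 0, 1, 0, 13, 0, 4, [7, 206, 6]⟩) (.leaf ⟨2, 933, 2746, 50, 0, (-6), 0, 28, 0, 2746, [16565, 16590, 5972]⟩)) (.node (.leaf ⟨6, 1443, 1366, 0, 0, 0, 0, 39, 3, 1443, [8371, 8398, 8030]⟩) (.leaf ⟨4, 4173, 4174, 0, 0, 0, 0, 93, 0, 0, []⟩))) (.node (.node (.leaf ⟨10, 718, 719, 0, 0, 0, 0, 93, 0, 0, []⟩) (.leaf ⟨7, 3421, 3443, 0, 0, 0, 0, 93, 0, 0, []⟩)) (.node (.leaf ⟨7, 2048, 2148, 0, 0, 0, 0, 93, 0, 0, []⟩) (.leaf ⟨4, 4858, 4859, 0, 0, 0,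 0, 93, 0, 0, []⟩)))) (.node (.node (.node (.leaf ⟨5, 402, 413, 0, 0, 0, 0, 50, 0, 413, [2235, 2255, 2184]⟩) (.leaf ⟨2, 3076, 842, 0, 0, 0, 0, 27, 0, 842, [5347, 5365, 18604]⟩)) (.node (.leaf ⟨2, 768, 1764, 0, 0, 0, 0, 28, 0, 1764, [10447, 9777, 4780]⟩) (.leaf ⟨5, 4513, 4514, 0, 0, 0, 0, 93, 0, 0, []⟩))) (.node (.node (.leaf ⟨6, 1000, 324, 0, 0, 0, 0, 54, 0, 324, [1827, 6349, 6350]⟩) (.leaf ⟨9, 541, 541, (-1), 0, 1, 0, 53, 3, 541, [2897, 22734, 2896]⟩)) (.node (.leaf ⟨10, 248, 248, (-1), 0, (-1), 0, 54, 3, 248, [1609, 14542, 1608]⟩) (.leaf ⟨0, 5141, 2899, 0, 0, 0, 0, 9, 2, 5140, [30888, 30887, 17694]⟩))))) (.node (.node (.node (.node (.leaf ⟨1, 162, 180, 0, 0, 0, 0, 15, 0, 180, [1221, 1230, 920]⟩) (.leaf ⟨3, 2084, 2870, 21, 0, 1, 0, 33, 2, 1922, [12200, 17615, 17544]⟩))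 (.node (.leaf ⟨6, 1549, 1549, 1, 0, 1, 0, 54, 0, 1549, [8727, 3460, 8726]⟩) (.leaf ⟨9, 4347, 4355, 0, 0, 0, 0, 48, 3, 4347, [25755, 25804, 25806]⟩))) (.node (.node (.leaf ⟨5, 834, 836, 0, 0, 0, 0, 93, 0, 0, []⟩) (.leaf ⟨6, 3644, 3687, 0, 0, 0, 0, 39, 3, 3644, [21513, 21710, 21682]⟩)) (.node (.leaf ⟨10, 1050, 1050, (-1), 0, 1, 0, 58, 3, 1050, [6649, 13518, 6648]⟩) (.leaf ⟨3, 1731, 1731, 1, 0, (-1), 0, 30, 0, 1731, [10175, 29897, 29902, 29896, 10174]⟩)))) (.node (.node (.node (.leaf ⟨11, 525, 525, 1, 0, (-1), 0, 55, 3, 525, [2759, 3278, 2758]⟩) (.leaf ⟨3, 3248, 3231, 0, 0, 0, 0, 36, 2, 3247, [19652, 19651, 19590]⟩)) (.node (.leaf ⟨9, 1932, 1954, 0, 0, 0, 0, 63, 2, 981, [11370, 6215, 11464]⟩) (.leaf ⟨6, 1963, 1963, 1, 0, 1, 0, 39, 3, 1963, [11503, 27854, 11502]⟩)))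 (.node (.node (.leaf ⟨6, 1215, 1216, 0, 0, 0, 0, 93, 0, 0, []⟩) (.leaf ⟨3, 3969, 3978, 0, 0, 0, 0, 34, 0, 3978, [23751, 23759, 23692]⟩)) (.node (.leaf ⟨9, 2606, 2610, 0, 0, 0, 0, 93, 0, 0, []⟩) (.leaf ⟨0, 0, 0, 0, 0, 0, 0, 0, 0, 0, []⟩)))))) (.node (.node (.node (.node (.node (.leaf ⟨2, 138, 138, 1, 0, (-1), 0, 25, 0, 138, [709, 718, 708]⟩) (.leaf ⟨2, 2800, 2805, 0, 0, 0, 0, 25, 0, 2805, [17091, 17103, 17026]⟩)) (.node (.leaf ⟨6, 1575, 1037, 0, 0, 0, 0, 32, 3, 1575, [8905, 4788, 6544]⟩) (.leaf ⟨9, 3498, 4242, 95, 0, (-41), 0, 53, 3, 3498, [24627, 25292, 25294]⟩))) (.node (.node (.leaf ⟨1, 768, 585, 0, 0, 0, 0, 19, 0, 585, [3189, 4815, 4780]⟩) (.leaf ⟨8, 3573, 3575, 0, 0, 0, 0, 93, 0, 0, []⟩)) (.node (.leaf ⟨9, 2235, 2222, 0, 0, 0, 0, 53, 3, 2235, [12959, 13006, 12924]⟩)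 (.leaf ⟨11, 140, 1654, 0, 0, 0, 0, 59, 3, 140, [733, 2112, 9622]⟩)))) (.node (.node (.node (.leaf ⟨7, 502, 528, 0, 0, 0, 0, 46, 3, 502, [2615, 2765, 2766]⟩) (.leaf ⟨7, 3144, 3149, 0, 0, 0, 0, 46, 3, 3144, [19125, 19148, 19150]⟩)) (.node (.leaf ⟨8, 1838, 1839, 0, 0, 0, 0, 61, 0, 1839, [10951, 10959, 10944]⟩) (.leaf ⟨4, 4610, 4610, (-1), 0, (-1), 0, 40, 0, 4610, [27327, 27342, 27326]⟩))) (.node (.node (.leaf ⟨5, 1097, 1098, 0, 0, 0, 0, 93, 0, 0, []⟩) (.leaf ⟨8, 830, 3896, 0, 0, 0, 0, 93, 0, 0, []⟩)) (.node (.leaf ⟨10, 2509, 2496, 0, 0, 0, 0, 61, 3, 2509, [15051, 2736, 15016]⟩) (.leaf ⟨3, 2483, 5202, 0, 0, 0, 0, 36, 2, 19, [14940, 37, 31438]⟩))))) (.node (.node (.node (.node (.leaf ⟨8, 259, 288, 0, 0, 0, 0, 47, 3, 259, [1631, 1629, 1736]⟩) (.leaf ⟨5, 2957, 2957, (-1),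 0, 1, 0, 49, 0, 2957, [18053, 18083, 18126, 18082, 18052]⟩)) (.node (.leaf ⟨2, 1690, 1690, (-1), 0, (-1), 0, 29, 0, 1690, [9913, 9934, 9912]⟩) (.leaf ⟨2, 4437, 4437, 1, 0, 1, 0, 25, 2, 4436, [26234, 26318, 26234]⟩))) (.node (.node (.leaf ⟨11, 817, 912, 0, 0, 0, 0, 59, 3, 817, [5221, 5838, 5796]⟩) (.leaf ⟨10, 3742, 3742, 1, 0, 1, 0, 49, 5, 3742, [22099, 22071, 22222, 22070, 22098]⟩)) (.node (.leaf ⟨7, 561, 561, 1, 0, 1, 0, 58, 0, 561, [3021, 14030, 3020]⟩) (.leaf ⟨8, 1572, 5071, 0, 0, 0, 0, 47, 3, 1572, [8879, 6718, 30414]⟩)))) (.node (.node (.node (.leaf ⟨3, 658, 658, (-1), 0, (-1), 0, 33, 0, 658, [3659, 3738, 3658]⟩) (.leaf ⟨10, 3333, 3334, 0, 0, 0, 0, 54, 3, 3333, [20167, 1349, 20174]⟩)) (.node (.leaf ⟨0, 2018, 2027, 0, 0, 0, 0, 2, 0, 2027, [11955, 11983, 11922]⟩)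 (.leaf ⟨0, 3463, 3463, 1, 0, 1, 0, 6, 0, 3463, [20803, 28366, 20802]⟩))) (.node (.node (.leaf ⟨10, 1322, 1306, 0, 0, 0, 0, 54, 3, 1322, [7771, 7886, 7722]⟩) (.leaf ⟨7, 4050, 4051, 0, 0, 0, 0, 93, 0, 0, []⟩)) (.node (.leaf ⟨10, 1389, 2686, 0, 0, 0, 0, 93, 0, 0, []⟩) (.leaf ⟨0, 0, 0, 0, 0, 0, 0, 0, 0, 0, []⟩))))))

def factsPart105 : ATree TFact :=
  .node (.node (.node (.node (.node (.node (.leaf ⟨1, 5, 5, (-1), 0, (-1), 0, 14, 0, 5, [9, 208, 8]⟩) (.leaf ⟨7, 935, 2747, 0, 0, 0, 0, 93, 0, 0, []⟩)) (.node (.leaf ⟨6, 1444, 1367, 0, 0, 0, 0, 32, 3, 1444, [8373, 8400, 8032]⟩) (.leaf ⟨10, 4174, 4175, 0, 0, 0, 0, 93, 0, 0, []⟩))) (.node (.node (.leaf ⟨5, 719, 720, 0, 0, 0, 0, 93, 0, 0, []⟩) (.leaf ⟨8, 3441, 3443, 0, 0, 0, 0, 56, 5, 3441, [20677, 16107, 20684, 20686, 20688]⟩))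 (.node (.leaf ⟨1, 2148, 2090, 0, 0, 0, 0, 16, 0, 2090, [12239, 12119, 12496]⟩) (.leaf ⟨3, 4859, 4860, 0, 0, 0, 0, 93, 0, 0, []⟩)))) (.node (.node (.node (.leaf ⟨5, 403, 414, 0, 0, 0, 0, 46, 0, 414, [2237, 2257, 2188]⟩) (.leaf ⟨2, 3077, 843, 0, 0, 0, 0, 28, 0, 843, [5351, 18641, 18608]⟩)) (.node (.leaf ⟨7, 624, 624, (-1), 0, 1, 0, 51, 5, 624, [3409, 3405, 3466, 3404, 3408]⟩) (.leaf ⟨10, 4514, 4515, 0, 0, 0, 0, 93, 0, 0, []⟩))) (.node (.node (.leaf ⟨8, 570, 1001, 0, 0, 0, 0, 93, 0, 0, []⟩) (.leaf ⟨9, 542, 542, (-1), 0, (-1), 0, 48, 3, 542, [2899, 22736, 2898]⟩)) (.node (.leaf ⟨5, 2349, 2349, (-1), 0, (-1), 0, 49, 4, 1609, [13436, 9103, 14544, 9102, 13436]⟩) (.leaf ⟨0, 2900, 5142, 0, 0, 0, 0, 4, 0, 5142, [30895, 30928, 17696]⟩))))) (.node (.node (.node (.node (.leaf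 ⟨1, 165, 184, 0, 0, 0, 0, 14, 0, 184, [1229, 1233, 926]⟩) (.leaf ⟨3, 2871, 2085, (-21), 0, (-1), 0, 32, 2, 2870, [17546, 17617, 12202]⟩)) (.node (.leaf ⟨7, 1562, 1562, 1, 0, 1, 0, 51, 5, 1562, [8797, 8795, 9424, 8794, 8796]⟩) (.leaf ⟨6, 4355, 4356, 0, 0, 0, 0, 93, 0, 0, []⟩))) (.node (.node (.leaf ⟨9, 836, 837, 0, 0, 0, 0, 93, 0, 0, []⟩) (.leaf ⟨7, 3693, 3689, 0, 0, 0, 0, 51, 5, 3693, [21695, 21693, 21712, 21684, 21686]⟩)) (.node (.leaf ⟨4, 1592, 1660, 0, 0, 0, 0, 39, 0, 1660, [9689, 9966, 8964]⟩) (.leaf ⟨4, 2430, 4988, 0, 0, 0, 0, 93, 0, 0, []⟩)))) (.node (.node (.node (.leaf ⟨11, 526, 526, 1, 0, 1, 0, 59, 3, 526, [2761, 3280, 2760]⟩) (.leaf ⟨3, 3232, 3249, 0, 0, 0, 0, 37, 0, 3249, [19655, 19664, 19592]⟩)) (.node (.leaf ⟨9, 1955, 1950, 0, 0, 0, 0, 48, 3, 1955, [11467,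 11473, 11456]⟩) (.leaf ⟨7, 2068, 2068, 1, 0, 1, 0, 51, 5, 2068, [12111, 11509, 27856, 11508, 12110]⟩))) (.node (.node (.leaf ⟨4, 1216, 1217, 0, 0, 0, 0, 93, 0, 0, []⟩) (.leaf ⟨3, 3970, 3979, 0, 0, 0, 0, 31, 0, 3979, [23753, 23761, 23694]⟩)) (.node (.leaf ⟨10, 2610, 2611, 0, 0, 0, 0, 93, 0, 0, []⟩) (.leaf ⟨0, 0, 0, 0, 0, 0, 0, 0, 0, 0, []⟩)))))) (.node (.node (.node (.node (.node (.leaf ⟨2, 139, 139, (-1), 0, 1, 0, 24, 0, 139, [713, 720, 712]⟩) (.leaf ⟨3, 2783, 2800, 0, 0, 0, 0, 33, 0, 2800, [17027, 16873, 16882]⟩)) (.node (.leaf ⟨6, 1576, 1067, 0, 0, 0, 0, 54, 0, 1067, [6689, 8913, 8906]⟩) (.leaf ⟨5, 4242, 3483, (-95), 0, (-41), 0, 48, 0, 3483, [20935, 20936, 25296]⟩))) (.node (.node (.leaf ⟨1, 769, 753, 0, 0, 0, 0, 20, 0, 753, [4731, 4817, 4782]⟩) (.leaf ⟨5, 3575,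 3576, 0, 0, 0, 0, 93, 0, 0, []⟩)) (.node (.leaf ⟨9, 2236, 2223, 0, 0, 0, 0, 48, 3, 2236, [12961, 13008, 12926]⟩) (.leaf ⟨11, 141, 1655, 0, 0, 0, 0, 55, 3, 141, [735, 29392, 9624]⟩)))) (.node (.node (.node (.leaf ⟨11, 151, 529, 0, 0, 0, 0, 93, 0, 0, []⟩) (.leaf ⟨10, 3149, 3150, 0, 0, 0, 0, 93, 0, 0, []⟩)) (.node (.leaf ⟨7, 1839, 1840, 0, 0, 0, 0, 93, 0, 0, []⟩) (.leaf ⟨4, 4611, 4611, 1, 0, 1, 0, 39, 0, 4611, [27331, 27344, 27330]⟩))) (.node (.node (.leaf ⟨6, 1094, 1098, 0, 0, 0, 0, 45, 5, 1094, [6853, 6849, 6861, 6862, 6864]⟩) (.leaf ⟨5, 3895, 3896, 0, 0, 0, 0, 47, 0, 3896, [23249, 5301, 23228]⟩)) (.node (.leaf ⟨5, 2511, 2508, 0, 0, 0, 0, 49, 4, 2510, [15054, 15053, 15056, 15018, 15046]⟩) (.leaf ⟨11, 5202, 5203, 0, 0, 0, 0, 93, 0, 0, []⟩))))) (.node (.node (.node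 (.node (.leaf ⟨8, 289, 260, 0, 0, 0, 0, 41, 3, 289, [1739, 1745, 1632]⟩) (.leaf ⟨9, 251, 2969, 0, 0, 0, 0, 93, 0, 0, []⟩)) (.node (.leaf ⟨10, 1068, 1691, 0, 0, 0, 0, 93, 0, 0, []⟩) (.leaf ⟨2, 4438, 4438, 1, 0, (-1), 0, 24, 2, 4437, [26236, 26320, 26236]⟩))) (.node (.node (.leaf ⟨10, 93, 93, 1, 0, (-1), 0, 61, 3, 93, [395, 3724, 394]⟩) (.leaf ⟨2, 3709, 813, 0, 0, 0, 0, 24, 0, 813, [5203, 21883, 21788]⟩)) (.node (.leaf ⟨10, 499, 499, 1, 0, 1, 0, 65, 4, 498, [2580, 2577, 4510, 2576, 2580]⟩) (.leaf ⟨6, 5071, 5072, 0, 0, 0, 0, 93, 0, 0, []⟩)))) (.node (.node (.node (.leaf ⟨2, 658, 658, (-1), 0, (-1), 0, 25, 0, 658, [3659, 3742, 3658]⟩) (.leaf ⟨11, 3302, 194, 0, 0, 0, 0, 59, 3, 3302, [19959, 5167, 1340]⟩)) (.node (.leaf ⟨0, 2019, 2028, 0, 0, 0, 0, 1, 0, 2028, [11957, 11985,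 11924]⟩) (.leaf ⟨0, 3464, 3464, (-1), 0, (-1), 0, 5, 0, 3464, [20807, 28368, 20806]⟩))) (.node (.node (.leaf ⟨10, 1323, 1307, 0, 0, 0, 0, 58, 3, 1323, [7773, 7888, 7724]⟩) (.leaf ⟨3, 4051, 3804, 0, 0, 0, 0, 33, 0, 3804, [22765, 24271, 24272]⟩)) (.node (.leaf ⟨11, 2686, 2687, 0, 0, 0, 0, 93, 0, 0, []⟩) (.leaf ⟨0, 0, 0, 0, 0, 0, 0, 0, 0, 0, []⟩))))))

def factsPart106 : ATree TFact :=
  .node (.node (.node (.node (.node (.node (.leaf ⟨1, 6, 6, 1, 0, 1, 0, 15, 0, 6, [11, 210, 10]⟩) (.leaf ⟨6, 2747, 2748, 0, 0, 0, 0, 93, 0, 0, []⟩)) (.node (.leaf ⟨6, 1445, 1368, 0, 0, 0, 0, 54, 0, 1368, [8035, 8403, 8374]⟩) (.leaf ⟨6, 2141, 979, 0, 0, 0, 0, 54, 0, 979, [6189, 2373, 12392]⟩))) (.node (.node (.leaf ⟨10, 625, 721, 0, 0, 0, 0, 93, 0, 0, []⟩) (.leaf ⟨6, 3443, 3444, 0, 0,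 0, 0, 93, 0, 0, []⟩)) (.node (.leaf ⟨6, 2148, 2149, 0, 0, 0, 0, 93, 0, 0, []⟩) (.leaf ⟨2, 4860, 4861, 0, 0, 0, 0, 93, 0, 0, []⟩)))) (.node (.node (.node (.leaf ⟨4, 410, 417, 0, 0, 0, 0, 93, 0, 0, []⟩) (.leaf ⟨2, 3078, 911, 0, 0, 0, 0, 29, 0, 911, [5793, 18643, 18612]⟩)) (.node (.leaf ⟨7, 625, 625, (-1), 0, (-1), 0, 46, 3, 625, [3413, 10450, 3412]⟩) (.leaf ⟨7, 2659, 4516, 0, 0, 0, 0, 93, 0, 0, []⟩))) (.node (.node (.leaf ⟨5, 1001, 1002, 0, 0, 0, 0, 93, 0, 0, []⟩) (.leaf ⟨9, 543, 543, (-1), 0, 1, 0, 42, 3, 543, [2901, 22738, 2900]⟩)) (.node (.leaf ⟨5, 2447, 2447, 1, 0, 1, 0, 50, 0, 2447, [14539, 14546, 14538]⟩) (.leaf ⟨0, 2901, 5143, 0, 0, 0, 0, 5, 0, 5143, [30899, 30931, 17698]⟩))))) (.node (.node (.node (.node (.leaf ⟨4, 110, 185, 0, 0, 0, 0, 93, 0, 0, []⟩) (.leaf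 ⟨3, 2874, 2872, 21, 0, 1, 0, 31, 2, 2085, [17564, 17619, 17548]⟩)) (.node (.leaf ⟨7, 1563, 1563, 1, 0, (-1), 0, 46, 3, 1563, [8799, 9426, 8798]⟩) (.leaf ⟨9, 4348, 4356, 0, 0, 0, 0, 53, 3, 4348, [25759, 25808, 25810]⟩))) (.node (.node (.leaf ⟨5, 837, 835, 0, 0, 0, 0, 48, 2, 836, [5330, 5329, 5322]⟩) (.leaf ⟨7, 3694, 3690, 0, 0, 0, 0, 46, 3, 3694, [21697, 21714, 21688]⟩)) (.node (.leaf ⟨4, 1661, 1661, (-1), 0, 1, 0, 38, 0, 1661, [9693, 13523, 8978, 13522, 9692]⟩) (.leaf ⟨2, 1729, 2429, 0, 0, 0, 0, 29, 0, 2429, [14385, 14588, 10170]⟩)))) (.node (.node (.node (.leaf ⟨11, 527, 527, 1, 0, (-1), 0, 55, 3, 527, [2763, 3282, 2762]⟩) (.leaf ⟨3, 3233, 3250, 0, 0, 0, 0, 33, 0, 3250, [19657, 19667, 19594]⟩)) (.node (.leaf ⟨9, 1956, 1951, 0, 0, 0, 0, 42, 3, 1956, [11469, 11474,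 11458]⟩) (.leaf ⟨7, 2075, 2075, 1, 0, (-1), 0, 46, 3, 2075, [12143, 27858, 12142]⟩))) (.node (.node (.leaf ⟨5, 1217, 1218, 0, 0, 0, 0, 93, 0, 0, []⟩) (.leaf ⟨3, 3974, 3980, 0, 0, 0, 0, 33, 0, 3980, [23755, 23763, 23718]⟩)) (.node (.leaf ⟨9, 2611, 2607, 0, 0, 0, 0, 63, 2, 2610, [15570, 15569, 15562]⟩) (.leaf ⟨0, 0, 0, 0, 0, 0, 0, 0, 0, 0, []⟩)))))) (.node (.node (.node (.node (.node (.leaf ⟨3, 7, 7, (-1), 0, (-1), 0, 36, 0, 7, [13, 608, 12]⟩) (.leaf ⟨9, 2789, 2806, 0, 0, 0, 0, 93, 0, 0, []⟩)) (.node (.leaf ⟨5, 1578, 1574, 0, 0, 0, 0, 45, 4, 1577, [8910, 8909, 8914, 8898, 8902]⟩) (.leaf ⟨6, 3508, 4243, 0, 0, 0, 0, 93, 0, 0, []⟩))) (.node (.node (.leaf ⟨1, 770, 754, 0, 0, 0, 0, 14, 0, 754, [4733, 4819, 4794]⟩) (.leaf ⟨8, 3576, 3574, 0, 0, 0, 0, 47, 3, 3576, [21203,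 21201, 21194]⟩)) (.node (.leaf ⟨6, 2231, 2223, 27, 0, (-1), 0, 53, 2, 2227, [12950, 13001, 13010]⟩) (.leaf ⟨11, 142, 1656, 0, 0, 0, 0, 50, 3, 142, [741, 29394, 9626]⟩)))) (.node (.node (.node (.leaf ⟨6, 529, 349, 0, 0, 0, 0, 55, 0, 349, [1911, 853, 2770]⟩) (.leaf ⟨7, 871, 3151, 0, 0, 0, 0, 93, 0, 0, []⟩)) (.node (.leaf ⟨8, 1835, 1840, 0, 0, 0, 0, 56, 5, 1835, [10923, 10943, 10948, 10960, 10962]⟩) (.leaf ⟨5, 4613, 4613, 1, 0, 1, 0, 38, 5, 4613, [27339, 27335, 27346, 27334, 27338]⟩))) (.node (.node (.leaf ⟨0, 11, 266, 0, 0, 0, 0, 2, 0, 266, [1693, 1649, 20]⟩) (.leaf ⟨8, 862, 3897, 0, 0, 0, 0, 93, 0, 0, []⟩)) (.node (.leaf ⟨10, 386, 2512, 0, 0, 0, 0, 93, 0, 0, []⟩) (.leaf ⟨3, 5203, 5201, 0, 0, 0, 0, 37, 0, 5201, [31435, 31440, 31442]⟩))))) (.node (.node (.node (.node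 (.leaf ⟨8, 290, 261, 0, 0, 0, 0, 61, 0, 261, [1635, 1747, 1740]⟩) (.leaf ⟨10, 2969, 2970, 0, 0, 0, 0, 93, 0, 0, []⟩)) (.node (.leaf ⟨11, 1691, 1692, 0, 0, 0, 0, 93, 0, 0, []⟩) (.leaf ⟨2, 4439, 4439, 1, 0, 1, 0, 23, 2, 4438, [26238, 26322, 26238]⟩))) (.node (.node (.leaf ⟨10, 816, 816, 1, 0, 1, 0, 63, 3, 816, [5217, 5842, 5216]⟩) (.leaf ⟨2, 3742, 3122, 0, 0, 0, 0, 23, 0, 3122, [18969, 22227, 22098]⟩)) (.node (.leaf ⟨2, 529, 499, 0, 0, 0, 0, 29, 0, 499, [2581, 4548, 2770]⟩) (.leaf ⟨8, 2411, 5072, 0, 0, 0, 0, 52, 3, 2411, [13937, 30416, 30418]⟩)))) (.node (.node (.node (.leaf ⟨1, 135, 668, 0, 0, 0, 0, 93, 0, 0, []⟩) (.leaf ⟨11, 3334, 3303, 0, 0, 0, 0, 55, 3, 3334, [20175, 20179, 19960]⟩)) (.node (.leaf ⟨9, 1468, 2029, 0, 0, 0, 0, 93, 0, 0, []⟩) (.leaf ⟨10, 449, 4774,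 0, 0, 0, 0, 93, 0, 0, []⟩))) (.node (.node (.leaf ⟨4, 1293, 1307, (-13), 0, 21, 0, 43, 2, 1292, [7684, 7857, 7890]⟩) (.leaf ⟨6, 4051, 4052, 0, 0, 0, 0, 93, 0, 0, []⟩)) (.node (.leaf ⟨5, 2687, 2688, 0, 0, 0, 0, 93, 0, 0, []⟩) (.leaf ⟨0, 0, 0, 0, 0, 0, 0, 0, 0, 0, []⟩))))))

def factsPart107 : ATree TFact :=
  .node (.node (.node (.node (.node (.node (.leaf ⟨1, 7, 7, (-1), 0, (-1), 0, 19, 0, 7, [13, 212, 12]⟩) (.leaf ⟨2, 928, 2747, 0, 0, 0, 0, 25, 0, 2747, [16595, 5984, 5926]⟩)) (.node (.leaf ⟨6, 1446, 1432, 0, 0, 0, 0, 55, 0, 1432, [8335, 8405, 8376]⟩) (.leaf ⟨6, 2142, 4145, 0, 0, 0, 0, 55, 0, 4145, [24717, 24789, 12394]⟩))) (.node (.node (.leaf ⟨11, 115, 715, 0, 0, 0, 0, 59, 3, 115, [487, 2714, 4296]⟩) (.leaf ⟨8, 3442, 3444, 0, 0, 0, 0, 52, 3, 3442, [20679, 20690,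 20692]⟩)) (.node (.leaf ⟨1, 2149, 2091, 0, 0, 0, 0, 15, 0, 2091, [12241, 12499, 12500]⟩) (.leaf ⟨10, 4861, 4862, 0, 0, 0, 0, 93, 0, 0, []⟩)))) (.node (.node (.node (.leaf ⟨9, 417, 418, 0, 0, 0, 0, 93, 0, 0, []⟩) (.leaf ⟨2, 3079, 3083, 0, 0, 0, 0, 25, 0, 3083, [18633, 18645, 18616]⟩)) (.node (.leaf ⟨7, 721, 721, 1, 0, 1, 0, 58, 0, 721, [4309, 10452, 4308]⟩) (.leaf ⟨6, 4516, 4517, 0, 0, 0, 0, 93, 0, 0, []⟩))) (.node (.node (.leaf ⟨4, 1002, 1003, 0, 0, 0, 0, 93, 0, 0, []⟩) (.leaf ⟨9, 544, 544, (-1), 0, (-1), 0, 35, 3, 544, [2903, 22740, 2902]⟩)) (.node (.leaf ⟨4, 1709, 1709, (-1), 0, 1, 0, 38, 0, 1709, [10033, 14541, 14548, 14540, 10032]⟩) (.leaf ⟨11, 5143, 5048, (-1), 0, (-5), 0, 10, 1, 5054, [30927, 30932, 30349]⟩))))) (.node (.node (.node (.node (.leaf ⟨1, 174, 185,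 0, 0, 0, 0, 13, 0, 185, [1237, 497, 1140]⟩) (.leaf ⟨10, 2874, 2882, 0, 0, 0, 0, 93, 0, 0, []⟩)) (.node (.leaf ⟨7, 1564, 1564, 1, 0, 1, 0, 40, 3, 1564, [8801, 9428, 8800]⟩) (.leaf ⟨7, 4356, 4357, 0, 0, 0, 0, 93, 0, 0, []⟩))) (.node (.node (.leaf ⟨10, 837, 838, 0, 0, 0, 0, 93, 0, 0, []⟩) (.leaf ⟨10, 3694, 3697, 0, 0, 0, 0, 93, 0, 0, []⟩)) (.node (.leaf ⟨2, 521, 715, 0, 0, 0, 0, 25, 2, 506, [2718, 2659, 4296]⟩) (.leaf ⟨2, 1730, 2430, 0, 0, 0, 0, 23, 0, 2430, [14387, 29909, 10172]⟩)))) (.node (.node (.node (.leaf ⟨11, 528, 528, 1, 0, 1, 0, 50, 3, 528, [2767, 3284, 2766]⟩) (.leaf ⟨3, 3234, 3251, 0, 0, 0, 0, 32, 0, 3251, [19659, 19669, 19596]⟩)) (.node (.leaf ⟨9, 1957, 1952, 0, 0, 0, 0, 57, 3, 1957, [11471, 11476, 11460]⟩) (.leaf ⟨7, 2076, 2076, 1, 0, 1, 0, 40, 3, 2076,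 [12147, 27860, 12146]⟩))) (.node (.node (.leaf ⟨7, 1218, 1219, 0, 0, 0, 0, 93, 0, 0, []⟩) (.leaf ⟨4, 3979, 3981, 0, 0, 0, 0, 93, 0, 0, []⟩)) (.node (.leaf ⟨5, 2611, 2612, 0, 0, 0, 0, 93, 0, 0, []⟩) (.leaf ⟨0, 0, 0, 0, 0, 0, 0, 0, 0, 0, []⟩)))))) (.node (.node (.node (.node (.node (.leaf ⟨3, 122, 122, 1, 0, 1, 0, 31, 0, 122, [513, 724, 512]⟩) (.leaf ⟨4, 2806, 2782, 0, 0, 0, 0, 42, 0, 2782, [16871, 16911, 17108]⟩)) (.node (.leaf ⟨7, 245, 1579, 0, 0, 0, 0, 93, 0, 0, []⟩) (.leaf ⟨4, 4243, 4244, 0, 0, 0, 0, 93, 0, 0, []⟩))) (.node (.node (.leaf ⟨1, 755, 755, 1, 0, 1, 0, 14, 0, 755, [4737, 230, 4736]⟩) (.leaf ⟨6, 3569, 3576, 21, 0, (-1), 0, 52, 2, 3571, [21189, 21199, 21205]⟩)) (.node (.leaf ⟨11, 2229, 2202, 0, 0, 0, 0, 59, 3, 2229, [12941, 12937, 12810]⟩) (.leaf ⟨7, 2449,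 1542, 0, 0, 0, 0, 58, 0, 1542, [8687, 8663, 14590]⟩)))) (.node (.node (.node (.leaf ⟨1, 132, 530, 0, 0, 0, 0, 93, 0, 0, []⟩) (.leaf ⟨6, 3151, 3152, 0, 0, 0, 0, 93, 0, 0, []⟩)) (.node (.leaf ⟨6, 1840, 1841, 0, 0, 0, 0, 93, 0, 0, []⟩) (.leaf ⟨7, 3064, 4614, 0, 0, 0, 0, 93, 0, 0, []⟩))) (.node (.node (.leaf ⟨0, 12, 267, 0, 0, 0, 0, 9, 0, 267, [1695, 6869, 22]⟩) (.leaf ⟨4, 3896, 3897, 0, 0, 0, 0, 41, 0, 3897, [23253, 5499, 23248]⟩)) (.node (.leaf ⟨11, 2512, 2513, 0, 0, 0, 0, 93, 0, 0, []⟩) (.leaf ⟨2, 5202, 2387, 0, 0, 0, 0, 28, 0, 2387, [13787, 7653, 31438]⟩))))) (.node (.node (.node (.node (.leaf ⟨8, 291, 262, 0, 0, 0, 0, 47, 3, 291, [1743, 1748, 1636]⟩) (.leaf ⟨7, 2970, 2971, 0, 0, 0, 0, 93, 0, 0, []⟩)) (.node (.leaf ⟨3, 1688, 1068, 0, 0, 0, 0, 31, 0, 1068, [6693,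 8497, 9908]⟩) (.leaf ⟨2, 4445, 4445, 1, 0, (-1), 0, 28, 2, 4439, [26266, 26324, 26266]⟩))) (.node (.node (.leaf ⟨10, 817, 817, 1, 0, (-1), 0, 58, 3, 817, [5221, 5844, 5220]⟩) (.leaf ⟨3, 193, 193, (-1), 0, 1, 0, 34, 0, 193, [5173, 3912, 5172]⟩)) (.node (.leaf ⟨3, 151, 151, 1, 0, 1, 0, 36, 0, 151, [851, 3908, 850]⟩) (.leaf ⟨4, 5072, 5073, 0, 0, 0, 0, 93, 0, 0, []⟩)))) (.node (.node (.node (.leaf ⟨2, 668, 669, 0, 0, 0, 0, 93, 0, 0, []⟩) (.leaf ⟨3, 3323, 3305, 48, 0, 18, 0, 68, 38, 3306, [19977, 5679, 5573, 19978, 19980, 19985, 19992, 19997, 19998, 20000, 20003, 18301, 18283, 5754, 20006, 20015, 20019, 20025, 20023, 5355, 5345, 20026, 20028, 20031, 5826, 20032, 20030, 20035, 20036, 20039, 1347, 1366, 419, 808, 407, 5262, 5270, 5282, 5292, 20040, 20042, 20050, 20058,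 20066, 20068, 20074, 20076, 20082, 20088, 20118, 20082, 20122, 20126, 5611, 5599, 20129, 20130, 20134, 20138, 20140, 20145, 20146, 20056, 20150, 20152, 20149, 5434, 5454, 5444, 5435, 20154, 5317, 5292, 5308, 20040, 20046, 20159, 20161, 20162, 20164, 5250, 20039, 20166, 20168, 20172, 20176, 20180, 19962, 19964]⟩)) (.node (.leaf ⟨10, 2029, 2030, 0, 0, 0, 0, 93, 0, 0, []⟩) (.leaf ⟨4, 750, 4774, 0, 0, 0, 0, 43, 2, 450, [4712, 2395, 28372]⟩))) (.node (.node (.leaf ⟨5, 1318, 1298, 13, 0, 21, 0, 38, 3, 1307, [7756, 7763, 7893, 7686, 7704]⟩) (.leaf ⟨3, 4052, 3806, 0, 0, 0, 0, 32, 0, 3806, [22773, 24275, 24276]⟩)) (.node (.leaf ⟨4, 2688, 2689, 0, 0, 0, 0, 93, 0, 0, []⟩) (.leaf ⟨0, 0, 0, 0, 0, 0, 0, 0, 0, 0, []⟩))))))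

def factsPart108 : ATree TFact :=
  .node (.node (.node (.node (.node (.node (.leaf ⟨1, 8, 8, 1, 0, 1, 0, 20, 0, 8, [15, 214, 14]⟩) (.leaf ⟨2, 932, 2748, 0, 0, 0, 0, 24, 0, 2748, [16597, 16599, 5964]⟩)) (.node (.leaf ⟨5, 1448, 1434, 0, 0, 0, 0, 45, 4, 1447, [8380, 8379, 8406, 8336, 8340]⟩) (.leaf ⟨7, 4167, 4172, 0, 0, 0, 0, 51, 5, 4167, [24771, 24769, 24790, 24778, 24780]⟩))) (.node (.node (.leaf ⟨11, 116, 716, 0, 0, 0, 0, 55, 3, 116, [491, 4310, 4298]⟩) (.leaf ⟨9, 3423, 3443, 0, 0, 0, 0, 57, 3, 3423, [20611, 20609, 20688]⟩)) (.node (.leaf ⟨8, 2149, 2150, 0, 0, 0, 0, 93, 0, 0, []⟩) (.leaf ⟨10, 1997, 4863, 0, 0, 0, 0, 93, 0, 0, []⟩)))) (.node (.node (.node (.leaf ⟨10, 418, 419, 0, 0, 0, 0, 93, 0, 0, []⟩) (.leaf ⟨2, 3080, 3084, 0, 0, 0, 0, 24, 0, 3084, [18635, 18647,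 18620]⟩)) (.node (.leaf ⟨5, 623, 623, 1, 0, (-1), 0, 46, 0, 623, [3405, 3482, 3404]⟩) (.leaf ⟨5, 4517, 4518, 0, 0, 0, 0, 93, 0, 0, []⟩))) (.node (.node (.leaf ⟨3, 1003, 1004, 0, 0, 0, 0, 93, 0, 0, []⟩) (.leaf ⟨8, 927, 927, 1, 0, (-1), 0, 60, 0, 927, [5925, 22723, 22742, 22722, 5924]⟩)) (.node (.leaf ⟨7, 1664, 1664, 1, 0, (-1), 0, 58, 0, 1664, [9725, 9742, 9724]⟩) (.leaf ⟨10, 3384, 5147, 0, 0, 0, 0, 93, 0, 0, []⟩))))) (.node (.node (.node (.node (.leaf ⟨10, 184, 185, 1, 0, 5, 0, 19, 3, 184, [1235, 1179, 1238]⟩) (.leaf ⟨3, 2873, 2882, (-21), 0, (-1), 0, 36, 2, 2872, [17550, 17621, 17622]⟩)) (.node (.leaf ⟨2, 1549, 1549, (-1), 0, 1, 0, 28, 0, 1549, [8727, 3430, 8726]⟩) (.leaf ⟨9, 4349, 4357, 0, 0, 0, 0, 57, 3, 4349, [25763, 25812, 25814]⟩))) (.node (.node (.leaf ⟨8,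 651, 839, 0, 0, 0, 0, 93, 0, 0, []⟩) (.leaf ⟨7, 3697, 3691, 0, 0, 0, 0, 58, 0, 3691, [21691, 21717, 21718]⟩)) (.node (.leaf ⟨2, 716, 522, 0, 0, 0, 0, 24, 0, 522, [2723, 13526, 4298]⟩) (.leaf ⟨2, 1731, 4988, 0, 0, 0, 0, 22, 0, 4988, [29907, 29911, 10174]⟩)))) (.node (.node (.node (.leaf ⟨10, 605, 605, 1, 0, 1, 0, 65, 4, 604, [3274, 3273, 3286, 3272, 3274]⟩) (.leaf ⟨3, 3235, 3252, 0, 0, 0, 0, 31, 0, 3252, [19661, 19671, 19598]⟩)) (.node (.leaf ⟨8, 587, 1954, 0, 0, 0, 0, 61, 0, 1954, [11465, 2439, 3208]⟩) (.leaf ⟨7, 2164, 2164, 1, 0, (-1), 0, 33, 3, 2164, [12559, 27862, 12558]⟩))) (.node (.node (.leaf ⟨0, 14, 269, 0, 0, 0, 0, 6, 0, 269, [1699, 6873, 26]⟩) (.leaf ⟨7, 3981, 3982, 0, 0, 0, 0, 93, 0, 0, []⟩)) (.node (.leaf ⟨9, 2608, 2612, 0, 0, 0, 0, 48, 3, 2608, [15565,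 15573, 15574]⟩) (.leaf ⟨0, 0, 0, 0, 0, 0, 0, 0, 0, 0, []⟩)))))) (.node (.node (.node (.node (.node (.leaf ⟨3, 138, 138, (-1), 0, (-1), 0, 33, 0, 138, [709, 726, 708]⟩) (.leaf ⟨7, 2806, 2807, 0, 0, 0, 0, 93, 0, 0, []⟩)) (.node (.leaf ⟨6, 1579, 1580, 0, 0, 0, 0, 93, 0, 0, []⟩) (.leaf ⟨6, 4244, 3509, 0, 0, 0, 0, 39, 3, 4244, [25303, 25301, 20958]⟩))) (.node (.node (.leaf ⟨1, 756, 756, (-1), 0, (-1), 0, 13, 0, 756, [4739, 4822, 4738]⟩) (.leaf ⟨7, 2129, 3577, 0, 0, 0, 0, 93, 0, 0, []⟩)) (.node (.leaf ⟨11, 2203, 2230, 0, 0, 0, 0, 55, 3, 2203, [12813, 13015, 12944]⟩) (.leaf ⟨6, 4913, 2449, 0, 0, 0, 0, 54, 0, 2449, [14591, 8785, 29370]⟩)))) (.node (.node (.node (.leaf ⟨5, 530, 79, 0, 0, 0, 0, 14, 3, 530, [2775, 557, 324]⟩) (.leaf ⟨5, 3152, 3153, 0, 0, 0, 0, 93, 0, 0, []⟩))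 (.node (.leaf ⟨8, 1836, 1841, 0, 0, 0, 0, 52, 3, 1836, [10925, 10964, 10966]⟩) (.leaf ⟨6, 4614, 4615, 0, 0, 0, 0, 93, 0, 0, []⟩))) (.node (.node (.leaf ⟨0, 13, 268, 0, 0, 0, 0, 4, 0, 268, [1697, 6871, 24]⟩) (.leaf ⟨3, 3897, 3785, 0, 0, 0, 0, 34, 0, 3785, [22537, 18749, 23252]⟩)) (.node (.leaf ⟨10, 387, 2514, 0, 0, 0, 0, 93, 0, 0, []⟩) (.leaf ⟨2, 2390, 5203, (-1), 0, (-5), 0, 29, 2, 2387, [13813, 31447, 31442]⟩))))) (.node (.node (.node (.node (.leaf ⟨5, 277, 292, 0, 0, 0, 0, 93, 0, 0, []⟩) (.leaf ⟨6, 2971, 2972, 0, 0, 0, 0, 93, 0, 0, []⟩)) (.node (.leaf ⟨3, 1689, 1691, 0, 0, 0, 0, 36, 0, 1691, [9939, 9943, 9910]⟩) (.leaf ⟨8, 591, 4448, 0, 0, 0, 0, 93, 0, 0, []⟩))) (.node (.node (.leaf ⟨3, 816, 816, 1, 0, (-1), 0, 35, 2, 93, [5216, 808, 5216]⟩) (.leaf ⟨3, 802, 802,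 (-1), 0, (-1), 0, 35, 2, 193, [5165, 22230, 5165]⟩)) (.node (.leaf ⟨3, 529, 529, (-1), 0, (-1), 0, 37, 0, 529, [2771, 14038, 2770]⟩) (.leaf ⟨8, 2622, 5073, 0, 0, 0, 0, 41, 3, 2622, [15615, 30420, 30422]⟩)))) (.node (.node (.node (.leaf ⟨4, 668, 530, 0, 0, 0, 0, 13, 3, 668, [3797, 641, 2774]⟩) (.leaf ⟨6, 3324, 3335, 0, 0, 0, 0, 93, 0, 0, []⟩)) (.node (.leaf ⟨5, 2030, 2031, 0, 0, 0, 0, 93, 0, 0, []⟩) (.leaf ⟨8, 533, 4774, 0, 0, 0, 0, 61, 0, 4774, [28373, 4680, 2820]⟩))) (.node (.node (.leaf ⟨5, 1208, 1339, 0, 0, 0, 0, 93, 0, 0, []⟩) (.leaf ⟨8, 4052, 4053, 0, 0, 0, 0, 93, 0, 0, []⟩)) (.node (.leaf ⟨9, 2636, 2686, 0, 0, 0, 0, 63, 2, 2635, [15832, 15831, 16080]⟩) (.leaf ⟨0, 0, 0, 0, 0, 0, 0, 0, 0, 0, []⟩))))))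

def factsPart109 : ATree TFact :=
  .node (.node (.node (.node (.node (.node (.leaf ⟨1, 9, 9, (-1), 0, (-1), 0, 14, 0, 9, [17, 216, 16]⟩) (.leaf ⟨5, 2746, 2748, (-50), 0, (-6), 0, 23, 3, 2746, [16593, 5967, 16600]⟩)) (.node (.leaf ⟨4, 1450, 1436, 0, 0, 0, 0, 38, 4, 1449, [8384, 8383, 8408, 8344, 8348]⟩) (.leaf ⟨7, 4168, 4173, 0, 0, 0, 0, 46, 3, 4168, [24773, 24792, 24782]⟩))) (.node (.node (.leaf ⟨11, 117, 717, 0, 0, 0, 0, 50, 3, 117, [495, 4312, 4300]⟩) (.leaf ⟨9, 3444, 3424, 0, 0, 0, 0, 53, 3, 3444, [20693, 20697, 20612]⟩)) (.node (.leaf ⟨1, 2150, 2092, 0, 0, 0, 0, 17, 0, 2092, [12243, 12503, 12504]⟩) (.leaf ⟨11, 4863, 4864, 0, 0, 0, 0, 93, 0, 0, []⟩)))) (.node (.node (.node (.leaf ⟨11, 419, 420, 0, 0, 0, 0, 93, 0, 0, []⟩) (.leaf ⟨2, 3081, 3085, 0, 0, 0, 0, 23,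 0, 3085, [18637, 18649, 18624]⟩)) (.node (.leaf ⟨6, 625, 625, 1, 0, (-1), 0, 45, 5, 625, [3413, 3409, 10456, 3408, 3412]⟩) (.leaf ⟨10, 4518, 4519, 0, 0, 0, 0, 93, 0, 0, []⟩))) (.node (.node (.leaf ⟨10, 1004, 1005, 0, 0, 0, 0, 93, 0, 0, []⟩) (.leaf ⟨7, 3783, 3783, 1, 0, (-1), 0, 56, 4, 928, [22530, 5927, 22744, 5926, 22530]⟩)) (.node (.leaf ⟨7, 1710, 1710, (-1), 0, 1, 0, 59, 0, 1710, [10037, 14552, 10036]⟩) (.leaf ⟨9, 3372, 5147, 0, 0, 0, 0, 63, 0, 5147, [30937, 20491, 20420]⟩))))) (.node (.node (.node (.node (.leaf ⟨8, 185, 155, 0, 0, 0, 0, 41, 3, 185, [1237, 469, 898]⟩) (.leaf ⟨4, 2874, 2883, 0, 0, 0, 0, 93, 0, 0, []⟩)) (.node (.leaf ⟨2, 1561, 1561, 1, 0, (-1), 0, 25, 0, 1561, [8795, 9432, 8794]⟩) (.leaf ⟨2, 4285, 4357, 5, 0, (-7), 0, 27, 2, 4341, [25740, 25801,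 25816]⟩))) (.node (.node (.leaf ⟨9, 839, 840, 0, 0, 0, 0, 93, 0, 0, []⟩) (.leaf ⟨3, 3646, 3692, 0, 0, 0, 0, 33, 2, 3645, [21516, 21515, 21692]⟩)) (.node (.leaf ⟨2, 717, 523, 0, 0, 0, 0, 23, 0, 523, [2727, 13529, 4300]⟩) (.leaf ⟨7, 1673, 510, (-37), 0, (-7), 0, 40, 1, 1101, [7146, 9892, 29415]⟩)))) (.node (.node (.node (.leaf ⟨7, 503, 604, 0, 0, 0, 0, 58, 0, 604, [3273, 2769, 2618]⟩) (.leaf ⟨3, 3236, 3253, 0, 0, 0, 0, 36, 0, 3253, [19663, 19673, 19600]⟩)) (.node (.leaf ⟨8, 588, 1955, 0, 0, 0, 0, 47, 3, 588, [3211, 11480, 11466]⟩) (.leaf ⟨2, 4601, 4510, (-126), 0, (-34), 0, 66, 43, 4511, [26828, 27005, 27019, 27027, 27031, 27033, 27106, 21001, 21013, 27124, 27132, 27136, 20967, 27155, 27156, 27166, 27221, 27222, 27246, 27256, 27278, 27320, 27337, 27338, 27348, 27363,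 27371, 27372, 27388, 27552, 27574, 27559, 27582, 27600, 27593, 27611, 26066, 27631, 27653, 27668, 27679, 27680, 27687, 27690, 27712, 27714, 27760, 27772, 27782, 27791, 27799, 27814, 27797, 27822, 25569, 25567, 27830, 27832, 27840, 27848, 26823, 27864, 26816]⟩))) (.node (.node (.leaf ⟨0, 15, 270, 0, 0, 0, 0, 5, 0, 270, [1701, 7385, 28]⟩) (.leaf ⟨4, 3982, 3980, 0, 0, 0, 0, 40, 2, 3981, [23768, 23767, 23754]⟩)) (.node (.leaf ⟨6, 2612, 2613, 0, 0, 0, 0, 93, 0, 0, []⟩) (.leaf ⟨0, 0, 0, 0, 0, 0, 0, 0, 0, 0, []⟩)))))) (.node (.node (.node (.node (.node (.leaf ⟨3, 139, 139, 1, 0, 1, 0, 32, 0, 139, [713, 728, 712]⟩) (.leaf ⟨4, 2807, 2783, 0, 0, 0, 0, 40, 0, 2783, [16883, 17111, 17112]⟩)) (.node (.leaf ⟨5, 1580, 1581, 0, 0, 0, 0, 93, 0, 0, []⟩) (.leaf ⟨7, 4244, 4245, 0, 0,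 0, 0, 93, 0, 0, []⟩))) (.node (.node (.leaf ⟨1, 757, 757, 1, 0, 1, 0, 19, 0, 757, [4741, 4824, 4740]⟩) (.leaf ⟨6, 3577, 3578, 0, 0, 0, 0, 93, 0, 0, []⟩)) (.node (.leaf ⟨11, 2211, 2231, 0, 0, 0, 0, 50, 3, 2211, [12867, 13016, 12948]⟩) (.leaf ⟨5, 4913, 4913, (-1), 0, 1, 0, 49, 0, 4913, [29371, 8811, 8836, 8810, 29370]⟩)))) (.node (.node (.node (.leaf ⟨10, 530, 530, 1, 0, 1, 0, 19, 3, 530, [2775, 568, 2774]⟩) (.leaf ⟨10, 3153, 3154, 0, 0, 0, 0, 93, 0, 0, []⟩)) (.node (.leaf ⟨9, 1471, 1839, 0, 0, 0, 0, 63, 2, 1470, [8466, 8465, 10950]⟩) (.leaf ⟨5, 4615, 4616, 0, 0, 0, 0, 93, 0, 0, []⟩))) (.node (.node (.leaf ⟨6, 13, 1099, 0, 0, 0, 0, 93, 0, 0, []⟩) (.leaf ⟨2, 3785, 3803, 0, 0, 0, 0, 26, 0, 3803, [22761, 18991, 22536]⟩)) (.node (.leaf ⟨4, 2514, 2512, 0, 0, 0, 0, 43, 2,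 387, [15064, 2085, 15060]⟩) (.leaf ⟨3, 5198, 2394, 1, 0, (-5), 0, 21, 5, 5198, [31437, 31445, 31449, 13820, 13832]⟩))))) (.node (.node (.node (.node (.leaf ⟨7, 292, 293, 0, 0, 0, 0, 93, 0, 0, []⟩) (.leaf ⟨5, 2972, 2973, 0, 0, 0, 0, 93, 0, 0, []⟩)) (.node (.leaf ⟨3, 1690, 1692, 0, 0, 0, 0, 37, 0, 1692, [9941, 9945, 9912]⟩) (.leaf ⟨6, 2642, 4448, 0, 0, 0, 0, 52, 2, 592, [15848, 3227, 26328]⟩))) (.node (.node (.leaf ⟨6, 830, 917, 0, 0, 0, 0, 93, 0, 0, []⟩) (.leaf ⟨3, 812, 812, (-1), 0, 1, 0, 33, 2, 802, [5200, 22232, 5200]⟩)) (.node (.leaf ⟨4, 151, 151, (-1), 0, 1, 0, 43, 0, 151, [851, 3870, 850]⟩) (.leaf ⟨7, 5073, 5074, 0, 0, 0, 0, 93, 0, 0, []⟩)))) (.node (.node (.node (.leaf ⟨4, 669, 536, 0, 0, 0, 0, 22, 3, 669, [3799, 3800, 2862]⟩) (.leaf ⟨5, 3335, 3336, 0, 0, 0,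 0, 93, 0, 0, []⟩)) (.node (.leaf ⟨4, 2031, 2032, 0, 0, 0, 0, 93, 0, 0, []⟩) (.leaf ⟨2, 4774, 4774, 1, 0, 1, 0, 26, 0, 4774, [28377, 2828, 28376]⟩))) (.node (.node (.leaf ⟨4, 1339, 1340, 0, 0, 0, 0, 93, 0, 0, []⟩) (.leaf ⟨3, 4053, 3807, 0, 0, 0, 0, 34, 0, 3807, [22775, 24279, 24280]⟩)) (.node (.leaf ⟨9, 2687, 2637, 0, 0, 0, 0, 64, 0, 2637, [15835, 16088, 16082]⟩) (.leaf ⟨0, 0, 0, 0, 0, 0, 0, 0, 0, 0, []⟩))))))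

def factsPart110 : ATree TFact :=
  .node (.node (.node (.node (.node (.node (.leaf ⟨1, 10, 10, 1, 0, 1, 0, 13, 0, 10, [19, 218, 18]⟩) (.leaf ⟨1, 2748, 2744, 50, 0, (-6), 0, 14, 0, 2744, [16561, 16588, 16602]⟩)) (.node (.leaf ⟨7, 1450, 1453, 0, 0, 0, 0, 93, 0, 0, []⟩) (.leaf ⟨7, 4169, 4174, 0, 0, 0, 0, 40, 3, 4169, [24775, 24794, 24784]⟩))) (.node (.node (.leaf ⟨11, 174, 718, 0, 0, 0, 0, 44, 3, 174, [1141, 4314, 4302]⟩) (.leaf ⟨9, 3439, 3425, 0, 0, 0, 0, 60, 5, 3439, [20665, 20683, 20694, 20698, 20614]⟩)) (.node (.leaf ⟨5, 2150, 2151, 0, 0, 0, 0, 93, 0, 0, []⟩) (.leaf ⟨5, 4864, 4865, 0, 0, 0, 0, 93, 0, 0, []⟩)))) (.node (.node (.node (.leaf ⟨7, 420, 421, 0, 0, 0, 0, 93, 0, 0, []⟩) (.leaf ⟨2, 3082, 3086, 0, 0, 0, 0, 28, 0, 3086, [18639, 18651, 18628]⟩)) (.node (.leaf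 ⟨6, 721, 721, (-1), 0, 1, 0, 54, 0, 721, [4309, 10458, 4308]⟩) (.leaf ⟨9, 4454, 2659, 0, 0, 0, 0, 48, 3, 4454, [26403, 16023, 15934]⟩))) (.node (.node (.leaf ⟨11, 1005, 1006, 0, 0, 0, 0, 93, 0, 0, []⟩) (.leaf ⟨10, 928, 928, (-1), 0, 1, 0, 58, 3, 928, [5927, 5978, 5926]⟩)) (.node (.leaf ⟨11, 1579, 1579, 1, 0, (-1), 0, 59, 3, 1579, [8919, 10066, 8918]⟩) (.leaf ⟨0, 5045, 5148, 0, 0, 0, 0, 93, 0, 0, []⟩))))) (.node (.node (.node (.node (.leaf ⟨8, 182, 184, 0, 0, 0, 0, 47, 3, 182, [1225, 1223, 1228]⟩) (.leaf ⟨10, 2883, 2884, 0, 0, 0, 0, 93, 0, 0, []⟩)) (.node (.leaf ⟨2, 1562, 1562, (-1), 0, 1, 0, 24, 0, 1562, [8797, 9434, 8796]⟩) (.leaf ⟨7, 4339, 4358, 0, 0, 0, 0, 93, 0, 0, []⟩))) (.node (.node (.leaf ⟨10, 839, 834, 0, 0, 0, 0, 61, 3, 839, [5337, 3622, 5320]⟩) (.leaf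 ⟨3, 3693, 3647, 0, 0, 0, 0, 32, 0, 3647, [21519, 21722, 21694]⟩)) (.node (.leaf ⟨7, 522, 522, 1, 0, (-1), 0, 51, 5, 522, [2723, 2719, 10488, 2718, 2722]⟩) (.leaf ⟨2, 1663, 1663, 1, 0, 1, 0, 28, 0, 1663, [9721, 14570, 9720]⟩)))) (.node (.node (.node (.leaf ⟨11, 503, 606, 0, 0, 0, 0, 93, 0, 0, []⟩) (.leaf ⟨7, 1968, 3254, 0, 0, 0, 0, 93, 0, 0, []⟩)) (.node (.leaf ⟨8, 741, 1956, 0, 0, 0, 0, 41, 3, 741, [4613, 11482, 11468]⟩) (.leaf ⟨6, 4601, 4690, 0, 0, 0, 0, 93, 0, 0, []⟩))) (.node (.node (.leaf ⟨0, 16, 271, 0, 0, 0, 0, 7, 0, 271, [1703, 7387, 30]⟩) (.leaf ⟨3, 3140, 3983, 0, 0, 0, 0, 93, 0, 0, []⟩)) (.node (.leaf ⟨9, 2609, 2613, 0, 0, 0, 0, 53, 3, 2609, [15567, 15576, 15578]⟩) (.leaf ⟨0, 0, 0, 0, 0, 0, 0, 0, 0, 0, []⟩)))))) (.node (.node (.node (.node (.node (.leaf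 ⟨7, 123, 140, 0, 0, 0, 0, 93, 0, 0, []⟩) (.leaf ⟨5, 2806, 2806, (-1), 0, 1, 0, 48, 0, 2806, [17109, 16912, 17108]⟩)) (.node (.leaf ⟨4, 1581, 1582, 0, 0, 0, 0, 93, 0, 0, []⟩) (.leaf ⟨6, 4245, 3622, 6, 0, 12, 0, 51, 2, 3510, [20961, 25305, 25306, 24573, 21446]⟩))) (.node (.node (.leaf ⟨1, 758, 758, (-1), 0, (-1), 0, 14, 0, 758, [4743, 4826, 4742]⟩) (.leaf ⟨8, 3578, 3579, 0, 0, 0, 0, 93, 0, 0, []⟩)) (.node (.leaf ⟨11, 2223, 2215, (-27), 0, (-1), 0, 55, 3, 2223, [13013, 13019, 12910]⟩) (.leaf ⟨3, 1652, 2368, 0, 0, 0, 0, 36, 0, 2368, [13625, 9417, 9614]⟩)))) (.node (.node (.node (.leaf ⟨5, 151, 151, (-1), 0, 1, 0, 49, 0, 151, [851, 2777, 2778, 2776, 850]⟩) (.leaf ⟨2, 3147, 3151, 0, 0, 0, 0, 25, 0, 3151, [19157, 18263, 19144]⟩)) (.node (.leaf ⟨9, 1840, 1472, 0, 0, 0, 0,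 57, 3, 1840, [10963, 10971, 8468]⟩) (.leaf ⟨4, 4616, 4617, 0, 0, 0, 0, 93, 0, 0, []⟩))) (.node (.node (.leaf ⟨0, 1099, 1049, 0, 0, 0, 0, 5, 0, 1049, [6647, 6873, 6874]⟩) (.leaf ⟨10, 2749, 2749, (-1), 0, 1, 0, 58, 3, 2749, [16607, 19000, 16606]⟩)) (.node (.leaf ⟨8, 158, 127, 0, 0, 0, 0, 47, 3, 158, [913, 911, 522]⟩) (.leaf ⟨3, 5195, 5199, (-1), 0, 5, 0, 33, 2, 2394, [31414, 31451, 31428]⟩))))) (.node (.node (.node (.node (.leaf ⟨6, 293, 294, 0, 0, 0, 0, 93, 0, 0, []⟩) (.leaf ⟨4, 2973, 2974, 0, 0, 0, 0, 93, 0, 0, []⟩)) (.node (.leaf ⟨10, 1069, 1693, 0, 0, 0, 0, 93, 0, 0, []⟩) (.leaf ⟨5, 4448, 4448, 1, 0, 1, 0, 47, 0, 4448, [26329, 9380, 26328]⟩))) (.node (.node (.leaf ⟨9, 831, 918, 0, 0, 0, 0, 93, 0, 0, []⟩) (.leaf ⟨3, 813, 813, (-1), 0, (-1), 0, 32, 2, 812, [5202,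 22234, 5202]⟩)) (.node (.leaf ⟨4, 529, 529, 1, 0, (-1), 0, 44, 0, 529, [2771, 14042, 2770]⟩) (.leaf ⟨8, 2621, 5069, 0, 0, 0, 0, 47, 3, 2621, [15609, 30372, 30406]⟩)))) (.node (.node (.node (.leaf ⟨1, 136, 670, 0, 0, 0, 0, 93, 0, 0, []⟩) (.leaf ⟨3, 3321, 3335, 0, 0, 0, 0, 32, 0, 3335, [20185, 20092, 20062]⟩)) (.node (.leaf ⟨7, 2032, 2033, 0, 0, 0, 0, 93, 0, 0, []⟩) (.leaf ⟨2, 750, 750, 1, 0, (-1), 0, 22, 2, 4774, [28375, 28378, 28375]⟩))) (.node (.node (.leaf ⟨3, 1340, 1341, 0, 0, 0, 0, 93, 0, 0, []⟩) (.leaf ⟨5, 4053, 4054, 0, 0, 0, 0, 93, 0, 0, []⟩)) (.node (.leaf ⟨9, 2688, 2638, 0, 0, 0, 0, 48, 3, 2688, [16085, 16090, 15836]⟩) (.leaf ⟨0, 0, 0, 0, 0, 0, 0, 0, 0, 0, []⟩))))))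

def factsPart111 : ATree TFact :=
  .node (.node (.node (.node (.node (.node (.leaf ⟨1, 11, 11, (-1), 0, (-1), 0, 12, 0, 11, [21, 220, 20]⟩) (.leaf ⟨7, 937, 2749, 0, 0, 0, 0, 93, 0, 0, []⟩)) (.node (.leaf ⟨4, 1453, 1437, 0, 0, 0, 0, 40, 0, 1437, [8353, 8411, 8412]⟩) (.leaf ⟨7, 4170, 4175, 0, 0, 0, 0, 58, 0, 4175, [24787, 24797, 24776]⟩))) (.node (.node (.leaf ⟨11, 721, 719, 1, 0, (-5), 0, 65, 5, 721, [4309, 3423, 1179, 4316, 4304]⟩) (.leaf ⟨7, 3425, 3445, 0, 0, 0, 0, 93, 0, 0, []⟩)) (.node (.leaf ⟨1, 2151, 2093, 0, 0, 0, 0, 14, 0, 2093, [12245, 12507, 12508]⟩) (.leaf ⟨4, 4865, 4866, 0, 0, 0, 0, 93, 0, 0, []⟩)))) (.node (.node (.node (.leaf ⟨4, 418, 411, 0, 0, 0, 0, 42, 2, 417, [2262, 2261, 2230]⟩) (.leaf ⟨5, 954, 3087, 0, 0, 0, 0, 93, 0, 0, []⟩)) (.node (.leaf ⟨2,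 1700, 1765, 0, 0, 0, 0, 93, 0, 0, []⟩) (.leaf ⟨9, 4455, 4516, 0, 0, 0, 0, 57, 3, 4455, [26405, 26844, 26836]⟩))) (.node (.node (.leaf ⟨9, 1004, 1007, 0, 0, 0, 0, 93, 0, 0, []⟩) (.leaf ⟨10, 3783, 3783, (-1), 0, (-1), 0, 61, 3, 3783, [22531, 22748, 22530]⟩)) (.node (.leaf ⟨11, 1580, 1580, 1, 0, 1, 0, 55, 3, 1580, [8921, 14556, 8920]⟩) (.leaf ⟨8, 4908, 5148, 0, 0, 0, 0, 7, 3, 4908, [29331, 30376, 30940]⟩))))) (.node (.node (.node (.node (.leaf ⟨10, 155, 182, (-1), 0, (-5), 0, 61, 1, 184, [1240, 1242, 1245]⟩) (.leaf ⟨4, 2884, 2882, 0, 0, 0, 0, 43, 2, 2883, [17628, 17627, 17622]⟩)) (.node (.leaf ⟨2, 1563, 1563, 1, 0, (-1), 0, 23, 0, 1563, [8799, 9436, 8798]⟩) (.leaf ⟨10, 1955, 4343, 0, 0, 0, 0, 49, 5, 1955, [11467, 11465, 15884, 25742, 25744]⟩))) (.node (.node (.leaf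 ⟨10, 840, 835, 0, 0, 0, 0, 63, 3, 840, [5339, 5340, 5322]⟩) (.leaf ⟨3, 3694, 3648, 0, 0, 0, 0, 31, 0, 3648, [21521, 21725, 21696]⟩)) (.node (.leaf ⟨7, 523, 523, 1, 0, 1, 0, 46, 3, 523, [2727, 13532, 2726]⟩) (.leaf ⟨7, 1594, 2704, (-18), 0, (-4), 0, 59, 2, 762, [9013, 14623, 16258]⟩)))) (.node (.node (.node (.leaf ⟨7, 606, 605, 0, 0, 0, 0, 59, 0, 605, [3275, 3291, 3292]⟩) (.leaf ⟨6, 3254, 3255, 0, 0, 0, 0, 93, 0, 0, []⟩)) (.node (.leaf ⟨7, 454, 1958, 0, 0, 0, 0, 93, 0, 0, []⟩) (.leaf ⟨2, 4282, 4690, 126, 0, 34, 0, 24, 2, 4510, [26824, 27867, 27868]⟩))) (.node (.node (.leaf ⟨0, 17, 272, 0, 0, 0, 0, 4, 0, 272, [1705, 7389, 32]⟩) (.leaf ⟨9, 3983, 3984, 0, 0, 0, 0, 93, 0, 0, []⟩)) (.node (.leaf ⟨10, 1747, 2614, 0, 0, 0, 0, 93, 0, 0, []⟩) (.leaf ⟨0, 0, 0, 0, 0, 0, 0, 0,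 0, 0, []⟩)))))) (.node (.node (.node (.node (.node (.leaf ⟨6, 140, 141, 0, 0, 0, 0, 93, 0, 0, []⟩) (.leaf ⟨5, 2807, 2807, 1, 0, (-1), 0, 46, 0, 2807, [17113, 17116, 17112]⟩)) (.node (.leaf ⟨3, 1582, 1583, 0, 0, 0, 0, 93, 0, 0, []⟩) (.leaf ⟨5, 3506, 4246, 0, 0, 0, 0, 93, 0, 0, []⟩))) (.node (.node (.leaf ⟨1, 759, 759, 1, 0, 1, 0, 15, 0, 759, [4745, 4828, 4744]⟩) (.leaf ⟨3, 2128, 3056, 0, 0, 0, 0, 35, 2, 2125, [12338, 12321, 18472]⟩)) (.node (.leaf ⟨8, 1555, 2242, 0, 0, 0, 0, 93, 0, 0, []⟩) (.leaf ⟨2, 2368, 714, 0, 0, 0, 0, 28, 0, 714, [4295, 4357, 13624]⟩)))) (.node (.node (.node (.leaf ⟨5, 529, 529, 1, 0, (-1), 0, 50, 0, 529, [2771, 2780, 2770]⟩) (.leaf ⟨2, 3148, 3152, 0, 0, 0, 0, 24, 0, 3152, [19159, 19165, 19146]⟩)) (.node (.leaf ⟨9, 1841, 1473, 0, 0, 0, 0, 53,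 3, 1841, [10967, 10972, 8470]⟩) (.leaf ⟨5, 4610, 4614, 0, 0, 0, 0, 46, 2, 3065, [27326, 18523, 27350]⟩))) (.node (.node (.leaf ⟨7, 1099, 1100, 0, 0, 0, 0, 93, 0, 0, []⟩) (.leaf ⟨10, 3803, 3803, (-1), 0, (-1), 0, 61, 3, 3803, [22761, 23260, 22760]⟩)) (.node (.leaf ⟨8, 169, 392, 0, 0, 0, 0, 41, 3, 169, [1001, 15069, 2094]⟩) (.leaf ⟨3, 5200, 5196, 1, 0, (-5), 0, 32, 2, 5199, [31430, 31453, 31416]⟩))))) (.node (.node (.node (.node (.leaf ⟨5, 294, 295, 0, 0, 0, 0, 93, 0, 0, []⟩) (.leaf ⟨3, 2974, 2975, 0, 0, 0, 0, 93, 0, 0, []⟩)) (.node (.leaf ⟨11, 1693, 1694, 0, 0, 0, 0, 93, 0, 0, []⟩) (.leaf ⟨6, 2643, 2643, 1, 0, 1, 0, 45, 5, 2643, [15851, 26330, 26332, 26331, 15850]⟩))) (.node (.node (.leaf ⟨6, 918, 826, 0, 0, 0, 0, 53, 0, 826, [5285, 5304, 5852]⟩) (.leaf ⟨3, 3122,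 3122, (-1), 0, 1, 0, 31, 2, 813, [18968, 22236, 18968]⟩)) (.node (.leaf ⟨10, 584, 584, 1, 0, (-1), 0, 58, 3, 584, [3133, 2800, 3132]⟩) (.leaf ⟨8, 5074, 5070, 165, 0, 17, 0, 56, 3, 2622, [30424, 30426, 15617, 30428, 30408]⟩)))) (.node (.node (.node (.leaf ⟨3, 670, 668, 0, 0, 0, 0, 12, 3, 670, [3805, 645, 3796]⟩) (.leaf ⟨3, 3322, 3336, 0, 0, 0, 0, 31, 0, 3336, [20187, 20189, 20068]⟩)) (.node (.leaf ⟨6, 2033, 2034, 0, 0, 0, 0, 93, 0, 0, []⟩) (.leaf ⟨2, 748, 748, 1, 0, 1, 0, 27, 2, 750, [4717, 28380, 4717]⟩))) (.node (.node (.leaf ⟨10, 1341, 1342, 0, 0, 0, 0, 93, 0, 0, []⟩) (.leaf ⟨3, 4054, 4043, 0, 0, 0, 0, 31, 0, 4043, [24231, 24283, 24284]⟩)) (.node (.leaf ⟨9, 2689, 2639, 0, 0, 0, 0, 42, 3, 2689, [16087, 16092, 15838]⟩) (.leaf ⟨0, 0, 0, 0, 0, 0, 0, 0, 0, 0, []⟩))))))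

def factsPart112 : ATree TFact :=
  .node (.node (.node (.node (.node (.node (.leaf ⟨1, 12, 12, 1, 0, 1, 0, 19, 0, 12, [23, 222, 22]⟩) (.leaf ⟨4, 2749, 2747, 0, 0, 0, 0, 40, 0, 2747, [16595, 6009, 16606]⟩)) (.node (.leaf ⟨8, 1453, 1454, 0, 0, 0, 0, 93, 0, 0, []⟩) (.leaf ⟨11, 3110, 4176, 0, 0, 0, 0, 93, 0, 0, []⟩))) (.node (.node (.leaf ⟨10, 709, 623, 0, 0, 0, 0, 58, 3, 709, [4285, 1791, 3404]⟩) (.leaf ⟨9, 3440, 3445, 0, 0, 0, 0, 57, 3, 3440, [20667, 20700, 20702]⟩)) (.node (.leaf ⟨4, 2151, 2152, 0, 0, 0, 0, 93, 0, 0, []⟩) (.leaf ⟨7, 4866, 4867, 0, 0, 0, 0, 93, 0, 0, []⟩)))) (.node (.node (.node (.leaf ⟨4, 412, 419, 0, 0, 0, 0, 43, 0, 419, [2265, 2270, 2232]⟩) (.leaf ⟨11, 3073, 952, 0, 0, 0, 0, 59, 3, 3073, [18567, 18551, 6066]⟩)) (.node (.leaf ⟨10, 1765, 1766, 0,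 0, 0, 0, 93, 0, 0, []⟩) (.leaf ⟨9, 4513, 4517, 0, 0, 0, 0, 53, 3, 4513, [26831, 26846, 26838]⟩))) (.node (.node (.leaf ⟨10, 1007, 1008, 0, 0, 0, 0, 93, 0, 0, []⟩) (.leaf ⟨8, 2747, 3802, 0, 0, 0, 0, 93, 0, 0, []⟩)) (.node (.leaf ⟨11, 1581, 1581, 1, 0, (-1), 0, 50, 3, 1581, [8923, 14558, 8922]⟩) (.leaf ⟨8, 1532, 3365, 0, 0, 0, 0, 61, 0, 3365, [20395, 12827, 8642]⟩))))) (.node (.node (.node (.node (.leaf ⟨10, 183, 156, 1, 0, 5, 0, 58, 3, 183, [1227, 1247, 900]⟩) (.leaf ⟨5, 2884, 2885, 0, 0, 0, 0, 93, 0, 0, []⟩)) (.node (.leaf ⟨2, 1564, 1564, (-1), 0, 1, 0, 22, 0, 1564, [8801, 9438, 8800]⟩) (.leaf ⟨10, 4339, 4344, 0, 0, 0, 0, 54, 3, 4339, [25731, 25822, 25746]⟩))) (.node (.node (.leaf ⟨5, 839, 841, 0, 0, 0, 0, 93, 0, 0, []⟩) (.leaf ⟨3, 3697, 3674, 0, 0, 0, 0, 36, 0,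 3674, [21643, 21727, 21718]⟩)) (.node (.leaf ⟨7, 524, 524, (-1), 0, (-1), 0, 58, 0, 524, [2731, 13534, 2730]⟩) (.leaf ⟨10, 2704, 2704, 1, 0, (-1), 0, 65, 4, 1697, [16258, 9987, 9984, 9986, 16258]⟩)))) (.node (.node (.node (.leaf ⟨5, 354, 534, 0, 0, 0, 0, 46, 2, 353, [1920, 1919, 2852]⟩) (.leaf ⟨5, 3255, 3256, 0, 0, 0, 0, 93, 0, 0, []⟩)) (.node (.leaf ⟨8, 1957, 1958, 0, 0, 0, 0, 56, 5, 1957, [11471, 11485, 4628, 4690, 11486]⟩) (.leaf ⟨6, 4596, 4691, 0, 0, 0, 0, 93, 0, 0, []⟩))) (.node (.node (.leaf ⟨0, 18, 273, 0, 0, 0, 0, 3, 0, 273, [1707, 7391, 34]⟩) (.leaf ⟨7, 3984, 3985, 0, 0, 0, 0, 93, 0, 0, []⟩)) (.node (.leaf ⟨5, 2614, 2615, 0, 0, 0, 0, 93, 0, 0, []⟩) (.leaf ⟨0, 0, 0, 0, 0, 0, 0, 0, 0, 0, []⟩)))))) (.node (.node (.node (.node (.node (.leaf ⟨4, 140, 138, 0,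 0, 0, 0, 40, 2, 123, [732, 515, 708]⟩) (.leaf ⟨8, 138, 2808, 0, 0, 0, 0, 93, 0, 0, []⟩)) (.node (.leaf ⟨3, 1579, 569, 0, 0, 0, 0, 33, 0, 569, [3053, 7858, 8918]⟩) (.leaf ⟨6, 4246, 4247, 0, 0, 0, 0, 93, 0, 0, []⟩))) (.node (.node (.leaf ⟨2, 754, 754, 1, 0, (-1), 0, 11, 3, 759, [4813, 4820, 4830, 4813, 4820]⟩) (.leaf ⟨3, 3057, 2129, 0, 0, 0, 0, 36, 0, 2129, [12343, 21214, 18476]⟩)) (.node (.leaf ⟨5, 2242, 2243, 0, 0, 0, 0, 93, 0, 0, []⟩) (.leaf ⟨3, 2360, 1766, 0, 0, 0, 0, 36, 0, 1766, [10465, 29201, 13572]⟩)))) (.node (.node (.node (.leaf ⟨6, 350, 350, 1, 0, (-1), 0, 45, 5, 350, [1913, 2773, 2782, 2772, 1912]⟩) (.leaf ⟨2, 3149, 3153, 0, 0, 0, 0, 23, 0, 3153, [19161, 19167, 19150]⟩)) (.node (.leaf ⟨9, 258, 1474, 0, 0, 0, 0, 60, 5, 258, [1629, 10931, 10968, 10974, 8472]⟩)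 (.leaf ⟨6, 4616, 4612, 0, 0, 0, 0, 45, 5, 4616, [27355, 27353, 27359, 27330, 27334]⟩))) (.node (.node (.leaf ⟨0, 1100, 1050, 0, 0, 0, 0, 6, 0, 1050, [6649, 6877, 6878]⟩) (.leaf ⟨8, 828, 493, 0, 0, 0, 0, 47, 3, 828, [5293, 5281, 2554]⟩)) (.node (.leaf ⟨8, 120, 2515, 0, 0, 0, 0, 93, 0, 0, []⟩) (.leaf ⟨5, 5200, 5204, 0, 0, 0, 0, 93, 0, 0, []⟩))))) (.node (.node (.node (.node (.leaf ⟨4, 295, 296, 0, 0, 0, 0, 93, 0, 0, []⟩) (.leaf ⟨2, 2975, 2976, 0, 0, 0, 0, 93, 0, 0, []⟩)) (.node (.leaf ⟨4, 1693, 1691, 0, 0, 0, 0, 43, 2, 1069, [9948, 6695, 9938]⟩) (.leaf ⟨6, 4435, 4435, (-1), 0, (-1), 0, 54, 0, 4435, [26231, 26334, 26230]⟩))) (.node (.node (.leaf ⟨8, 479, 479, (-1), 0, (-1), 0, 61, 0, 479, [2471, 5654, 2470]⟩) (.leaf ⟨4, 3122, 3750, 0, 0, 0, 0, 93, 0, 0, []⟩)) (.node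 (.leaf ⟨2, 584, 497, 0, 0, 0, 0, 25, 0, 497, [2573, 2623, 3132]⟩) (.leaf ⟨9, 5071, 1083, 0, 0, 0, 0, 48, 3, 5071, [30415, 6729, 6814]⟩)))) (.node (.node (.node (.leaf ⟨0, 0, 0, 0, 0, 0, 0, 81, 0, 0, []⟩) (.leaf ⟨10, 3305, 3336, (-48), 0, 18, 0, 36, 3, 3305, [20183, 20077, 20190]⟩)) (.node (.leaf ⟨8, 2034, 2035, 0, 0, 0, 0, 93, 0, 0, []⟩) (.leaf ⟨2, 3463, 3463, 1, 0, (-1), 0, 25, 2, 748, [20802, 28382, 20802]⟩))) (.node (.node (.leaf ⟨5, 1342, 1343, 0, 0, 0, 0, 93, 0, 0, []⟩) (.leaf ⟨7, 4054, 4055, 0, 0, 0, 0, 93, 0, 0, []⟩)) (.node (.leaf ⟨1, 439, 2690, 0, 0, 0, 0, 93, 0, 0, []⟩) (.leaf ⟨0, 0, 0, 0, 0, 0, 0, 0, 0, 0, []⟩))))))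

def factsPart113 : ATree TFact :=
  .node (.node (.node (.node (.node (.node (.leaf ⟨1, 13, 13, (-1), 0, (-1), 0, 14, 0, 13, [25, 224, 24]⟩) (.leaf ⟨6, 2749, 2750, 0, 0, 0, 0, 93, 0, 0, []⟩)) (.node (.leaf ⟨4, 1454, 1438, 0, 0, 0, 0, 41, 0, 1438, [8357, 8415, 8416]⟩) (.leaf ⟨7, 4176, 4177, 0, 0, 0, 0, 93, 0, 0, []⟩))) (.node (.node (.leaf ⟨10, 624, 710, 0, 0, 0, 0, 54, 3, 624, [3409, 4321, 4286]⟩) (.leaf ⟨7, 2691, 3446, 0, 0, 0, 0, 93, 0, 0, []⟩)) (.node (.leaf ⟨1, 2152, 2094, 0, 0, 0, 0, 13, 0, 2094, [12247, 12511, 12512]⟩) (.leaf ⟨8, 1539, 4863, 0, 0, 0, 0, 61, 0, 4863, [28889, 12839, 8656]⟩)))) (.node (.node (.node (.leaf ⟨4, 413, 420, 0, 0, 0, 0, 44, 0, 420, [2267, 2273, 2234]⟩) (.leaf ⟨11, 954, 3074, 0, 0, 0, 0, 55, 3, 954, [6083, 18657, 18568]⟩)) (.node (.leaf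 ⟨2, 1766, 1701, 0, 0, 0, 0, 28, 2, 1765, [10464, 10463, 9996]⟩) (.leaf ⟨9, 4514, 4518, 0, 0, 0, 0, 48, 3, 4514, [26833, 26848, 26840]⟩))) (.node (.node (.leaf ⟨11, 1008, 1009, 0, 0, 0, 0, 93, 0, 0, []⟩) (.leaf ⟨2, 3783, 3802, 0, 0, 0, 0, 26, 0, 3802, [22753, 16599, 22530]⟩)) (.node (.leaf ⟨11, 1582, 1582, 1, 0, 1, 0, 44, 3, 1582, [8925, 14560, 8924]⟩) (.leaf ⟨8, 1729, 3366, 0, 0, 0, 0, 62, 0, 3366, [20397, 30945, 10170]⟩))))) (.node (.node (.node (.node (.leaf ⟨8, 179, 186, 0, 0, 0, 0, 93, 0, 0, []⟩) (.leaf ⟨6, 2885, 2886, 0, 0, 0, 0, 93, 0, 0, []⟩)) (.node (.leaf ⟨3, 1549, 1549, 1, 0, 1, 0, 36, 0, 1549, [8727, 9280, 8726]⟩) (.leaf ⟨10, 4358, 4345, 0, 0, 0, 0, 58, 3, 4358, [25821, 25824, 25748]⟩))) (.node (.node (.leaf ⟨9, 841, 842, 0, 0, 0, 0, 93, 0, 0, []⟩) (.leaf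 ⟨8, 373, 3698, 0, 0, 0, 0, 93, 0, 0, []⟩)) (.node (.leaf ⟨5, 521, 521, 1, 0, 1, 0, 46, 0, 521, [2719, 13492, 2718]⟩) (.leaf ⟨10, 2439, 4989, 0, 0, 0, 0, 93, 0, 0, []⟩)))) (.node (.node (.node (.leaf ⟨6, 557, 502, 0, 0, 0, 0, 45, 5, 557, [3005, 3003, 3297, 1922, 2614]⟩) (.leaf ⟨10, 3256, 3257, 0, 0, 0, 0, 93, 0, 0, []⟩)) (.node (.leaf ⟨7, 458, 1959, 0, 0, 0, 0, 93, 0, 0, []⟩) (.leaf ⟨3, 4691, 4690, 0, 0, 0, 0, 32, 0, 4690, [27869, 27257, 27872]⟩))) (.node (.node (.leaf ⟨0, 19, 274, 0, 0, 0, 0, 2, 0, 274, [1709, 7393, 36]⟩) (.leaf ⟨6, 3985, 3986, 0, 0, 0, 0, 93, 0, 0, []⟩)) (.node (.leaf ⟨0, 2601, 2616, 0, 0, 0, 0, 93, 0, 0, []⟩) (.leaf ⟨0, 0, 0, 0, 0, 0, 0, 0, 0, 0, []⟩)))))) (.node (.node (.node (.node (.node (.leaf ⟨4, 139, 141, 0, 0, 0, 0, 39, 0, 141, [735, 736,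 712]⟩) (.leaf ⟨6, 2789, 2808, 0, 0, 0, 0, 52, 2, 139, [16908, 713, 17120]⟩)) (.node (.leaf ⟨3, 1580, 570, 0, 0, 0, 0, 32, 0, 570, [3057, 8929, 8920]⟩) (.leaf ⟨4, 4247, 4248, 0, 0, 0, 0, 93, 0, 0, []⟩))) (.node (.node (.leaf ⟨2, 586, 586, (-1), 0, 1, 0, 29, 0, 586, [4735, 4832, 4734]⟩) (.leaf ⟨3, 3572, 3577, 0, 0, 0, 0, 33, 0, 3577, [21209, 21217, 21190]⟩)) (.node (.leaf ⟨4, 2243, 2244, 0, 0, 0, 0, 93, 0, 0, []⟩) (.leaf ⟨4, 508, 1099, (-35), 0, (-9), 0, 66, 24, 1537, [8686, 29399, 29401, 29402, 29378, 29404, 29406, 4295, 9408, 4756, 4747, 29247, 8497, 9930, 10092, 10052, 1609, 9748, 8955, 13444, 13456, 8966, 8963, 6776, 1599, 9666, 9148, 9116, 9758, 8970, 8976, 8973, 9967, 9687, 13527, 2735, 2685, 10490, 2662, 10224, 10484, 10098, 10480, 8895, 10003, 10470, 9996,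 10467, 29409, 13593, 8842, 8792, 8762, 8715, 8713, 8655, 8653, 8651, 8649, 8647, 8700, 9456, 9470]⟩)))) (.node (.node (.node (.leaf ⟨6, 351, 351, 1, 0, 1, 0, 39, 3, 351, [1915, 2784, 1914]⟩) (.leaf ⟨2, 3150, 3154, 0, 0, 0, 0, 28, 0, 3154, [19163, 19169, 19154]⟩)) (.node (.leaf ⟨9, 259, 1475, 0, 0, 0, 0, 48, 3, 259, [1631, 10976, 8474]⟩) (.leaf ⟨6, 4617, 4613, 0, 0, 0, 0, 39, 3, 4617, [27357, 27360, 27338]⟩))) (.node (.node (.leaf ⟨6, 1100, 1101, 0, 0, 0, 0, 93, 0, 0, []⟩) (.leaf ⟨8, 494, 860, 0, 0, 0, 0, 41, 3, 494, [2557, 23265, 5490]⟩)) (.node (.leaf ⟨5, 2515, 2516, 0, 0, 0, 0, 93, 0, 0, []⟩) (.leaf ⟨3, 5197, 5204, (-1), 0, 5, 0, 31, 2, 5196, [31418, 31455, 31456]⟩))))) (.node (.node (.node (.node (.leaf ⟨3, 296, 297, 0, 0, 0, 0, 93, 0, 0, []⟩) (.leaf ⟨10, 2976,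 2977, 0, 0, 0, 0, 93, 0, 0, []⟩)) (.node (.leaf ⟨4, 1692, 1694, 0, 0, 0, 0, 44, 0, 1694, [9951, 9952, 9940]⟩) (.leaf ⟨6, 4436, 4436, 1, 0, 1, 0, 55, 0, 4436, [26233, 26336, 26232]⟩))) (.node (.node (.leaf ⟨7, 831, 831, (-1), 0, (-1), 0, 56, 4, 491, [5302, 2551, 5856, 2550, 5302]⟩) (.leaf ⟨4, 812, 812, 1, 0, (-1), 0, 40, 0, 812, [5201, 18956, 5200]⟩)) (.node (.leaf ⟨3, 497, 548, 0, 0, 0, 0, 33, 0, 548, [2915, 2885, 2572]⟩) (.leaf ⟨6, 1083, 5075, 0, 0, 0, 0, 93, 0, 0, []⟩)))) (.node (.node (.node (.leaf ⟨1, 137, 137, 0, 0, 0, 0, 0, 3, 0, [0, 646, 3808, 0, 646]⟩) (.leaf ⟨2, 3336, 3301, 48, 0, 18, 0, 28, 0, 3301, [19955, 19974, 20192]⟩)) (.node (.leaf ⟨5, 2035, 2036, 0, 0, 0, 0, 93, 0, 0, []⟩) (.leaf ⟨2, 3464, 3464, 1, 0, 1, 0, 24, 2, 3463, [20806, 28384, 20806]⟩)))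 (.node (.node (.leaf ⟨6, 1343, 1344, 0, 0, 0, 0, 93, 0, 0, []⟩) (.leaf ⟨3, 4055, 4044, 0, 0, 0, 0, 33, 0, 4044, [24233, 24287, 24288]⟩)) (.node (.leaf ⟨10, 2690, 2691, 0, 0, 0, 0, 93, 0, 0, []⟩) (.leaf ⟨0, 0, 0, 0, 0, 0, 0, 0, 0, 0, []⟩))))))

def factsPart114 : ATree TFact :=
  .node (.node (.node (.node (.node (.node (.leaf ⟨1, 14, 14, 1, 0, 1, 0, 16, 0, 14, [27, 226, 26]⟩) (.leaf ⟨4, 2750, 2748, 0, 0, 0, 0, 39, 0, 2748, [16597, 16609, 16610]⟩)) (.node (.leaf ⟨7, 1449, 1455, 0, 0, 0, 0, 93, 0, 0, []⟩) (.leaf ⟨10, 4176, 4176, 1, 0, (-1), 0, 65, 4, 3110, [24800, 18835, 18560, 18834, 24800]⟩))) (.node (.node (.leaf ⟨5, 721, 714, 0, 0, 0, 0, 49, 4, 625, [4308, 3413, 4322, 4288, 4294]⟩) (.leaf ⟨6, 3446, 3447, 0, 0, 0, 0, 93, 0, 0, []⟩)) (.node (.leaf ⟨3, 2152, 2153,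 0, 0, 0, 0, 93, 0, 0, []⟩) (.leaf ⟨8, 1734, 4864, 0, 0, 0, 0, 62, 0, 4864, [28891, 28899, 10198]⟩)))) (.node (.node (.node (.leaf ⟨4, 414, 421, 0, 0, 0, 0, 40, 0, 421, [2269, 2275, 2236]⟩) (.leaf ⟨11, 3087, 3075, 0, 0, 0, 0, 50, 3, 3087, [18655, 18658, 18570]⟩)) (.node (.leaf ⟨7, 712, 712, 1, 0, (-1), 0, 40, 3, 712, [4291, 9408, 4290]⟩) (.leaf ⟨9, 4515, 4519, 0, 0, 0, 0, 63, 0, 4519, [26843, 26851, 26834]⟩))) (.node (.node (.leaf ⟨9, 1008, 1005, 0, 0, 0, 0, 63, 2, 1007, [6368, 6367, 6362]⟩) (.leaf ⟨3, 2747, 2747, (-1), 0, (-1), 0, 33, 0, 2747, [16595, 6000, 16594]⟩)) (.node (.leaf ⟨10, 1710, 1710, 1, 0, 1, 0, 65, 4, 1664, [10036, 9725, 14562, 9724, 10036]⟩) (.leaf ⟨8, 1730, 3367, 0, 0, 0, 0, 47, 3, 1730, [10173, 30946, 20398]⟩))))) (.node (.node (.node (.node (.leaf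 ⟨6, 181, 186, 0, 0, 0, 0, 52, 2, 180, [1222, 1221, 1250]⟩) (.leaf ⟨7, 2886, 2887, 0, 0, 0, 0, 93, 0, 0, []⟩)) (.node (.leaf ⟨3, 1561, 1561, (-1), 0, (-1), 0, 33, 0, 1561, [8795, 9442, 8794]⟩) (.leaf ⟨5, 2665, 4359, 0, 0, 0, 0, 93, 0, 0, []⟩))) (.node (.node (.leaf ⟨5, 842, 840, 0, 0, 0, 0, 48, 2, 841, [5346, 5345, 5338]⟩) (.leaf ⟨5, 3698, 3699, 0, 0, 0, 0, 93, 0, 0, []⟩)) (.node (.leaf ⟨6, 523, 523, 1, 0, 1, 0, 45, 5, 523, [2727, 2723, 13538, 2722, 2726]⟩) (.leaf ⟨7, 2439, 2439, (-1), 0, (-1), 0, 6, 3, 2439, [14471, 14256, 14470]⟩)))) (.node (.node (.node (.leaf ⟨10, 557, 607, 0, 0, 0, 0, 93, 0, 0, []⟩) (.leaf ⟨7, 880, 3258, 0, 0, 0, 0, 93, 0, 0, []⟩)) (.node (.leaf ⟨9, 1958, 1959, 0, 0, 0, 0, 57, 3, 1958, [11487, 2416, 11490]⟩) (.leaf ⟨6, 4592, 4692, 0, 0, 0, 0,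 93, 0, 0, []⟩))) (.node (.node (.leaf ⟨0, 37, 1202, 0, 0, 0, 0, 1, 0, 1202, [7349, 7395, 72]⟩) (.leaf ⟨8, 3986, 3987, 0, 0, 0, 0, 93, 0, 0, []⟩)) (.node (.leaf ⟨10, 2616, 2617, 0, 0, 0, 0, 93, 0, 0, []⟩) (.leaf ⟨0, 0, 0, 0, 0, 0, 0, 0, 0, 0, []⟩)))))) (.node (.node (.node (.node (.node (.leaf ⟨5, 141, 142, 0, 0, 0, 0, 93, 0, 0, []⟩) (.leaf ⟨9, 2808, 2809, 0, 0, 0, 0, 93, 0, 0, []⟩)) (.node (.leaf ⟨3, 1581, 571, 0, 0, 0, 0, 31, 0, 571, [3061, 8931, 8922]⟩) (.leaf ⟨7, 4248, 4249, 0, 0, 0, 0, 93, 0, 0, []⟩))) (.node (.node (.leaf ⟨2, 752, 752, 1, 0, (-1), 0, 25, 0, 752, [4729, 4834, 4728]⟩) (.leaf ⟨3, 3573, 3578, 0, 0, 0, 0, 32, 0, 3578, [21211, 21219, 21192]⟩)) (.node (.leaf ⟨3, 2244, 2245, 0, 0, 0, 0, 93, 0, 0, []⟩) (.leaf ⟨2, 723, 516, 0, 0, 0, 0, 28, 0, 516, [2695,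 3081, 4330]⟩)))) (.node (.node (.node (.leaf ⟨6, 352, 352, (-1), 0, (-1), 0, 54, 0, 352, [1917, 2786, 1916]⟩) (.leaf ⟨3, 3151, 3033, 0, 0, 0, 0, 33, 0, 3033, [18363, 6050, 19156]⟩)) (.node (.leaf ⟨9, 260, 1476, 0, 0, 0, 0, 42, 3, 260, [1633, 10978, 8476]⟩) (.leaf ⟨4, 3571, 4618, 0, 0, 0, 0, 93, 0, 0, []⟩))) (.node (.node (.leaf ⟨0, 1101, 1051, 0, 0, 0, 0, 5, 0, 1051, [6651, 6881, 6882]⟩) (.leaf ⟨8, 553, 907, 0, 0, 0, 0, 34, 3, 553, [2981, 23266, 5760]⟩)) (.node (.leaf ⟨8, 2516, 121, 0, 0, 0, 0, 47, 3, 2516, [15075, 15073, 504]⟩) (.leaf ⟨4, 5204, 5205, 0, 0, 0, 0, 93, 0, 0, []⟩))))) (.node (.node (.node (.node (.leaf ⟨2, 297, 298, 0, 0, 0, 0, 93, 0, 0, []⟩) (.leaf ⟨0, 2524, 2969, 0, 0, 0, 0, 8, 0, 2969, [18131, 1663, 15154]⟩)) (.node (.leaf ⟨5, 1694, 1695, 0, 0, 0,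 0, 93, 0, 0, []⟩) (.leaf ⟨7, 4438, 4438, 1, 0, 1, 0, 51, 5, 4438, [26237, 26235, 26338, 26234, 26236]⟩))) (.node (.node (.leaf ⟨7, 918, 918, 1, 0, 1, 0, 57, 0, 918, [5853, 5858, 5852]⟩) (.leaf ⟨4, 813, 813, (-1), 0, 1, 0, 39, 0, 813, [5203, 22242, 5202]⟩)) (.node (.leaf ⟨4, 537, 659, 0, 0, 0, 0, 44, 0, 659, [3661, 3734, 2880]⟩) (.leaf ⟨9, 5072, 5075, 0, 0, 0, 0, 53, 3, 5072, [30419, 30432, 30434]⟩)))) (.node (.node (.node (.leaf ⟨2, 670, 670, 0, 0, 0, 0, 11, 5, 670, [3805, 648, 3810, 649, 3804]⟩) (.leaf ⟨7, 934, 3337, 0, 0, 0, 0, 93, 0, 0, []⟩)) (.node (.leaf ⟨4, 2036, 2037, 0, 0, 0, 0, 93, 0, 0, []⟩) (.leaf ⟨9, 3247, 4775, 0, 0, 0, 0, 93, 0, 0, []⟩))) (.node (.node (.leaf ⟨4, 1344, 1345, 0, 0, 0, 0, 93, 0, 0, []⟩) (.leaf ⟨6, 4055, 4056, 0, 0, 0, 0, 93, 0, 0, []⟩))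 (.node (.leaf ⟨5, 2691, 2692, 0, 0, 0, 0, 93, 0, 0, []⟩) (.leaf ⟨0, 0, 0, 0, 0, 0, 0, 0, 0, 0, []⟩))))))

def factsPart115 : ATree TFact :=
  .node (.node (.node (.node (.node (.node (.leaf ⟨1, 15, 15, (-1), 0, (-1), 0, 15, 0, 15, [29, 228, 28]⟩) (.leaf ⟨1, 2731, 937, 0, 0, 0, 0, 18, 2, 2730, [16518, 16517, 6006]⟩)) (.node (.leaf ⟨5, 1453, 1455, 0, 0, 0, 0, 46, 2, 1450, [8412, 8385, 8420]⟩) (.leaf ⟨10, 4177, 4177, 1, 0, 1, 0, 58, 3, 4177, [24803, 24804, 24802]⟩))) (.node (.node (.leaf ⟨11, 720, 714, (-1), 0, 5, 0, 50, 3, 720, [4307, 4319, 4324]⟩) (.leaf ⟨9, 3446, 3433, 0, 0, 0, 0, 57, 3, 3446, [20707, 16455, 20652]⟩)) (.node (.leaf ⟨1, 2153, 2095, 0, 0, 0, 0, 12, 0, 2095, [12249, 12515, 12516]⟩) (.leaf ⟨8, 1735, 4865, 0, 0, 0, 0, 47, 3, 1735, [10203, 28900, 28892]⟩))))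 (.node (.node (.node (.leaf ⟨3, 417, 422, 0, 0, 0, 0, 93, 0, 0, []⟩) (.leaf ⟨7, 950, 3088, 0, 0, 0, 0, 93, 0, 0, []⟩)) (.node (.leaf ⟨7, 1700, 1700, 1, 0, 1, 0, 33, 3, 1700, [9995, 10468, 9994]⟩) (.leaf ⟨6, 4353, 4520, 0, 0, 0, 0, 93, 0, 0, []⟩))) (.node (.node (.leaf ⟨9, 1006, 1009, 0, 0, 0, 0, 64, 0, 1009, [6371, 6372, 6364]⟩) (.leaf ⟨3, 3802, 3802, 1, 0, 1, 0, 34, 0, 3802, [22753, 22756, 22752]⟩)) (.node (.leaf ⟨2, 1579, 1579, (-1), 0, (-1), 0, 25, 0, 1579, [8919, 9122, 8918]⟩) (.leaf ⟨8, 1731, 3371, 0, 0, 0, 0, 41, 3, 1731, [10175, 30948, 20418]⟩))))) (.node (.node (.node (.node (.leaf ⟨5, 178, 178, 1, 0, 1, 0, 14, 3, 178, [1217, 1166, 1216]⟩) (.leaf ⟨11, 255, 2888, 0, 0, 0, 0, 93, 0, 0, []⟩)) (.node (.leaf ⟨3, 1562, 1562, 1, 0, 1, 0, 32, 0, 1562, [8797, 9444,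 8796]⟩) (.leaf ⟨7, 4359, 4360, 0, 0, 0, 0, 93, 0, 0, []⟩))) (.node (.node (.leaf ⟨10, 842, 843, 0, 0, 0, 0, 93, 0, 0, []⟩) (.leaf ⟨10, 3699, 3700, 0, 0, 0, 0, 93, 0, 0, []⟩)) (.node (.leaf ⟨6, 524, 524, (-1), 0, (-1), 0, 54, 0, 524, [2731, 13540, 2730]⟩) (.leaf ⟨7, 4989, 4989, 1, 0, 1, 0, 58, 0, 4989, [29923, 29924, 29922]⟩)))) (.node (.node (.node (.leaf ⟨6, 607, 503, 0, 0, 0, 0, 54, 0, 503, [2619, 3299, 3300]⟩) (.leaf ⟨6, 3258, 3259, 0, 0, 0, 0, 93, 0, 0, []⟩)) (.node (.leaf ⟨8, 1959, 1960, 0, 0, 0, 0, 93, 0, 0, []⟩) (.leaf ⟨4, 4692, 4691, 0, 0, 0, 0, 39, 0, 4691, [27873, 27247, 27876]⟩))) (.node (.node (.leaf ⟨0, 38, 1203, 0, 0, 0, 0, 8, 0, 1203, [7351, 7397, 74]⟩) (.leaf ⟨5, 3987, 3988, 0, 0, 0, 0, 93, 0, 0, []⟩)) (.node (.leaf ⟨8, 1669, 2600, 0, 0, 0, 0, 26,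 3, 1669, [9781, 14932, 15538]⟩) (.leaf ⟨0, 0, 0, 0, 0, 0, 0, 0, 0, 0, []⟩)))))) (.node (.node (.node (.node (.node (.leaf ⟨4, 7, 7, 1, 0, (-1), 0, 43, 0, 7, [13, 590, 12]⟩) (.leaf ⟨6, 2809, 2806, 0, 0, 0, 0, 53, 0, 2806, [17109, 17122, 17124]⟩)) (.node (.leaf ⟨4, 1583, 1575, 0, 0, 0, 0, 30, 5, 1583, [8927, 8925, 8932, 3064, 8904]⟩) (.leaf ⟨11, 3508, 4246, 0, 0, 0, 0, 50, 3, 3508, [20957, 20955, 25310]⟩))) (.node (.node (.leaf ⟨2, 751, 751, (-1), 0, 1, 0, 26, 0, 751, [4725, 4836, 4724]⟩) (.leaf ⟨3, 3575, 3579, 0, 0, 0, 0, 34, 0, 3579, [21213, 21221, 21200]⟩)) (.node (.leaf ⟨2, 2245, 2246, 0, 0, 0, 0, 93, 0, 0, []⟩) (.leaf ⟨4, 510, 1101, 37, 0, (-7), 0, 66, 3, 1464, [10092, 10052, 1609, 9748, 8955, 13444, 13456, 8966, 8963, 6776, 1599, 9666, 9148, 9116, 9758, 8970,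 8976, 8973, 9967, 9687, 13527, 2735, 2685, 10490, 2662, 29410, 9471, 9456, 8700, 8646, 8648, 8650, 8652, 8654, 8712, 8714, 8763, 8793, 8842, 13592, 29408, 10466, 9997, 10470, 10002, 8894, 10481, 10099, 10484, 10048, 10059, 10035, 10040, 9726, 16152, 29412, 2695, 10494, 2692, 2669, 9919, 9460, 9474]⟩)))) (.node (.node (.node (.leaf ⟨5, 525, 525, (-1), 0, (-1), 0, 45, 4, 353, [2758, 1919, 2788, 1918, 2758]⟩) (.leaf ⟨3, 3152, 3034, 0, 0, 0, 0, 32, 0, 3034, [18365, 19173, 19158]⟩)) (.node (.leaf ⟨9, 1828, 1477, 0, 0, 0, 0, 35, 3, 1828, [10891, 10980, 8478]⟩) (.leaf ⟨7, 3044, 4615, 0, 0, 0, 0, 51, 5, 3044, [18395, 2269, 18520, 27350, 27352]⟩))) (.node (.node (.leaf ⟨8, 1101, 1102, 0, 0, 0, 0, 93, 0, 0, []⟩) (.leaf ⟨8, 554, 936, 0, 0, 0, 0, 26, 3, 554, [2983, 23268, 6002]⟩))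 (.node (.leaf ⟨10, 392, 2516, 17, 0, (-1), 0, 61, 3, 392, [15071, 1002, 15077]⟩) (.leaf ⟨4, 214, 1149, 0, 0, 0, 0, 43, 0, 1149, [7101, 17789, 1510]⟩))))) (.node (.node (.node (.node (.leaf ⟨5, 279, 299, 0, 0, 0, 0, 93, 0, 0, []⟩) (.leaf ⟨0, 2525, 2970, 0, 0, 0, 0, 9, 0, 2970, [18133, 18149, 15158]⟩)) (.node (.leaf ⟨6, 1695, 1696, 0, 0, 0, 0, 93, 0, 0, []⟩) (.leaf ⟨7, 4439, 4439, 1, 0, (-1), 0, 46, 3, 4439, [26239, 26340, 26238]⟩))) (.node (.node (.leaf ⟨6, 827, 827, (-1), 0, 1, 0, 51, 0, 827, [5289, 5855, 5860, 5854, 5288]⟩) (.leaf ⟨5, 3750, 3750, (-1), 0, 1, 0, 38, 5, 3750, [22241, 18969, 22244, 18968, 22240]⟩)) (.node (.leaf ⟨4, 548, 660, 0, 0, 0, 0, 40, 0, 660, [3663, 14053, 2914]⟩) (.leaf ⟨4, 5075, 5076, 0, 0, 0, 0, 93, 0, 0, []⟩)))) (.node (.node (.node (.leaf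 ⟨3, 669, 669, 0, 0, 0, 0, 21, 5, 669, [3799, 3807, 3812, 3806, 3798]⟩) (.leaf ⟨6, 3337, 3338, 0, 0, 0, 0, 93, 0, 0, []⟩)) (.node (.leaf ⟨3, 2037, 2038, 0, 0, 0, 0, 93, 0, 0, []⟩) (.leaf ⟨4, 4775, 455, 0, 0, 0, 0, 42, 0, 455, [2405, 19889, 28388]⟩))) (.node (.node (.leaf ⟨7, 1345, 1346, 0, 0, 0, 0, 93, 0, 0, []⟩) (.leaf ⟨3, 4056, 4048, 0, 0, 0, 0, 32, 0, 4048, [24259, 24291, 24292]⟩)) (.node (.leaf ⟨6, 2692, 2693, 0, 0, 0, 0, 93, 0, 0, []⟩) (.leaf ⟨0, 0, 0, 0, 0, 0, 0, 0, 0, 0, []⟩))))))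

def factsPart116 : ATree TFact :=
  .node (.node (.node (.node (.node (.node (.leaf ⟨1, 16, 16, 1, 0, 1, 0, 17, 0, 16, [31, 230, 30]⟩) (.leaf ⟨1, 2749, 2732, 0, 0, 0, 0, 16, 0, 2732, [16521, 16614, 16606]⟩)) (.node (.leaf ⟨8, 1455, 1456, 0, 0, 0, 0, 93, 0, 0, []⟩) (.leaf ⟨6, 3094, 3110, 0, 0, 0, 0, 54, 0, 3110, [18835, 5561, 18720]⟩))) (.node (.node (.leaf ⟨5, 573, 722, 0, 0, 0, 0, 93, 0, 0, []⟩) (.leaf ⟨9, 3447, 3434, 0, 0, 0, 0, 53, 3, 3447, [20709, 20710, 20654]⟩)) (.node (.leaf ⟨10, 2153, 2154, 0, 0, 0, 0, 93, 0, 0, []⟩) (.leaf ⟨8, 1736, 4866, 0, 0, 0, 0, 41, 3, 1736, [10207, 28902, 28894]⟩)))) (.node (.node (.node (.leaf ⟨9, 422, 423, 0, 0, 0, 0, 93, 0, 0, []⟩) (.leaf ⟨6, 3088, 3089, 0, 0, 0, 0, 93, 0, 0, []⟩)) (.node (.leaf ⟨7, 1765, 1765, 1, 0, (-1), 0, 25,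 3, 1765, [10463, 10470, 10462]⟩) (.leaf ⟨5, 4520, 4521, 0, 0, 0, 0, 93, 0, 0, []⟩))) (.node (.node (.leaf ⟨10, 995, 1010, 0, 0, 0, 0, 93, 0, 0, []⟩) (.leaf ⟨8, 2749, 3803, 0, 0, 0, 0, 93, 0, 0, []⟩)) (.node (.leaf ⟨2, 1580, 1580, 1, 0, 1, 0, 24, 0, 1580, [8921, 14566, 8920]⟩) (.leaf ⟨8, 4919, 3372, 0, 0, 0, 0, 61, 0, 3372, [20421, 30951, 29480]⟩))))) (.node (.node (.node (.node (.leaf ⟨5, 179, 179, (-1), 0, (-1), 0, 46, 0, 179, [1219, 1254, 1218]⟩) (.leaf ⟨7, 2888, 2889, 0, 0, 0, 0, 93, 0, 0, []⟩)) (.node (.leaf ⟨3, 1563, 1563, (-1), 0, (-1), 0, 31, 0, 1563, [8799, 9446, 8798]⟩) (.leaf ⟨6, 2130, 1954, 0, 0, 0, 0, 54, 0, 1954, [11465, 2375, 12346]⟩))) (.node (.node (.leaf ⟨5, 843, 838, 0, 0, 0, 0, 49, 0, 838, [5335, 5332, 5343, 5349, 5350]⟩) (.leaf ⟨7, 3699, 3701,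 0, 0, 0, 0, 93, 0, 0, []⟩)) (.node (.leaf ⟨3, 574, 2354, 0, 0, 0, 0, 93, 0, 0, []⟩) (.leaf ⟨0, 4989, 2420, 0, 0, 0, 0, 9, 2, 2439, [29922, 14471, 14252]⟩)))) (.node (.node (.node (.leaf ⟨11, 607, 608, 0, 0, 0, 0, 93, 0, 0, []⟩) (.leaf ⟨5, 3259, 3260, 0, 0, 0, 0, 93, 0, 0, []⟩)) (.node (.leaf ⟨9, 1953, 1960, 0, 0, 0, 0, 60, 5, 1953, [11463, 11479, 11488, 11492, 11494]⟩) (.leaf ⟨5, 4578, 4693, 0, 0, 0, 0, 93, 0, 0, []⟩))) (.node (.node (.leaf ⟨0, 39, 1204, 0, 0, 0, 0, 9, 0, 1204, [7353, 7399, 76]⟩) (.leaf ⟨4, 3988, 3989, 0, 0, 0, 0, 93, 0, 0, []⟩)) (.node (.leaf ⟨8, 1746, 2601, 0, 0, 0, 0, 17, 3, 1746, [10277, 15590, 15540]⟩) (.leaf ⟨0, 0, 0, 0, 0, 0, 0, 0, 0, 0, []⟩)))))) (.node (.node (.node (.node (.node (.leaf ⟨5, 123, 123, 1, 0, (-1), 0, 38, 5, 123, [515, 513,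 742, 512, 514]⟩) (.leaf ⟨7, 2808, 2808, (-1), 0, 1, 0, 56, 4, 138, [17120, 709, 1298, 708, 17120]⟩)) (.node (.leaf ⟨10, 1583, 1584, 0, 0, 0, 0, 93, 0, 0, []⟩) (.leaf ⟨11, 4247, 4243, 0, 0, 0, 0, 55, 3, 4247, [25313, 25319, 25300]⟩))) (.node (.node (.leaf ⟨2, 749, 749, 1, 0, (-1), 0, 27, 0, 749, [4719, 4838, 4718]⟩) (.leaf ⟨3, 2122, 2122, (-1), 0, (-1), 0, 34, 0, 2122, [12315, 13954, 12314]⟩)) (.node (.leaf ⟨9, 2246, 2247, 0, 0, 0, 0, 93, 0, 0, []⟩) (.leaf ⟨11, 1099, 1099, 1, 0, 1, 0, 55, 3, 1099, [6875, 9020, 6874]⟩)))) (.node (.node (.node (.leaf ⟨5, 526, 526, 1, 0, 1, 0, 46, 0, 526, [2761, 2790, 2760]⟩) (.leaf ⟨3, 3153, 3035, 0, 0, 0, 0, 31, 0, 3035, [18367, 19175, 19160]⟩)) (.node (.leaf ⟨9, 1829, 1478, 0, 0, 0, 0, 63, 0, 1478, [8481, 10983, 10892]⟩) (.leaf ⟨7,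 3571, 4616, 0, 0, 0, 0, 46, 3, 3571, [21187, 27366, 27354]⟩))) (.node (.node (.leaf ⟨0, 1102, 1052, 0, 0, 0, 0, 7, 0, 1052, [6653, 6885, 6886]⟩) (.leaf ⟨9, 493, 493, (-1), 0, 1, 0, 48, 3, 493, [2555, 23240, 2554]⟩)) (.node (.leaf ⟨11, 2515, 2509, 0, 0, 0, 0, 62, 3, 2515, [15073, 2724, 15050]⟩) (.leaf ⟨4, 215, 5198, 0, 0, 0, 0, 44, 0, 5198, [31427, 31463, 1512]⟩))))) (.node (.node (.node (.node (.leaf ⟨4, 299, 300, 0, 0, 0, 0, 93, 0, 0, []⟩) (.leaf ⟨0, 2951, 2971, 0, 0, 0, 0, 6, 0, 2971, [18135, 18151, 18028]⟩)) (.node (.leaf ⟨7, 768, 1693, 0, 0, 0, 0, 58, 0, 1693, [9949, 6705, 4780]⟩) (.leaf ⟨10, 2642, 2642, (-1), 0, (-1), 0, 61, 3, 2642, [15849, 16202, 15848]⟩))) (.node (.node (.leaf ⟨5, 917, 917, 1, 0, 1, 0, 45, 0, 917, [5851, 5301, 5862, 5300, 5850]⟩) (.leaf ⟨5,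 812, 812, 1, 0, (-1), 0, 46, 0, 812, [5201, 18946, 5200]⟩)) (.node (.leaf ⟨7, 673, 673, 1, 0, 1, 0, 59, 0, 673, [3865, 3938, 3864]⟩) (.leaf ⟨9, 5073, 5076, 0, 0, 0, 0, 42, 3, 5073, [30423, 30436, 30438]⟩)))) (.node (.node (.node (.leaf ⟨4, 550, 550, 0, 0, 0, 0, 30, 5, 550, [2937, 3803, 3814, 3802, 2936]⟩) (.leaf ⟨2, 3337, 3324, 0, 0, 0, 0, 25, 2, 934, [20196, 5981, 20090]⟩)) (.node (.leaf ⟨2, 2038, 2039, 0, 0, 0, 0, 93, 0, 0, []⟩) (.leaf ⟨10, 4775, 4776, 0, 0, 0, 0, 93, 0, 0, []⟩))) (.node (.node (.leaf ⟨4, 1343, 1347, 0, 0, 0, 0, 93, 0, 0, []⟩) (.leaf ⟨7, 4053, 4057, 0, 0, 0, 0, 93, 0, 0, []⟩)) (.node (.leaf ⟨6, 1777, 2694, 0, 0, 0, 0, 93, 0, 0, []⟩) (.leaf ⟨0, 0, 0, 0, 0, 0, 0, 0, 0, 0, []⟩))))))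

def factsPart117 : ATree TFact :=
  .node (.node (.node (.node (.node (.node (.leaf ⟨1, 17, 17, (-1), 0, (-1), 0, 14, 0, 17, [33, 232, 32]⟩) (.leaf ⟨1, 2750, 2733, 0, 0, 0, 0, 15, 0, 2733, [16523, 16617, 16610]⟩)) (.node (.leaf ⟨5, 1456, 1454, 0, 0, 0, 0, 47, 0, 1454, [8417, 8422, 8424]⟩) (.leaf ⟨6, 3095, 4176, 0, 0, 0, 0, 55, 0, 4176, [24801, 24809, 18724]⟩))) (.node (.node (.leaf ⟨10, 571, 723, 0, 0, 0, 0, 93, 0, 0, []⟩) (.leaf ⟨11, 2056, 3448, 0, 0, 0, 0, 93, 0, 0, []⟩)) (.node (.leaf ⟨1, 2154, 2096, 0, 0, 0, 0, 19, 0, 2096, [12251, 12519, 12520]⟩) (.leaf ⟨0, 2691, 4866, (-27), 0, 1, 0, 7, 2, 1738, [16108, 10263, 28904]⟩)))) (.node (.node (.node (.leaf ⟨10, 423, 424, 0, 0, 0, 0, 93, 0, 0, []⟩) (.leaf ⟨10, 952, 3088, 0, 0, 0, 0, 58, 3, 952, [6067, 6063, 18662]⟩))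 (.node (.leaf ⟨6, 1765, 1412, 0, 0, 0, 0, 24, 3, 1765, [10463, 10002, 8150]⟩) (.leaf ⟨10, 4521, 4522, 0, 0, 0, 0, 93, 0, 0, []⟩))) (.node (.node (.leaf ⟨10, 994, 1011, 0, 0, 0, 0, 93, 0, 0, []⟩) (.leaf ⟨4, 3803, 3802, 0, 0, 0, 0, 41, 0, 3802, [22753, 16609, 22760]⟩)) (.node (.leaf ⟨2, 1581, 1581, (-1), 0, (-1), 0, 23, 0, 1581, [8923, 14568, 8922]⟩) (.leaf ⟨5, 5148, 3372, 42, 0, 8, 0, 47, 2, 4908, [30942, 29495, 30952]⟩))))) (.node (.node (.node (.node (.leaf ⟨5, 186, 186, 1, 0, 1, 0, 47, 0, 186, [1251, 1256, 1250]⟩) (.leaf ⟨6, 2889, 2890, 0, 0, 0, 0, 93, 0, 0, []⟩)) (.node (.leaf ⟨4, 1565, 1565, (-1), 0, (-1), 0, 30, 5, 1565, [8803, 8801, 9448, 8800, 8802]⟩) (.leaf ⟨5, 2674, 4339, 0, 0, 0, 0, 45, 4, 2673, [15990, 15989, 25832, 11466, 25730]⟩))) (.node (.node (.leaf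 ⟨10, 841, 844, 0, 0, 0, 0, 93, 0, 0, []⟩) (.leaf ⟨6, 3701, 3702, 0, 0, 0, 0, 93, 0, 0, []⟩)) (.node (.leaf ⟨10, 2354, 2355, 0, 0, 0, 0, 93, 0, 0, []⟩) (.leaf ⟨6, 1735, 4989, 27, 0, 1, 0, 5, 3, 1735, [10257, 14255, 29929]⟩)))) (.node (.node (.node (.leaf ⟨6, 608, 606, 0, 0, 0, 0, 55, 0, 606, [3293, 3303, 3304]⟩) (.leaf ⟨2, 3231, 879, 0, 0, 0, 0, 28, 0, 879, [5577, 19201, 19590]⟩)) (.node (.leaf ⟨10, 360, 1961, 0, 0, 0, 0, 93, 0, 0, []⟩) (.leaf ⟨6, 4693, 4694, 0, 0, 0, 0, 93, 0, 0, []⟩))) (.node (.node (.leaf ⟨0, 40, 1205, 0, 0, 0, 0, 4, 0, 1205, [7355, 7401, 78]⟩) (.leaf ⟨4, 3983, 422, 0, 0, 0, 0, 30, 5, 3983, [23773, 19109, 6128, 2260, 2278]⟩)) (.node (.leaf ⟨8, 1747, 2616, 0, 0, 0, 0, 7, 3, 1747, [10281, 15592, 15586]⟩) (.leaf ⟨0, 0, 0, 0, 0, 0, 0, 0, 0, 0, []⟩))))))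 (.node (.node (.node (.node (.node (.leaf ⟨5, 140, 140, (-1), 0, 1, 0, 46, 0, 140, [733, 744, 732]⟩) (.leaf ⟨7, 2809, 2809, 1, 0, (-1), 0, 57, 0, 2809, [17125, 17128, 17124]⟩)) (.node (.leaf ⟨4, 1584, 1576, 0, 0, 0, 0, 43, 0, 1576, [8907, 8935, 8936]⟩) (.leaf ⟨11, 4248, 4244, 0, 0, 0, 0, 44, 3, 4248, [25315, 25320, 25302]⟩))) (.node (.node (.leaf ⟨8, 641, 771, 0, 0, 0, 0, 93, 0, 0, []⟩) (.leaf ⟨3, 2123, 2123, 1, 0, 1, 0, 31, 0, 2123, [12317, 21224, 12316]⟩)) (.node (.leaf ⟨10, 2247, 2248, 0, 0, 0, 0, 93, 0, 0, []⟩) (.leaf ⟨11, 1100, 1100, 1, 0, (-1), 0, 59, 3, 1100, [6879, 29416, 6878]⟩)))) (.node (.node (.node (.leaf ⟨6, 528, 528, 1, 0, 1, 0, 45, 5, 528, [2767, 2763, 2792, 2762, 2766]⟩) (.leaf ⟨3, 3154, 3036, 0, 0, 0, 0, 36, 0, 3036, [18369, 19177, 19162]⟩)) (.node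 (.leaf ⟨9, 1830, 1479, 0, 0, 0, 0, 48, 3, 1830, [10899, 10984, 8482]⟩) (.leaf ⟨7, 4618, 4617, 0, 0, 0, 0, 40, 3, 4618, [27365, 27368, 27356]⟩))) (.node (.node (.leaf ⟨5, 1102, 1103, 0, 0, 0, 0, 93, 0, 0, []⟩) (.leaf ⟨9, 494, 494, (-1), 0, (-1), 0, 42, 3, 494, [2557, 23272, 2556]⟩)) (.node (.leaf ⟨11, 2516, 2510, 0, 0, 0, 0, 50, 3, 2516, [15075, 15080, 15052]⟩) (.leaf ⟨4, 216, 5199, 0, 0, 0, 0, 40, 0, 5199, [31429, 31465, 1514]⟩))))) (.node (.node (.node (.node (.leaf ⟨3, 300, 301, 0, 0, 0, 0, 93, 0, 0, []⟩) (.leaf ⟨0, 2952, 2972, 0, 0, 0, 0, 5, 0, 2972, [18137, 18153, 18030]⟩)) (.node (.leaf ⟨7, 769, 1694, 0, 0, 0, 0, 59, 0, 1694, [9951, 9961, 4782]⟩) (.leaf ⟨5, 4435, 4435, (-1), 0, (-1), 0, 49, 4, 2643, [26230, 15851, 26344, 15850, 26230]⟩))) (.node (.node (.leaf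 ⟨6, 859, 919, 0, 0, 0, 0, 93, 0, 0, []⟩) (.leaf ⟨6, 3122, 3122, 1, 0, (-1), 0, 45, 5, 3122, [18969, 5203, 22248, 5202, 18968]⟩)) (.node (.leaf ⟨6, 660, 660, (-1), 0, 1, 0, 51, 0, 660, [3663, 3867, 14056, 3866, 3662]⟩) (.leaf ⟨7, 5076, 5077, 0, 0, 0, 0, 93, 0, 0, []⟩)))) (.node (.node (.node (.leaf ⟨5, 666, 666, 0, 0, 0, 0, 38, 5, 666, [3745, 2939, 3816, 2938, 3744]⟩) (.leaf ⟨2, 3335, 3338, 0, 0, 0, 0, 24, 0, 3338, [20199, 20200, 20184]⟩)) (.node (.leaf ⟨11, 1222, 2040, 0, 0, 0, 0, 93, 0, 0, []⟩) (.leaf ⟨4, 4776, 456, 0, 0, 0, 0, 43, 0, 456, [2407, 28391, 28392]⟩))) (.node (.node (.leaf ⟨6, 1345, 1347, 0, 0, 0, 0, 39, 3, 1345, [7909, 7907, 7912]⟩) (.leaf ⟨5, 4055, 4057, 0, 0, 0, 0, 46, 2, 4054, [24288, 24285, 24296]⟩)) (.node (.leaf ⟨8, 1737, 2690, 0, 0, 0, 0, 17,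 3, 1737, [10211, 2440, 16096]⟩) (.leaf ⟨0, 0, 0, 0, 0, 0, 0, 0, 0, 0, []⟩))))))

def factsPart118 : ATree TFact :=
  .node (.node (.node (.node (.node (.node (.leaf ⟨1, 18, 18, 1, 0, 1, 0, 13, 0, 18, [35, 234, 34]⟩) (.leaf ⟨4, 2744, 2733, (-50), 0, (-6), 0, 13, 3, 2744, [16605, 16613, 16618]⟩)) (.node (.leaf ⟨5, 1445, 1457, 0, 0, 0, 0, 93, 0, 0, []⟩) (.leaf ⟨4, 844, 844, (-1), 0, 1, 0, 43, 0, 844, [5355, 5832, 5354]⟩))) (.node (.node (.leaf ⟨4, 573, 723, 0, 0, 0, 0, 43, 2, 572, [3068, 3065, 4330]⟩) (.leaf ⟨5, 3448, 3449, 0, 0, 0, 0, 93, 0, 0, []⟩)) (.node (.leaf ⟨5, 2154, 2155, 0, 0, 0, 0, 93, 0, 0, []⟩) (.leaf ⟨0, 4867, 3446, 27, 0, (-1), 0, 6, 2, 4866, [28896, 28907, 20706]⟩)))) (.node (.node (.node (.leaf ⟨11, 424, 425, 0, 0, 0, 0, 93, 0, 0, []⟩) (.leaf ⟨10, 3089,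 954, 0, 0, 0, 0, 54, 3, 3089, [18665, 18667, 6082]⟩)) (.node (.leaf ⟨5, 1425, 1412, (-3), 0, (-3), 0, 14, 3, 1425, [10308, 10323, 9575]⟩) (.leaf ⟨6, 4341, 4523, 0, 0, 0, 0, 93, 0, 0, []⟩))) (.node (.node (.leaf ⟨4, 1010, 1011, 0, 0, 0, 0, 43, 2, 995, [6376, 6327, 6378]⟩) (.leaf ⟨7, 939, 3804, 0, 0, 0, 0, 93, 0, 0, []⟩)) (.node (.leaf ⟨2, 1582, 1582, 1, 0, 1, 0, 22, 0, 1582, [8925, 14570, 8924]⟩) (.leaf ⟨9, 5047, 5148, 0, 0, 0, 0, 8, 3, 5047, [30319, 30317, 30940]⟩))))) (.node (.node (.node (.node (.leaf ⟨6, 182, 182, 1, 0, 1, 0, 45, 5, 182, [1225, 1252, 1258, 1253, 1224]⟩) (.leaf ⟨5, 2890, 2891, 0, 0, 0, 0, 93, 0, 0, []⟩)) (.node (.leaf ⟨2, 205, 205, 1, 0, (-1), 0, 28, 0, 205, [1493, 3432, 1492]⟩) (.leaf ⟨11, 4339, 4359, (-1), 0, 5, 0, 50, 3, 4339, [25835, 15998,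 25828]⟩))) (.node (.node (.leaf ⟨9, 843, 844, 0, 0, 0, 0, 63, 2, 842, [5350, 5347, 5354]⟩) (.leaf ⟨7, 3698, 3703, 0, 0, 0, 0, 93, 0, 0, []⟩)) (.node (.leaf ⟨3, 2355, 575, 0, 0, 0, 0, 36, 2, 2354, [13546, 13545, 3074]⟩) (.leaf ⟨4, 1734, 1604, 0, 0, 0, 0, 44, 0, 1604, [9081, 29789, 10198]⟩)))) (.node (.node (.node (.leaf ⟨7, 351, 609, 0, 0, 0, 0, 93, 0, 0, []⟩) (.leaf ⟨2, 3232, 880, 0, 0, 0, 0, 29, 0, 880, [5579, 19691, 19592]⟩)) (.node (.leaf ⟨5, 1961, 1962, 0, 0, 0, 0, 93, 0, 0, []⟩) (.leaf ⟨5, 4694, 4692, 3, 0, 3, 0, 45, 4, 4693, [27882, 27881, 27221, 27222, 27876]⟩))) (.node (.node (.leaf ⟨0, 1176, 1206, 0, 0, 0, 0, 5, 0, 1206, [7357, 7403, 7256]⟩) (.leaf ⟨4, 3984, 423, 0, 0, 0, 0, 42, 0, 423, [2281, 23787, 23774]⟩)) (.node (.leaf ⟨8, 2614, 2617, 0, 0, 0, 0, 61,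 0, 2617, [15589, 15595, 15582]⟩) (.leaf ⟨0, 0, 0, 0, 0, 0, 0, 0, 0, 0, []⟩)))))) (.node (.node (.node (.node (.node (.leaf ⟨6, 142, 142, (-1), 0, 1, 0, 45, 5, 142, [741, 735, 746, 734, 740]⟩) (.leaf ⟨6, 2807, 2807, (-1), 0, (-1), 0, 51, 0, 2807, [17113, 17127, 17130, 17126, 17112]⟩)) (.node (.leaf ⟨10, 243, 1585, 0, 0, 0, 0, 93, 0, 0, []⟩) (.leaf ⟨11, 4249, 4245, 0, 0, 0, 0, 59, 3, 4249, [25317, 25322, 25306]⟩))) (.node (.node (.leaf ⟨5, 771, 772, 0, 0, 0, 0, 93, 0, 0, []⟩) (.leaf ⟨4, 2125, 2125, 1, 0, 1, 0, 30, 5, 2125, [12321, 12319, 21226, 12318, 12320]⟩)) (.node (.leaf ⟨11, 2248, 2249, 0, 0, 0, 0, 93, 0, 0, []⟩) (.leaf ⟨11, 1101, 1101, 1, 0, 1, 0, 55, 3, 1101, [6883, 29418, 6882]⟩)))) (.node (.node (.node (.leaf ⟨10, 350, 531, 0, 0, 0, 0, 93, 0, 0, []⟩) (.leaf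 ⟨4, 3075, 3036, (-32), 0, (-46), 0, 66, 38, 3041, [18385, 18386, 18392, 18391, 18396, 18400, 18404, 18406, 18408, 11433, 18419, 18422, 18427, 18428, 18471, 5109, 18524, 18523, 18537, 18549, 18556, 18564, 18566, 18568, 18570, 18592, 18602, 18631, 18996, 18987, 16611, 16607, 19000, 18988, 18746, 5496, 5298, 5855, 5860, 19005, 19013, 19016, 19024, 19028, 19034, 19036, 19046, 19052, 19060, 19063, 5300, 5850, 19064, 19070, 19083, 19092, 19104, 19106, 19126, 19152, 19154, 19170, 19178]⟩)) (.node (.leaf ⟨9, 1831, 1480, 0, 0, 0, 0, 53, 3, 1831, [10903, 10986, 8484]⟩) (.leaf ⟨10, 4618, 4619, 0, 0, 0, 0, 93, 0, 0, []⟩))) (.node (.node (.leaf ⟨0, 1103, 1053, 0, 0, 0, 0, 4, 0, 1053, [6655, 6889, 6890]⟩) (.leaf ⟨9, 553, 553, (-1), 0, 1, 0, 35, 3, 553, [2981, 23274, 2980]⟩)) (.node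 (.leaf ⟨11, 2514, 2511, 17, 0, (-1), 0, 65, 5, 2514, [15065, 2125, 15078, 15082, 15054]⟩) (.leaf ⟨4, 217, 5200, 0, 0, 0, 0, 39, 0, 5200, [31431, 31467, 1516]⟩))))) (.node (.node (.node (.node (.leaf ⟨2, 301, 302, 0, 0, 0, 0, 93, 0, 0, []⟩) (.leaf ⟨0, 2953, 2973, 0, 0, 0, 0, 4, 0, 2973, [18139, 18155, 18032]⟩)) (.node (.leaf ⟨7, 770, 1695, 0, 0, 0, 0, 46, 3, 770, [4795, 9962, 9956]⟩) (.leaf ⟨5, 4436, 4436, 1, 0, 1, 0, 50, 0, 4436, [26233, 26346, 26232]⟩))) (.node (.node (.leaf ⟨3, 917, 919, 0, 0, 0, 0, 32, 0, 919, [5867, 5489, 5850]⟩) (.leaf ⟨6, 3750, 3750, 1, 0, 1, 0, 39, 3, 3750, [22241, 22250, 22240]⟩)) (.node (.leaf ⟨2, 659, 659, (-1), 0, (-1), 0, 29, 0, 659, [3661, 3742, 3660]⟩) (.leaf ⟨9, 5074, 5077, 0, 0, 0, 0, 57, 3, 5074, [30427, 30440, 30442]⟩)))) (.node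 (.node (.node (.leaf ⟨0, 75, 75, (-1), 0, (-1), 0, 9, 0, 75, [287, 1486, 286]⟩) (.leaf ⟨5, 3301, 3338, (-48), 0, 18, 0, 23, 3, 3301, [20195, 20187, 20202]⟩)) (.node (.leaf ⟨7, 2040, 2041, 0, 0, 0, 0, 93, 0, 0, []⟩) (.leaf ⟨7, 4776, 4777, 0, 0, 0, 0, 93, 0, 0, []⟩))) (.node (.node (.leaf ⟨4, 1314, 1348, 0, 0, 0, 0, 93, 0, 0, []⟩) (.leaf ⟨8, 4051, 4058, 0, 0, 0, 0, 93, 0, 0, []⟩)) (.node (.leaf ⟨8, 1738, 2691, 0, 0, 0, 0, 61, 0, 2691, [16099, 16107, 10212]⟩) (.leaf ⟨0, 0, 0, 0, 0, 0, 0, 0, 0, 0, []⟩))))))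

def factsPart119 : ATree TFact :=
  .node (.node (.node (.node (.node (.node (.leaf ⟨1, 19, 19, (-1), 0, (-1), 0, 12, 0, 19, [37, 236, 36]⟩) (.leaf ⟨9, 2734, 2751, 0, 0, 0, 0, 93, 0, 0, []⟩)) (.node (.leaf ⟨6, 1457, 1458, 0, 0, 0, 0, 93, 0, 0, []⟩) (.leaf ⟨4, 3313, 3313, 1, 0, (-1), 0, 44, 0, 3313, [20023, 24812, 20022]⟩))) (.node (.node (.leaf ⟨10, 717, 724, 0, 0, 0, 0, 93, 0, 0, []⟩) (.leaf ⟨4, 3449, 3450, 0, 0, 0, 0, 93, 0, 0, []⟩)) (.node (.leaf ⟨1, 2155, 2097, 0, 0, 0, 0, 14, 0, 2097, [12253, 12523, 12524]⟩) (.leaf ⟨9, 1997, 4868, 0, 0, 0, 0, 93, 0, 0, []⟩)))) (.node (.node (.node (.leaf ⟨7, 425, 426, 0, 0, 0, 0, 93, 0, 0, []⟩) (.leaf ⟨7, 953, 3090, 0, 0, 0, 0, 93, 0, 0, []⟩)) (.node (.leaf ⟨2, 1716, 1767, 0, 0, 0, 0, 93, 0, 0, []⟩) (.leaf ⟨5, 4523, 4524, 0,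 0, 0, 0, 93, 0, 0, []⟩))) (.node (.node (.leaf ⟨8, 624, 1012, 0, 0, 0, 0, 93, 0, 0, []⟩) (.leaf ⟨8, 3804, 3805, 0, 0, 0, 0, 93, 0, 0, []⟩)) (.node (.leaf ⟨2, 1664, 1664, (-1), 0, (-1), 0, 28, 0, 1664, [9725, 14572, 9724]⟩) (.leaf ⟨5, 5147, 5047, (-42), 0, (-8), 0, 48, 2, 3372, [30938, 30955, 30957]⟩))))) (.node (.node (.node (.node (.leaf ⟨4, 178, 178, 1, 0, 1, 0, 13, 3, 178, [1217, 1160, 1216]⟩) (.leaf ⟨4, 2891, 2892, 0, 0, 0, 0, 93, 0, 0, []⟩)) (.node (.leaf ⟨2, 206, 206, (-1), 0, 1, 0, 23, 0, 206, [1495, 9452, 1494]⟩) (.leaf ⟨11, 4360, 4358, 1, 0, (-5), 0, 59, 3, 4360, [25831, 25837, 25820]⟩))) (.node (.node (.leaf ⟨8, 610, 845, 0, 0, 0, 0, 93, 0, 0, []⟩) (.leaf ⟨5, 3701, 3703, 0, 0, 0, 0, 46, 2, 3699, [21736, 21733, 21740]⟩)) (.node (.leaf ⟨2, 2354, 2356, 0,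 0, 0, 0, 93, 0, 0, []⟩) (.leaf ⟨1, 1581, 557, 0, 0, 0, 0, 14, 0, 557, [3005, 28227, 8922]⟩)))) (.node (.node (.node (.leaf ⟨6, 609, 610, 0, 0, 0, 0, 93, 0, 0, []⟩) (.leaf ⟨2, 3233, 3258, 0, 0, 0, 0, 25, 0, 3258, [19685, 19693, 19594]⟩)) (.node (.leaf ⟨4, 1962, 1963, 0, 0, 0, 0, 93, 0, 0, []⟩) (.leaf ⟨5, 4577, 4695, 0, 0, 0, 0, 93, 0, 0, []⟩))) (.node (.node (.leaf ⟨0, 1177, 1207, 0, 0, 0, 0, 6, 0, 1207, [7359, 7405, 7258]⟩) (.leaf ⟨4, 3985, 3976, 0, 0, 0, 0, 40, 0, 3976, [23747, 23789, 23776]⟩)) (.node (.leaf ⟨5, 2617, 2618, 0, 0, 0, 0, 93, 0, 0, []⟩) (.leaf ⟨0, 0, 0, 0, 0, 0, 0, 0, 0, 0, []⟩)))))) (.node (.node (.node (.node (.node (.leaf ⟨10, 5, 143, 0, 0, 0, 0, 93, 0, 0, []⟩) (.leaf ⟨10, 2789, 2789, 1, 0, (-1), 0, 61, 3, 2789, [16909, 1082, 16908]⟩)) (.node (.leaf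 ⟨7, 1585, 1586, 0, 0, 0, 0, 93, 0, 0, []⟩) (.leaf ⟨9, 2644, 4250, 0, 0, 0, 0, 93, 0, 0, []⟩))) (.node (.node (.leaf ⟨4, 772, 773, 0, 0, 0, 0, 93, 0, 0, []⟩) (.leaf ⟨4, 2128, 2128, (-1), 0, (-1), 0, 42, 0, 2128, [12339, 21228, 12338]⟩)) (.node (.leaf ⟨7, 2249, 2250, 0, 0, 0, 0, 93, 0, 0, []⟩) (.leaf ⟨11, 1157, 1157, 1, 0, (-1), 0, 50, 3, 1157, [7137, 29420, 7136]⟩)))) (.node (.node (.node (.leaf ⟨4, 352, 531, 0, 0, 0, 0, 43, 2, 351, [1916, 1915, 2796]⟩) (.leaf ⟨4, 3039, 3032, 32, 0, 46, 0, 38, 4, 3036, [18380, 19181, 18571, 18758, 18356]⟩)) (.node (.leaf ⟨9, 1832, 1481, 0, 0, 0, 0, 42, 3, 1832, [10907, 10988, 8486]⟩) (.leaf ⟨2, 3056, 3056, 1, 0, 1, 0, 27, 0, 3056, [18473, 24548, 18472]⟩))) (.node (.node (.leaf ⟨4, 1103, 1104, 0, 0, 0, 0, 93, 0, 0, []⟩) (.leaf ⟨9,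 554, 554, (-1), 0, (-1), 0, 27, 3, 554, [2983, 23276, 2982]⟩)) (.node (.leaf ⟨4, 2513, 2511, 17, 0, (-1), 0, 44, 2, 2512, [15062, 15067, 15084]⟩) (.leaf ⟨5, 219, 5205, 0, 0, 0, 0, 38, 5, 219, [1521, 1519, 31468, 31456, 31460]⟩))))) (.node (.node (.node (.node (.leaf ⟨5, 293, 278, 0, 0, 0, 0, 46, 2, 292, [1754, 1753, 1716]⟩) (.leaf ⟨0, 2954, 2974, 0, 0, 0, 0, 3, 0, 2974, [18141, 18157, 18034]⟩)) (.node (.leaf ⟨4, 1659, 1591, 0, 0, 0, 0, 40, 2, 244, [9684, 1601, 8962]⟩) (.leaf ⟨5, 4437, 4437, (-1), 0, (-1), 0, 46, 0, 4437, [26235, 26348, 26234]⟩))) (.node (.node (.leaf ⟨4, 853, 920, 0, 0, 0, 0, 93, 0, 0, []⟩) (.leaf ⟨7, 813, 813, 1, 0, 1, 0, 51, 5, 813, [5203, 5201, 18962, 5200, 5202]⟩)) (.node (.leaf ⟨3, 659, 659, (-1), 0, (-1), 0, 37, 0, 659, [3661, 3738, 3660]⟩)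 (.leaf ⟨8, 5077, 5078, 0, 0, 0, 0, 93, 0, 0, []⟩)))) (.node (.node (.node (.leaf ⟨0, 83, 83, 1, 0, 1, 0, 4, 0, 83, [369, 3820, 368]⟩) (.leaf ⟨10, 934, 934, (-1), 0, (-1), 0, 28, 3, 934, [5981, 5976, 5980]⟩)) (.node (.leaf ⟨6, 2041, 2042, 0, 0, 0, 0, 93, 0, 0, []⟩) (.leaf ⟨4, 4777, 3455, 0, 0, 0, 0, 40, 0, 3455, [20771, 28395, 28396]⟩))) (.node (.node (.leaf ⟨7, 1208, 1309, 0, 0, 0, 0, 51, 3, 1206, [7358, 7360, 7357, 7726, 7728]⟩) (.leaf ⟨6, 4053, 4058, 0, 0, 0, 0, 52, 2, 4052, [24280, 24277, 24300]⟩)) (.node (.leaf ⟨8, 1777, 2692, 0, 0, 0, 0, 47, 3, 1777, [10619, 16108, 16100]⟩) (.leaf ⟨0, 0, 0, 0, 0, 0, 0, 0, 0, 0, []⟩))))))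

def factsPart120 : ATree TFact :=
  .node (.node (.node (.node (.node (.node (.leaf ⟨1, 20, 20, 1, 0, 1, 0, 18, 0, 20, [39, 238, 38]⟩) (.leaf ⟨5, 2736, 2751, 0, 0, 0, 0, 48, 2, 2735, [16544, 16543, 16622]⟩)) (.node (.leaf ⟨4, 1458, 1459, 0, 0, 0, 0, 93, 0, 0, []⟩) (.leaf ⟨8, 841, 652, 0, 0, 0, 0, 47, 3, 841, [5345, 5337, 3618]⟩))) (.node (.node (.leaf ⟨10, 569, 715, 0, 0, 0, 0, 58, 3, 569, [3053, 1695, 4296]⟩) (.leaf ⟨7, 3450, 3451, 0, 0, 0, 0, 93, 0, 0, []⟩)) (.node (.leaf ⟨2, 2153, 2156, 0, 0, 0, 0, 93, 0, 0, []⟩) (.leaf ⟨10, 4868, 4869, 0, 0, 0, 0, 93, 0, 0, []⟩)))) (.node (.node (.node (.leaf ⟨3, 423, 418, 0, 0, 0, 0, 35, 2, 422, [2280, 2279, 2262]⟩) (.leaf ⟨5, 3090, 3088, 0, 0, 0, 0, 46, 0, 3088, [18663, 6072, 18670]⟩)) (.node (.leaf ⟨4, 1716, 1070, 0, 0, 0,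 0, 30, 5, 1716, [10099, 10047, 9942, 6694, 6696]⟩) (.leaf ⟨8, 4520, 4523, (-9), 0, 3, 0, 52, 3, 4520, [26855, 25799, 26860]⟩))) (.node (.node (.leaf ⟨5, 1012, 1013, 0, 0, 0, 0, 93, 0, 0, []⟩) (.leaf ⟨5, 2749, 3804, 0, 0, 0, 0, 46, 0, 3804, [22765, 6017, 16606]⟩)) (.node (.leaf ⟨2, 1710, 1710, 1, 0, 1, 0, 29, 0, 1710, [10037, 14574, 10036]⟩) (.leaf ⟨6, 2441, 1739, 0, 0, 0, 0, 5, 3, 2441, [14479, 16432, 10214]⟩))))) (.node (.node (.node (.node (.leaf ⟨4, 179, 179, (-1), 0, (-1), 0, 40, 0, 179, [1219, 1262, 1218]⟩) (.leaf ⟨10, 2892, 2893, 0, 0, 0, 0, 93, 0, 0, []⟩)) (.node (.leaf ⟨2, 1533, 1533, 1, 0, (-1), 0, 24, 0, 1533, [8645, 9454, 8644]⟩) (.leaf ⟨7, 4343, 4361, 0, 0, 0, 0, 93, 0, 0, []⟩))) (.node (.node (.leaf ⟨2, 845, 839, 0, 0, 0, 0, 26, 0, 839, [5337, 3633,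 5358]⟩) (.leaf ⟨8, 372, 3704, 0, 0, 0, 0, 93, 0, 0, []⟩)) (.node (.leaf ⟨10, 2356, 2357, 0, 0, 0, 0, 93, 0, 0, []⟩) (.leaf ⟨1, 1582, 558, 0, 0, 0, 0, 13, 0, 558, [3007, 29935, 8924]⟩)))) (.node (.node (.node (.leaf ⟨5, 610, 611, 0, 0, 0, 0, 93, 0, 0, []⟩) (.leaf ⟨2, 3234, 3259, 0, 0, 0, 0, 24, 0, 3259, [19687, 19695, 19596]⟩)) (.node (.leaf ⟨4, 1961, 1932, 0, 0, 0, 0, 43, 0, 1932, [11371, 6253, 11498]⟩) (.leaf ⟨7, 4695, 4693, 0, 0, 0, 0, 46, 3, 4695, [27887, 27166, 27880]⟩))) (.node (.node (.leaf ⟨0, 1178, 1208, 0, 0, 0, 0, 5, 0, 1208, [7361, 7407, 7260]⟩) (.leaf ⟨4, 3986, 3977, 0, 0, 0, 0, 39, 0, 3977, [23749, 23791, 23778]⟩)) (.node (.leaf ⟨8, 2615, 2618, 0, 0, 0, 0, 47, 3, 2615, [15585, 15596, 15598]⟩) (.leaf ⟨0, 0, 0, 0, 0, 0, 0, 0, 0, 0, []⟩)))))) (.node (.node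 (.node (.node (.node (.leaf ⟨6, 7, 143, 0, 0, 0, 0, 54, 2, 6, [12, 11, 750]⟩) (.leaf ⟨10, 2806, 2806, 1, 0, 1, 0, 63, 3, 2806, [17109, 17134, 17108]⟩)) (.node (.leaf ⟨6, 1586, 1587, 0, 0, 0, 0, 93, 0, 0, []⟩) (.leaf ⟨10, 4250, 4251, 0, 0, 0, 0, 93, 0, 0, []⟩))) (.node (.node (.leaf ⟨9, 773, 774, 0, 0, 0, 0, 93, 0, 0, []⟩) (.leaf ⟨4, 2129, 2129, 1, 0, 1, 0, 43, 0, 2129, [12343, 21230, 12342]⟩)) (.node (.leaf ⟨6, 2250, 2251, 0, 0, 0, 0, 93, 0, 0, []⟩) (.leaf ⟨10, 755, 4915, 0, 0, 0, 0, 93, 0, 0, []⟩)))) (.node (.node (.node (.leaf ⟨10, 349, 349, 1, 0, 1, 0, 65, 4, 98, [1910, 421, 2490, 420, 1910]⟩) (.leaf ⟨3, 3007, 3037, 0, 0, 0, 0, 32, 0, 3037, [18373, 6057, 18248]⟩)) (.node (.leaf ⟨9, 1833, 1482, 0, 0, 0, 0, 57, 3, 1833, [10911, 10990, 8488]⟩) (.leaf ⟨2, 3057, 3057,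 (-1), 0, (-1), 0, 28, 0, 3057, [18477, 27374, 18476]⟩))) (.node (.node (.leaf ⟨0, 1104, 1054, 0, 0, 0, 0, 3, 0, 1054, [6657, 6893, 6894]⟩) (.leaf ⟨8, 937, 937, 1, 0, (-1), 0, 60, 0, 937, [6007, 23271, 23278, 23270, 6006]⟩)) (.node (.leaf ⟨10, 2259, 2517, 0, 0, 0, 0, 93, 0, 0, []⟩) (.leaf ⟨0, 0, 0, 0, 0, 0, 0, 0, 0, 0, []⟩))))) (.node (.node (.node (.node (.leaf ⟨6, 299, 295, 0, 0, 0, 0, 45, 5, 299, [1767, 1719, 1775, 1756, 1758]⟩) (.leaf ⟨0, 2955, 2975, 0, 0, 0, 0, 2, 0, 2975, [18143, 18159, 18036]⟩)) (.node (.leaf ⟨11, 1593, 133, 0, 0, 0, 0, 59, 3, 1593, [8971, 1597, 576]⟩) (.leaf ⟨6, 4439, 4439, (-1), 0, (-1), 0, 45, 5, 4439, [26239, 26237, 26350, 26236, 26238]⟩))) (.node (.node (.leaf ⟨9, 920, 921, 0, 0, 0, 0, 93, 0, 0, []⟩) (.leaf ⟨7, 3122, 3122, 1, 0, (-1),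 0, 46, 3, 3122, [18969, 22254, 18968]⟩)) (.node (.leaf ⟨4, 641, 447, 35, 0, (-7), 0, 66, 52, 2413, [13998, 14001, 5087, 4941, 3512, 14002, 14012, 3505, 3530, 3548, 3547, 14018, 14022, 14024, 9255, 5079, 14029, 14032, 3021, 3011, 3009, 3007, 3005, 3003, 2853, 1917, 2626, 4956, 2451, 2449, 2583, 2586, 14034, 14037, 14040, 14044, 2782, 2772, 3132, 14046, 14048, 14050, 14054, 3858, 14058, 3663, 3668, 14060, 14062, 14053, 2882, 2946, 2906, 2911, 5988, 2991, 2558, 2541, 2512, 2523, 4494, 3595, 2816]⟩) (.leaf ⟨9, 5068, 5078, (-165), 0, 17, 0, 60, 3, 5070, [30412, 30400, 30431, 30444, 30446]⟩)))) (.node (.node (.node (.leaf ⟨0, 84, 84, (-1), 0, (-1), 0, 6, 0, 84, [371, 3822, 370]⟩) (.leaf ⟨8, 546, 3339, 0, 0, 0, 0, 93, 0, 0, []⟩)) (.node (.leaf ⟨8, 2042, 2043, 0, 0, 0, 0,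 93, 0, 0, []⟩) (.leaf ⟨6, 4777, 4778, 0, 0, 0, 0, 93, 0, 0, []⟩))) (.node (.node (.leaf ⟨7, 1310, 1339, 0, 0, 0, 0, 46, 3, 1310, [7731, 7919, 7896]⟩) (.leaf ⟨8, 558, 3140, 0, 0, 0, 0, 41, 3, 558, [3007, 24163, 19108]⟩)) (.node (.leaf ⟨8, 2694, 2693, 0, 0, 0, 0, 52, 3, 2694, [16105, 16110, 16102]⟩) (.leaf ⟨0, 0, 0, 0, 0, 0, 0, 0, 0, 0, []⟩))))))

def factsPart121 : ATree TFact :=
  .node (.node (.node (.node (.node (.node (.leaf ⟨1, 21, 21, (-1), 0, (-1), 0, 19, 0, 21, [41, 240, 40]⟩) (.leaf ⟨10, 2734, 2734, 1, 0, (-1), 0, 61, 3, 2734, [16541, 1070, 16540]⟩)) (.node (.leaf ⟨7, 1459, 1460, 0, 0, 0, 0, 93, 0, 0, []⟩) (.leaf ⟨8, 653, 844, 0, 0, 0, 0, 61, 0, 844, [5355, 24816, 3620]⟩))) (.node (.node (.leaf ⟨10, 716, 570, 0, 0, 0, 0, 54, 3, 716, [4299, 4337, 3056]⟩) (.leaf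 ⟨6, 3451, 3452, 0, 0, 0, 0, 93, 0, 0, []⟩)) (.node (.leaf ⟨10, 2156, 2157, 0, 0, 0, 0, 93, 0, 0, []⟩) (.leaf ⟨11, 4869, 4870, 0, 0, 0, 0, 93, 0, 0, []⟩)))) (.node (.node (.node (.leaf ⟨3, 419, 424, 0, 0, 0, 0, 36, 0, 424, [2283, 2288, 2264]⟩) (.leaf ⟨9, 874, 3091, 0, 0, 0, 0, 93, 0, 0, []⟩)) (.node (.leaf ⟨4, 1767, 1425, 0, 0, 0, 0, 22, 3, 1767, [10479, 10480, 8270]⟩) (.leaf ⟨8, 4524, 4521, 9, 0, (-3), 0, 47, 3, 4524, [26863, 26865, 26856]⟩))) (.node (.node (.leaf ⟨10, 1013, 1014, 0, 0, 0, 0, 93, 0, 0, []⟩) (.leaf ⟨5, 3803, 3805, 0, 0, 0, 0, 47, 0, 3805, [22767, 22769, 22760]⟩)) (.node (.leaf ⟨11, 1584, 2448, 0, 0, 0, 0, 93, 0, 0, []⟩) (.leaf ⟨5, 2440, 2440, 1, 0, (-1), 0, 14, 3, 2440, [14475, 4112, 14474]⟩))))) (.node (.node (.node (.node (.leaf ⟨4, 180, 180, 1,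 0, 1, 0, 39, 0, 180, [1221, 1264, 1220]⟩) (.leaf ⟨5, 2893, 2894, 0, 0, 0, 0, 93, 0, 0, []⟩)) (.node (.leaf ⟨2, 1534, 1534, (-1), 0, 1, 0, 25, 0, 1534, [8647, 9456, 8646]⟩) (.leaf ⟨8, 788, 2665, 0, 0, 0, 0, 61, 0, 2665, [15951, 15925, 4944]⟩))) (.node (.node (.leaf ⟨5, 845, 846, 0, 0, 0, 0, 93, 0, 0, []⟩) (.leaf ⟨6, 3698, 3704, 0, 0, 0, 0, 52, 2, 373, [21730, 1999, 21744]⟩)) (.node (.leaf ⟨2, 2357, 2355, 0, 0, 0, 0, 28, 2, 2356, [13552, 13551, 13546]⟩) (.leaf ⟨1, 1583, 559, 0, 0, 0, 0, 12, 0, 559, [3009, 29937, 8926]⟩)))) (.node (.node (.node (.leaf ⟨10, 611, 612, 0, 0, 0, 0, 93, 0, 0, []⟩) (.leaf ⟨2, 3235, 3260, 0, 0, 0, 0, 23, 0, 3260, [19689, 19697, 19598]⟩)) (.node (.leaf ⟨5, 1963, 1951, 0, 0, 0, 0, 38, 5, 1963, [11503, 11501, 11504, 11456, 11458]⟩) (.leaf ⟨4,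 4573, 4573, 1, 0, 1, 0, 40, 0, 4573, [27141, 21230, 27140]⟩))) (.node (.node (.leaf ⟨0, 1186, 1209, 0, 0, 0, 0, 7, 0, 1209, [7363, 7409, 7292]⟩) (.leaf ⟨4, 3987, 3978, 0, 0, 0, 0, 41, 0, 3978, [23751, 23793, 23780]⟩)) (.node (.leaf ⟨1, 596, 2619, 0, 0, 0, 0, 93, 0, 0, []⟩) (.leaf ⟨0, 0, 0, 0, 0, 0, 0, 0, 0, 0, []⟩)))))) (.node (.node (.node (.node (.node (.leaf ⟨5, 143, 143, 1, 0, 1, 0, 49, 4, 5, [750, 9, 566, 8, 750]⟩) (.leaf ⟨2, 2789, 2789, 1, 0, (-1), 0, 26, 0, 2789, [16909, 722, 16908]⟩)) (.node (.leaf ⟨5, 1587, 1588, 0, 0, 0, 0, 93, 0, 0, []⟩) (.leaf ⟨11, 4251, 4252, 0, 0, 0, 0, 93, 0, 0, []⟩))) (.node (.node (.leaf ⟨10, 774, 775, 0, 0, 0, 0, 93, 0, 0, []⟩) (.leaf ⟨4, 3577, 3577, (-1), 0, (-1), 0, 40, 0, 3577, [21209, 21232, 21208]⟩)) (.node (.leaf ⟨5, 2251,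 2252, 0, 0, 0, 0, 93, 0, 0, []⟩) (.leaf ⟨7, 4915, 1601, 0, 0, 0, 0, 58, 0, 1601, [9057, 7149, 29424]⟩)))) (.node (.node (.node (.leaf ⟨5, 531, 531, 1, 0, 1, 0, 49, 4, 350, [2796, 1913, 2800, 1912, 2796]⟩) (.leaf ⟨3, 3008, 3038, 0, 0, 0, 0, 31, 0, 3038, [18377, 19185, 18250]⟩)) (.node (.leaf ⟨9, 1814, 1483, (-13), 0, (-21), 0, 60, 3, 1817, [10850, 10886, 10919, 10992, 8490]⟩) (.leaf ⟨2, 3572, 3572, 1, 0, 1, 0, 25, 0, 3572, [21191, 27376, 21190]⟩))) (.node (.node (.leaf ⟨3, 1104, 1105, 0, 0, 0, 0, 93, 0, 0, []⟩) (.leaf ⟨7, 3803, 3803, 1, 0, (-1), 0, 56, 4, 2749, [22760, 16607, 23280, 16606, 22760]⟩)) (.node (.leaf ⟨11, 2517, 2518, 0, 0, 0, 0, 93, 0, 0, []⟩) (.leaf ⟨0, 0, 0, 0, 0, 0, 0, 0, 0, 0, []⟩))))) (.node (.node (.node (.node (.leaf ⟨6, 300, 296, 0, 0, 0, 0, 39,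 3, 300, [1769, 1776, 1760]⟩) (.leaf ⟨0, 2956, 2976, 0, 0, 0, 0, 1, 0, 2976, [18145, 18161, 18038]⟩)) (.node (.leaf ⟨5, 134, 134, (-1), 0, 1, 0, 46, 0, 134, [635, 542, 634]⟩) (.leaf ⟨7, 4362, 4449, 0, 0, 0, 0, 93, 0, 0, []⟩))) (.node (.node (.leaf ⟨7, 921, 922, 0, 0, 0, 0, 93, 0, 0, []⟩) (.leaf ⟨7, 3750, 3750, 1, 0, 1, 0, 40, 3, 3750, [22241, 22256, 22240]⟩)) (.node (.leaf ⟨10, 608, 608, 1, 0, 1, 0, 65, 4, 607, [3304, 3301, 4468, 3300, 3304]⟩) (.leaf ⟨5, 5078, 5056, 104, 0, 36, 0, 48, 0, 5056, [30394, 30404, 30448]⟩)))) (.node (.node (.node (.leaf ⟨0, 86, 86, 1, 0, 1, 0, 5, 0, 86, [379, 3824, 378]⟩) (.leaf ⟨10, 3339, 857, 0, 0, 0, 0, 61, 3, 3339, [20209, 2911, 5460]⟩)) (.node (.leaf ⟨5, 2043, 2044, 0, 0, 0, 0, 93, 0, 0, []⟩) (.leaf ⟨4, 4778, 3456, 0, 0, 0, 0, 39,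 0, 3456, [20775, 28399, 28400]⟩))) (.node (.node (.leaf ⟨7, 1311, 1340, 0, 0, 0, 0, 40, 3, 1311, [7733, 7920, 7898]⟩) (.leaf ⟨8, 559, 3983, 0, 0, 0, 0, 34, 3, 559, [3009, 24304, 23772]⟩)) (.node (.leaf ⟨4, 1702, 2695, 0, 0, 0, 0, 93, 0, 0, []⟩) (.leaf ⟨0, 0, 0, 0, 0, 0, 0, 0, 0, 0, []⟩))))))

def factsPart122 : ATree TFact :=
  .node (.node (.node (.node (.node (.node (.leaf ⟨1, 22, 22, 1, 0, 1, 0, 14, 0, 22, [43, 242, 42]⟩) (.leaf ⟨10, 2751, 2751, 1, 0, 1, 0, 63, 3, 2751, [16623, 16626, 16622]⟩)) (.node (.leaf ⟨8, 1460, 1461, 0, 0, 0, 0, 93, 0, 0, []⟩) (.leaf ⟨8, 654, 3313, 0, 0, 0, 0, 62, 0, 3313, [20023, 24819, 3626]⟩))) (.node (.node (.leaf ⟨5, 724, 723, 0, 0, 0, 0, 49, 4, 717, [4334, 4301, 4338, 3060, 4330]⟩) (.leaf ⟨4, 1720, 3453, 0, 0, 0, 0, 93, 0, 0, []⟩))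 (.node (.leaf ⟨5, 2157, 2158, 0, 0, 0, 0, 93, 0, 0, []⟩) (.leaf ⟨9, 4869, 4863, 0, 0, 0, 0, 63, 2, 4868, [28912, 28911, 28888]⟩)))) (.node (.node (.node (.leaf ⟨3, 420, 425, 0, 0, 0, 0, 37, 0, 425, [2285, 2291, 2266]⟩) (.leaf ⟨6, 3091, 953, 0, 0, 0, 0, 53, 0, 953, [6071, 5558, 18674]⟩)) (.node (.leaf ⟨2, 1711, 1711, 1, 0, 1, 0, 22, 0, 1711, [10047, 9932, 10046]⟩) (.leaf ⟨10, 4524, 4525, 0, 0, 0, 0, 93, 0, 0, []⟩))) (.node (.node (.leaf ⟨10, 1012, 993, 0, 0, 0, 0, 61, 3, 1012, [6383, 4322, 6322]⟩) (.leaf ⟨6, 3804, 3806, 0, 0, 0, 0, 93, 0, 0, []⟩)) (.node (.leaf ⟨3, 1710, 2448, 0, 0, 0, 0, 37, 0, 2448, [14579, 9728, 10036]⟩) (.leaf ⟨5, 2441, 2441, 1, 0, 1, 0, 4, 3, 2441, [14479, 30962, 14478]⟩))))) (.node (.node (.node (.node (.leaf ⟨4, 181, 181, (-1), 0, (-1), 0,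 41, 0, 181, [1223, 1266, 1222]⟩) (.leaf ⟨6, 2894, 2895, 0, 0, 0, 0, 93, 0, 0, []⟩)) (.node (.leaf ⟨2, 1535, 1535, 1, 0, (-1), 0, 24, 0, 1535, [8649, 9458, 8648]⟩) (.leaf ⟨8, 2453, 4359, 0, 0, 0, 0, 47, 3, 2453, [14651, 25842, 25828]⟩))) (.node (.node (.leaf ⟨2, 846, 841, 0, 0, 0, 0, 23, 0, 841, [5345, 5361, 5362]⟩) (.leaf ⟨8, 104, 664, 0, 0, 0, 0, 47, 3, 104, [445, 441, 3682]⟩)) (.node (.leaf ⟨7, 2354, 2354, (-1), 0, (-1), 0, 33, 3, 2354, [13545, 10496, 13544]⟩) (.leaf ⟨2, 2434, 2419, 0, 0, 0, 0, 11, 5, 2434, [14415, 9731, 29938, 3010, 14248]⟩)))) (.node (.node (.node (.leaf ⟨10, 534, 609, 0, 0, 0, 0, 58, 3, 534, [2853, 1917, 3308]⟩) (.leaf ⟨7, 884, 3261, 0, 0, 0, 0, 93, 0, 0, []⟩)) (.node (.leaf ⟨7, 1963, 1964, 0, 0, 0, 0, 93, 0, 0, []⟩) (.leaf ⟨4, 4574, 4574, (-1),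 0, (-1), 0, 39, 0, 4574, [27145, 27890, 27144]⟩))) (.node (.node (.leaf ⟨0, 1187, 1210, 0, 0, 0, 0, 4, 0, 1210, [7365, 7411, 7294]⟩) (.leaf ⟨5, 3989, 3981, 0, 0, 0, 0, 38, 5, 3989, [23785, 23783, 23794, 23752, 23766]⟩)) (.node (.leaf ⟨5, 1737, 2619, 0, 0, 0, 0, 14, 3, 1737, [10211, 3244, 15602]⟩) (.leaf ⟨0, 0, 0, 0, 0, 0, 0, 0, 0, 0, []⟩)))))) (.node (.node (.node (.node (.node (.leaf ⟨6, 122, 122, 1, 0, 1, 0, 45, 5, 122, [513, 752, 754, 753, 512]⟩) (.leaf ⟨2, 2806, 2806, (-1), 0, 1, 0, 27, 0, 2806, [17109, 17138, 17108]⟩)) (.node (.leaf ⟨4, 1588, 1589, 0, 0, 0, 0, 93, 0, 0, []⟩) (.leaf ⟨7, 4252, 4253, 0, 0, 0, 0, 93, 0, 0, []⟩))) (.node (.node (.leaf ⟨5, 775, 776, 0, 0, 0, 0, 93, 0, 0, []⟩) (.leaf ⟨4, 3578, 3578, 1, 0, 1, 0, 39, 0, 3578, [21211, 21234, 21210]⟩))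 (.node (.leaf ⟨4, 2252, 2253, 0, 0, 0, 0, 93, 0, 0, []⟩) (.leaf ⟨6, 2368, 4915, 0, 0, 0, 0, 54, 0, 4915, [29425, 13579, 13624]⟩)))) (.node (.node (.node (.leaf ⟨4, 353, 353, (-1), 0, 1, 0, 38, 0, 353, [1919, 2798, 2802, 2799, 1918]⟩) (.leaf ⟨10, 3008, 3155, 0, 0, 0, 0, 93, 0, 0, []⟩)) (.node (.leaf ⟨1, 1483, 1494, 9, 0, 13, 0, 18, 0, 1494, [10826, 10833, 10994]⟩) (.leaf ⟨2, 3573, 3573, (-1), 0, (-1), 0, 24, 0, 3573, [21193, 27378, 21192]⟩))) (.node (.node (.leaf ⟨0, 1105, 1055, 0, 0, 0, 0, 2, 0, 1055, [6659, 6897, 6898]⟩) (.leaf ⟨8, 2750, 3898, 0, 0, 0, 0, 93, 0, 0, []⟩)) (.node (.leaf ⟨10, 385, 2258, 0, 0, 0, 0, 61, 3, 385, [2081, 10514, 13054]⟩) (.leaf ⟨0, 0, 0, 0, 0, 0, 0, 0, 0, 0, []⟩))))) (.node (.node (.node (.node (.leaf ⟨6, 301, 297, 0, 0, 0, 0, 32, 3, 301,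 [1771, 1778, 1762]⟩) (.leaf ⟨0, 2957, 2977, 0, 0, 0, 0, 9, 0, 2977, [18147, 18163, 18052]⟩)) (.node (.leaf ⟨11, 267, 267, 1, 0, (-1), 0, 65, 5, 267, [1695, 2715, 700, 2714, 1694]⟩) (.leaf ⟨6, 4449, 4450, 0, 0, 0, 0, 93, 0, 0, []⟩))) (.node (.node (.leaf ⟨6, 922, 923, 0, 0, 0, 0, 93, 0, 0, []⟩) (.leaf ⟨10, 3750, 3750, 1, 0, 1, 0, 43, 3, 3750, [22241, 18972, 22240]⟩)) (.node (.leaf ⟨7, 611, 611, 1, 0, (-1), 0, 46, 3, 611, [3313, 4948, 3312]⟩) (.leaf ⟨6, 1108, 5079, 0, 0, 0, 0, 93, 0, 0, []⟩)))) (.node (.node (.node (.leaf ⟨6, 667, 667, (-1), 0, (-1), 0, 45, 5, 667, [3775, 393, 1362, 392, 3774]⟩) (.leaf ⟨2, 3339, 3339, (-1), 0, (-1), 0, 26, 0, 3339, [20209, 14186, 20208]⟩)) (.node (.leaf ⟨4, 2044, 2045, 0, 0, 0, 0, 93, 0, 0, []⟩) (.leaf ⟨5, 4778, 4779, 0, 0, 0, 0, 93,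 0, 0, []⟩))) (.node (.node (.leaf ⟨7, 1312, 1341, 0, 0, 0, 0, 33, 3, 1312, [7735, 7922, 7900]⟩) (.leaf ⟨8, 560, 4049, 0, 0, 0, 0, 26, 3, 560, [3011, 24306, 24262]⟩)) (.node (.leaf ⟨11, 2460, 1702, 0, 0, 0, 0, 50, 3, 2460, [14771, 14767, 10006]⟩) (.leaf ⟨0, 0, 0, 0, 0, 0, 0, 0, 0, 0, []⟩))))))

def factsPart123 : ATree TFact :=
  .node (.node (.node (.node (.node (.node (.leaf ⟨1, 23, 23, (-1), 0, (-1), 0, 16, 0, 23, [45, 244, 44]⟩) (.leaf ⟨5, 2737, 2737, (-1), 0, 1, 0, 49, 0, 2737, [16547, 16624, 16628, 16625, 16546]⟩)) (.node (.leaf ⟨11, 1447, 1457, 0, 0, 0, 0, 50, 3, 1447, [8379, 8377, 8428]⟩) (.leaf ⟨3, 3313, 3313, (-1), 0, 1, 0, 34, 0, 3313, [24821, 3640, 24820]⟩))) (.node (.node (.leaf ⟨4, 719, 724, 0, 0, 0, 0, 43, 2, 718, [4304, 4303, 4334]⟩) (.leaf ⟨7, 3453,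 1738, 27, 0, (-1), 0, 40, 3, 3453, [20725, 14535, 10260]⟩)) (.node (.leaf ⟨2, 2157, 2154, 0, 0, 0, 0, 28, 2, 2156, [12530, 12529, 12520]⟩) (.leaf ⟨9, 4864, 4870, 0, 0, 0, 0, 64, 0, 4870, [28915, 28916, 28890]⟩)))) (.node (.node (.node (.leaf ⟨3, 421, 426, 0, 0, 0, 0, 33, 0, 426, [2287, 2293, 2268]⟩) (.leaf ⟨7, 874, 874, (-1), 0, (-1), 0, 56, 4, 480, [5554, 2511, 5660, 2510, 5554]⟩)) (.node (.leaf ⟨3, 1767, 1767, 1, 0, 1, 0, 21, 5, 1767, [10479, 10099, 10484, 10098, 10478]⟩) (.leaf ⟨8, 4522, 4525, (-9), 0, 3, 0, 61, 2, 4521, [26858, 26867, 26868]⟩))) (.node (.node (.leaf ⟨5, 1014, 1011, 0, 0, 0, 0, 49, 4, 1013, [6386, 6385, 6388, 6324, 6378]⟩) (.leaf ⟨8, 3806, 3807, 0, 0, 0, 0, 93, 0, 0, []⟩)) (.node (.leaf ⟨4, 2448, 1699, 0, 0, 0, 0, 44, 0, 1699, [9991, 8939, 14578]⟩)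 (.leaf ⟨7, 399, 5149, 0, 0, 0, 0, 93, 0, 0, []⟩))))) (.node (.node (.node (.node (.leaf ⟨3, 178, 178, 1, 0, 1, 0, 12, 3, 178, [1217, 1154, 1216]⟩) (.leaf ⟨7, 2895, 2896, 0, 0, 0, 0, 93, 0, 0, []⟩)) (.node (.leaf ⟨2, 1536, 1536, (-1), 0, 1, 0, 23, 0, 1536, [8651, 9460, 8650]⟩) (.leaf ⟨8, 4361, 4360, 17, 0, (-9), 0, 56, 3, 791, [25766, 25840, 14655, 25844, 25830]⟩))) (.node (.node (.leaf ⟨10, 846, 847, 0, 0, 0, 0, 93, 0, 0, []⟩) (.leaf ⟨9, 70, 70, 1, 0, 1, 0, 18, 3, 70, [277, 6566, 276]⟩)) (.node (.leaf ⟨7, 2356, 2356, (-1), 0, 1, 0, 25, 3, 2356, [13551, 13556, 13550]⟩) (.leaf ⟨3, 2434, 2434, 1, 0, (-1), 0, 12, 3, 2434, [14415, 29146, 14414]⟩)))) (.node (.node (.node (.leaf ⟨10, 610, 556, 0, 0, 0, 0, 54, 3, 610, [3311, 3317, 3002]⟩) (.leaf ⟨6, 3261, 3262, 0, 0, 0,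 0, 93, 0, 0, []⟩)) (.node (.leaf ⟨5, 1964, 1952, 0, 0, 0, 0, 46, 0, 1952, [11461, 11507, 11508]⟩) (.leaf ⟨5, 4576, 4576, (-1), 0, (-1), 0, 38, 5, 4576, [27153, 27149, 27892, 27148, 27152]⟩))) (.node (.node (.leaf ⟨0, 1188, 1211, 0, 0, 0, 0, 3, 0, 1211, [7367, 7413, 7296]⟩) (.leaf ⟨7, 3989, 3990, 0, 0, 0, 0, 93, 0, 0, []⟩)) (.node (.leaf ⟨10, 2619, 2620, 0, 0, 0, 0, 93, 0, 0, []⟩) (.leaf ⟨0, 0, 0, 0, 0, 0, 0, 0, 0, 0, []⟩)))))) (.node (.node (.node (.node (.node (.leaf ⟨6, 123, 123, 1, 0, (-1), 0, 39, 3, 123, [515, 756, 514]⟩) (.leaf ⟨3, 2789, 2789, (-1), 0, (-1), 0, 34, 0, 2789, [16909, 730, 16908]⟩)) (.node (.leaf ⟨3, 1589, 1590, 0, 0, 0, 0, 93, 0, 0, []⟩) (.leaf ⟨6, 4253, 4254, 0, 0, 0, 0, 93, 0, 0, []⟩))) (.node (.node (.leaf ⟨10, 773, 777, 0, 0, 0, 0, 93, 0,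 0, []⟩) (.leaf ⟨4, 3579, 3579, (-1), 0, (-1), 0, 41, 0, 3579, [21213, 21236, 21212]⟩)) (.node (.leaf ⟨10, 2253, 2254, 0, 0, 0, 0, 93, 0, 0, []⟩) (.leaf ⟨11, 1554, 1554, 1, 0, 1, 0, 59, 3, 1554, [8769, 9592, 8768]⟩)))) (.node (.node (.node (.leaf ⟨4, 525, 525, 1, 0, (-1), 0, 39, 0, 525, [2759, 2804, 2758]⟩) (.leaf ⟨3, 3155, 3039, 0, 0, 0, 0, 36, 0, 3039, [18379, 19187, 19188]⟩)) (.node (.leaf ⟨5, 1791, 1483, 0, 0, (-8), 0, 14, 1, 1494, [10735, 10741, 10997]⟩) (.leaf ⟨2, 3574, 3574, 1, 0, 1, 0, 23, 0, 3574, [21195, 27380, 21194]⟩))) (.node (.node (.leaf ⟨9, 1105, 1106, 0, 0, 0, 0, 93, 0, 0, []⟩) (.leaf ⟨6, 3898, 3803, 0, 0, 0, 0, 52, 2, 2750, [23284, 16611, 22760]⟩)) (.node (.leaf ⟨5, 2512, 2517, 0, 0, 0, 0, 49, 4, 386, [15060, 2083, 15092, 13056, 15088]⟩) (.leaf ⟨0,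 0, 0, 0, 0, 0, 0, 0, 0, 0, []⟩))))) (.node (.node (.node (.node (.leaf ⟨6, 302, 298, 0, 0, 0, 0, 24, 3, 302, [1773, 1780, 1764]⟩) (.leaf ⟨9, 1467, 2978, 0, 0, 0, 0, 93, 0, 0, []⟩)) (.node (.leaf ⟨11, 268, 268, 1, 0, 1, 0, 50, 3, 268, [1697, 9972, 1696]⟩) (.leaf ⟨3, 4397, 4449, 0, 0, 0, 0, 33, 0, 4449, [26355, 26311, 26122]⟩))) (.node (.node (.leaf ⟨4, 921, 854, 0, 0, 0, 0, 42, 2, 920, [5872, 5871, 5436]⟩) (.leaf ⟨2, 3743, 3750, 0, 0, 0, 0, 22, 0, 3750, [22241, 22229, 22100]⟩)) (.node (.leaf ⟨7, 612, 612, (-1), 0, 1, 0, 58, 0, 612, [3315, 14068, 3314]⟩) (.leaf ⟨0, 5079, 5075, 0, 0, 0, 0, 5, 0, 5075, [30435, 6913, 30452]⟩)))) (.node (.node (.node (.leaf ⟨7, 667, 667, (-1), 0, (-1), 0, 46, 3, 667, [3775, 3730, 3774]⟩) (.leaf ⟨3, 3116, 3339, 0, 0, 0, 0, 34, 0, 3339,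 [20209, 9347, 18896]⟩)) (.node (.leaf ⟨3, 2045, 2046, 0, 0, 0, 0, 93, 0, 0, []⟩) (.leaf ⟨5, 4776, 4780, 0, 0, 0, 0, 93, 0, 0, []⟩))) (.node (.node (.leaf ⟨7, 1313, 1342, 0, 0, 0, 0, 58, 0, 1342, [7903, 7925, 7736]⟩) (.leaf ⟨9, 558, 558, (-1), 0, (-1), 0, 42, 3, 558, [3007, 24170, 3006]⟩)) (.node (.leaf ⟨4, 2460, 2696, 0, 0, 0, 0, 93, 0, 0, []⟩) (.leaf ⟨0, 0, 0, 0, 0, 0, 0, 0, 0, 0, []⟩))))))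

def factsPart124 : ATree TFact :=
  .node (.node (.node (.node (.node (.node (.leaf ⟨1, 24, 24, 1, 0, 1, 0, 15, 0, 24, [47, 246, 46]⟩) (.leaf ⟨5, 2738, 2738, 1, 0, (-1), 0, 50, 0, 2738, [16549, 16630, 16548]⟩)) (.node (.leaf ⟨11, 1458, 1448, 0, 0, 0, 0, 55, 3, 1458, [8431, 8439, 8380]⟩) (.leaf ⟨11, 847, 4178, 0, 0, 0, 0, 93, 0, 0, []⟩))) (.node (.node (.leaf ⟨4, 720, 722, 0, 0, 0, 0, 38, 0, 722, [4329, 4332, 4341, 4343, 4306]⟩) (.leaf ⟨8, 1706, 3448, 0, 0, 0, 0, 62, 0, 3448, [20715, 12065, 10020]⟩)) (.node (.leaf ⟨2, 2155, 2158, 0, 0, 0, 0, 23, 0, 2158, [12533, 12534, 12524]⟩) (.leaf ⟨5, 4870, 4871, 0, 0, 0, 0, 93, 0, 0, []⟩)))) (.node (.node (.node (.leaf ⟨2, 422, 427, 0, 0, 0, 0, 93, 0, 0, []⟩) (.leaf ⟨7, 3091, 3091, 1, 0, 1, 0, 57, 0, 3091, [18675, 18678, 18674]⟩))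 (.node (.leaf ⟨6, 506, 506, 1, 0, (-1), 0, 24, 3, 506, [2659, 6780, 2658]⟩) (.leaf ⟨6, 1957, 4526, 0, 0, 0, 0, 93, 0, 0, []⟩))) (.node (.node (.leaf ⟨11, 394, 1015, 0, 0, 0, 0, 93, 0, 0, []⟩) (.leaf ⟨6, 3807, 3805, 0, 0, 0, 0, 52, 2, 3806, [22774, 22773, 22766]⟩)) (.node (.leaf ⟨3, 1160, 1408, (-13), 0, 3, 0, 31, 0, 1408, [9147, 9782, 13564]⟩) (.leaf ⟨6, 5149, 5150, 0, 0, 0, 0, 93, 0, 0, []⟩))))) (.node (.node (.node (.node (.leaf ⟨3, 179, 179, (-1), 0, (-1), 0, 33, 0, 179, [1219, 1270, 1218]⟩) (.leaf ⟨4, 2888, 1922, 0, 0, 0, 0, 44, 0, 1922, [11335, 7877, 17638]⟩)) (.node (.leaf ⟨2, 1537, 1537, 1, 0, (-1), 0, 22, 0, 1537, [8653, 9462, 8652]⟩) (.leaf ⟨11, 4342, 4362, 0, 0, 0, 0, 93, 0, 0, []⟩))) (.node (.node (.leaf ⟨2, 847, 844, 0, 0, 0, 0, 28, 0, 844, [5355, 5365,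 5366]⟩) (.leaf ⟨9, 98, 98, (-1), 0, (-1), 0, 63, 0, 98, [421, 21750, 420]⟩)) (.node (.leaf ⟨6, 2354, 1668, 0, 0, 0, 0, 32, 3, 2354, [13545, 10498, 9778]⟩) (.leaf ⟨4, 2434, 2444, 0, 0, 0, 0, 13, 3, 2434, [14415, 10572, 14496]⟩)))) (.node (.node (.node (.leaf ⟨5, 612, 607, 0, 0, 0, 0, 49, 4, 611, [3314, 3313, 3318, 3004, 3300]⟩) (.leaf ⟨5, 3262, 3263, 0, 0, 0, 0, 93, 0, 0, []⟩)) (.node (.leaf ⟨8, 1964, 1965, 0, 0, 0, 0, 93, 0, 0, []⟩) (.leaf ⟨10, 4695, 4695, (-1), 0, (-1), 0, 49, 5, 4695, [27887, 27157, 27894, 27156, 27886]⟩))) (.node (.node (.leaf ⟨0, 1189, 1212, 0, 0, 0, 0, 2, 0, 1212, [7369, 7415, 7298]⟩) (.leaf ⟨5, 3990, 3982, 0, 0, 0, 0, 46, 0, 3982, [23769, 23797, 23798]⟩)) (.node (.leaf ⟨5, 2620, 2621, 0, 0, 0, 0, 93, 0, 0, []⟩) (.leaf ⟨0, 0, 0, 0, 0, 0, 0,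 0, 0, 0, []⟩)))))) (.node (.node (.node (.node (.node (.leaf ⟨7, 141, 141, 1, 0, (-1), 0, 51, 5, 141, [735, 733, 758, 732, 734]⟩) (.leaf ⟨3, 2806, 2806, 1, 0, 1, 0, 35, 0, 2806, [17109, 17142, 17108]⟩)) (.node (.leaf ⟨4, 245, 1585, 0, 0, 0, 0, 43, 2, 244, [1602, 1601, 8940]⟩) (.leaf ⟨8, 4254, 4255, 0, 0, 0, 0, 93, 0, 0, []⟩))) (.node (.node (.leaf ⟨5, 777, 778, 0, 0, 0, 0, 93, 0, 0, []⟩) (.leaf ⟨5, 3579, 3580, 0, 0, 0, 0, 93, 0, 0, []⟩)) (.node (.leaf ⟨5, 2254, 2255, 0, 0, 0, 0, 93, 0, 0, []⟩) (.leaf ⟨11, 1555, 1555, 1, 0, (-1), 0, 55, 3, 1555, [8771, 29430, 8770]⟩)))) (.node (.node (.node (.leaf ⟨4, 526, 526, (-1), 0, 1, 0, 40, 0, 526, [2761, 2806, 2760]⟩) (.leaf ⟨4, 3010, 3155, 0, 0, 0, 0, 43, 2, 3009, [18254, 18253, 19188]⟩)) (.node (.leaf ⟨5, 1757, 1842, 0, 0,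 0, 0, 93, 0, 0, []⟩) (.leaf ⟨2, 3571, 3571, (-1), 0, 1, 0, 24, 0, 3571, [21199, 27382, 21198]⟩))) (.node (.node (.leaf ⟨0, 1106, 1056, 0, 0, 0, 0, 8, 0, 1056, [6661, 6901, 6902]⟩) (.leaf ⟨5, 3898, 3899, 0, 0, 0, 0, 93, 0, 0, []⟩)) (.node (.leaf ⟨5, 2513, 2518, 0, 0, 0, 0, 50, 0, 2518, [15091, 15095, 15062]⟩) (.leaf ⟨0, 0, 0, 0, 0, 0, 0, 0, 0, 0, []⟩))))) (.node (.node (.node (.node (.leaf ⟨6, 291, 303, 0, 0, 0, 0, 93, 0, 0, []⟩) (.leaf ⟨10, 2978, 2979, 0, 0, 0, 0, 93, 0, 0, []⟩)) (.node (.leaf ⟨11, 1383, 1383, 1, 0, (-1), 0, 44, 3, 1383, [8073, 9974, 8072]⟩) (.leaf ⟨3, 4398, 4450, 0, 0, 0, 0, 32, 0, 4450, [26357, 26359, 26124]⟩))) (.node (.node (.leaf ⟨4, 859, 922, 0, 0, 0, 0, 40, 0, 922, [5875, 5878, 5480]⟩) (.leaf ⟨3, 3743, 3743, 0, 0, (-2), 0, 66, 44, 3735, [22108,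 22017, 22023, 22110, 22114, 22121, 22124, 22128, 5236, 5226, 5219, 18954, 22130, 5151, 1992, 21786, 21788, 22098, 22100, 22134, 22142, 22147, 22155, 22158, 22166, 22153, 22168, 22170, 18858, 22172, 18862, 18869, 18870, 22176, 22180, 22183, 18938, 18944, 5226, 5220, 5846, 22185, 22146, 22186, 22018, 22008, 22188, 22192, 22202, 22205, 22206, 22098, 22208, 22210, 22224, 22228, 22238, 22240, 22246, 22252, 22258, 22260, 22263]⟩)) (.node (.leaf ⟨7, 613, 613, 1, 0, (-1), 0, 59, 0, 613, [3323, 14070, 3322]⟩) (.leaf ⟨4, 5079, 5080, 0, 0, 0, 0, 93, 0, 0, []⟩)))) (.node (.node (.node (.leaf ⟨10, 667, 671, 0, 0, 0, 0, 93, 0, 0, []⟩) (.leaf ⟨4, 3116, 913, 0, 0, 0, 0, 41, 0, 913, [5799, 4026, 18896]⟩)) (.node (.leaf ⟨2, 2046, 2047, 0, 0, 0, 0, 93, 0, 0, []⟩) (.leaf ⟨7, 4780, 4781,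 0, 0, 0, 0, 93, 0, 0, []⟩))) (.node (.node (.leaf ⟨7, 1314, 1343, 0, 0, 0, 0, 46, 3, 1314, [7739, 7926, 7904]⟩) (.leaf ⟨9, 559, 559, (-1), 0, 1, 0, 35, 3, 559, [3009, 24310, 3008]⟩)) (.node (.leaf ⟨11, 2695, 2696, 0, 0, 0, 0, 44, 3, 2695, [16115, 16117, 16118]⟩) (.leaf ⟨0, 0, 0, 0, 0, 0, 0, 0, 0, 0, []⟩))))))

def factsPart125 : ATree TFact :=
  .node (.node (.node (.node (.node (.node (.leaf ⟨1, 25, 25, (-1), 0, (-1), 0, 17, 0, 25, [49, 248, 48]⟩) (.leaf ⟨5, 2739, 2739, (-1), 0, 1, 0, 46, 0, 2739, [16551, 16632, 16550]⟩)) (.node (.leaf ⟨11, 1459, 1449, 0, 0, 0, 0, 44, 3, 1459, [8433, 8440, 8382]⟩) (.leaf ⟨2, 4178, 3313, 0, 0, 0, 0, 29, 0, 3313, [20023, 5369, 24824]⟩))) (.node (.node (.leaf ⟨4, 713, 714, 0, 0, 0, 0, 43, 2, 712, [4292, 4291, 4294]⟩) (.leaf ⟨8, 1720,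 3449, 0, 0, 0, 0, 47, 3, 1720, [10129, 20728, 20716]⟩)) (.node (.leaf ⟨3, 2055, 2159, 0, 0, 0, 0, 93, 0, 0, []⟩) (.leaf ⟨9, 4865, 4871, 0, 0, 0, 0, 48, 3, 4865, [28893, 28918, 28920]⟩)))) (.node (.node (.node (.leaf ⟨9, 427, 428, 0, 0, 0, 0, 93, 0, 0, []⟩) (.leaf ⟨6, 3090, 3090, (-1), 0, 1, 0, 51, 0, 3090, [18671, 18677, 18680, 18676, 18670]⟩)) (.node (.leaf ⟨6, 507, 507, (-1), 0, 1, 0, 54, 0, 507, [2661, 10488, 2660]⟩) (.leaf ⟨5, 4526, 4527, 0, 0, 0, 0, 93, 0, 0, []⟩))) (.node (.node (.leaf ⟨8, 618, 1015, 0, 0, 0, 0, 62, 0, 1015, [6393, 2101, 3358]⟩) (.leaf ⟨7, 3807, 3808, 0, 0, 0, 0, 93, 0, 0, []⟩)) (.node (.leaf ⟨6, 1545, 1545, (-1), 0, (-1), 0, 24, 3, 1545, [8713, 8678, 8712]⟩) (.leaf ⟨7, 398, 5151, 0, 0, 0, 0, 93, 0, 0, []⟩))))) (.node (.node (.node (.node (.leaf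 ⟨3, 180, 180, 1, 0, 1, 0, 32, 0, 180, [1221, 1272, 1220]⟩) (.leaf ⟨4, 2889, 2084, 0, 0, 0, 0, 40, 0, 2084, [12201, 17657, 17640]⟩)) (.node (.leaf ⟨3, 1545, 1545, 1, 0, (-1), 0, 21, 5, 1545, [8713, 8655, 9464, 8654, 8712]⟩) (.leaf ⟨5, 4362, 4363, 0, 0, 0, 0, 93, 0, 0, []⟩))) (.node (.node (.leaf ⟨10, 399, 848, 0, 0, 0, 0, 93, 0, 0, []⟩) (.leaf ⟨9, 99, 99, (-1), 0, 1, 0, 48, 3, 99, [425, 21752, 424]⟩)) (.node (.leaf ⟨6, 2356, 1669, 0, 0, 0, 0, 24, 3, 2356, [13551, 13560, 9780]⟩) (.leaf ⟨1, 2061, 740, 0, 0, 0, 0, 13, 0, 740, [4607, 12703, 12062]⟩)))) (.node (.node (.node (.leaf ⟨11, 612, 613, 0, 0, 0, 0, 93, 0, 0, []⟩) (.leaf ⟨7, 885, 3264, 0, 0, 0, 0, 93, 0, 0, []⟩)) (.node (.leaf ⟨5, 1965, 1953, 0, 0, 0, 0, 47, 0, 1953, [11463, 11511, 11512]⟩) (.leaf ⟨10, 3512, 4696,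 0, 0, 0, 0, 93, 0, 0, []⟩))) (.node (.node (.leaf ⟨0, 1190, 1213, 0, 0, 0, 0, 9, 0, 1213, [7371, 7417, 7300]⟩) (.leaf ⟨6, 3990, 3991, 0, 0, 0, 0, 93, 0, 0, []⟩)) (.node (.leaf ⟨10, 1777, 2621, 0, 0, 0, 0, 49, 5, 1777, [10619, 10213, 15604, 15606, 15608]⟩) (.leaf ⟨0, 0, 0, 0, 0, 0, 0, 0, 0, 0, []⟩)))))) (.node (.node (.node (.node (.node (.leaf ⟨7, 142, 142, 1, 0, 1, 0, 46, 3, 142, [741, 760, 740]⟩) (.leaf ⟨5, 2784, 2784, 1, 0, (-1), 0, 47, 0, 2784, [16885, 746, 16884]⟩)) (.node (.leaf ⟨4, 1586, 1579, 0, 0, 0, 0, 40, 0, 1579, [8919, 8952, 8942]⟩) (.leaf ⟨5, 4255, 4256, 0, 0, 0, 0, 93, 0, 0, []⟩))) (.node (.node (.leaf ⟨9, 775, 777, 0, 0, 0, 0, 63, 2, 774, [4850, 4849, 4854]⟩) (.leaf ⟨8, 3045, 3581, 0, 0, 0, 0, 93, 0, 0, []⟩)) (.node (.leaf ⟨6, 2255, 2256, 0, 0, 0,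 0, 93, 0, 0, []⟩) (.leaf ⟨11, 1556, 1556, 1, 0, 1, 0, 50, 3, 1556, [8773, 29432, 8772]⟩)))) (.node (.node (.node (.leaf ⟨4, 527, 527, 1, 0, (-1), 0, 39, 0, 527, [2763, 2808, 2762]⟩) (.leaf ⟨3, 3013, 3010, (-59), 0, 47, 0, 30, 4, 3012, [18280, 18360, 19183, 19191, 19193]⟩)) (.node (.leaf ⟨4, 1842, 1843, 0, 0, 0, 0, 93, 0, 0, []⟩) (.leaf ⟨2, 4618, 4618, (-1), 0, (-1), 0, 22, 2, 3571, [27364, 27384, 27364]⟩))) (.node (.node (.leaf ⟨10, 1106, 1107, 0, 0, 0, 0, 93, 0, 0, []⟩) (.leaf ⟨8, 3899, 3123, 0, 0, 0, 0, 47, 3, 3899, [23289, 23285, 18986]⟩)) (.node (.leaf ⟨4, 2505, 2517, 0, 0, 0, 0, 43, 2, 2260, [15036, 13059, 15088]⟩) (.leaf ⟨0, 0, 0, 0, 0, 0, 0, 0, 0, 0, []⟩))))) (.node (.node (.node (.node (.leaf ⟨7, 303, 304, 0, 0, 0, 0, 93, 0, 0, []⟩) (.leaf ⟨5, 2979, 2980,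 0, 0, 0, 0, 93, 0, 0, []⟩)) (.node (.leaf ⟨11, 1384, 1384, 1, 0, 1, 0, 59, 3, 1384, [8075, 9976, 8074]⟩) (.leaf ⟨7, 4446, 4451, 0, 0, 0, 0, 93, 0, 0, []⟩))) (.node (.node (.leaf ⟨4, 919, 923, 0, 0, 0, 0, 39, 0, 923, [5877, 5881, 5866]⟩) (.leaf ⟨3, 3712, 3712, 0, 0, 2, 0, 34, 2, 3743, [22104, 22264, 22104]⟩)) (.node (.leaf ⟨6, 611, 611, 1, 0, (-1), 0, 45, 5, 611, [3313, 3311, 4950, 3310, 3312]⟩) (.leaf ⟨0, 5080, 5076, 0, 0, 0, 0, 3, 0, 5076, [30439, 30455, 30456]⟩)))) (.node (.node (.node (.leaf ⟨2, 665, 671, 0, 0, 0, 0, 28, 0, 671, [3833, 3777, 3684]⟩) (.leaf ⟨7, 834, 3340, 0, 0, 0, 0, 93, 0, 0, []⟩)) (.node (.leaf ⟨10, 332, 2048, 0, 0, 0, 0, 93, 0, 0, []⟩) (.leaf ⟨5, 4781, 4777, 0, 0, 0, 0, 46, 2, 4780, [28408, 28407, 28396]⟩))) (.node (.node (.leaf ⟨7, 1348, 1347,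 0, 0, 0, 0, 40, 3, 1348, [7917, 7928, 7912]⟩) (.leaf ⟨9, 560, 560, (-1), 0, (-1), 0, 27, 3, 560, [3011, 24312, 3010]⟩)) (.node (.leaf ⟨5, 2695, 2695, 1, 0, (-1), 0, 38, 5, 2695, [16115, 10007, 14634, 10006, 16114]⟩) (.leaf ⟨0, 0, 0, 0, 0, 0, 0, 0, 0, 0, []⟩))))))

def factsPart126 : ATree TFact :=
  .node (.node (.node (.node (.node (.node (.leaf ⟨1, 26, 26, 1, 0, 1, 0, 14, 0, 26, [51, 250, 50]⟩) (.leaf ⟨6, 2741, 2741, (-1), 0, 1, 0, 45, 5, 2741, [16555, 16553, 16634, 16552, 16554]⟩)) (.node (.leaf ⟨11, 1460, 1455, 0, 0, 0, 0, 59, 3, 1460, [8435, 8442, 8420]⟩) (.leaf ⟨10, 3295, 4178, 0, 0, 0, 0, 65, 4, 191, [19932, 1331, 24096, 5366, 24824]⟩))) (.node (.node (.leaf ⟨11, 722, 713, (-1), 0, (-5), 0, 44, 1, 714, [4327, 4344, 4347]⟩) (.leaf ⟨8, 3453, 3450, 0, 0, 0, 0,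 41, 3, 3453, [20725, 20730, 20718]⟩)) (.node (.leaf ⟨9, 2159, 2038, 0, 0, 0, 0, 35, 3, 2159, [12539, 12108, 12006]⟩) (.leaf ⟨4, 4871, 4872, 0, 0, 0, 0, 93, 0, 0, []⟩)))) (.node (.node (.node (.leaf ⟨10, 428, 429, 0, 0, 0, 0, 93, 0, 0, []⟩) (.leaf ⟨5, 3089, 3089, 1, 0, 1, 0, 45, 0, 3089, [18665, 18673, 18682, 18672, 18664]⟩)) (.node (.leaf ⟨7, 514, 514, (-1), 0, 1, 0, 51, 5, 514, [2687, 2685, 10490, 2684, 2686]⟩) (.leaf ⟨6, 4340, 1956, 0, 0, 0, 0, 39, 3, 4340, [25733, 25731, 11468]⟩))) (.node (.node (.leaf ⟨8, 1013, 625, 0, 0, 0, 0, 47, 3, 1013, [6385, 6383, 3412]⟩) (.leaf ⟨10, 939, 3809, 0, 0, 0, 0, 93, 0, 0, []⟩)) (.node (.leaf ⟨2, 1551, 1532, 0, 0, 0, 0, 28, 2, 1550, [8754, 8753, 8642]⟩) (.leaf ⟨5, 5149, 5151, 0, 0, 0, 0, 46, 2, 399, [30966, 2175, 30970]⟩)))))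 (.node (.node (.node (.node (.leaf ⟨3, 181, 181, (-1), 0, (-1), 0, 34, 0, 181, [1223, 1274, 1222]⟩) (.leaf ⟨4, 2890, 2085, 0, 0, 0, 0, 39, 0, 2085, [12203, 17659, 17642]⟩)) (.node (.leaf ⟨3, 1546, 1546, (-1), 0, 1, 0, 36, 0, 1546, [8715, 9466, 8714]⟩) (.leaf ⟨11, 4363, 4343, 0, 0, 0, 0, 50, 3, 4363, [25851, 25849, 25744]⟩))) (.node (.node (.leaf ⟨3, 845, 398, 0, 0, 0, 0, 34, 0, 398, [2171, 3345, 5358]⟩) (.leaf ⟨9, 100, 100, (-1), 0, (-1), 0, 42, 3, 100, [429, 21754, 428]⟩)) (.node (.leaf ⟨5, 1669, 1160, 13, 0, 3, 0, 66, 4, 1716, [10100, 10123, 10443, 8986, 8938, 8992, 3084, 3075, 10496, 10498, 10524, 7139, 9477, 9462, 8694, 9609, 9617, 9635, 9646, 9656, 5398, 4309, 10452, 10458, 3413, 10522, 10518, 5395, 10514, 10510, 4275, 10509, 9891, 10506, 10502, 13520, 6649,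 6647, 1697, 9154, 7858, 9122, 1603, 9684, 9688, 9692, 13524, 9694, 13530, 2730, 13536, 13542, 2738, 3087, 13549, 13555, 13553, 13558, 13562, 10681, 8712, 9466, 9480]⟩) (.leaf ⟨1, 602, 3453, 65, 0, (-3), 0, 20, 0, 3453, [29265, 29946, 14092]⟩)))) (.node (.node (.node (.leaf ⟨5, 613, 608, 0, 0, 0, 0, 50, 0, 608, [3305, 3321, 3322]⟩) (.leaf ⟨5, 3264, 3261, 0, 0, 0, 0, 46, 2, 885, [19706, 5599, 19700]⟩)) (.node (.leaf ⟨7, 466, 1966, 0, 0, 0, 0, 93, 0, 0, []⟩) (.leaf ⟨5, 4696, 4697, 0, 0, 0, 0, 93, 0, 0, []⟩))) (.node (.node (.leaf ⟨0, 1191, 1214, 0, 0, 0, 0, 10, 0, 1214, [7373, 7419, 7302]⟩) (.leaf ⟨7, 3858, 3992, 0, 0, 0, 0, 93, 0, 0, []⟩)) (.node (.leaf ⟨4, 2410, 2621, 27, 0, (-1), 0, 43, 2, 1783, [13934, 10661, 15610]⟩) (.leaf ⟨0, 0, 0, 0, 0, 0, 0, 0, 0, 0, []⟩))))))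 (.node (.node (.node (.node (.node (.leaf ⟨10, 142, 144, 0, 0, 0, 0, 93, 0, 0, []⟩) (.leaf ⟨6, 2786, 2786, 1, 0, (-1), 0, 45, 5, 2786, [16899, 16886, 17146, 16887, 16898]⟩)) (.node (.leaf ⟨4, 1587, 1580, 0, 0, 0, 0, 39, 0, 1580, [8921, 8955, 8944]⟩) (.leaf ⟨4, 4256, 4257, 0, 0, 0, 0, 93, 0, 0, []⟩))) (.node (.node (.leaf ⟨9, 778, 776, 0, 0, 0, 0, 48, 3, 778, [4857, 4859, 4852]⟩) (.leaf ⟨5, 3581, 3582, 0, 0, 0, 0, 93, 0, 0, []⟩)) (.node (.leaf ⟨7, 2256, 2257, 0, 0, 0, 0, 93, 0, 0, []⟩) (.leaf ⟨10, 1653, 1653, 1, 0, 1, 0, 65, 4, 1652, [9618, 9615, 29434, 9614, 9618]⟩)))) (.node (.node (.node (.leaf ⟨3, 525, 445, 0, 0, 0, 0, 32, 0, 445, [2385, 2609, 2758]⟩) (.leaf ⟨2, 2987, 876, 0, 0, 0, 0, 26, 0, 876, [5571, 3595, 18184]⟩)) (.node (.leaf ⟨3, 1843, 1844, 0, 0, 0, 0,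 93, 0, 0, []⟩) (.leaf ⟨2, 4619, 4619, (-1), 0, 1, 0, 28, 2, 4618, [27372, 27386, 27372]⟩))) (.node (.node (.leaf ⟨0, 1107, 1057, 0, 0, 0, 0, 9, 0, 1057, [6663, 6905, 6906]⟩) (.leaf ⟨8, 3080, 3900, 0, 0, 0, 0, 93, 0, 0, []⟩)) (.node (.leaf ⟨4, 2518, 2506, 0, 0, 0, 0, 44, 0, 2506, [15041, 15098, 15090]⟩) (.leaf ⟨0, 0, 0, 0, 0, 0, 0, 0, 0, 0, []⟩))))) (.node (.node (.node (.node (.leaf ⟨2, 11, 305, 0, 0, 0, 0, 93, 0, 0, []⟩) (.leaf ⟨7, 2980, 2981, 0, 0, 0, 0, 93, 0, 0, []⟩)) (.node (.leaf ⟨11, 1385, 1385, 1, 0, (-1), 0, 55, 3, 1385, [8077, 9978, 8076]⟩) (.leaf ⟨6, 4451, 4452, 0, 0, 0, 0, 93, 0, 0, []⟩))) (.node (.node (.leaf ⟨5, 923, 924, 0, 0, 0, 0, 93, 0, 0, []⟩) (.leaf ⟨3, 3713, 3713, 0, 0, (-2), 0, 33, 2, 3712, [21796, 22266, 21796]⟩)) (.node (.leaf ⟨6, 612, 612,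 (-1), 0, 1, 0, 54, 0, 612, [3315, 14074, 3314]⟩) (.leaf ⟨7, 5080, 5081, 0, 0, 0, 0, 93, 0, 0, []⟩)))) (.node (.node (.node (.leaf ⟨6, 178, 178, 1, 0, 1, 0, 15, 3, 178, [1217, 1172, 1216]⟩) (.leaf ⟨10, 3314, 3340, 0, 0, 0, 0, 58, 3, 3314, [20027, 5340, 20218]⟩)) (.node (.leaf ⟨5, 2048, 2049, 0, 0, 0, 0, 93, 0, 0, []⟩) (.leaf ⟨6, 4781, 4782, 0, 0, 0, 0, 93, 0, 0, []⟩))) (.node (.node (.leaf ⟨6, 1317, 1348, 0, 0, 0, 0, 39, 3, 1317, [7759, 7741, 7916]⟩) (.leaf ⟨8, 4050, 4050, 1, 0, (-1), 0, 60, 0, 4050, [24269, 24309, 24314, 24308, 24268]⟩)) (.node (.leaf ⟨3, 1698, 1702, 0, 0, 0, 0, 31, 0, 1702, [10007, 14620, 9988]⟩) (.leaf ⟨0, 0, 0, 0, 0, 0, 0, 0, 0, 0, []⟩))))))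

def factsPart127 : ATree TFact :=
  .node (.node (.node (.node (.node (.node (.leaf ⟨1, 27, 27, (-1), 0, (-1), 0, 13, 0, 27, [53, 252, 52]⟩) (.leaf ⟨6, 2742, 2742, (-1), 0, (-1), 0, 39, 3, 2742, [16557, 16636, 16556]⟩)) (.node (.leaf ⟨11, 1461, 1456, 0, 0, 0, 0, 62, 3, 1461, [8437, 8444, 8424]⟩) (.leaf ⟨7, 2134, 4179, 0, 0, 0, 0, 93, 0, 0, []⟩))) (.node (.node (.leaf ⟨2, 306, 12, 0, 0, 0, 0, 28, 2, 305, [1790, 1789, 22]⟩) (.leaf ⟨8, 3446, 3451, (-27), 0, (-1), 0, 56, 3, 1738, [16108, 20706, 20727, 20732, 20720]⟩)) (.node (.leaf ⟨3, 2071, 2160, 0, 0, 0, 0, 93, 0, 0, []⟩) (.leaf ⟨9, 4866, 4872, 0, 0, 0, 0, 42, 3, 4866, [28895, 28922, 28924]⟩)))) (.node (.node (.node (.leaf ⟨11, 429, 430, 0, 0, 0, 0, 93, 0, 0, []⟩) (.leaf ⟨10, 3087, 3087, 1, 0, 1, 0, 49, 5, 3087, [18655,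 18669, 18684, 18668, 18654]⟩)) (.node (.leaf ⟨7, 515, 515, (-1), 0, (-1), 0, 46, 3, 515, [2689, 10492, 2688]⟩) (.leaf ⟨7, 4526, 4523, 0, 0, 0, 0, 51, 5, 4526, [26873, 11471, 26877, 25734, 26860]⟩))) (.node (.node (.leaf ⟨4, 1015, 1013, 21, 0, 1, 0, 41, 2, 618, [6394, 3424, 6397]⟩) (.leaf ⟨7, 3809, 3810, 0, 0, 0, 0, 93, 0, 0, []⟩)) (.node (.leaf ⟨10, 1530, 2449, 0, 0, 0, 0, 93, 0, 0, []⟩) (.leaf ⟨6, 5151, 5151, (-1), 0, (-1), 0, 51, 0, 5151, [30971, 2198, 21476, 2199, 30970]⟩))))) (.node (.node (.node (.node (.leaf ⟨2, 178, 178, 1, 0, 1, 0, 11, 5, 178, [1217, 917, 790, 916, 1216]⟩) (.leaf ⟨5, 2892, 2883, 0, 0, 0, 0, 38, 5, 2892, [17647, 17645, 17660, 17564, 17626]⟩)) (.node (.leaf ⟨3, 1533, 1099, 0, 0, 0, 0, 32, 0, 1099, [6875, 8851, 8644]⟩) (.leaf ⟨7, 4363, 4364,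 0, 0, 0, 0, 93, 0, 0, []⟩))) (.node (.node (.leaf ⟨3, 846, 399, 0, 0, 0, 0, 31, 0, 399, [2175, 5373, 5362]⟩) (.leaf ⟨9, 101, 101, (-1), 0, 1, 0, 57, 3, 101, [433, 21756, 432]⟩)) (.node (.leaf ⟨10, 1162, 2353, (-13), 0, 3, 0, 49, 3, 1160, [7144, 7158, 13565, 13510, 13512]⟩) (.leaf ⟨1, 2344, 1426, 0, 0, 0, 0, 19, 2, 1748, [13408, 10309, 8272]⟩)))) (.node (.node (.node (.leaf ⟨4, 609, 582, 0, 0, 0, 0, 40, 2, 351, [3308, 1915, 3124]⟩) (.leaf ⟨6, 3264, 3265, 0, 0, 0, 0, 93, 0, 0, []⟩)) (.node (.leaf ⟨9, 1966, 1945, 0, 0, 0, 0, 57, 3, 1966, [11517, 4696, 11430]⟩) (.leaf ⟨2, 4577, 4696, 0, 0, 0, 0, 28, 0, 4696, [27899, 27155, 27156]⟩))) (.node (.node (.leaf ⟨0, 1192, 1215, 0, 0, 0, 0, 4, 0, 1215, [7375, 7421, 7314]⟩) (.leaf ⟨6, 3992, 3993, 0, 0, 0, 0, 93, 0, 0, []⟩)) (.node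 (.leaf ⟨4, 2411, 2622, 0, 0, 0, 0, 93, 0, 0, []⟩) (.leaf ⟨0, 0, 0, 0, 0, 0, 0, 0, 0, 0, []⟩)))))) (.node (.node (.node (.node (.node (.leaf ⟨2, 123, 123, 1, 0, (-1), 0, 22, 0, 123, [515, 718, 514]⟩) (.leaf ⟨6, 2787, 2787, (-1), 0, 1, 0, 53, 0, 2787, [16901, 17148, 16900]⟩)) (.node (.leaf ⟨5, 1589, 1582, 0, 0, 0, 0, 38, 5, 1589, [8949, 8947, 8956, 8922, 8924]⟩) (.leaf ⟨10, 4257, 4258, 0, 0, 0, 0, 93, 0, 0, []⟩))) (.node (.node (.leaf ⟨10, 643, 779, 0, 0, 0, 0, 93, 0, 0, []⟩) (.leaf ⟨7, 424, 3583, 0, 0, 0, 0, 93, 0, 0, []⟩)) (.node (.leaf ⟨8, 704, 2258, 0, 0, 0, 0, 93, 0, 0, []⟩) (.leaf ⟨7, 1656, 1656, (-1), 0, (-1), 0, 46, 3, 1656, [9627, 29382, 9626]⟩)))) (.node (.node (.node (.leaf ⟨3, 526, 446, 0, 0, 0, 0, 33, 0, 446, [2387, 2813, 2760]⟩) (.leaf ⟨2, 2988, 877,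 0, 0, 0, 0, 23, 0, 877, [5573, 19197, 18186]⟩)) (.node (.leaf ⟨2, 1844, 1845, 0, 0, 0, 0, 93, 0, 0, []⟩) (.leaf ⟨7, 428, 4620, 0, 0, 0, 0, 93, 0, 0, []⟩))) (.node (.node (.leaf ⟨5, 1107, 1108, 0, 0, 0, 0, 93, 0, 0, []⟩) (.leaf ⟨5, 3900, 3901, 0, 0, 0, 0, 93, 0, 0, []⟩)) (.node (.leaf ⟨5, 2507, 2506, (-17), 0, (-1), 0, 38, 5, 2507, [15048, 15059, 15087, 15096, 15100]⟩) (.leaf ⟨0, 0, 0, 0, 0, 0, 0, 0, 0, 0, []⟩))))) (.node (.node (.node (.node (.leaf ⟨10, 305, 306, 0, 0, 0, 0, 93, 0, 0, []⟩) (.leaf ⟨6, 2981, 2982, 0, 0, 0, 0, 93, 0, 0, []⟩)) (.node (.leaf ⟨11, 1405, 1405, 1, 0, 1, 0, 50, 3, 1405, [8125, 9980, 8124]⟩) (.leaf ⟨2, 4449, 4451, 0, 0, 0, 0, 25, 0, 4451, [26363, 26305, 26354]⟩))) (.node (.node (.leaf ⟨11, 920, 920, 1, 0, (-1), 0, 44, 3, 920, [5871, 5444,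 5870]⟩) (.leaf ⟨8, 813, 3751, 0, 0, 0, 0, 93, 0, 0, []⟩)) (.node (.leaf ⟨6, 613, 613, 1, 0, (-1), 0, 55, 0, 613, [3323, 14076, 3322]⟩) (.leaf ⟨0, 5081, 5077, 0, 0, 0, 0, 6, 0, 5077, [30443, 30459, 30460]⟩)))) (.node (.node (.node (.leaf ⟨7, 180, 180, 1, 0, 1, 0, 51, 5, 180, [1221, 1219, 3836, 1218, 1220]⟩) (.leaf ⟨7, 959, 3341, 0, 0, 0, 0, 93, 0, 0, []⟩)) (.node (.leaf ⟨4, 2049, 2050, 0, 0, 0, 0, 93, 0, 0, []⟩) (.leaf ⟨5, 4782, 4783, 0, 0, 0, 0, 93, 0, 0, []⟩))) (.node (.node (.leaf ⟨6, 1318, 1346, 0, 0, 0, 0, 51, 0, 1346, [7911, 7914, 7931, 7933, 7760]⟩) (.leaf ⟨7, 4058, 4058, 1, 0, (-1), 0, 56, 4, 4051, [24300, 24273, 24316, 24272, 24300]⟩)) (.node (.leaf ⟨6, 1697, 1697, 1, 0, 1, 0, 54, 0, 1697, [9987, 9162, 9986]⟩) (.leaf ⟨0, 0, 0, 0, 0, 0, 0, 0, 0, 0, []⟩))))))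

end CfsgLib.Fi24Mult
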