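import Cfsg.Agent.Lib.Presented.Fi24Mult.Twist

/-! Generated enumeration facts (data). -/
set_option autoImplicit false
set_option maxRecDepth 20000

namespace CfsgLib.Fi24Mult

open CfsgLib.Presented

def factsPart128 : ATree TFact :=
  .node (.node (.node (.node (.node (.node (.leaf ⟨1, 28, 28, 1, 0, 1, 0, 19, 0, 28, [55, 254, 54]⟩) (.leaf ⟨6, 2743, 2743, 1, 0, 1, 0, 54, 0, 2743, [16559, 16638, 16558]⟩)) (.node (.leaf ⟨6, 246, 1462, 0, 0, 0, 0, 93, 0, 0, []⟩) (.leaf ⟨5, 3281, 4179, 0, 0, 0, 0, 46, 2, 2135, [19810, 12363, 24830]⟩))) (.node (.node (.leaf ⟨2, 703, 709, 0, 0, 0, 0, 25, 0, 709, [4285, 4350, 4272]⟩) (.leaf ⟨8, 3452, 3447, 27, 0, 1, 0, 52, 3, 3452, [20723, 20735, 20708]⟩)) (.node (.leaf ⟨1, 2159, 2160, 0, 0, 0, 0, 12, 0, 2160, [12543, 12133, 12538]⟩) (.leaf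 ⟨7, 4872, 4873, 0, 0, 0, 0, 93, 0, 0, []⟩)))) (.node (.node (.node (.leaf ⟨7, 430, 431, 0, 0, 0, 0, 93, 0, 0, []⟩) (.leaf ⟨7, 843, 3092, 0, 0, 0, 0, 93, 0, 0, []⟩)) (.node (.leaf ⟨7, 574, 574, (-1), 0, 1, 0, 40, 3, 574, [3073, 10494, 3072]⟩) (.leaf ⟨7, 4527, 4524, 0, 0, 0, 0, 46, 3, 4527, [26875, 26878, 26862]⟩))) (.node (.node (.leaf ⟨8, 716, 1016, 0, 0, 0, 0, 93, 0, 0, []⟩) (.leaf ⟨10, 3810, 3804, 0, 0, 0, 0, 58, 3, 3810, [22783, 22781, 22764]⟩)) (.node (.leaf ⟨3, 1532, 2449, 0, 0, 0, 0, 36, 2, 1531, [8642, 8641, 14590]⟩) (.leaf ⟨5, 5150, 5150, 1, 0, (-1), 0, 45, 0, 5150, [30969, 30972, 30974, 30973, 30968]⟩))))) (.node (.node (.node (.node (.leaf ⟨2, 179, 179, (-1), 0, (-1), 0, 25, 0, 179, [1219, 1278, 1218]⟩) (.leaf ⟨10, 2894, 2885, 0, 0, 0, 0, 49, 5, 2894, [17651,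 17649, 17662, 17628, 17632]⟩)) (.node (.leaf ⟨3, 1534, 1100, 0, 0, 0, 0, 33, 0, 1100, [6879, 9471, 8646]⟩) (.leaf ⟨11, 4361, 4364, 0, 0, 0, 0, 59, 3, 4361, [25841, 25853, 25854]⟩))) (.node (.node (.leaf ⟨3, 847, 848, 0, 0, 0, 0, 36, 0, 848, [5371, 5375, 5366]⟩) (.leaf ⟨9, 102, 102, (-1), 0, (-1), 0, 53, 3, 102, [437, 21758, 436]⟩)) (.node (.leaf ⟨6, 1156, 2358, 0, 0, 0, 0, 93, 0, 0, []⟩) (.leaf ⟨2, 3453, 2344, (-65), 0, (-3), 0, 11, 5, 3453, [29949, 4120, 13941, 14815, 29951]⟩)))) (.node (.node (.node (.leaf ⟨4, 583, 610, 0, 0, 0, 0, 39, 0, 610, [3311, 3326, 3126]⟩) (.leaf ⟨5, 3265, 3266, 0, 0, 0, 0, 93, 0, 0, []⟩)) (.node (.leaf ⟨10, 359, 1967, 0, 0, 0, 0, 93, 0, 0, []⟩) (.leaf ⟨2, 4695, 4697, 0, 0, 0, 0, 23, 0, 4697, [27901, 27903, 27886]⟩))) (.node (.node (.leaf ⟨0,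 1196, 1216, 0, 0, 0, 0, 5, 0, 1216, [7377, 7423, 7330]⟩) (.leaf ⟨8, 3854, 3994, 0, 0, 0, 0, 93, 0, 0, []⟩)) (.node (.leaf ⟨7, 2621, 2622, (-165), 0, 17, 0, 40, 3, 2621, [15613, 14229, 15614]⟩) (.leaf ⟨0, 0, 0, 0, 0, 0, 0, 0, 0, 0, []⟩)))))) (.node (.node (.node (.node (.node (.leaf ⟨2, 140, 140, (-1), 0, 1, 0, 25, 0, 140, [733, 766, 732]⟩) (.leaf ⟨10, 2787, 2810, 0, 0, 0, 0, 93, 0, 0, []⟩)) (.node (.leaf ⟨5, 1590, 1583, 0, 0, 0, 0, 31, 3, 1590, [8951, 8958, 8926]⟩) (.leaf ⟨5, 4258, 4259, 0, 0, 0, 0, 93, 0, 0, []⟩))) (.node (.node (.leaf ⟨5, 779, 780, 0, 0, 0, 0, 93, 0, 0, []⟩) (.leaf ⟨6, 3583, 3584, 0, 0, 0, 0, 93, 0, 0, []⟩)) (.node (.leaf ⟨5, 2258, 2259, 0, 0, 0, 0, 93, 0, 0, []⟩) (.leaf ⟨7, 1657, 1657, 1, 0, 1, 0, 58, 0, 1657, [9629, 29438, 9628]⟩)))) (.node (.node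 (.node (.leaf ⟨3, 527, 447, 0, 0, 0, 0, 32, 0, 447, [2389, 2815, 2762]⟩) (.leaf ⟨2, 2989, 878, 0, 0, 0, 0, 22, 0, 878, [5575, 19199, 18188]⟩)) (.node (.leaf ⟨1, 1845, 1846, 0, 0, 0, 0, 93, 0, 0, []⟩) (.leaf ⟨6, 4620, 4621, 0, 0, 0, 0, 93, 0, 0, []⟩))) (.node (.node (.leaf ⟨0, 1108, 1083, 0, 0, 0, 0, 4, 0, 1083, [6815, 6909, 6910]⟩) (.leaf ⟨10, 3901, 3902, 0, 0, 0, 0, 93, 0, 0, []⟩)) (.node (.leaf ⟨3, 2502, 2507, 0, 0, 0, 0, 36, 2, 2499, [15028, 15023, 15044]⟩) (.leaf ⟨0, 0, 0, 0, 0, 0, 0, 0, 0, 0, []⟩))))) (.node (.node (.node (.node (.leaf ⟨5, 306, 307, 0, 0, 0, 0, 93, 0, 0, []⟩) (.leaf ⟨5, 2982, 2983, 0, 0, 0, 0, 93, 0, 0, []⟩)) (.node (.leaf ⟨11, 1406, 1406, 1, 0, (-1), 0, 44, 3, 1406, [8127, 9982, 8126]⟩) (.leaf ⟨2, 4450, 4452, 0, 0, 0, 0, 24, 0, 4452, [26365, 26367,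 26356]⟩))) (.node (.node (.leaf ⟨11, 921, 921, 1, 0, 1, 0, 64, 3, 921, [5873, 5886, 5872]⟩) (.leaf ⟨5, 3751, 3752, 0, 0, 0, 0, 93, 0, 0, []⟩)) (.node (.leaf ⟨5, 790, 790, 1, 0, 1, 0, 50, 0, 790, [5009, 4264, 5008]⟩) (.leaf ⟨8, 5081, 5082, 0, 0, 0, 0, 93, 0, 0, []⟩)))) (.node (.node (.node (.leaf ⟨6, 184, 184, (-1), 0, (-1), 0, 45, 5, 184, [1229, 1221, 1256, 1220, 1228]⟩) (.leaf ⟨2, 3341, 3340, 0, 0, 0, 0, 25, 0, 3340, [20219, 6105, 20222]⟩)) (.node (.leaf ⟨7, 2050, 2051, 0, 0, 0, 0, 93, 0, 0, []⟩) (.leaf ⟨6, 4779, 4783, 0, 0, 0, 0, 45, 5, 4779, [28405, 28401, 28411, 28412, 28414]⟩))) (.node (.node (.leaf ⟨5, 1345, 1349, 0, 0, 0, 0, 93, 0, 0, []⟩) (.leaf ⟨6, 4057, 4057, (-1), 0, (-1), 0, 51, 0, 4057, [24297, 24302, 24318, 24303, 24296]⟩)) (.node (.leaf ⟨5, 1693, 2697,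 0, 0, 0, 0, 93, 0, 0, []⟩) (.leaf ⟨0, 0, 0, 0, 0, 0, 0, 0, 0, 0, []⟩))))))

def factsPart129 : ATree TFact :=
  .node (.node (.node (.node (.node (.node (.leaf ⟨1, 29, 29, (-1), 0, (-1), 0, 20, 0, 29, [57, 256, 56]⟩) (.leaf ⟨8, 166, 2752, 0, 0, 0, 0, 93, 0, 0, []⟩)) (.node (.leaf ⟨7, 1462, 1463, 0, 0, 0, 0, 93, 0, 0, []⟩) (.leaf ⟨6, 4179, 4179, (-1), 0, (-1), 0, 51, 0, 4179, [24831, 19844, 24066, 19845, 24830]⟩))) (.node (.node (.leaf ⟨2, 704, 710, 0, 0, 0, 0, 24, 0, 710, [4287, 4353, 4274]⟩) (.leaf ⟨9, 3448, 2560, 0, 0, 0, 0, 64, 0, 2560, [15307, 12052, 20714]⟩)) (.node (.leaf ⟨3, 2079, 2161, 0, 0, 0, 0, 93, 0, 0, []⟩) (.leaf ⟨9, 4867, 4873, 0, 0, 0, 0, 57, 3, 4867, [28897, 28926, 28928]⟩)))) (.node (.node (.node (.leaf ⟨2, 428, 423, 0, 0, 0, 0, 27, 2, 427, [2298, 2297,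 2280]⟩) (.leaf ⟨5, 3092, 955, 0, 0, 0, 0, 46, 0, 955, [6085, 5353, 18688]⟩)) (.node (.leaf ⟨6, 574, 1667, 0, 0, 0, 0, 39, 3, 574, [3073, 2692, 9774]⟩) (.leaf ⟨10, 4527, 4528, 0, 0, 0, 0, 93, 0, 0, []⟩))) (.node (.node (.leaf ⟨11, 175, 1016, 0, 0, 0, 0, 62, 3, 175, [1181, 4312, 6400]⟩) (.leaf ⟨6, 3810, 3811, 0, 0, 0, 0, 93, 0, 0, []⟩)) (.node (.leaf ⟨4, 2449, 1650, 0, 0, 0, 0, 43, 2, 1530, [14590, 8639, 9606]⟩) (.leaf ⟨0, 5149, 5149, 1, 0, 1, 0, 6, 0, 5149, [30967, 18578, 30966]⟩))))) (.node (.node (.node (.node (.leaf ⟨2, 180, 180, 1, 0, 1, 0, 24, 0, 180, [1221, 1280, 1220]⟩) (.leaf ⟨10, 2895, 2886, 0, 0, 0, 0, 54, 3, 2895, [17653, 17664, 17634]⟩)) (.node (.leaf ⟨3, 1535, 1101, 0, 0, 0, 0, 32, 0, 1101, [6883, 9473, 8648]⟩) (.leaf ⟨8, 4358, 4364, (-18), 0, 4, 0, 62, 2,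 4360, [25838, 25847, 25856]⟩))) (.node (.node (.leaf ⟨8, 399, 614, 0, 0, 0, 0, 47, 3, 399, [2175, 2171, 3336]⟩) (.leaf ⟨9, 664, 664, (-1), 0, 1, 0, 48, 3, 664, [3683, 21760, 3682]⟩)) (.node (.leaf ⟨2, 1768, 2359, 0, 0, 0, 0, 93, 0, 0, []⟩) (.leaf ⟨3, 3453, 3453, 1, 0, 1, 0, 30, 0, 3453, [20725, 14533, 14550, 14532, 20724]⟩)))) (.node (.node (.node (.leaf ⟨4, 611, 611, (-1), 0, (-1), 0, 38, 0, 611, [3313, 3329, 3140, 3328, 3312]⟩) (.leaf ⟨6, 3263, 3266, 0, 0, 0, 0, 45, 5, 3263, [19705, 19703, 19709, 19710, 19712]⟩)) (.node (.leaf ⟨8, 357, 502, 0, 0, 0, 0, 47, 3, 357, [1927, 1925, 2614]⟩) (.leaf ⟨3, 3514, 4696, 0, 0, 0, 0, 36, 2, 3513, [20968, 20967, 27898]⟩))) (.node (.node (.leaf ⟨0, 1197, 1217, 0, 0, 0, 0, 3, 0, 1217, [7379, 7425, 7332]⟩) (.leaf ⟨6, 3856, 3994, 0, 0,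 0, 0, 52, 2, 3855, [23034, 23033, 23808]⟩)) (.node (.leaf ⟨4, 1572, 2623, 0, 0, 0, 0, 93, 0, 0, []⟩) (.leaf ⟨0, 0, 0, 0, 0, 0, 0, 0, 0, 0, []⟩)))))) (.node (.node (.node (.node (.node (.leaf ⟨2, 141, 141, 1, 0, (-1), 0, 24, 0, 141, [735, 768, 734]⟩) (.leaf ⟨7, 2810, 2811, 0, 0, 0, 0, 93, 0, 0, []⟩)) (.node (.leaf ⟨7, 243, 1591, 0, 0, 0, 0, 93, 0, 0, []⟩) (.leaf ⟨6, 4259, 4260, 0, 0, 0, 0, 93, 0, 0, []⟩))) (.node (.node (.leaf ⟨7, 397, 397, 1, 0, (-1), 0, 51, 5, 397, [2167, 2163, 3176, 2162, 2166]⟩) (.leaf ⟨8, 3584, 3585, 0, 0, 0, 0, 93, 0, 0, []⟩)) (.node (.leaf ⟨4, 2259, 2260, 0, 0, 0, 0, 93, 0, 0, []⟩) (.leaf ⟨7, 1658, 1658, (-1), 0, (-1), 0, 59, 0, 1658, [9637, 29440, 9636]⟩)))) (.node (.node (.node (.leaf ⟨5, 447, 532, 0, 0, 0, 0, 93, 0, 0, []⟩) (.leaf ⟨2, 2990,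 881, 0, 0, 0, 0, 27, 0, 881, [5581, 19201, 18190]⟩)) (.node (.leaf ⟨7, 1846, 1847, 0, 0, 0, 0, 93, 0, 0, []⟩) (.leaf ⟨5, 4621, 4622, 0, 0, 0, 0, 93, 0, 0, []⟩))) (.node (.node (.leaf ⟨7, 1108, 1109, 0, 0, 0, 0, 93, 0, 0, []⟩) (.leaf ⟨8, 3901, 3081, 0, 0, 0, 0, 47, 3, 3901, [23295, 23293, 18624]⟩)) (.node (.leaf ⟨5, 2504, 2502, 17, 0, 1, 0, 31, 3, 2504, [15043, 15103, 15105]⟩) (.leaf ⟨0, 0, 0, 0, 0, 0, 0, 0, 0, 0, []⟩))))) (.node (.node (.node (.node (.leaf ⟨7, 307, 308, 0, 0, 0, 0, 93, 0, 0, []⟩) (.leaf ⟨4, 2983, 2984, 0, 0, 0, 0, 93, 0, 0, []⟩)) (.node (.leaf ⟨10, 1406, 1697, 0, 0, 0, 0, 93, 0, 0, []⟩) (.leaf ⟨11, 2642, 2642, 1, 0, (-1), 0, 62, 3, 2642, [15849, 4910, 15848]⟩))) (.node (.node (.leaf ⟨11, 922, 922, 1, 0, (-1), 0, 59, 3, 922, [5875, 5888, 5874]⟩) (.leaf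 ⟨4, 3752, 3753, 0, 0, 0, 0, 93, 0, 0, []⟩)) (.node (.leaf ⟨11, 695, 695, 1, 0, (-1), 0, 37, 3, 695, [4193, 9182, 4192]⟩) (.leaf ⟨0, 5082, 5078, 0, 0, 0, 0, 7, 0, 5078, [30447, 30463, 30464]⟩)))) (.node (.node (.node (.leaf ⟨7, 184, 184, 1, 0, (-1), 0, 46, 3, 184, [1229, 3838, 1228]⟩) (.leaf ⟨7, 409, 3342, 0, 0, 0, 0, 93, 0, 0, []⟩)) (.node (.leaf ⟨6, 2051, 2052, 0, 0, 0, 0, 93, 0, 0, []⟩) (.leaf ⟨11, 4478, 4784, 0, 0, 0, 0, 93, 0, 0, []⟩))) (.node (.node (.leaf ⟨7, 1349, 1350, 0, 0, 0, 0, 93, 0, 0, []⟩) (.leaf ⟨5, 4056, 4056, 1, 0, (-1), 0, 45, 0, 4056, [24293, 24298, 24320, 24299, 24292]⟩)) (.node (.leaf ⟨7, 1722, 2697, 0, 0, 0, 0, 46, 3, 1722, [10143, 9960, 16128]⟩) (.leaf ⟨0, 0, 0, 0, 0, 0, 0, 0, 0, 0, []⟩))))))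

def factsPart130 : ATree TFact :=
  .node (.node (.node (.node (.node (.node (.leaf ⟨1, 30, 30, 1, 0, 1, 0, 14, 0, 30, [59, 258, 58]⟩) (.leaf ⟨6, 2734, 2752, 0, 0, 0, 0, 52, 2, 167, [16540, 967, 16642]⟩)) (.node (.leaf ⟨6, 1463, 1464, 0, 0, 0, 0, 93, 0, 0, []⟩) (.leaf ⟨5, 3282, 3282, 1, 0, (-1), 0, 45, 0, 3282, [19815, 24832, 24834, 24833, 19814]⟩))) (.node (.node (.leaf ⟨2, 705, 711, 0, 0, 0, 0, 23, 0, 711, [4289, 4355, 4276]⟩) (.leaf ⟨9, 3449, 3395, 0, 0, 0, 0, 48, 3, 3449, [20717, 20738, 20516]⟩)) (.node (.leaf ⟨3, 2081, 2162, 0, 0, 0, 0, 93, 0, 0, []⟩) (.leaf ⟨0, 3433, 4873, (-27), 0, 1, 0, 8, 2, 3446, [20710, 28909, 28930]⟩)))) (.node (.node (.node (.leaf ⟨2, 424, 429, 0, 0, 0, 0, 28, 0, 429, [2301, 2306, 2282]⟩) (.leaf ⟨3, 3092, 3092, 1, 0, 11, 0, 33, 2, 843,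 [18688, 5424, 18688]⟩)) (.node (.leaf ⟨4, 1050, 308, (-35), 0, 7, 0, 13, 3, 1050, [8884, 9367, 6273]⟩) (.leaf ⟨7, 4528, 4525, 0, 0, 0, 0, 58, 0, 4525, [26869, 26881, 26882]⟩))) (.node (.node (.leaf ⟨5, 1016, 1017, 0, 0, 0, 0, 93, 0, 0, []⟩) (.leaf ⟨10, 3806, 3811, 0, 0, 0, 0, 54, 3, 3806, [22773, 22785, 22786]⟩)) (.node (.leaf ⟨10, 207, 207, (-1), 0, (-1), 0, 58, 3, 207, [1497, 8698, 1496]⟩) (.leaf ⟨0, 5150, 5150, (-1), 0, (-1), 0, 5, 0, 5150, [30969, 30978, 30968]⟩))))) (.node (.node (.node (.node (.leaf ⟨2, 181, 181, (-1), 0, (-1), 0, 26, 0, 181, [1223, 1282, 1222]⟩) (.leaf ⟨10, 2896, 2887, 0, 0, 0, 0, 58, 3, 2896, [17655, 17666, 17636]⟩)) (.node (.leaf ⟨3, 1536, 1157, 0, 0, 0, 0, 31, 0, 1157, [7137, 9475, 8650]⟩) (.leaf ⟨10, 4364, 4349, 14, 0, 14, 0, 61, 1, 4345,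 [25827, 25858, 25771]⟩))) (.node (.node (.leaf ⟨8, 615, 848, 0, 0, 0, 0, 61, 0, 848, [5371, 5378, 3338]⟩) (.leaf ⟨8, 369, 369, 1, 0, 1, 0, 60, 0, 369, [1991, 21748, 21762, 21749, 1990]⟩)) (.node (.leaf ⟨10, 2359, 2360, 0, 0, 0, 0, 93, 0, 0, []⟩) (.leaf ⟨7, 2448, 2448, (-1), 0, (-1), 0, 59, 0, 2448, [14579, 29148, 14578]⟩)))) (.node (.node (.node (.leaf ⟨4, 612, 612, 1, 0, 1, 0, 43, 0, 612, [3315, 3330, 3314]⟩) (.leaf ⟨10, 940, 3267, 0, 0, 0, 0, 93, 0, 0, []⟩)) (.node (.leaf ⟨8, 685, 358, 0, 0, 0, 0, 41, 3, 685, [4141, 11523, 1928]⟩) (.leaf ⟨3, 4697, 4275, 0, 0, 0, 0, 31, 0, 4275, [25395, 27906, 27900]⟩))) (.node (.node (.leaf ⟨0, 1200, 1218, 0, 0, 0, 0, 4, 0, 1218, [7381, 7427, 7342]⟩) (.leaf ⟨8, 3985, 3995, 0, 0, 0, 0, 93, 0, 0, []⟩)) (.node (.leaf ⟨6, 2622, 2623, 0,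 0, 0, 0, 39, 3, 2622, [15615, 13937, 15618]⟩) (.leaf ⟨0, 0, 0, 0, 0, 0, 0, 0, 0, 0, []⟩)))))) (.node (.node (.node (.node (.node (.leaf ⟨2, 142, 142, (-1), 0, 1, 0, 23, 0, 142, [741, 770, 740]⟩) (.leaf ⟨10, 2811, 2788, 0, 0, 0, 0, 58, 3, 2811, [17155, 17153, 16902]⟩)) (.node (.leaf ⟨6, 1591, 1592, 0, 0, 0, 0, 93, 0, 0, []⟩) (.leaf ⟨7, 4260, 4261, 0, 0, 0, 0, 93, 0, 0, []⟩))) (.node (.node (.leaf ⟨11, 584, 150, 0, 0, 0, 0, 59, 3, 584, [3133, 1911, 846]⟩) (.leaf ⟨5, 3585, 3586, 0, 0, 0, 0, 93, 0, 0, []⟩)) (.node (.leaf ⟨3, 2260, 2261, 0, 0, 0, 0, 93, 0, 0, []⟩) (.leaf ⟨6, 1656, 1656, 1, 0, (-1), 0, 45, 5, 1656, [9627, 9625, 29384, 9624, 9626]⟩)))) (.node (.node (.node (.leaf ⟨10, 532, 533, 0, 0, 0, 0, 93, 0, 0, []⟩) (.leaf ⟨2, 2991, 882, 0, 0, 0, 0, 28, 0, 882, [5583,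 19203, 18192]⟩)) (.node (.leaf ⟨5, 1763, 1848, 0, 0, 0, 0, 93, 0, 0, []⟩) (.leaf ⟨4, 4622, 4623, 0, 0, 0, 0, 93, 0, 0, []⟩))) (.node (.node (.leaf ⟨0, 1109, 1084, 0, 0, 0, 0, 6, 0, 1084, [6817, 6913, 6914]⟩) (.leaf ⟨8, 3082, 3902, 0, 0, 0, 0, 61, 0, 3902, [23297, 23298, 18628]⟩)) (.node (.leaf ⟨9, 2280, 2503, 0, 0, 0, 0, 63, 2, 2279, [13128, 13125, 15032]⟩) (.leaf ⟨0, 0, 0, 0, 0, 0, 0, 0, 0, 0, []⟩))))) (.node (.node (.node (.node (.leaf ⟨6, 308, 309, 0, 0, 0, 0, 93, 0, 0, []⟩) (.leaf ⟨3, 2984, 2985, 0, 0, 0, 0, 93, 0, 0, []⟩)) (.node (.leaf ⟨5, 1697, 1698, 0, 0, 0, 0, 93, 0, 0, []⟩) (.leaf ⟨11, 2643, 2643, 1, 0, 1, 0, 50, 3, 2643, [15851, 26370, 15850]⟩))) (.node (.node (.leaf ⟨11, 923, 923, 1, 0, 1, 0, 55, 3, 923, [5877, 5890, 5876]⟩) (.leaf ⟨7, 3753, 3754, 0, 0, 0,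 0, 93, 0, 0, []⟩)) (.node (.leaf ⟨11, 698, 698, 1, 0, 1, 0, 29, 3, 698, [4229, 14082, 4228]⟩) (.leaf ⟨5, 5053, 5082, (-104), 0, (-36), 0, 4, 3, 5053, [30357, 30451, 30467]⟩)))) (.node (.node (.node (.leaf ⟨2, 185, 185, 1, 0, 7, 0, 11, 5, 185, [1239, 1153, 798, 1152, 1238]⟩) (.leaf ⟨3, 3341, 3342, 0, 0, 0, 0, 33, 0, 3342, [20227, 6127, 20222]⟩)) (.node (.leaf ⟨8, 2052, 2053, 0, 0, 0, 0, 93, 0, 0, []⟩) (.leaf ⟨7, 4784, 4785, 0, 0, 0, 0, 93, 0, 0, []⟩))) (.node (.node (.leaf ⟨5, 1350, 1346, 0, 0, 0, 0, 46, 2, 1349, [7938, 7937, 7910]⟩) (.leaf ⟨10, 4050, 4059, 0, 0, 0, 0, 93, 0, 0, []⟩)) (.node (.leaf ⟨10, 763, 2697, (-7), 0, (-9), 0, 58, 3, 763, [10137, 10147, 16130]⟩) (.leaf ⟨0, 0, 0, 0, 0, 0, 0, 0, 0, 0, []⟩))))))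

def factsPart131 : ATree TFact :=
  .node (.node (.node (.node (.node (.node (.leaf ⟨1, 31, 31, (-1), 0, (-1), 0, 19, 0, 31, [61, 260, 60]⟩) (.leaf ⟨5, 2752, 2752, 1, 0, 1, 0, 47, 0, 2752, [16643, 1064, 16642]⟩)) (.node (.leaf ⟨8, 1464, 1465, 0, 0, 0, 0, 93, 0, 0, []⟩) (.leaf ⟨4, 3279, 3279, (-1), 0, 1, 0, 38, 2, 3282, [24836, 19817, 19786, 19817, 19786]⟩))) (.node (.node (.leaf ⟨2, 706, 712, 0, 0, 0, 0, 22, 0, 712, [4291, 4357, 4278]⟩) (.leaf ⟨9, 3450, 3396, 0, 0, 0, 0, 42, 3, 3450, [20719, 20740, 20518]⟩)) (.node (.leaf ⟨9, 2161, 2162, 0, 0, 0, 0, 35, 3, 2161, [12547, 12174, 12548]⟩) (.leaf ⟨0, 1220, 4874, 0, 0, 0, 0, 93, 0, 0, []⟩)))) (.node (.node (.node (.leaf ⟨2, 425, 430, 0, 0, 0, 0, 29, 0, 430, [2303, 2309, 2284]⟩) (.leaf ⟨4, 843, 843, 1, 0, (-1), 0, 43, 0,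 843, [5351, 5834, 5350]⟩)) (.node (.leaf ⟨2, 1672, 1050, 35, 0, 7, 0, 22, 2, 14, [9891, 4800, 10501]⟩) (.leaf ⟨10, 4212, 4529, 0, 0, 0, 0, 93, 0, 0, []⟩))) (.node (.node (.leaf ⟨11, 176, 1017, 0, 0, 0, 0, 50, 3, 176, [1183, 6402, 6404]⟩) (.leaf ⟨8, 3811, 3812, 0, 0, 0, 0, 93, 0, 0, []⟩)) (.node (.leaf ⟨10, 208, 208, (-1), 0, 1, 0, 54, 3, 208, [1499, 14596, 1498]⟩) (.leaf ⟨7, 1017, 5152, 0, 0, 0, 0, 93, 0, 0, []⟩))))) (.node (.node (.node (.node (.leaf ⟨10, 178, 178, 1, 0, 1, 0, 19, 3, 178, [1217, 1098, 1216]⟩) (.leaf ⟨2, 2560, 2888, 0, 0, 0, 0, 29, 0, 2888, [17639, 12571, 15306]⟩)) (.node (.leaf ⟨4, 1538, 1159, 0, 0, 0, 0, 30, 5, 1538, [8655, 8653, 9476, 7138, 7140]⟩) (.leaf ⟨11, 2647, 4365, 0, 0, 0, 0, 93, 0, 0, []⟩))) (.node (.node (.leaf ⟨4, 614, 849, 0, 0, 0, 0,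 93, 0, 0, []⟩) (.leaf ⟨8, 370, 370, (-1), 0, (-1), 0, 61, 0, 370, [1993, 21764, 1992]⟩)) (.node (.leaf ⟨5, 2360, 2361, 0, 0, 0, 0, 93, 0, 0, []⟩) (.leaf ⟨11, 1583, 1583, 1, 0, (-1), 0, 37, 3, 1583, [8927, 14562, 8926]⟩)))) (.node (.node (.node (.leaf ⟨4, 613, 613, (-1), 0, (-1), 0, 44, 0, 613, [3323, 3332, 3322]⟩) (.leaf ⟨7, 3267, 3268, 0, 0, 0, 0, 93, 0, 0, []⟩)) (.node (.leaf ⟨8, 695, 359, 0, 0, 0, 0, 34, 3, 695, [4193, 11524, 1930]⟩) (.leaf ⟨4, 4275, 4698, 0, 0, 0, 0, 93, 0, 0, []⟩))) (.node (.node (.leaf ⟨0, 1201, 1219, 0, 0, 0, 0, 6, 0, 1219, [7383, 7429, 7344]⟩) (.leaf ⟨5, 2724, 3983, 0, 0, 0, 0, 31, 3, 2724, [16489, 19116, 23772]⟩)) (.node (.leaf ⟨5, 2062, 2623, 0, 0, 0, 0, 38, 5, 2062, [12071, 10103, 10656, 8878, 15618]⟩) (.leaf ⟨0, 0, 0, 0, 0, 0, 0, 0, 0, 0,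 []⟩)))))) (.node (.node (.node (.node (.node (.leaf ⟨2, 144, 144, 1, 0, (-1), 0, 28, 0, 144, [765, 772, 764]⟩) (.leaf ⟨2, 2810, 2810, 1, 0, (-1), 0, 28, 0, 2810, [17153, 16986, 17152]⟩)) (.node (.leaf ⟨10, 1586, 1591, 0, 0, 0, 0, 58, 3, 1586, [8943, 8941, 8962]⟩) (.leaf ⟨8, 4261, 4262, 0, 0, 0, 0, 93, 0, 0, []⟩))) (.node (.node (.leaf ⟨7, 70, 781, 0, 0, 0, 0, 93, 0, 0, []⟩) (.leaf ⟨11, 426, 3583, 0, 0, 0, 0, 59, 3, 426, [2287, 2285, 21246]⟩)) (.node (.leaf ⟨2, 2261, 2262, 0, 0, 0, 0, 93, 0, 0, []⟩) (.leaf ⟨6, 1657, 1657, (-1), 0, 1, 0, 54, 0, 1657, [9629, 29444, 9628]⟩)))) (.node (.node (.node (.leaf ⟨7, 447, 434, 0, 0, 0, 0, 51, 3, 445, [2386, 2388, 2385, 2338, 2340]⟩) (.leaf ⟨2, 2992, 898, 0, 0, 0, 0, 23, 0, 898, [5719, 19205, 18194]⟩)) (.node (.leaf ⟨4, 1848, 1849,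 0, 0, 0, 0, 93, 0, 0, []⟩) (.leaf ⟨10, 4623, 4624, 0, 0, 0, 0, 93, 0, 0, []⟩))) (.node (.node (.leaf ⟨6, 1109, 1110, 0, 0, 0, 0, 93, 0, 0, []⟩) (.leaf ⟨4, 3899, 3902, 38, 0, (-10), 0, 41, 2, 3123, [23291, 18997, 23300]⟩)) (.node (.leaf ⟨9, 2504, 2281, 0, 0, 0, 0, 64, 0, 2281, [13133, 15108, 15034]⟩) (.leaf ⟨0, 0, 0, 0, 0, 0, 0, 0, 0, 0, []⟩))))) (.node (.node (.node (.node (.leaf ⟨8, 309, 310, 0, 0, 0, 0, 93, 0, 0, []⟩) (.leaf ⟨2, 2985, 2986, 0, 0, 0, 0, 93, 0, 0, []⟩)) (.node (.leaf ⟨11, 1576, 1699, 0, 0, 0, 0, 93, 0, 0, []⟩) (.leaf ⟨11, 2644, 2644, 1, 0, (-1), 0, 44, 3, 2644, [15853, 26372, 15852]⟩))) (.node (.node (.leaf ⟨11, 924, 924, 1, 0, (-1), 0, 50, 3, 924, [5885, 5892, 5884]⟩) (.leaf ⟨2, 3710, 3751, 0, 0, 0, 0, 26, 0, 3751, [22271, 22227, 21790]⟩)) (.node (.leaf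 ⟨5, 698, 698, (-1), 0, 1, 0, 23, 3, 698, [4229, 5060, 4228]⟩) (.leaf ⟨8, 4516, 5083, 0, 0, 0, 0, 93, 0, 0, []⟩)))) (.node (.node (.node (.leaf ⟨3, 185, 185, (-1), 0, 1, 0, 30, 0, 185, [1237, 3703, 3698, 3702, 1236]⟩) (.leaf ⟨4, 3342, 3342, 1, 0, 1, 0, 40, 0, 3342, [20227, 6146, 20226]⟩)) (.node (.leaf ⟨5, 2053, 2054, 0, 0, 0, 0, 93, 0, 0, []⟩) (.leaf ⟨6, 4785, 4786, 0, 0, 0, 0, 93, 0, 0, []⟩))) (.node (.node (.leaf ⟨6, 1297, 1350, (-13), 0, 21, 0, 45, 3, 1298, [7707, 7692, 7895, 7934, 7941]⟩) (.leaf ⟨7, 4059, 4060, 0, 0, 0, 0, 93, 0, 0, []⟩)) (.node (.leaf ⟨11, 1695, 2697, 0, 0, 0, 0, 50, 3, 1695, [9957, 9951, 16128]⟩) (.leaf ⟨0, 0, 0, 0, 0, 0, 0, 0, 0, 0, []⟩))))))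

def factsPart132 : ATree TFact :=
  .node (.node (.node (.node (.node (.node (.leaf ⟨1, 32, 32, 1, 0, 1, 0, 16, 0, 32, [63, 262, 62]⟩) (.leaf ⟨6, 2735, 2735, 1, 0, 1, 0, 45, 5, 2735, [16543, 16644, 16646, 16645, 16542]⟩)) (.node (.leaf ⟨5, 1465, 1466, 0, 0, 0, 0, 93, 0, 0, []⟩) (.leaf ⟨3, 3300, 3300, (-1), 0, 1, 0, 30, 4, 3298, [19952, 19946, 24838, 19947, 19952]⟩))) (.node (.node (.leaf ⟨2, 707, 713, 0, 0, 0, 0, 28, 0, 713, [4293, 4359, 4280]⟩) (.leaf ⟨9, 3451, 3397, 0, 0, 0, 0, 57, 3, 3451, [20721, 20742, 20520]⟩)) (.node (.leaf ⟨8, 2162, 2089, 0, 0, 0, 0, 34, 3, 2162, [12549, 12180, 12236]⟩) (.leaf ⟨10, 4874, 4875, 0, 0, 0, 0, 93, 0, 0, []⟩)))) (.node (.node (.node (.leaf ⟨2, 426, 431, 0, 0, 0, 0, 25, 0, 431, [2305, 2311, 2286]⟩) (.leaf ⟨4, 3092, 3092, (-1), 0, 1,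 0, 40, 0, 3092, [18689, 18694, 18688]⟩)) (.node (.leaf ⟨3, 1671, 1671, 1, 0, 1, 0, 30, 0, 1671, [9787, 8851, 8734, 8850, 9786]⟩) (.leaf ⟨8, 4526, 4211, 0, 0, 0, 0, 52, 3, 4526, [26873, 11488, 25064]⟩))) (.node (.node (.leaf ⟨10, 1017, 1018, 0, 0, 0, 0, 93, 0, 0, []⟩) (.leaf ⟨10, 3807, 3812, 0, 0, 0, 0, 61, 3, 3807, [22775, 22788, 22790]⟩)) (.node (.leaf ⟨5, 1650, 1650, (-1), 0, 1, 0, 49, 4, 1529, [9606, 8637, 14598, 8636, 9606]⟩) (.leaf ⟨1, 5152, 5149, 0, 0, 0, 0, 16, 0, 5149, [30967, 22333, 30982]⟩))))) (.node (.node (.node (.node (.leaf ⟨10, 179, 179, 1, 0, (-1), 0, 58, 3, 179, [1219, 1286, 1218]⟩) (.leaf ⟨2, 2561, 2889, 0, 0, 0, 0, 25, 0, 2889, [17641, 17671, 15308]⟩)) (.node (.leaf ⟨4, 1545, 1160, 0, 0, 0, 0, 22, 3, 1545, [8713, 9478, 7142]⟩) (.leaf ⟨9, 2647, 4342,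 0, 0, 0, 0, 63, 2, 2646, [15858, 15857, 25742]⟩))) (.node (.node (.leaf ⟨10, 849, 850, 0, 0, 0, 0, 93, 0, 0, []⟩) (.leaf ⟨8, 371, 371, 1, 0, 1, 0, 62, 0, 371, [1995, 21766, 1994]⟩)) (.node (.leaf ⟨6, 2361, 2362, 0, 0, 0, 0, 93, 0, 0, []⟩) (.leaf ⟨10, 2448, 2448, 1, 0, (-1), 0, 65, 4, 1584, [14578, 8937, 29958, 8936, 14578]⟩)))) (.node (.node (.node (.leaf ⟨5, 397, 614, 0, 0, 0, 0, 93, 0, 0, []⟩) (.leaf ⟨6, 3268, 3269, 0, 0, 0, 0, 93, 0, 0, []⟩)) (.node (.leaf ⟨8, 697, 1967, 0, 0, 0, 0, 61, 0, 1967, [11521, 11527, 4224]⟩) (.leaf ⟨4, 3514, 3514, 1, 0, 1, 0, 43, 0, 3514, [20969, 27136, 20968]⟩))) (.node (.node (.leaf ⟨1, 1202, 1220, 0, 0, 0, 0, 93, 0, 0, []⟩) (.leaf ⟨5, 3853, 3984, 0, 0, 0, 0, 48, 0, 3984, [23775, 23815, 23028]⟩)) (.node (.leaf ⟨2, 1715, 1715, 1, 0, 1,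 0, 23, 0, 1715, [10083, 14230, 10082]⟩) (.leaf ⟨0, 0, 0, 0, 0, 0, 0, 0, 0, 0, []⟩)))))) (.node (.node (.node (.node (.node (.leaf ⟨3, 125, 140, 0, 0, 0, 0, 33, 2, 124, [518, 517, 732]⟩) (.leaf ⟨2, 2811, 2811, (-1), 0, 1, 0, 25, 0, 2811, [17155, 17158, 17154]⟩)) (.node (.leaf ⟨10, 1592, 1587, 0, 0, 0, 0, 54, 3, 1592, [8965, 8967, 8944]⟩) (.leaf ⟨5, 4252, 4263, 0, 0, 0, 0, 93, 0, 0, []⟩))) (.node (.node (.leaf ⟨10, 150, 781, 0, 0, 0, 0, 58, 3, 150, [847, 421, 4870]⟩) (.leaf ⟨11, 3584, 3045, 0, 0, 0, 0, 55, 3, 3584, [21249, 21255, 18398]⟩)) (.node (.leaf ⟨9, 2262, 2263, 0, 0, 0, 0, 93, 0, 0, []⟩) (.leaf ⟨6, 1658, 1658, 1, 0, (-1), 0, 55, 0, 1658, [9637, 29446, 9636]⟩)))) (.node (.node (.node (.leaf ⟨7, 459, 532, 0, 0, 0, 0, 46, 3, 459, [2419, 2823, 2818]⟩) (.leaf ⟨2, 2993,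 899, 0, 0, 0, 0, 25, 0, 899, [5721, 19207, 18196]⟩)) (.node (.leaf ⟨3, 1849, 1850, 0, 0, 0, 0, 93, 0, 0, []⟩) (.leaf ⟨5, 4624, 4625, 0, 0, 0, 0, 93, 0, 0, []⟩))) (.node (.node (.leaf ⟨0, 1110, 1085, 0, 0, 0, 0, 5, 0, 1085, [6819, 6917, 6918]⟩) (.leaf ⟨10, 3661, 3903, 0, 0, 0, 0, 93, 0, 0, []⟩)) (.node (.leaf ⟨5, 2281, 2501, 17, 0, (-1), 0, 48, 0, 2501, [15030, 15107, 15110]⟩) (.leaf ⟨0, 0, 0, 0, 0, 0, 0, 0, 0, 0, []⟩))))) (.node (.node (.node (.node (.leaf ⟨5, 310, 311, 0, 0, 0, 0, 93, 0, 0, []⟩) (.leaf ⟨8, 527, 2987, 0, 0, 0, 0, 93, 0, 0, []⟩)) (.node (.leaf ⟨3, 766, 1699, 0, 0, 0, 0, 37, 0, 1699, [9991, 8992, 4772]⟩) (.leaf ⟨11, 2645, 2645, 1, 0, 1, 0, 37, 3, 2645, [15855, 26374, 15854]⟩))) (.node (.node (.leaf ⟨10, 924, 925, 0, 0, 0, 0, 93, 0, 0, []⟩) (.leaf ⟨2, 3711,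 3752, 0, 0, 0, 0, 23, 0, 3752, [22273, 22279, 21792]⟩)) (.node (.leaf ⟨6, 596, 596, (-1), 0, 1, 0, 24, 3, 596, [3243, 9386, 3242]⟩) (.leaf ⟨9, 2680, 4350, 0, 0, 0, 0, 63, 2, 2679, [16036, 16031, 25772]⟩)))) (.node (.node (.node (.leaf ⟨2, 105, 105, 35, 0, 1, 0, 66, 43, 86, [1390, 3788, 379, 374, 3790, 3792, 3794, 3674, 3673, 3747, 3818, 3745, 329, 327, 850, 854, 852, 424, 428, 448, 3826, 1378, 415, 402, 3774, 3828, 3830, 3832, 3835, 3704, 1322, 1229, 1221, 1219, 1286, 1278, 1270, 1262, 1254, 3836, 1218, 1288, 1280, 1272, 1264, 1256, 1220, 3838, 1290, 1282, 1274, 1266, 1228, 3840, 3842, 1240, 3844, 3846, 1237, 467, 453, 451, 872]⟩) (.leaf ⟨7, 410, 3343, 0, 0, 0, 0, 93, 0, 0, []⟩)) (.node (.leaf ⟨4, 2054, 2055, 0, 0, 0, 0, 93, 0, 0, []⟩) (.leaf ⟨5, 4786, 4787, 0, 0, 0,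 0, 93, 0, 0, []⟩))) (.node (.node (.leaf ⟨1, 1350, 1283, 13, 0, 21, 0, 15, 0, 1283, [7681, 7702, 7942]⟩) (.leaf ⟨10, 4060, 4051, 0, 0, 0, 0, 58, 3, 4060, [24327, 24325, 24272]⟩)) (.node (.leaf ⟨6, 1690, 1690, 1, 0, (-1), 0, 55, 0, 1690, [9913, 13440, 9912]⟩) (.leaf ⟨0, 0, 0, 0, 0, 0, 0, 0, 0, 0, []⟩))))))

def factsPart133 : ATree TFact :=
  .node (.node (.node (.node (.node (.node (.leaf ⟨1, 33, 33, (-1), 0, (-1), 0, 15, 0, 33, [65, 264, 64]⟩) (.leaf ⟨6, 2736, 2736, (-1), 0, (-1), 0, 53, 0, 2736, [16545, 16648, 16544]⟩)) (.node (.leaf ⟨4, 1466, 1467, 0, 0, 0, 0, 93, 0, 0, []⟩) (.leaf ⟨6, 926, 926, 1, 0, 1, 0, 32, 3, 926, [5923, 5912, 5922]⟩))) (.node (.node (.leaf ⟨2, 722, 708, (-1), 0, (-5), 0, 29, 2, 713, [4349, 4361, 4282]⟩) (.leaf ⟨9, 3452, 3398, 0, 0, 0, 0, 53,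 3, 3452, [20723, 20744, 20522]⟩)) (.node (.leaf ⟨3, 2074, 2163, 0, 0, 0, 0, 93, 0, 0, []⟩) (.leaf ⟨7, 4875, 4876, 0, 0, 0, 0, 93, 0, 0, []⟩)))) (.node (.node (.node (.leaf ⟨11, 406, 406, 1, 0, 1, 0, 65, 5, 406, [2221, 2161, 872, 2160, 2220]⟩) (.leaf ⟨7, 910, 3093, 0, 0, 0, 0, 93, 0, 0, []⟩)) (.node (.leaf ⟨3, 1672, 1672, (-1), 0, (-1), 0, 33, 0, 1672, [9789, 10504, 9788]⟩) (.leaf ⟨8, 4527, 4212, 0, 0, 0, 0, 47, 3, 4527, [26875, 26888, 25070]⟩))) (.node (.node (.leaf ⟨11, 1018, 1019, 0, 0, 0, 0, 93, 0, 0, []⟩) (.leaf ⟨7, 3812, 3813, 0, 0, 0, 0, 93, 0, 0, []⟩)) (.node (.leaf ⟨7, 1555, 1555, 1, 0, (-1), 0, 51, 5, 1555, [8771, 8769, 8668, 8768, 8770]⟩) (.leaf ⟨6, 5152, 5153, 0, 0, 0, 0, 93, 0, 0, []⟩))))) (.node (.node (.node (.node (.leaf ⟨10, 180, 180, 1, 0, 1, 0, 54,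 3, 180, [1221, 1288, 1220]⟩) (.leaf ⟨2, 2562, 2890, 0, 0, 0, 0, 24, 0, 2890, [17643, 17673, 15310]⟩)) (.node (.leaf ⟨4, 1546, 1161, 0, 0, 0, 0, 43, 0, 1161, [7145, 9481, 8714]⟩) (.leaf ⟨9, 4362, 4365, 0, 0, 0, 0, 64, 0, 4365, [25863, 25864, 25848]⟩))) (.node (.node (.leaf ⟨4, 850, 615, 0, 0, 0, 0, 43, 2, 849, [5384, 5383, 3338]⟩) (.leaf ⟨7, 3704, 3704, 1, 0, 1, 0, 56, 4, 372, [21744, 1997, 21768, 1996, 21744]⟩)) (.node (.leaf ⟨6, 705, 755, 0, 0, 0, 0, 45, 5, 705, [4277, 4275, 10509, 28, 4736]⟩) (.leaf ⟨11, 1666, 4990, 0, 0, 0, 0, 93, 0, 0, []⟩)))) (.node (.node (.node (.leaf ⟨10, 614, 615, 0, 0, 0, 0, 93, 0, 0, []⟩) (.leaf ⟨5, 3269, 3270, 0, 0, 0, 0, 93, 0, 0, []⟩)) (.node (.leaf ⟨5, 1967, 1968, 0, 0, 0, 0, 93, 0, 0, []⟩) (.leaf ⟨5, 4698, 4698, 1, 0, 1, 0, 38, 5, 4698,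 [27911, 25395, 27912, 25394, 27910]⟩))) (.node (.node (.leaf ⟨9, 1220, 1221, 0, 0, 0, 0, 93, 0, 0, []⟩) (.leaf ⟨5, 3854, 3985, 0, 0, 0, 0, 46, 0, 3985, [23777, 23817, 23030]⟩)) (.node (.leaf ⟨10, 1715, 1715, 1, 0, 1, 0, 49, 5, 1715, [10083, 10049, 10434, 10048, 10082]⟩) (.leaf ⟨0, 0, 0, 0, 0, 0, 0, 0, 0, 0, []⟩)))))) (.node (.node (.node (.node (.node (.leaf ⟨3, 141, 126, 0, 0, 0, 0, 32, 0, 126, [521, 776, 734]⟩) (.leaf ⟨3, 2810, 2776, 0, 0, 0, 0, 36, 0, 2776, [16835, 16923, 17152]⟩)) (.node (.leaf ⟨7, 242, 1593, 0, 0, 0, 0, 93, 0, 0, []⟩) (.leaf ⟨7, 4263, 4264, 0, 0, 0, 0, 93, 0, 0, []⟩))) (.node (.node (.leaf ⟨5, 781, 781, (-1), 0, (-1), 0, 46, 0, 781, [4871, 826, 4870]⟩) (.leaf ⟨11, 3585, 3581, 0, 0, 0, 0, 62, 3, 3585, [21251, 21256, 21242]⟩)) (.node (.leaf ⟨10, 2263,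 2264, 0, 0, 0, 0, 93, 0, 0, []⟩) (.leaf ⟨11, 2368, 4916, 0, 0, 0, 0, 93, 0, 0, []⟩)))) (.node (.node (.node (.leaf ⟨7, 501, 533, 0, 0, 0, 0, 58, 0, 533, [2821, 2825, 2604]⟩) (.leaf ⟨2, 2994, 3011, 0, 0, 0, 0, 24, 0, 3011, [18277, 19209, 18198]⟩)) (.node (.leaf ⟨2, 1850, 1851, 0, 0, 0, 0, 93, 0, 0, []⟩) (.leaf ⟨3, 4623, 4626, 0, 0, 0, 0, 93, 0, 0, []⟩))) (.node (.node (.leaf ⟨8, 1110, 1111, 0, 0, 0, 0, 93, 0, 0, []⟩) (.leaf ⟨3, 3900, 3660, 0, 0, 0, 0, 34, 0, 3660, [21545, 18623, 23292]⟩)) (.node (.leaf ⟨8, 513, 2519, 0, 0, 0, 0, 93, 0, 0, []⟩) (.leaf ⟨0, 0, 0, 0, 0, 0, 0, 0, 0, 0, []⟩))))) (.node (.node (.node (.node (.leaf ⟨4, 311, 312, 0, 0, 0, 0, 93, 0, 0, []⟩) (.leaf ⟨5, 2987, 2988, 0, 0, 0, 0, 93, 0, 0, []⟩)) (.node (.leaf ⟨3, 712, 1700, 0, 0, 0, 0, 93, 0, 0, []⟩)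 (.leaf ⟨11, 2678, 2678, 1, 0, (-1), 0, 29, 3, 2678, [16029, 26376, 16028]⟩))) (.node (.node (.leaf ⟨10, 920, 920, (-1), 0, (-1), 0, 43, 3, 920, [5871, 5454, 5870]⟩) (.leaf ⟨2, 3712, 3753, 0, 0, 0, 0, 22, 0, 3753, [22275, 22281, 21794]⟩)) (.node (.leaf ⟨7, 596, 645, (-3), 0, 3, 0, 46, 1, 601, [3265, 3244, 4179]⟩) (.leaf ⟨9, 4351, 2681, 0, 0, 0, 0, 48, 3, 4351, [25775, 30473, 16038]⟩)))) (.node (.node (.node (.leaf ⟨2, 106, 106, 35, 0, (-1), 0, 25, 2, 105, [450, 3848, 450]⟩) (.leaf ⟨5, 3343, 3342, 0, 0, 0, 0, 46, 2, 410, [20232, 2229, 20226]⟩)) (.node (.leaf ⟨10, 252, 2056, 0, 0, 0, 0, 93, 0, 0, []⟩) (.leaf ⟨9, 4059, 4478, 0, 0, 0, 0, 63, 2, 4050, [24324, 24269, 26526]⟩))) (.node (.node (.leaf ⟨1, 1339, 1267, 0, 0, 0, 0, 14, 0, 1267, [7583, 7479, 7896]⟩) (.leaf ⟨6, 4060,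 4061, 0, 0, 0, 0, 93, 0, 0, []⟩)) (.node (.leaf ⟨7, 2447, 1690, 0, 0, 0, 0, 59, 0, 1690, [9913, 13439, 14538]⟩) (.leaf ⟨0, 0, 0, 0, 0, 0, 0, 0, 0, 0, []⟩))))))

def factsPart134 : ATree TFact :=
  .node (.node (.node (.node (.node (.node (.leaf ⟨1, 34, 34, 1, 0, 1, 0, 14, 0, 34, [67, 266, 66]⟩) (.leaf ⟨6, 2737, 2737, 1, 0, 1, 0, 54, 0, 2737, [16547, 16650, 16546]⟩)) (.node (.leaf ⟨3, 1467, 1468, 0, 0, 0, 0, 93, 0, 0, []⟩) (.leaf ⟨7, 3335, 3335, 1, 0, 1, 0, 51, 5, 3335, [20185, 20091, 24842, 20090, 20184]⟩))) (.node (.node (.leaf ⟨1, 722, 702, 0, 0, 0, 0, 14, 0, 702, [4269, 3071, 4328]⟩) (.leaf ⟨9, 3435, 3399, (-27), 0, 1, 0, 60, 3, 3447, [20712, 20656, 20737, 20746, 20524]⟩)) (.node (.leaf ⟨8, 2163, 2161, (-59), 0, 31, 0, 34, 3, 2163, [12555, 12165, 12546]⟩) (.leaf ⟨2,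 1735, 2239, 27, 0, 1, 0, 1, 3, 1735, [10257, 12987, 12991]⟩)))) (.node (.node (.node (.leaf ⟨11, 407, 407, 1, 0, (-1), 0, 59, 3, 407, [2223, 2314, 2222]⟩) (.leaf ⟨11, 3093, 955, 0, 0, 0, 0, 59, 3, 3093, [18699, 5789, 6084]⟩)) (.node (.leaf ⟨5, 14, 703, 0, 0, 0, 0, 46, 2, 13, [26, 25, 4272]⟩) (.leaf ⟨8, 4528, 4529, 0, 0, 0, 0, 61, 0, 4529, [26887, 26891, 26882]⟩))) (.node (.node (.leaf ⟨10, 1015, 1019, 0, 0, 0, 0, 65, 4, 394, [6392, 2099, 6406, 6408, 6410]⟩) (.leaf ⟨10, 3808, 3813, 0, 0, 0, 0, 58, 3, 3808, [22779, 22792, 22794]⟩)) (.node (.leaf ⟨7, 1556, 1556, 1, 0, 1, 0, 46, 3, 1556, [8773, 14602, 8772]⟩) (.leaf ⟨1, 5153, 5150, 0, 0, 0, 0, 15, 0, 5150, [30969, 30985, 30986]⟩))))) (.node (.node (.node (.node (.leaf ⟨10, 181, 181, 1, 0, (-1), 0, 61, 3, 181, [1223, 1290,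 1222]⟩) (.leaf ⟨2, 2563, 2891, 0, 0, 0, 0, 23, 0, 2891, [17645, 17675, 15312]⟩)) (.node (.leaf ⟨7, 1608, 1528, 4, 0, 34, 0, 66, 34, 1531, [8642, 8666, 8680, 8682, 8684, 8710, 8724, 8750, 8767, 8846, 8866, 8865, 8872, 8877, 8897, 8901, 8902, 8917, 8990, 8999, 9016, 9030, 9038, 9052, 9054, 9076, 9088, 9098, 9100, 9112, 9114, 9134, 9140, 9146, 9166, 9393, 8152, 8186, 9394, 9010, 9402, 9005, 9410, 4295, 4357, 9417, 8774, 8811, 9422, 9430, 8836, 9440, 8802, 9450, 8812, 8786, 8664, 8656, 8721, 9468, 9482, 7158, 8632]⟩) (.leaf ⟨5, 4365, 4366, 0, 0, 0, 0, 93, 0, 0, []⟩))) (.node (.node (.leaf ⟨10, 517, 851, 0, 0, 0, 0, 93, 0, 0, []⟩) (.leaf ⟨6, 3703, 3703, (-1), 0, 1, 0, 51, 0, 3703, [21741, 21746, 21770, 21747, 21740]⟩)) (.node (.leaf ⟨6, 706, 756, 0, 0, 0, 0, 39, 3, 706, [4279,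 13578, 4738]⟩) (.leaf ⟨2, 2448, 4990, 0, 0, 0, 0, 29, 0, 4990, [29963, 9734, 14578]⟩)))) (.node (.node (.node (.leaf ⟨11, 615, 616, 0, 0, 0, 0, 93, 0, 0, []⟩) (.leaf ⟨3, 3267, 884, 0, 0, 0, 0, 36, 2, 940, [19716, 6019, 5590]⟩)) (.node (.leaf ⟨8, 739, 1968, 0, 0, 0, 0, 47, 3, 739, [4603, 11528, 11530]⟩) (.leaf ⟨6, 4277, 4698, 0, 0, 0, 0, 39, 3, 4277, [25399, 25397, 27910]⟩))) (.node (.node (.leaf ⟨10, 1221, 1222, 0, 0, 0, 0, 93, 0, 0, []⟩) (.leaf ⟨5, 3994, 3995, 0, 0, 0, 0, 47, 0, 3995, [23813, 23819, 23808]⟩)) (.node (.leaf ⟨7, 2426, 1715, 0, 0, 0, 0, 46, 3, 2426, [14307, 10058, 10082]⟩) (.leaf ⟨0, 0, 0, 0, 0, 0, 0, 0, 0, 0, []⟩)))))) (.node (.node (.node (.node (.node (.leaf ⟨3, 142, 127, 0, 0, 0, 0, 31, 0, 127, [523, 779, 740]⟩) (.leaf ⟨3, 2811, 2777, 0, 0, 0, 0, 33,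 0, 2777, [16837, 17163, 17154]⟩)) (.node (.leaf ⟨5, 1591, 1593, 0, 0, 0, 0, 46, 2, 243, [8962, 1599, 8970]⟩) (.leaf ⟨6, 4264, 4265, 0, 0, 0, 0, 93, 0, 0, []⟩))) (.node (.node (.leaf ⟨3, 530, 530, 1, 0, 1, 0, 12, 3, 530, [2775, 682, 2774]⟩) (.leaf ⟨11, 3586, 3582, 0, 0, 0, 0, 50, 3, 3586, [21253, 21258, 21244]⟩)) (.node (.leaf ⟨11, 2264, 2265, 0, 0, 0, 0, 93, 0, 0, []⟩) (.leaf ⟨3, 1653, 4916, 0, 0, 0, 0, 37, 0, 4916, [29451, 29405, 9618]⟩)))) (.node (.node (.node (.leaf ⟨2, 533, 533, (-1), 0, (-1), 0, 25, 0, 533, [2827, 2754, 2826]⟩) (.leaf ⟨2, 2995, 3012, 0, 0, 0, 0, 23, 0, 3012, [18279, 19211, 18200]⟩)) (.node (.leaf ⟨1, 1851, 1852, 0, 0, 0, 0, 93, 0, 0, []⟩) (.leaf ⟨10, 4626, 4627, 0, 0, 0, 0, 93, 0, 0, []⟩))) (.node (.node (.leaf ⟨0, 1111, 1086, 0, 0, 0, 0, 7, 0,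 1086, [6821, 6921, 6922]⟩) (.leaf ⟨3, 3901, 3661, 0, 0, 0, 0, 31, 0, 3661, [21547, 23307, 23294]⟩)) (.node (.leaf ⟨6, 2496, 2519, 0, 0, 0, 0, 52, 2, 514, [15016, 2687, 15114]⟩) (.leaf ⟨0, 0, 0, 0, 0, 0, 0, 0, 0, 0, []⟩))))) (.node (.node (.node (.node (.leaf ⟨9, 312, 313, 0, 0, 0, 0, 93, 0, 0, []⟩) (.leaf ⟨4, 2988, 2989, 0, 0, 0, 0, 93, 0, 0, []⟩)) (.node (.leaf ⟨10, 1700, 1701, 0, 0, 0, 0, 93, 0, 0, []⟩) (.leaf ⟨10, 4446, 4446, 1, 0, (-1), 0, 65, 4, 4350, [26286, 25773, 26378, 25772, 26286]⟩))) (.node (.node (.leaf ⟨10, 921, 921, (-1), 0, 1, 0, 63, 3, 921, [5873, 5898, 5872]⟩) (.leaf ⟨2, 3713, 3754, 0, 0, 0, 0, 25, 0, 3754, [22277, 22283, 21796]⟩)) (.node (.leaf ⟨11, 740, 602, (-65), 0, (-3), 0, 68, 17, 613, [3323, 3315, 3313, 4948, 3311, 4950, 3343, 13984, 2206, 2165,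 874, 3384, 451, 3372, 3382, 449, 429, 425, 1910, 2800, 1912, 3124, 3126, 3140, 13986, 3328, 3312, 13991, 3684, 3696, 3690, 3694, 3696, 3704, 1322, 1229, 9216, 3500, 3502, 3530, 3548, 3547, 13992, 14064, 2818, 9262, 2820, 4128, 2827, 9271, 4925, 3349, 3332, 3320, 3304, 14066, 3325, 14072, 14078, 3324, 11564, 4932, 4941, 9231, 4380, 4269, 3186, 3194, 3196, 3214, 4612, 4615, 3324, 11560, 5012, 14080, 11552, 5076, 5079, 4231, 14084, 14086, 4668, 4988, 3244, 14088, 14090, 4178, 3258]⟩) (.leaf ⟨7, 2681, 5084, 0, 0, 0, 0, 93, 0, 0, []⟩)))) (.node (.node (.node (.leaf ⟨6, 662, 662, 0, 0, 0, 0, 45, 5, 662, [3677, 3747, 3818, 3746, 3676]⟩) (.leaf ⟨6, 3343, 3344, 0, 0, 0, 0, 93, 0, 0, []⟩)) (.node (.leaf ⟨5, 2056, 2057, 0, 0, 0, 0, 93, 0, 0, []⟩) (.leaf ⟨9, 4784, 4063, 0, 0, 0,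 0, 64, 0, 4063, [24339, 28426, 28418]⟩))) (.node (.node (.leaf ⟨1, 1340, 1268, 0, 0, 0, 0, 13, 0, 1268, [7585, 7947, 7898]⟩) (.leaf ⟨10, 4052, 4061, 0, 0, 0, 0, 54, 3, 4052, [24277, 24329, 24330]⟩)) (.node (.leaf ⟨10, 2447, 2447, 1, 0, 1, 0, 65, 4, 2349, [14538, 13437, 14298, 13436, 14538]⟩) (.leaf ⟨0, 0, 0, 0, 0, 0, 0, 0, 0, 0, []⟩))))))

def factsPart135 : ATree TFact :=
  .node (.node (.node (.node (.node (.node (.leaf ⟨1, 35, 35, (-1), 0, (-1), 0, 13, 0, 35, [69, 268, 68]⟩) (.leaf ⟨6, 2738, 2738, (-1), 0, (-1), 0, 55, 0, 2738, [16549, 16652, 16548]⟩)) (.node (.leaf ⟨2, 1468, 1469, 0, 0, 0, 0, 93, 0, 0, []⟩) (.leaf ⟨7, 3336, 3336, 1, 0, (-1), 0, 46, 3, 3336, [20187, 24844, 20186]⟩))) (.node (.node (.leaf ⟨1, 703, 703, (-1), 0, (-1), 0, 16, 0, 703, [4273, 224, 4272]⟩)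 (.leaf ⟨9, 3432, 3436, 27, 0, (-1), 0, 57, 3, 3432, [20649, 20749, 20658]⟩)) (.node (.leaf ⟨3, 2076, 2164, 0, 0, 0, 0, 93, 0, 0, []⟩) (.leaf ⟨2, 1780, 1736, (-27), 0, (-1), 0, 22, 2, 2239, [14524, 28941, 10206]⟩)))) (.node (.node (.node (.leaf ⟨11, 408, 408, 1, 0, 1, 0, 55, 3, 408, [2225, 2316, 2224]⟩) (.leaf ⟨11, 837, 837, 1, 0, (-1), 0, 64, 3, 837, [5331, 5514, 5330]⟩)) (.node (.leaf ⟨7, 704, 704, 1, 0, 1, 0, 51, 5, 704, [4275, 4273, 9040, 4272, 4274]⟩) (.leaf ⟨6, 4458, 4530, 0, 0, 0, 0, 93, 0, 0, []⟩))) (.node (.node (.leaf ⟨4, 1019, 1014, 21, 0, (-1), 0, 43, 0, 1014, [6387, 6399, 6412]⟩) (.leaf ⟨2, 939, 903, 0, 0, 0, 0, 27, 2, 938, [6012, 6011, 5730]⟩)) (.node (.leaf ⟨7, 1652, 1652, (-1), 0, (-1), 0, 58, 0, 1652, [9615, 14604, 9614]⟩) (.leaf ⟨7, 2510, 5154, 0, 0,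 0, 0, 93, 0, 0, []⟩))))) (.node (.node (.node (.node (.leaf ⟨7, 181, 187, 0, 0, 0, 0, 93, 0, 0, []⟩) (.leaf ⟨2, 2564, 2892, 0, 0, 0, 0, 22, 0, 2892, [17647, 17677, 15314]⟩)) (.node (.leaf ⟨8, 1606, 1523, 0, 0, 0, 0, 62, 0, 1523, [8623, 7173, 9090]⟩) (.leaf ⟨9, 4363, 4366, 0, 0, 0, 0, 48, 3, 4363, [25851, 25866, 25868]⟩))) (.node (.node (.leaf ⟨11, 851, 852, 0, 0, 0, 0, 93, 0, 0, []⟩) (.leaf ⟨5, 3702, 3702, 1, 0, 1, 0, 45, 0, 3702, [21739, 21742, 21772, 21743, 21738]⟩)) (.node (.leaf ⟨6, 1768, 1153, 0, 0, 0, 0, 32, 3, 1768, [10545, 13580, 7116]⟩) (.leaf ⟨3, 1666, 1666, (-1), 0, (-1), 0, 36, 0, 1666, [9733, 29146, 9732]⟩)))) (.node (.node (.node (.leaf ⟨3, 396, 609, 0, 0, 0, 0, 33, 2, 395, [2162, 2159, 3308]⟩) (.leaf ⟨3, 3261, 3268, 0, 0, 0, 0, 33, 0, 3268, [19719, 19724,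 19700]⟩)) (.node (.leaf ⟨4, 1968, 1969, 0, 0, 0, 0, 93, 0, 0, []⟩) (.leaf ⟨7, 4503, 4277, 98, 0, (-12), 0, 66, 13, 4282, [25415, 25438, 25466, 25485, 25513, 25499, 25548, 25550, 25569, 25577, 25622, 25624, 25640, 25656, 25649, 25667, 25676, 25675, 25694, 25704, 25709, 21310, 25715, 25713, 25716, 25479, 25728, 25818, 25876, 25873, 25992, 26006, 26019, 26030, 16055, 15889, 26032, 26034, 26036, 26038, 26040, 26042, 26044, 26060, 26081, 26082, 26700, 26713, 26748, 26782, 26814, 27870, 27875, 27879, 27885, 27883, 27889, 27896, 27904, 27908, 27910, 27914, 27917]⟩))) (.node (.node (.leaf ⟨5, 1222, 1223, 0, 0, 0, 0, 93, 0, 0, []⟩) (.leaf ⟨6, 3987, 3995, 0, 0, 0, 0, 52, 2, 3986, [23780, 23779, 23812]⟩)) (.node (.leaf ⟨6, 2426, 2426, (-1), 0, (-1), 0, 45, 5, 2426, [14307, 10035,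 10040, 10034, 14306]⟩) (.leaf ⟨0, 0, 0, 0, 0, 0, 0, 0, 0, 0, []⟩)))))) (.node (.node (.node (.node (.node (.leaf ⟨3, 144, 128, 0, 0, 0, 0, 36, 0, 128, [525, 781, 764]⟩) (.leaf ⟨8, 128, 159, 0, 0, 0, 0, 61, 0, 159, [915, 15068, 524]⟩)) (.node (.leaf ⟨7, 1082, 1082, 1, 0, 1, 0, 59, 0, 1082, [6771, 696, 6770]⟩) (.leaf ⟨8, 4265, 4266, 0, 0, 0, 0, 93, 0, 0, []⟩))) (.node (.node (.leaf ⟨5, 668, 668, 1, 0, (-1), 0, 14, 3, 668, [3797, 680, 3796]⟩) (.leaf ⟨8, 3583, 3587, 0, 0, 0, 0, 93, 0, 0, []⟩)) (.node (.leaf ⟨7, 2265, 2266, 0, 0, 0, 0, 93, 0, 0, []⟩) (.leaf ⟨4, 4916, 708, 0, 0, 0, 0, 44, 0, 708, [4283, 13626, 29450]⟩)))) (.node (.node (.node (.leaf ⟨2, 532, 532, (-1), 0, 1, 0, 28, 2, 533, [2821, 2828, 2821]⟩) (.leaf ⟨2, 2996, 3013, 0, 0, 0, 0, 22, 0, 3013, [18281, 19213,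 18202]⟩)) (.node (.leaf ⟨5, 1501, 1853, 0, 0, 0, 0, 93, 0, 0, []⟩) (.leaf ⟨3, 4627, 4624, 0, 0, 0, 0, 36, 2, 4626, [27404, 27403, 27398]⟩))) (.node (.node (.leaf ⟨5, 1111, 1112, 0, 0, 0, 0, 93, 0, 0, []⟩) (.leaf ⟨3, 3902, 3903, 0, 0, 0, 0, 36, 0, 3903, [23305, 23309, 23296]⟩)) (.node (.leaf ⟨8, 509, 2520, 0, 0, 0, 0, 93, 0, 0, []⟩) (.leaf ⟨0, 0, 0, 0, 0, 0, 0, 0, 0, 0, []⟩))))) (.node (.node (.node (.node (.leaf ⟨10, 313, 314, 0, 0, 0, 0, 93, 0, 0, []⟩) (.leaf ⟨9, 2989, 2990, 0, 0, 0, 0, 93, 0, 0, []⟩)) (.node (.leaf ⟨3, 1701, 713, 0, 0, 0, 0, 36, 2, 1700, [9996, 9995, 4292]⟩) (.leaf ⟨10, 4451, 4451, 1, 0, 1, 0, 58, 3, 4451, [26363, 26380, 26362]⟩))) (.node (.node (.leaf ⟨10, 922, 922, (-1), 0, (-1), 0, 58, 3, 922, [5875, 5900, 5874]⟩) (.leaf ⟨10, 3726, 3751, 0, 0, 0,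 0, 61, 3, 3726, [21909, 5214, 22270]⟩)) (.node (.leaf ⟨10, 740, 740, (-1), 0, 1, 0, 43, 3, 740, [4607, 5062, 4606]⟩) (.leaf ⟨9, 4458, 5084, 0, 0, 0, 0, 57, 3, 4458, [26417, 30474, 30476]⟩)))) (.node (.node (.node (.leaf ⟨10, 663, 663, 45, 0, (-3), 0, 66, 28, 664, [3684, 3690, 3694, 3696, 3700, 3704, 3708, 1315, 3376, 3386, 467, 3716, 461, 438, 3724, 3730, 393, 1362, 398, 412, 1376, 1388, 371, 3732, 369, 3735, 3738, 3742, 3657, 3672, 3750, 3681, 3754, 3758, 3762, 3772, 3776, 3778, 3786, 3775, 393, 391, 3720, 431, 448, 3712, 3382, 3372, 450, 874, 3850, 458, 862, 848, 856, 847, 421, 278, 280, 3654, 3676, 3852, 3678]⟩) (.leaf ⟨7, 436, 3345, 0, 0, 0, 0, 93, 0, 0, []⟩)) (.node (.leaf ⟨4, 2057, 2058, 0, 0, 0, 0, 93, 0, 0, []⟩) (.leaf ⟨9, 4785, 4064, 0, 0, 0, 0, 57, 3, 4785,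 [28421, 28428, 24340]⟩))) (.node (.node (.leaf ⟨1, 1341, 1269, 0, 0, 0, 0, 12, 0, 1269, [7587, 7949, 7900]⟩) (.leaf ⟨8, 4061, 4062, 0, 0, 0, 0, 93, 0, 0, []⟩)) (.node (.leaf ⟨11, 1716, 1716, 1, 0, (-1), 0, 37, 3, 1716, [10099, 10078, 10098]⟩) (.leaf ⟨0, 0, 0, 0, 0, 0, 0, 0, 0, 0, []⟩))))))

def factsPart136 : ATree TFact :=
  .node (.node (.node (.node (.node (.node (.leaf ⟨1, 36, 36, 1, 0, 1, 0, 12, 0, 36, [71, 270, 70]⟩) (.leaf ⟨7, 2740, 2740, (-1), 0, (-1), 0, 51, 5, 2740, [16553, 16551, 16654, 16550, 16552]⟩)) (.node (.leaf ⟨9, 1469, 1470, 0, 0, 0, 0, 93, 0, 0, []⟩) (.leaf ⟨6, 3336, 3336, 1, 0, (-11), 0, 45, 3, 3324, [20184, 20186, 20112, 20184, 20186]⟩))) (.node (.node (.leaf ⟨1, 704, 704, 1, 0, 1, 0, 15, 0, 704, [4275, 4366, 4274]⟩) (.leaf ⟨10, 3445, 3432, (-27),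 0, (-1), 0, 63, 1, 3436, [20675, 20704, 20751]⟩)) (.node (.leaf ⟨9, 2163, 2164, 0, 0, 0, 0, 35, 3, 2163, [12555, 12148, 12558]⟩) (.leaf ⟨8, 1745, 4874, 0, 0, 0, 0, 7, 3, 1745, [10269, 12718, 28934]⟩)))) (.node (.node (.node (.leaf ⟨11, 409, 409, 1, 0, (-1), 0, 62, 3, 409, [2227, 2318, 2226]⟩) (.leaf ⟨10, 910, 910, 1, 0, (-1), 0, 65, 4, 838, [5788, 5335, 18702, 5334, 5788]⟩)) (.node (.leaf ⟨10, 703, 383, 0, 0, 0, 0, 58, 3, 703, [4273, 23, 2076]⟩) (.leaf ⟨5, 4530, 4531, 0, 0, 0, 0, 93, 0, 0, []⟩))) (.node (.node (.leaf ⟨10, 1002, 1020, 0, 0, 0, 0, 93, 0, 0, []⟩) (.leaf ⟨2, 904, 3809, 0, 0, 0, 0, 28, 0, 3809, [22781, 22798, 5732]⟩)) (.node (.leaf ⟨2, 1554, 1554, (-1), 0, 1, 0, 25, 0, 1554, [8769, 9452, 8768]⟩) (.leaf ⟨6, 5154, 5155, 0, 0, 0, 0, 93, 0, 0, []⟩))))) (.node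 (.node (.node (.node (.leaf ⟨8, 7, 7, (-1), 0, (-1), 0, 61, 0, 7, [13, 308, 12]⟩) (.leaf ⟨2, 2565, 2893, 0, 0, 0, 0, 28, 0, 2893, [17649, 17679, 15316]⟩)) (.node (.leaf ⟨8, 1607, 1524, 0, 0, 0, 0, 47, 3, 1607, [9093, 9486, 8624]⟩) (.leaf ⟨7, 4366, 4367, 0, 0, 0, 0, 93, 0, 0, []⟩))) (.node (.node (.leaf ⟨2, 623, 383, 0, 0, 0, 0, 25, 2, 305, [3404, 1789, 2076]⟩) (.leaf ⟨4, 3699, 3705, 0, 0, 0, 0, 93, 0, 0, []⟩)) (.node (.leaf ⟨6, 2359, 1154, 0, 0, 0, 0, 24, 3, 2359, [13571, 13582, 7118]⟩) (.leaf ⟨3, 4990, 4990, 1, 0, 1, 0, 37, 0, 4990, [29963, 29966, 29962]⟩)))) (.node (.node (.node (.leaf ⟨3, 610, 397, 0, 0, 0, 0, 32, 0, 397, [2167, 3342, 3310]⟩) (.leaf ⟨3, 3262, 3269, 0, 0, 0, 0, 32, 0, 3269, [19721, 19727, 19702]⟩)) (.node (.leaf ⟨8, 740, 1969, 0, 0, 0, 0, 41, 3, 740,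 [4607, 11532, 11534]⟩) (.leaf ⟨8, 4267, 4495, 0, 0, 0, 0, 47, 3, 4267, [25361, 25359, 26666]⟩))) (.node (.node (.leaf ⟨6, 1223, 1224, 0, 0, 0, 0, 93, 0, 0, []⟩) (.leaf ⟨6, 3857, 3988, 0, 0, 0, 0, 45, 5, 3857, [23037, 23810, 23820, 23823, 23782]⟩)) (.node (.leaf ⟨7, 496, 496, 1, 0, 1, 0, 51, 5, 496, [2567, 2565, 2872, 2564, 2566]⟩) (.leaf ⟨0, 0, 0, 0, 0, 0, 0, 0, 0, 0, []⟩)))))) (.node (.node (.node (.node (.node (.leaf ⟨4, 121, 128, (-17), 0, 1, 0, 66, 10, 130, [548, 574, 529, 578, 596, 614, 632, 636, 635, 330, 556, 640, 644, 648, 650, 652, 654, 656, 658, 660, 649, 662, 664, 666, 668, 670, 645, 672, 674, 676, 678, 680, 641, 682, 684, 568, 686, 688, 557, 690, 692, 694, 550, 696, 552, 474, 478, 482, 498, 702, 500, 502, 504, 715, 722, 730, 738, 740, 748, 762, 764, 774,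 782]⟩) (.leaf ⟨4, 159, 2516, 17, 0, (-1), 0, 41, 2, 128, [17166, 785, 15077]⟩)) (.node (.leaf ⟨6, 1593, 1593, (-1), 0, 1, 0, 51, 0, 1593, [8971, 6773, 8974, 6772, 8970]⟩) (.leaf ⟨5, 4266, 4267, 0, 0, 0, 0, 93, 0, 0, []⟩))) (.node (.node (.leaf ⟨11, 135, 135, 1, 0, 1, 0, 10, 3, 135, [639, 2480, 638]⟩) (.leaf ⟨6, 3585, 3587, 0, 0, 0, 0, 52, 2, 3584, [21250, 21249, 21262]⟩)) (.node (.leaf ⟨6, 2266, 2267, 0, 0, 0, 0, 93, 0, 0, []⟩) (.leaf ⟨4, 852, 524, 17, 0, 1, 0, 44, 0, 524, [2733, 13630, 5390]⟩)))) (.node (.node (.node (.leaf ⟨2, 447, 447, (-1), 0, (-1), 0, 23, 2, 532, [2819, 2830, 2819]⟩) (.leaf ⟨2, 3006, 2997, 59, 0, 47, 0, 21, 4, 3004, [18247, 18274, 19195, 19215, 18204]⟩)) (.node (.leaf ⟨9, 1848, 1853, 0, 0, 0, 0, 48, 3, 1848, [11013, 10712, 11022]⟩) (.leaf ⟨10, 3073,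 3073, 1, 0, (-1), 0, 58, 3, 3073, [18567, 18564, 18566]⟩))) (.node (.node (.leaf ⟨0, 1112, 1087, 0, 0, 0, 0, 4, 0, 1087, [6823, 6925, 6926]⟩) (.leaf ⟨2, 3661, 3661, 1, 0, (-1), 0, 26, 2, 3040, [21585, 18600, 21585]⟩)) (.node (.leaf ⟨5, 2519, 2520, 0, 0, 0, 0, 47, 0, 2520, [15119, 2690, 15114]⟩) (.leaf ⟨0, 0, 0, 0, 0, 0, 0, 0, 0, 0, []⟩))))) (.node (.node (.node (.node (.leaf ⟨5, 314, 315, 0, 0, 0, 0, 93, 0, 0, []⟩) (.leaf ⟨10, 2990, 2991, 0, 0, 0, 0, 93, 0, 0, []⟩)) (.node (.leaf ⟨5, 1699, 1701, 21, 0, (-1), 0, 31, 1, 713, [4776, 9992, 9999]⟩) (.leaf ⟨10, 4452, 4452, 1, 0, (-1), 0, 54, 3, 4452, [26365, 26382, 26364]⟩))) (.node (.node (.leaf ⟨10, 923, 923, (-1), 0, 1, 0, 54, 3, 923, [5877, 5902, 5876]⟩) (.leaf ⟨10, 3752, 3752, (-1), 0, 1, 0, 49, 5, 3752, [22273, 22287,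 21912, 22286, 22272]⟩)) (.node (.leaf ⟨2, 639, 639, (-1), 0, (-1), 0, 23, 0, 639, [3539, 14004, 3538]⟩) (.leaf ⟨8, 5084, 5085, 0, 0, 0, 0, 93, 0, 0, []⟩)))) (.node (.node (.node (.leaf ⟨5, 658, 658, 45, 0, (-3), 0, 49, 4, 661, [3675, 3681, 3854, 3680, 3675]⟩) (.leaf ⟨6, 3345, 3346, 0, 0, 0, 0, 93, 0, 0, []⟩)) (.node (.leaf ⟨7, 2058, 2059, 0, 0, 0, 0, 93, 0, 0, []⟩) (.leaf ⟨9, 4786, 4065, 0, 0, 0, 0, 53, 3, 4786, [28423, 28430, 24344]⟩))) (.node (.node (.leaf ⟨1, 1342, 1270, 0, 0, 0, 0, 19, 0, 1270, [7589, 7951, 7902]⟩) (.leaf ⟨10, 4053, 4062, 0, 0, 0, 0, 61, 3, 4053, [24281, 24332, 24334]⟩)) (.node (.leaf ⟨5, 1069, 761, (-3), 0, (-3), 0, 31, 3, 1069, [6696, 8895, 8149]⟩) (.leaf ⟨0, 0, 0, 0, 0, 0, 0, 0, 0, 0, []⟩))))))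

def factsPart137 : ATree TFact :=
  .node (.node (.node (.node (.node (.node (.leaf ⟨0, 6, 69, 0, 0, 0, 0, 93, 0, 0, []⟩) (.leaf ⟨7, 2741, 2741, (-1), 0, 1, 0, 46, 3, 2741, [16555, 16656, 16554]⟩)) (.node (.leaf ⟨10, 1470, 1471, 0, 0, 0, 0, 93, 0, 0, []⟩) (.leaf ⟨6, 3326, 4180, 0, 0, 0, 0, 93, 0, 0, []⟩))) (.node (.node (.leaf ⟨1, 705, 705, (-1), 0, (-1), 0, 14, 0, 705, [4277, 4368, 4276]⟩) (.leaf ⟨7, 3426, 3454, 0, 0, 0, 0, 93, 0, 0, []⟩)) (.node (.leaf ⟨8, 2164, 2160, 0, 0, 0, 0, 34, 3, 2164, [12559, 12152, 12542]⟩) (.leaf ⟨8, 1780, 4875, 0, 0, 0, 0, 61, 0, 4875, [28937, 28945, 10628]⟩)))) (.node (.node (.node (.leaf ⟨11, 410, 410, 1, 0, 1, 0, 50, 3, 410, [2229, 2320, 2228]⟩) (.leaf ⟨10, 3093, 3093, 1, 0, 1, 0, 58, 3, 3093, [18699, 18704, 18698]⟩)) (.node (.leaf ⟨10,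 384, 704, 0, 0, 0, 0, 54, 3, 384, [2079, 10513, 4274]⟩) (.leaf ⟨7, 4520, 4530, 0, 0, 0, 0, 51, 3, 4352, [25778, 26854, 25777, 26416, 26894]⟩))) (.node (.node (.leaf ⟨11, 1020, 1021, 0, 0, 0, 0, 93, 0, 0, []⟩) (.leaf ⟨2, 931, 3810, 0, 0, 0, 0, 25, 0, 3810, [22783, 22801, 5944]⟩)) (.node (.leaf ⟨2, 1555, 1555, 1, 0, (-1), 0, 24, 0, 1555, [8771, 14608, 8770]⟩) (.leaf ⟨2, 5152, 5154, 0, 0, 0, 0, 25, 0, 5154, [30991, 22339, 30982]⟩))))) (.node (.node (.node (.node (.leaf ⟨8, 122, 122, (-1), 0, 1, 0, 47, 3, 122, [513, 1296, 512]⟩) (.leaf ⟨2, 2566, 2894, 0, 0, 0, 0, 23, 0, 2894, [17651, 17681, 15318]⟩)) (.node (.leaf ⟨8, 1608, 1525, 0, 0, 0, 0, 61, 0, 1525, [8627, 9489, 9100]⟩) (.leaf ⟨9, 4364, 4367, 0, 0, 0, 0, 57, 3, 4364, [25855, 25870, 25872]⟩))) (.node (.node (.leaf ⟨2,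 384, 624, 0, 0, 0, 0, 24, 0, 624, [3409, 5392, 2078]⟩) (.leaf ⟨7, 3705, 3706, 0, 0, 0, 0, 93, 0, 0, []⟩)) (.node (.leaf ⟨6, 2360, 1155, 0, 0, 0, 0, 54, 0, 1155, [7121, 13585, 13572]⟩) (.leaf ⟨4, 4990, 2427, 0, 0, 0, 0, 44, 0, 2427, [14335, 10575, 29962]⟩)))) (.node (.node (.node (.leaf ⟨3, 611, 614, 0, 0, 0, 0, 31, 0, 614, [3337, 3345, 3312]⟩) (.leaf ⟨3, 3263, 3270, 0, 0, 0, 0, 31, 0, 3270, [19723, 19729, 19704]⟩)) (.node (.leaf ⟨7, 1969, 1970, 0, 0, 0, 0, 93, 0, 0, []⟩) (.leaf ⟨8, 4496, 4268, 0, 0, 0, 0, 41, 3, 4496, [26669, 27921, 25362]⟩))) (.node (.node (.leaf ⟨7, 1224, 1225, 0, 0, 0, 0, 93, 0, 0, []⟩) (.leaf ⟨6, 3858, 3989, 0, 0, 0, 0, 39, 3, 3858, [23039, 23824, 23784]⟩)) (.node (.leaf ⟨4, 497, 497, 1, 0, 1, 0, 40, 0, 497, [2573, 2876, 2572]⟩) (.leaf ⟨0, 0, 0,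 0, 0, 0, 0, 0, 0, 0, []⟩)))))) (.node (.node (.node (.node (.node (.leaf ⟨1, 122, 122, 1, 0, 1, 0, 14, 0, 122, [513, 214, 512]⟩) (.leaf ⟨4, 2764, 2776, (-17), 0, 1, 0, 42, 2, 2516, [16748, 17169, 16839]⟩)) (.node (.leaf ⟨5, 1592, 1592, 1, 0, 1, 0, 45, 0, 1592, [8965, 8972, 8976, 8973, 8964]⟩) (.leaf ⟨4, 4267, 4268, 0, 0, 0, 0, 93, 0, 0, []⟩))) (.node (.node (.leaf ⟨11, 668, 668, 1, 0, (-1), 0, 20, 3, 668, [3797, 4880, 3796]⟩) (.leaf ⟨5, 424, 3588, 0, 0, 0, 0, 93, 0, 0, []⟩)) (.node (.leaf ⟨3, 2242, 2258, 0, 0, 0, 0, 34, 0, 2258, [13055, 9415, 13022]⟩) (.leaf ⟨5, 852, 4916, 0, 0, 0, 0, 50, 0, 4916, [29451, 13629, 5390]⟩)))) (.node (.node (.node (.leaf ⟨10, 432, 432, (-1), 0, (-1), 0, 49, 5, 432, [2337, 2221, 2204, 2220, 2336]⟩) (.leaf ⟨1, 2969, 2998, 0, 0, 0, 0, 18, 0,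 2998, [18229, 1969, 18130]⟩)) (.node (.leaf ⟨4, 1853, 1854, 0, 0, 0, 0, 93, 0, 0, []⟩) (.leaf ⟨6, 910, 3072, 0, 0, 0, 0, 55, 0, 3072, [18551, 6091, 5788]⟩))) (.node (.node (.leaf ⟨4, 1112, 1113, 0, 0, 0, 0, 93, 0, 0, []⟩) (.leaf ⟨2, 3903, 3903, 1, 0, 1, 0, 28, 2, 3661, [23304, 23312, 23304]⟩)) (.node (.leaf ⟨6, 2469, 2520, 0, 0, 0, 0, 52, 2, 510, [14888, 2667, 15118]⟩) (.leaf ⟨0, 0, 0, 0, 0, 0, 0, 0, 0, 0, []⟩))))) (.node (.node (.node (.node (.leaf ⟨7, 315, 316, 0, 0, 0, 0, 93, 0, 0, []⟩) (.leaf ⟨5, 2991, 2992, 0, 0, 0, 0, 93, 0, 0, []⟩)) (.node (.leaf ⟨6, 1700, 1411, 0, 0, 0, 0, 32, 3, 1700, [9995, 4758, 8148]⟩) (.leaf ⟨6, 2644, 2644, 1, 0, (-1), 0, 39, 3, 2644, [15853, 26334, 15852]⟩))) (.node (.node (.leaf ⟨5, 925, 925, (-1), 0, 1, 0, 49, 4, 924, [5896, 5885, 5904,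 5884, 5896]⟩) (.leaf ⟨10, 3753, 3753, (-1), 0, (-1), 0, 43, 3, 3753, [22275, 22288, 22274]⟩)) (.node (.leaf ⟨2, 640, 640, 1, 0, 1, 0, 25, 0, 640, [3541, 14096, 3540]⟩) (.leaf ⟨9, 5083, 5085, 3, 0, 3, 0, 60, 3, 4455, [26846, 30470, 26423, 30478, 30480]⟩)))) (.node (.node (.node (.leaf ⟨5, 660, 660, 45, 0, 3, 0, 50, 2, 658, [3665, 3856, 3665]⟩) (.leaf ⟨7, 3344, 3346, 0, 0, 0, 0, 51, 5, 3344, [20237, 20233, 2370, 20238, 20240]⟩)) (.node (.leaf ⟨6, 2059, 2060, 0, 0, 0, 0, 93, 0, 0, []⟩) (.leaf ⟨5, 4065, 4788, 0, 0, 0, 0, 93, 0, 0, []⟩))) (.node (.node (.leaf ⟨1, 1343, 1271, 0, 0, 0, 0, 14, 0, 1271, [7591, 7953, 7904]⟩) (.leaf ⟨11, 4059, 4063, 0, 0, 0, 0, 93, 0, 0, []⟩)) (.node (.leaf ⟨4, 709, 709, (-1), 0, 1, 0, 40, 0, 709, [4285, 15716, 4284]⟩) (.leaf ⟨0, 0, 0, 0, 0, 0,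 0, 0, 0, 0, []⟩))))))

def factsPart138 : ATree TFact :=
  .node (.node (.node (.node (.node (.node (.leaf ⟨1, 69, 70, 0, 0, 0, 0, 93, 0, 0, []⟩) (.leaf ⟨7, 2742, 2742, (-1), 0, (-1), 0, 40, 3, 2742, [16557, 16658, 16556]⟩)) (.node (.leaf ⟨7, 1471, 1472, 0, 0, 0, 0, 93, 0, 0, []⟩) (.leaf ⟨4, 4180, 3335, 0, 0, 0, 0, 39, 0, 3335, [20185, 20101, 24850]⟩))) (.node (.node (.leaf ⟨1, 706, 706, 1, 0, 1, 0, 13, 0, 706, [4279, 4370, 4278]⟩) (.leaf ⟨5, 3454, 3445, 0, 0, 0, 0, 46, 2, 3426, [20754, 20617, 20702]⟩)) (.node (.leaf ⟨9, 2089, 2160, 59, 0, 31, 0, 60, 3, 2161, [12550, 12552, 12557, 12560, 12562]⟩) (.leaf ⟨2, 4866, 4875, 27, 0, 1, 0, 26, 2, 1736, [28904, 28943, 28946]⟩)))) (.node (.node (.node (.leaf ⟨11, 417, 417, 1, 0, (-1), 0, 44, 3, 417, [2261, 2322, 2260]⟩) (.leaf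 ⟨5, 3083, 3093, 0, 0, 0, 0, 46, 0, 3093, [18699, 5795, 18632]⟩)) (.node (.leaf ⟨3, 623, 623, 1, 0, (-1), 0, 33, 0, 623, [3405, 3434, 3404]⟩) (.leaf ⟨7, 4531, 4521, 0, 0, 0, 0, 46, 3, 4531, [26897, 26899, 26856]⟩))) (.node (.node (.leaf ⟨10, 1016, 1001, 0, 0, 0, 0, 61, 3, 1016, [6401, 4338, 6354]⟩) (.leaf ⟨6, 931, 3814, 0, 0, 0, 0, 93, 0, 0, []⟩)) (.node (.leaf ⟨2, 1556, 1556, (-1), 0, 1, 0, 23, 0, 1556, [8773, 14610, 8772]⟩) (.leaf ⟨2, 5153, 5155, 0, 0, 0, 0, 24, 0, 5155, [30993, 30995, 30986]⟩))))) (.node (.node (.node (.node (.leaf ⟨8, 123, 123, (-1), 0, (-1), 0, 41, 3, 123, [515, 1298, 514]⟩) (.leaf ⟨2, 2567, 2895, 0, 0, 0, 0, 24, 0, 2895, [17653, 17683, 15320]⟩)) (.node (.leaf ⟨8, 1521, 1526, (-4), 0, 34, 0, 56, 3, 1528, [8634, 8612, 9485, 9490, 8628]⟩) (.leaf ⟨10,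 4357, 4367, (-14), 0, (-14), 0, 63, 3, 4357, [25817, 25861, 25874]⟩))) (.node (.node (.leaf ⟨2, 517, 625, 0, 0, 0, 0, 23, 0, 625, [3413, 5395, 2698]⟩) (.leaf ⟨6, 3706, 3707, 0, 0, 0, 0, 93, 0, 0, []⟩)) (.node (.leaf ⟨5, 2362, 2358, 0, 0, 0, 0, 45, 4, 2361, [13576, 13575, 13586, 7122, 13568]⟩) (.leaf ⟨6, 1766, 1413, 0, 0, 0, 0, 54, 0, 1413, [8153, 10475, 10464]⟩)))) (.node (.node (.node (.leaf ⟨3, 612, 615, 0, 0, 0, 0, 36, 0, 615, [3339, 3347, 3314]⟩) (.leaf ⟨8, 675, 940, 0, 0, 0, 0, 34, 3, 675, [3985, 5594, 6018]⟩)) (.node (.leaf ⟨11, 559, 559, 1, 0, 1, 0, 37, 3, 559, [3009, 4470, 3008]⟩) (.leaf ⟨8, 4501, 4269, 0, 0, 0, 0, 61, 0, 4269, [25365, 27923, 26702]⟩))) (.node (.node (.leaf ⟨6, 1225, 1226, 0, 0, 0, 0, 93, 0, 0, []⟩) (.leaf ⟨7, 3993, 3991, 0, 0, 0, 0, 51, 5, 3993,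 [23807, 23805, 23826, 23798, 23802]⟩)) (.node (.leaf ⟨2, 548, 548, (-1), 0, (-1), 0, 25, 0, 548, [2915, 2888, 2914]⟩) (.leaf ⟨0, 0, 0, 0, 0, 0, 0, 0, 0, 0, []⟩)))))) (.node (.node (.node (.node (.node (.leaf ⟨1, 123, 123, (-1), 0, (-1), 0, 13, 0, 123, [515, 786, 514]⟩) (.leaf ⟨4, 2777, 2765, 17, 0, (-1), 0, 40, 2, 2776, [16836, 17171, 16750]⟩)) (.node (.leaf ⟨10, 1588, 1588, 1, 0, 1, 0, 49, 5, 1588, [8947, 8969, 8978, 8968, 8946]⟩) (.leaf ⟨10, 4268, 4269, 0, 0, 0, 0, 93, 0, 0, []⟩))) (.node (.node (.leaf ⟨10, 668, 668, 1, 0, (-1), 0, 19, 3, 668, [3797, 674, 3796]⟩) (.leaf ⟨7, 3588, 3589, 0, 0, 0, 0, 93, 0, 0, []⟩)) (.node (.leaf ⟨3, 2243, 2259, 0, 0, 0, 0, 31, 0, 2259, [13057, 13075, 13024]⟩) (.leaf ⟨5, 575, 708, (-17), 0, 1, 0, 38, 5, 575, [3086, 2739, 29457, 29458,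 29454]⟩)))) (.node (.node (.node (.leaf ⟨10, 445, 445, (-1), 0, 1, 0, 54, 3, 445, [2385, 2834, 2384]⟩) (.leaf ⟨1, 2970, 2999, 0, 0, 0, 0, 19, 0, 2999, [18231, 19219, 18132]⟩)) (.node (.leaf ⟨9, 1849, 1854, 0, 0, 0, 0, 42, 3, 1849, [11015, 11024, 11026]⟩) (.leaf ⟨4, 911, 911, (-1), 0, 1, 0, 44, 0, 911, [5793, 18694, 5792]⟩))) (.node (.node (.leaf ⟨0, 1113, 1088, 0, 0, 0, 0, 3, 0, 1088, [6825, 6929, 6930]⟩) (.leaf ⟨7, 3661, 3904, 0, 0, 0, 0, 93, 0, 0, []⟩)) (.node (.leaf ⟨6, 2497, 2470, 0, 0, 0, 0, 45, 5, 2497, [15019, 15116, 15120, 15123, 14890]⟩) (.leaf ⟨0, 0, 0, 0, 0, 0, 0, 0, 0, 0, []⟩))))) (.node (.node (.node (.node (.leaf ⟨6, 316, 317, 0, 0, 0, 0, 93, 0, 0, []⟩) (.leaf ⟨7, 2992, 2993, 0, 0, 0, 0, 93, 0, 0, []⟩)) (.node (.leaf ⟨6, 1701, 1416, 0, 0, 0, 0, 54, 0, 1416,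 [8161, 10003, 9996]⟩) (.leaf ⟨6, 2645, 2645, 1, 0, 1, 0, 32, 3, 2645, [15855, 26386, 15854]⟩))) (.node (.node (.leaf ⟨5, 857, 857, 1, 0, 1, 0, 47, 0, 857, [5461, 2966, 5460]⟩) (.leaf ⟨10, 3754, 3754, (-1), 0, 1, 0, 58, 3, 3754, [22277, 22290, 22276]⟩)) (.node (.leaf ⟨2, 641, 641, (-1), 0, (-1), 0, 24, 0, 641, [3545, 14098, 3544]⟩) (.leaf ⟨1, 5062, 2679, 0, 0, 0, 0, 18, 2, 5059, [30382, 30367, 16030]⟩)))) (.node (.node (.node (.leaf ⟨10, 666, 672, 0, 0, 0, 0, 93, 0, 0, []⟩) (.leaf ⟨7, 980, 3347, 0, 0, 0, 0, 93, 0, 0, []⟩)) (.node (.leaf ⟨9, 2048, 2056, 0, 0, 0, 0, 63, 2, 332, [12026, 1859, 12042]⟩) (.leaf ⟨9, 4787, 4788, 0, 0, 0, 0, 48, 3, 4787, [28425, 28432, 28434]⟩))) (.node (.node (.leaf ⟨1, 1344, 1272, 0, 0, 0, 0, 15, 0, 1272, [7593, 7955, 7906]⟩) (.leaf ⟨7, 4063,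 4064, 0, 0, 0, 0, 93, 0, 0, []⟩)) (.node (.leaf ⟨4, 710, 710, 1, 0, (-1), 0, 39, 0, 710, [4287, 16146, 4286]⟩) (.leaf ⟨0, 0, 0, 0, 0, 0, 0, 0, 0, 0, []⟩))))))

def factsPart139 : ATree TFact :=
  .node (.node (.node (.node (.node (.node (.leaf ⟨2, 70, 71, 0, 0, 0, 0, 93, 0, 0, []⟩) (.leaf ⟨7, 2743, 2743, 1, 0, 1, 0, 58, 0, 2743, [16559, 16660, 16558]⟩)) (.node (.leaf ⟨6, 1472, 1473, 0, 0, 0, 0, 93, 0, 0, []⟩) (.leaf ⟨3, 3326, 3330, 0, 0, 0, 0, 33, 2, 907, [20096, 5761, 20142]⟩))) (.node (.node (.leaf ⟨1, 707, 707, (-1), 0, (-1), 0, 19, 0, 707, [4281, 4372, 4280]⟩) (.leaf ⟨10, 3428, 3454, 0, 0, 0, 0, 58, 3, 3428, [20621, 20619, 20754]⟩)) (.node (.leaf ⟨1, 2038, 2089, (-59), 0, 31, 0, 18, 2, 2159, [12540, 12544, 12565]⟩) (.leaf ⟨2, 4876, 4867, (-27), 0, (-1), 0, 25, 2,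 4875, [28938, 28949, 28896]⟩)))) (.node (.node (.node (.leaf ⟨11, 422, 422, 1, 0, 1, 0, 37, 3, 422, [2279, 2324, 2278]⟩) (.leaf ⟨5, 913, 913, (-1), 0, (-1), 0, 47, 0, 913, [5799, 4036, 5798]⟩)) (.node (.leaf ⟨3, 624, 624, (-1), 0, 1, 0, 32, 0, 624, [3409, 10516, 3408]⟩) (.leaf ⟨10, 4531, 4532, 0, 0, 0, 0, 93, 0, 0, []⟩))) (.node (.node (.leaf ⟨5, 1018, 1020, 0, 0, 0, 0, 49, 4, 1017, [6408, 6405, 6420, 6356, 6416]⟩) (.leaf ⟨2, 3814, 3811, 0, 0, 0, 0, 24, 0, 3811, [22787, 22803, 22804]⟩)) (.node (.leaf ⟨4, 703, 703, (-1), 0, (-1), 0, 40, 0, 703, [4273, 9834, 4272]⟩) (.leaf ⟨3, 522, 522, (-1), 0, (-1), 0, 32, 0, 522, [2723, 14236, 2722]⟩))))) (.node (.node (.node (.node (.leaf ⟨8, 124, 124, (-1), 0, 1, 0, 34, 3, 124, [517, 1300, 516]⟩) (.leaf ⟨2, 2568, 2896, 0, 0, 0, 0,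 25, 0, 2896, [17655, 17685, 15322]⟩)) (.node (.leaf ⟨8, 1527, 1522, 4, 0, (-34), 0, 52, 3, 1527, [8631, 9493, 8614]⟩) (.leaf ⟨10, 4347, 4368, 0, 0, 0, 0, 93, 0, 0, []⟩))) (.node (.node (.leaf ⟨2, 851, 721, 0, 0, 0, 0, 28, 0, 721, [4309, 5397, 5388]⟩) (.leaf ⟨4, 3706, 3701, 0, 0, 0, 0, 40, 2, 3705, [21778, 21777, 21736]⟩)) (.node (.leaf ⟨4, 1559, 2359, 0, 0, 0, 0, 22, 3, 1559, [8779, 10546, 13570]⟩) (.leaf ⟨2, 1599, 2704, 33, 0, 11, 0, 66, 57, 2439, [29922, 29926, 29931, 10203, 29932, 9087, 14471, 29941, 29942, 29944, 29300, 14516, 13410, 13408, 29953, 29954, 20725, 10129, 29233, 29956, 29960, 29964, 29968, 29970, 29170, 29972, 8189, 8133, 8131, 8129, 8127, 8125, 8077, 8075, 15712, 14330, 9471, 8736, 8670, 8645, 1496, 14596, 10528, 8852, 9891, 9838, 9790, 29914, 13498,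 2679, 7865, 9766, 9102, 9751, 9740, 9720, 29916, 16152, 4333, 4328, 8996, 29918, 29920]⟩)))) (.node (.node (.node (.leaf ⟨3, 613, 616, 0, 0, 0, 0, 37, 0, 616, [3341, 3349, 3322]⟩) (.leaf ⟨8, 676, 3267, 0, 0, 0, 0, 61, 0, 3267, [19717, 19733, 3986]⟩)) (.node (.leaf ⟨10, 790, 790, 1, 0, 1, 0, 65, 4, 701, [5008, 4261, 11540, 4260, 5008]⟩) (.leaf ⟨8, 4502, 4270, 0, 0, 0, 0, 47, 3, 4502, [26707, 27924, 25366]⟩))) (.node (.node (.leaf ⟨8, 1226, 1227, 0, 0, 0, 0, 93, 0, 0, []⟩) (.leaf ⟨10, 3860, 3992, 0, 0, 0, 0, 58, 3, 3860, [23043, 23041, 23804]⟩)) (.node (.leaf ⟨10, 548, 548, 1, 0, (-1), 0, 58, 3, 548, [2915, 2962, 2914]⟩) (.leaf ⟨0, 0, 0, 0, 0, 0, 0, 0, 0, 0, []⟩)))))) (.node (.node (.node (.node (.node (.leaf ⟨1, 124, 124, 1, 0, 1, 0, 12, 0, 124, [517, 788, 516]⟩) (.leaf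 ⟨7, 2767, 2812, 0, 0, 0, 0, 93, 0, 0, []⟩)) (.node (.leaf ⟨10, 1589, 1589, 1, 0, (-1), 0, 43, 3, 1589, [8949, 8980, 8948]⟩) (.leaf ⟨5, 4269, 4270, 0, 0, 0, 0, 93, 0, 0, []⟩))) (.node (.node (.leaf ⟨7, 668, 668, 1, 0, (-1), 0, 16, 3, 668, [3797, 676, 3796]⟩) (.leaf ⟨8, 3589, 3590, 0, 0, 0, 0, 93, 0, 0, []⟩)) (.node (.leaf ⟨4, 2245, 2261, 0, 0, 0, 0, 30, 5, 2245, [13029, 13027, 13076, 13058, 13060]⟩) (.leaf ⟨11, 2366, 575, 17, 0, 1, 0, 44, 3, 2366, [13633, 2740, 3087]⟩)))) (.node (.node (.node (.leaf ⟨10, 446, 446, (-1), 0, (-1), 0, 58, 3, 446, [2387, 2836, 2386]⟩) (.leaf ⟨1, 2971, 3000, 0, 0, 0, 0, 16, 0, 3000, [18233, 19221, 18134]⟩)) (.node (.leaf ⟨3, 1854, 1855, 0, 0, 0, 0, 93, 0, 0, []⟩) (.leaf ⟨9, 3313, 911, 0, 0, 0, 0, 64, 0, 911, [5793, 5356, 20022]⟩))) (.node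 (.node (.leaf ⟨10, 1113, 1114, 0, 0, 0, 0, 93, 0, 0, []⟩) (.leaf ⟨6, 3904, 3905, 0, 0, 0, 0, 93, 0, 0, []⟩)) (.node (.leaf ⟨6, 2498, 2471, 0, 0, 0, 0, 39, 3, 2498, [15021, 15124, 14892]⟩) (.leaf ⟨0, 0, 0, 0, 0, 0, 0, 0, 0, 0, []⟩))))) (.node (.node (.node (.node (.leaf ⟨5, 317, 318, 0, 0, 0, 0, 93, 0, 0, []⟩) (.leaf ⟨6, 2993, 2994, 0, 0, 0, 0, 93, 0, 0, []⟩)) (.node (.leaf ⟨5, 1415, 1702, 0, 0, 0, 0, 93, 0, 0, []⟩) (.leaf ⟨6, 2678, 2678, 1, 0, (-1), 0, 24, 3, 2678, [16029, 26388, 16028]⟩))) (.node (.node (.leaf ⟨6, 853, 853, 1, 0, 1, 0, 45, 5, 853, [5435, 5462, 5908, 5463, 5434]⟩) (.leaf ⟨6, 3751, 3724, 0, 0, 0, 0, 52, 2, 813, [22270, 5203, 21880]⟩)) (.node (.leaf ⟨2, 642, 642, 1, 0, 1, 0, 23, 0, 642, [3547, 14100, 3546]⟩) (.leaf ⟨1, 2680, 5063, 0, 0, 0, 0, 19, 0, 5063,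 [30385, 30484, 16036]⟩)))) (.node (.node (.node (.leaf ⟨6, 672, 657, 0, 0, 0, 0, 54, 0, 657, [3657, 3747, 3860]⟩) (.leaf ⟨10, 3347, 3345, 0, 0, 0, 0, 58, 3, 3347, [20245, 6193, 20238]⟩)) (.node (.leaf ⟨9, 2057, 2049, 0, 0, 0, 0, 48, 3, 2057, [12045, 12053, 12028]⟩) (.leaf ⟨5, 3248, 4789, 0, 0, 0, 0, 93, 0, 0, []⟩))) (.node (.node (.leaf ⟨1, 1345, 1273, 0, 0, 0, 0, 13, 0, 1273, [7595, 7957, 7908]⟩) (.leaf ⟨11, 4064, 4060, 0, 0, 0, 0, 59, 3, 4064, [24341, 24339, 24326]⟩)) (.node (.leaf ⟨5, 712, 712, 1, 0, (-1), 0, 38, 5, 712, [4291, 4289, 16148, 4288, 4290]⟩) (.leaf ⟨0, 0, 0, 0, 0, 0, 0, 0, 0, 0, []⟩))))))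

def factsPart140 : ATree TFact :=
  .node (.node (.node (.node (.node (.node (.leaf ⟨3, 71, 72, 0, 0, 0, 0, 93, 0, 0, []⟩) (.leaf ⟨2, 2734, 2734, (-1), 0, (-1), 0, 26, 0, 2734, [16541, 1108, 16540]⟩)) (.node (.leaf ⟨8, 1473, 1474, 0, 0, 0, 0, 93, 0, 0, []⟩) (.leaf ⟨6, 3330, 4181, 0, 0, 0, 0, 93, 0, 0, []⟩))) (.node (.node (.leaf ⟨1, 708, 708, 1, 0, 1, 0, 20, 0, 708, [4283, 4374, 4282]⟩) (.leaf ⟨5, 3402, 3428, 27, 0, (-1), 0, 49, 4, 3431, [20647, 20650, 20753, 20757, 20759]⟩)) (.node (.leaf ⟨1, 2158, 2039, 51, 0, (-9), 0, 11, 2, 2089, [12495, 12527, 12536, 12567, 12008]⟩) (.leaf ⟨0, 1221, 4877, 0, 0, 0, 0, 93, 0, 0, []⟩)))) (.node (.node (.node (.leaf ⟨11, 427, 427, 1, 0, (-1), 0, 29, 3, 427, [2297, 2326, 2296]⟩) (.leaf ⟨6, 841, 841, (-1), 0, (-1), 0, 45, 5, 841, [5345,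 5800, 18710, 5801, 5344]⟩)) (.node (.leaf ⟨4, 623, 623, 1, 0, (-1), 0, 40, 0, 623, [3405, 9284, 3404]⟩) (.leaf ⟨7, 4532, 4522, 0, 0, 0, 0, 58, 0, 4522, [26859, 26901, 26902]⟩))) (.node (.node (.leaf ⟨5, 1019, 1021, 0, 0, 0, 0, 50, 0, 1021, [6419, 6423, 6410]⟩) (.leaf ⟨8, 3814, 3815, 0, 0, 0, 0, 93, 0, 0, []⟩)) (.node (.leaf ⟨4, 704, 704, 1, 0, 1, 0, 39, 0, 704, [4275, 14614, 4274]⟩) (.leaf ⟨3, 2509, 2509, 1, 0, 1, 0, 34, 0, 2509, [15051, 30998, 15050]⟩))))) (.node (.node (.node (.node (.leaf ⟨8, 160, 160, (-1), 0, (-1), 0, 26, 3, 160, [917, 1302, 916]⟩) (.leaf ⟨3, 2718, 2568, 320, 0, (-14), 0, 66, 44, 2580, [15400, 15422, 15377, 15446, 15468, 15494, 15536, 15501, 15499, 15556, 15558, 15823, 15829, 16079, 16464, 16466, 16468, 16470, 16472, 16481, 16514, 16538, 16621,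 16561, 16640, 16662, 16559, 16680, 17310, 16557, 16555, 16553, 16551, 17328, 17338, 17354, 17368, 17384, 17392, 17394, 17398, 17407, 17415, 17420, 17432, 17434, 17459, 17468, 17482, 17498, 17510, 17512, 17524, 17536, 17538, 17562, 17624, 17631, 17632, 17634, 17636, 17669, 17687]⟩)) (.node (.leaf ⟨9, 1523, 1484, 0, 0, 0, 0, 64, 0, 1484, [8531, 7186, 8622]⟩) (.leaf ⟨8, 2418, 4368, 0, 0, 0, 0, 61, 0, 4368, [25879, 25757, 14178]⟩))) (.node (.node (.leaf ⟨2, 852, 719, 1, 0, (-5), 0, 29, 0, 719, [4319, 5399, 5390]⟩) (.leaf ⟨4, 3702, 3707, 0, 0, 0, 0, 39, 0, 3707, [21781, 21782, 21738]⟩)) (.node (.leaf ⟨4, 1560, 2360, 0, 0, 0, 0, 43, 0, 2360, [13573, 13591, 8790]⟩) (.leaf ⟨2, 2435, 2439, 0, 0, 0, 0, 1, 3, 2435, [14417, 29940, 14470]⟩)))) (.node (.node (.node (.leaf ⟨11, 188,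 617, 0, 0, 0, 0, 93, 0, 0, []⟩) (.leaf ⟨5, 880, 3267, 27, 0, 1, 0, 47, 2, 655, [5608, 4097, 19734]⟩)) (.node (.leaf ⟨7, 559, 559, (-1), 0, 1, 0, 33, 3, 559, [3009, 4154, 3008]⟩) (.leaf ⟨8, 4503, 4271, 0, 0, 0, 0, 52, 3, 4503, [26711, 27926, 25368]⟩))) (.node (.node (.leaf ⟨5, 1227, 1228, 0, 0, 0, 0, 93, 0, 0, []⟩) (.leaf ⟨10, 3993, 3861, 0, 0, 0, 0, 54, 3, 3993, [23807, 23831, 23044]⟩)) (.node (.leaf ⟨2, 673, 673, 1, 0, 1, 0, 29, 0, 673, [3865, 4538, 3864]⟩) (.leaf ⟨0, 0, 0, 0, 0, 0, 0, 0, 0, 0, []⟩)))))) (.node (.node (.node (.node (.node (.leaf ⟨1, 125, 125, (-1), 0, (-1), 0, 16, 0, 125, [519, 790, 518]⟩) (.leaf ⟨5, 2812, 2765, 0, 0, 0, 0, 46, 0, 2765, [16751, 16768, 17174]⟩)) (.node (.leaf ⟨10, 1590, 1590, 1, 0, 1, 0, 36, 3, 1590, [8951, 8982, 8950]⟩) (.leaf ⟨6, 4270,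 4271, 0, 0, 0, 0, 93, 0, 0, []⟩))) (.node (.node (.leaf ⟨6, 668, 668, 1, 0, (-1), 0, 15, 3, 668, [3797, 678, 3796]⟩) (.leaf ⟨5, 3589, 3583, 0, 0, 0, 0, 46, 2, 3588, [21268, 21267, 21246]⟩)) (.node (.leaf ⟨4, 2246, 2262, 0, 0, 0, 0, 22, 3, 2246, [13031, 13078, 13062]⟩) (.leaf ⟨10, 2366, 2366, 1, 0, 1, 0, 49, 5, 2366, [13613, 4281, 14618, 4280, 13612]⟩)))) (.node (.node (.node (.leaf ⟨10, 447, 447, (-1), 0, 1, 0, 54, 3, 447, [2389, 2838, 2388]⟩) (.leaf ⟨1, 2972, 3001, 0, 0, 0, 0, 15, 0, 3001, [18235, 19223, 18136]⟩)) (.node (.leaf ⟨9, 1850, 1855, 0, 0, 0, 0, 35, 3, 1850, [11017, 11028, 11030]⟩) (.leaf ⟨3, 911, 911, 1, 0, (-1), 0, 35, 0, 911, [27415, 24822, 27414]⟩))) (.node (.node (.leaf ⟨0, 1114, 1089, 0, 0, 0, 0, 9, 0, 1089, [6827, 6933, 6934]⟩) (.leaf ⟨7, 3660, 3906,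 0, 0, 0, 0, 93, 0, 0, []⟩)) (.node (.leaf ⟨6, 2499, 2472, 0, 0, 0, 0, 32, 3, 2499, [15023, 15126, 14894]⟩) (.leaf ⟨0, 0, 0, 0, 0, 0, 0, 0, 0, 0, []⟩))))) (.node (.node (.node (.node (.leaf ⟨4, 318, 319, 0, 0, 0, 0, 93, 0, 0, []⟩) (.leaf ⟨5, 2994, 2995, 0, 0, 0, 0, 93, 0, 0, []⟩)) (.node (.leaf ⟨10, 1573, 1702, 0, 0, 0, 0, 49, 5, 1573, [8899, 6689, 9144, 8156, 10006]⟩) (.leaf ⟨6, 4350, 4350, (-1), 0, 1, 0, 54, 0, 4350, [25773, 26390, 25772]⟩))) (.node (.node (.leaf ⟨6, 920, 920, 1, 0, (-1), 0, 39, 3, 920, [5871, 5910, 5870]⟩) (.leaf ⟨5, 3724, 3724, (-1), 0, 1, 0, 47, 0, 3724, [21881, 22248, 21880]⟩)) (.node (.leaf ⟨2, 643, 643, (-1), 0, (-1), 0, 22, 0, 643, [3551, 14102, 3550]⟩) (.leaf ⟨1, 2681, 5066, 0, 0, 0, 0, 14, 0, 5066, [30397, 30487, 16038]⟩)))) (.node (.node (.node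 (.leaf ⟨11, 672, 673, 0, 0, 0, 0, 93, 0, 0, []⟩) (.leaf ⟨6, 3347, 3348, 0, 0, 0, 0, 93, 0, 0, []⟩)) (.node (.leaf ⟨9, 2058, 2050, 0, 0, 0, 0, 42, 3, 2058, [12047, 12054, 12030]⟩) (.leaf ⟨7, 4789, 4790, 0, 0, 0, 0, 93, 0, 0, []⟩))) (.node (.node (.leaf ⟨1, 1349, 1274, 0, 0, 0, 0, 14, 0, 1274, [7597, 7959, 7936]⟩) (.leaf ⟨6, 4064, 4065, 0, 0, 0, 0, 93, 0, 0, []⟩)) (.node (.leaf ⟨3, 1663, 723, 0, 0, 0, 0, 36, 0, 723, [4331, 8933, 9720]⟩) (.leaf ⟨0, 0, 0, 0, 0, 0, 0, 0, 0, 0, []⟩))))))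

def factsPart141 : ATree TFact :=
  .node (.node (.node (.node (.node (.node (.leaf ⟨7, 72, 73, 0, 0, 0, 0, 93, 0, 0, []⟩) (.leaf ⟨2, 2735, 2735, 1, 0, 1, 0, 23, 0, 2735, [16543, 16664, 16542]⟩)) (.node (.leaf ⟨5, 1474, 1475, 0, 0, 0, 0, 93, 0, 0, []⟩) (.leaf ⟨3, 4181, 4180, 0, 0, 0, 0, 32, 0, 4180, [24851, 24854, 24856]⟩))) (.node (.node (.leaf ⟨2, 702, 702, 1, 0, 11, 0, 11, 3, 708, [4363, 4364, 4376, 4363, 4364]⟩) (.leaf ⟨6, 3430, 3404, (-27), 0, (-1), 0, 45, 3, 3428, [20622, 20624, 20761, 20532, 20534]⟩)) (.node (.leaf ⟨2, 2048, 255, 0, 0, 0, 0, 28, 0, 255, [1623, 1892, 12026]⟩) (.leaf ⟨10, 4877, 4878, 0, 0, 0, 0, 93, 0, 0, []⟩)))) (.node (.node (.node (.leaf ⟨11, 428, 428, 1, 0, 1, 0, 64, 3, 428, [2299, 2328, 2298]⟩) (.leaf ⟨6, 842, 842, 1, 0, 1, 0, 53, 0, 842,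 [5347, 18712, 5346]⟩)) (.node (.leaf ⟨4, 624, 624, (-1), 0, 1, 0, 39, 0, 624, [3409, 10520, 3408]⟩) (.leaf ⟨7, 2654, 4533, 0, 0, 0, 0, 93, 0, 0, []⟩))) (.node (.node (.leaf ⟨10, 1003, 1022, 0, 0, 0, 0, 93, 0, 0, []⟩) (.leaf ⟨2, 3815, 3812, 0, 0, 0, 0, 26, 0, 3812, [22791, 22807, 22808]⟩)) (.node (.leaf ⟨5, 706, 706, 1, 0, 1, 0, 38, 5, 706, [4279, 4277, 14616, 4276, 4278]⟩) (.leaf ⟨3, 2510, 2510, (-1), 0, (-1), 0, 31, 0, 2510, [15053, 31000, 15052]⟩))))) (.node (.node (.node (.node (.leaf ⟨8, 178, 178, (-1), 0, 1, 0, 17, 3, 178, [1217, 1304, 1216]⟩) (.leaf ⟨1, 427, 2897, 0, 0, 0, 0, 93, 0, 0, []⟩)) (.node (.leaf ⟨9, 1524, 1485, 0, 0, 0, 0, 48, 3, 1524, [8625, 9496, 8532]⟩) (.leaf ⟨5, 635, 635, 1, 0, (-1), 0, 31, 3, 635, [3515, 13964, 3514]⟩))) (.node (.node (.leaf ⟨1,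 715, 396, 0, 0, 0, 0, 16, 0, 396, [2163, 2641, 4296]⟩) (.leaf ⟨7, 370, 3708, 0, 0, 0, 0, 93, 0, 0, []⟩)) (.node (.leaf ⟨4, 2361, 2361, 1, 0, 1, 0, 38, 0, 2361, [13575, 13593, 8842, 13592, 13574]⟩) (.leaf ⟨3, 2435, 2435, 1, 0, 1, 0, 2, 3, 2435, [14417, 29942, 14416]⟩)))) (.node (.node (.node (.leaf ⟨11, 110, 614, 0, 0, 0, 0, 50, 3, 110, [467, 2168, 3336]⟩) (.leaf ⟨5, 3268, 3258, (-27), 0, (-1), 0, 46, 2, 3267, [19718, 19737, 19684]⟩)) (.node (.leaf ⟨7, 701, 701, 1, 0, (-1), 0, 58, 0, 701, [4261, 11544, 4260]⟩) (.leaf ⟨8, 4249, 4272, (-98), 0, (-12), 0, 56, 3, 4277, [25404, 25316, 27919, 27928, 25370]⟩))) (.node (.node (.leaf ⟨4, 1228, 1229, 0, 0, 0, 0, 93, 0, 0, []⟩) (.leaf ⟨2, 3665, 3861, (-15), 0, (-17), 0, 66, 22, 3866, [23055, 23063, 23073, 23069, 23081, 23109, 23122,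 23146, 22873, 22859, 23150, 23156, 23162, 23167, 23183, 23175, 23186, 23195, 23209, 23216, 23226, 23230, 23244, 23246, 23250, 23254, 23256, 23258, 23262, 23282, 23287, 23288, 23302, 23310, 23314, 23305, 23316, 23318, 23344, 23352, 23356, 23390, 23626, 23644, 23679, 23657, 23655, 23649, 23680, 23684, 23686, 23690, 23705, 23714, 23716, 23720, 23744, 23764, 23771, 23801, 23802, 23829, 23832]⟩)) (.node (.leaf ⟨10, 673, 673, 1, 0, 1, 0, 65, 4, 672, [3864, 3861, 4554, 3860, 3864]⟩) (.leaf ⟨0, 0, 0, 0, 0, 0, 0, 0, 0, 0, []⟩)))))) (.node (.node (.node (.node (.node (.leaf ⟨1, 126, 126, 1, 0, 1, 0, 15, 0, 126, [521, 792, 520]⟩) (.leaf ⟨9, 2766, 2813, 0, 0, 0, 0, 93, 0, 0, []⟩)) (.node (.leaf ⟨5, 1584, 1584, (-1), 0, 1, 0, 49, 0, 1584, [8937, 8961, 8984, 8960, 8936]⟩) (.leaf ⟨7,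 4271, 4272, 0, 0, 0, 0, 93, 0, 0, []⟩))) (.node (.node (.leaf ⟨4, 670, 670, 1, 0, 1, 0, 13, 3, 670, [3805, 670, 3804]⟩) (.leaf ⟨5, 3587, 3590, 0, 0, 0, 0, 47, 0, 3590, [21271, 21272, 21262]⟩)) (.node (.leaf ⟨4, 2247, 2263, 0, 0, 0, 0, 42, 0, 2263, [13065, 13081, 13032]⟩) (.leaf ⟨7, 707, 707, (-1), 0, (-1), 0, 58, 0, 707, [4281, 29078, 4280]⟩)))) (.node (.node (.node (.leaf ⟨3, 349, 349, 1, 0, 1, 0, 37, 0, 349, [1911, 1438, 1910]⟩) (.leaf ⟨1, 2973, 3002, 0, 0, 0, 0, 14, 0, 3002, [18237, 19225, 18138]⟩)) (.node (.leaf ⟨2, 1855, 1856, 0, 0, 0, 0, 93, 0, 0, []⟩) (.leaf ⟨11, 3742, 374, 0, 0, 0, 0, 50, 3, 3742, [22099, 21802, 2000]⟩))) (.node (.node (.leaf ⟨5, 1114, 1115, 0, 0, 0, 0, 93, 0, 0, []⟩) (.leaf ⟨5, 3904, 3906, 0, 0, 0, 0, 46, 2, 3661, [23316, 21547, 23320]⟩)) (.node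 (.leaf ⟨6, 2500, 2488, 0, 0, 0, 0, 53, 0, 2488, [14975, 15129, 15024]⟩) (.leaf ⟨0, 0, 0, 0, 0, 0, 0, 0, 0, 0, []⟩))))) (.node (.node (.node (.node (.leaf ⟨3, 319, 320, 0, 0, 0, 0, 93, 0, 0, []⟩) (.leaf ⟨4, 2995, 2996, 0, 0, 0, 0, 93, 0, 0, []⟩)) (.node (.leaf ⟨11, 1067, 1703, 0, 0, 0, 0, 93, 0, 0, []⟩) (.leaf ⟨6, 4446, 4446, 1, 0, (-1), 0, 55, 0, 4446, [26287, 26392, 26286]⟩))) (.node (.node (.leaf ⟨6, 921, 921, (-1), 0, 1, 0, 53, 0, 921, [5873, 5912, 5872]⟩) (.leaf ⟨6, 3752, 3752, (-1), 0, 1, 0, 45, 5, 3752, [22273, 22294, 22296, 22295, 22272]⟩)) (.node (.leaf ⟨3, 645, 645, (-1), 0, (-1), 0, 21, 5, 645, [3559, 3555, 14104, 3554, 3558]⟩) (.leaf ⟨1, 5084, 5067, 0, 0, 0, 0, 16, 0, 5067, [30399, 30489, 30476]⟩)))) (.node (.node (.node (.leaf ⟨6, 673, 659, 0, 0, 0, 0, 55,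 0, 659, [3661, 3863, 3864]⟩) (.leaf ⟨10, 3346, 3348, 0, 0, 0, 0, 54, 3, 3346, [20241, 20247, 20248]⟩)) (.node (.leaf ⟨9, 2059, 2051, 0, 0, 0, 0, 57, 3, 2059, [12049, 12056, 12032]⟩) (.leaf ⟨6, 4790, 4791, 0, 0, 0, 0, 93, 0, 0, []⟩))) (.node (.node (.leaf ⟨7, 1283, 1274, (-13), 0, 21, 0, 16, 3, 1283, [7945, 7939, 7960]⟩) (.leaf ⟨11, 4061, 4065, 0, 0, 0, 0, 55, 3, 4061, [24331, 24343, 24344]⟩)) (.node (.leaf ⟨11, 129, 1591, 0, 0, 0, 0, 59, 3, 129, [527, 2711, 8962]⟩) (.leaf ⟨0, 0, 0, 0, 0, 0, 0, 0, 0, 0, []⟩))))))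

def factsPart142 : ATree TFact :=
  .node (.node (.node (.node (.node (.node (.leaf ⟨8, 73, 74, 0, 0, 0, 0, 93, 0, 0, []⟩) (.leaf ⟨2, 2736, 2736, (-1), 0, (-1), 0, 27, 0, 2736, [16545, 16666, 16544]⟩)) (.node (.leaf ⟨4, 1475, 1476, 0, 0, 0, 0, 93, 0, 0, []⟩) (.leaf ⟨7, 2723, 4182, 0, 0, 0, 0, 93, 0, 0, []⟩))) (.node (.node (.leaf ⟨10, 702, 702, 1, 0, 1, 0, 49, 5, 702, [4269, 3045, 4108, 3044, 4268]⟩) (.leaf ⟨1, 3404, 3412, 27, 0, (-1), 0, 15, 0, 3412, [20605, 20642, 20762]⟩)) (.node (.leaf ⟨2, 2148, 256, 0, 0, 0, 0, 25, 0, 256, [1625, 12571, 12496]⟩) (.leaf ⟨9, 4877, 4874, 0, 0, 0, 0, 8, 3, 4877, [28953, 7435, 28934]⟩)))) (.node (.node (.node (.leaf ⟨10, 430, 430, 1, 0, 1, 0, 65, 4, 429, [2302, 2301, 2330, 2300, 2302]⟩) (.leaf ⟨6, 843, 843, (-1), 0, (-1), 0, 54, 0,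 843, [5351, 18714, 5350]⟩)) (.node (.leaf ⟨5, 1667, 1158, (-39), 0, (-5), 0, 66, 25, 1100, [9068, 6879, 6875, 25, 9834, 8848, 9452, 1493, 9622, 9624, 9626, 9644, 9654, 5396, 4308, 10454, 10460, 4324, 4347, 9999, 10467, 10465, 10472, 10474, 10477, 10483, 10486, 10479, 10100, 10123, 10443, 8986, 8938, 8992, 3084, 3075, 10496, 10498, 6880, 10503, 10506, 9890, 10508, 4274, 10510, 10515, 5394, 10518, 10522, 3412, 10458, 10452, 4308, 5399, 9657, 9646, 9634, 9616, 9608, 8695, 9462, 9476, 7138]⟩) (.leaf ⟨6, 4533, 4534, 0, 0, 0, 0, 93, 0, 0, []⟩))) (.node (.node (.leaf ⟨11, 1022, 1023, 0, 0, 0, 0, 93, 0, 0, []⟩) (.leaf ⟨7, 3815, 3816, 0, 0, 0, 0, 93, 0, 0, []⟩)) (.node (.leaf ⟨3, 1415, 1697, 0, 0, 0, 0, 36, 2, 1407, [8156, 8129, 9986]⟩) (.leaf ⟨3, 5154, 5154, 1, 0, 1, 0, 33,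 0, 5154, [30991, 31002, 30990]⟩))))) (.node (.node (.node (.node (.leaf ⟨7, 186, 186, (-1), 0, 1, 0, 56, 4, 179, [1250, 1219, 1306, 1218, 1250]⟩) (.leaf ⟨9, 2897, 2898, 0, 0, 0, 0, 93, 0, 0, []⟩)) (.node (.leaf ⟨9, 1525, 1486, 0, 0, 0, 0, 63, 0, 1486, [8535, 9499, 8626]⟩) (.leaf ⟨4, 635, 635, (-1), 0, (-1), 0, 30, 5, 635, [3515, 3509, 13956, 3508, 3514]⟩))) (.node (.node (.leaf ⟨1, 716, 397, 0, 0, 0, 0, 15, 0, 397, [2167, 5403, 4298]⟩) (.leaf ⟨6, 3708, 3709, 0, 0, 0, 0, 93, 0, 0, []⟩)) (.node (.leaf ⟨4, 2362, 2362, (-1), 0, (-1), 0, 39, 0, 2362, [13577, 13594, 13576]⟩) (.leaf ⟨4, 2435, 2445, 0, 0, 0, 0, 3, 3, 2435, [14417, 29944, 14498]⟩)))) (.node (.node (.node (.leaf ⟨10, 617, 616, 0, 0, 0, 0, 65, 4, 188, [3352, 1315, 3354, 3338, 3340]⟩) (.leaf ⟨6, 3260, 3270, 27,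 0, (-1), 0, 45, 3, 3258, [19686, 19688, 19739, 19720, 19722]⟩)) (.node (.leaf ⟨7, 790, 790, (-1), 0, 1, 0, 59, 0, 790, [5009, 11546, 5008]⟩) (.leaf ⟨5, 4262, 4249, 98, 0, (-12), 0, 47, 2, 4261, [25350, 25392, 27931]⟩))) (.node (.node (.leaf ⟨3, 1229, 1230, 0, 0, 0, 0, 93, 0, 0, []⟩) (.leaf ⟨2, 3862, 3666, 15, 0, 17, 0, 23, 2, 3861, [23046, 23835, 21556]⟩)) (.node (.leaf ⟨5, 659, 659, (-17), 0, 5, 0, 50, 2, 657, [3660, 3936, 3660]⟩) (.leaf ⟨0, 0, 0, 0, 0, 0, 0, 0, 0, 0, []⟩)))))) (.node (.node (.node (.node (.node (.leaf ⟨1, 127, 127, (-1), 0, (-1), 0, 14, 0, 127, [523, 794, 522]⟩) (.leaf ⟨6, 2813, 2767, 0, 0, 0, 0, 53, 0, 2767, [16767, 16758, 17178]⟩)) (.node (.leaf ⟨4, 1577, 1577, 1, 0, 1, 0, 38, 0, 1577, [8909, 8939, 8986, 8938, 8908]⟩) (.leaf ⟨8, 4253, 4273, 0, 0,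 0, 0, 93, 0, 0, []⟩))) (.node (.node (.leaf ⟨5, 670, 670, 1, 0, 1, 0, 14, 3, 670, [3805, 668, 3804]⟩) (.leaf ⟨6, 3589, 3591, 0, 0, 0, 0, 93, 0, 0, []⟩)) (.node (.leaf ⟨4, 2248, 2264, 0, 0, 0, 0, 43, 0, 2264, [13067, 13083, 13034]⟩) (.leaf ⟨6, 707, 757, 0, 0, 0, 0, 54, 0, 757, [4741, 13581, 4280]⟩)))) (.node (.node (.node (.leaf ⟨3, 350, 350, (-1), 0, (-1), 0, 31, 0, 350, [1913, 2842, 1912]⟩) (.leaf ⟨1, 2974, 3003, 0, 0, 0, 0, 13, 0, 3003, [18239, 19227, 18140]⟩)) (.node (.leaf ⟨9, 1851, 1856, 0, 0, 0, 0, 27, 3, 1851, [11019, 11032, 11034]⟩) (.leaf ⟨11, 3743, 2745, 0, 0, 0, 0, 44, 3, 3743, [22101, 27418, 16562]⟩))) (.node (.node (.leaf ⟨0, 1115, 1095, 0, 0, 0, 0, 4, 0, 1095, [6857, 6937, 6938]⟩) (.leaf ⟨8, 403, 3907, 0, 0, 0, 0, 93, 0, 0, []⟩)) (.node (.leaf ⟨6, 2501,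 2489, 0, 0, 0, 0, 54, 0, 2489, [14977, 15131, 15026]⟩) (.leaf ⟨0, 0, 0, 0, 0, 0, 0, 0, 0, 0, []⟩))))) (.node (.node (.node (.node (.leaf ⟨2, 320, 321, 0, 0, 0, 0, 93, 0, 0, []⟩) (.leaf ⟨3, 2996, 2997, 0, 0, 0, 0, 93, 0, 0, []⟩)) (.node (.leaf ⟨5, 1703, 1704, 0, 0, 0, 0, 93, 0, 0, []⟩) (.leaf ⟨7, 4452, 4452, 1, 0, (-1), 0, 51, 5, 4452, [26365, 26363, 26394, 26362, 26364]⟩))) (.node (.node (.leaf ⟨7, 923, 923, (-1), 0, 1, 0, 51, 5, 923, [5877, 5875, 5914, 5874, 5876]⟩) (.leaf ⟨6, 3753, 3753, (-1), 0, (-1), 0, 39, 3, 3753, [22275, 22298, 22274]⟩)) (.node (.leaf ⟨3, 691, 691, 1, 0, 1, 0, 36, 0, 691, [4181, 14106, 4180]⟩) (.leaf ⟨1, 5085, 5068, 0, 0, 0, 0, 17, 0, 5068, [30401, 30491, 30480]⟩)))) (.node (.node (.node (.leaf ⟨5, 673, 674, 0, 0, 0, 0, 93, 0, 0, []⟩) (.leaf ⟨2,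 3347, 3347, (-1), 0, 1, 0, 25, 2, 980, [20244, 6198, 20244]⟩)) (.node (.leaf ⟨9, 2060, 2052, 0, 0, 0, 0, 53, 3, 2060, [12051, 12058, 12034]⟩) (.leaf ⟨5, 4791, 4792, 0, 0, 0, 0, 93, 0, 0, []⟩))) (.node (.node (.leaf ⟨8, 1250, 1275, 0, 0, 0, 0, 47, 3, 1250, [7537, 7535, 7614]⟩) (.leaf ⟨8, 4065, 4066, 0, 0, 0, 0, 93, 0, 0, []⟩)) (.node (.leaf ⟨11, 130, 1592, 0, 0, 0, 0, 55, 3, 130, [529, 16154, 8964]⟩) (.leaf ⟨0, 0, 0, 0, 0, 0, 0, 0, 0, 0, []⟩))))))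

def factsPart143 : ATree TFact :=
  .node (.node (.node (.node (.node (.node (.leaf ⟨10, 72, 75, 0, 0, 0, 0, 93, 0, 0, []⟩) (.leaf ⟨2, 2737, 2737, 1, 0, 1, 0, 28, 0, 2737, [16547, 16668, 16546]⟩)) (.node (.leaf ⟨3, 1476, 1477, 0, 0, 0, 0, 93, 0, 0, []⟩) (.leaf ⟨2, 4182, 3330, 0, 0, 0, 0, 25, 0, 3330, [20143, 16529, 24860]⟩))) (.node (.node (.leaf ⟨7, 702, 702, 1, 0, 1, 0, 46, 3, 702, [4269, 3186, 4268]⟩) (.leaf ⟨2, 2651, 455, 0, 0, 0, 0, 27, 2, 2650, [15894, 15893, 2404]⟩)) (.node (.leaf ⟨2, 2149, 257, 0, 0, 0, 0, 24, 0, 257, [1627, 12573, 12500]⟩) (.leaf ⟨9, 4875, 4878, 0, 0, 0, 0, 63, 0, 4878, [28955, 28956, 28936]⟩)))) (.node (.node (.node (.leaf ⟨10, 431, 431, 1, 0, (-1), 0, 58, 3, 431, [2305, 2332, 2304]⟩) (.leaf ⟨6, 911, 911, 1, 0, 1, 0, 55, 0, 911, [5793, 18716,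 5792]⟩)) (.node (.leaf ⟨7, 1675, 1667, 39, 0, (-5), 0, 46, 1, 1158, [7151, 9894, 10525]⟩) (.leaf ⟨5, 4534, 4535, 0, 0, 0, 0, 93, 0, 0, []⟩))) (.node (.node (.leaf ⟨4, 1022, 1020, 0, 0, 0, 0, 43, 2, 1003, [6426, 6359, 6416]⟩) (.leaf ⟨2, 3816, 3813, 0, 0, 0, 0, 25, 0, 3813, [22795, 22811, 22812]⟩)) (.node (.leaf ⟨7, 1697, 762, 17, 0, 9, 0, 33, 3, 1697, [14621, 8185, 9394]⟩) (.leaf ⟨3, 5155, 5155, (-1), 0, (-1), 0, 32, 0, 5155, [30993, 31004, 30992]⟩))))) (.node (.node (.node (.node (.leaf ⟨6, 187, 187, 1, 0, 1, 0, 51, 0, 187, [1295, 1252, 1308, 1253, 1294]⟩) (.leaf ⟨10, 2898, 2899, 0, 0, 0, 0, 93, 0, 0, []⟩)) (.node (.leaf ⟨9, 1526, 1487, 0, 0, 0, 0, 57, 3, 1526, [8629, 9500, 8536]⟩) (.leaf ⟨2, 633, 633, 1, 0, 1, 0, 22, 0, 633, [3509, 14010, 3508]⟩))) (.node (.node (.leaf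 ⟨1, 717, 614, 0, 0, 0, 0, 14, 0, 614, [3337, 5405, 4300]⟩) (.leaf ⟨8, 3709, 3710, 0, 0, 0, 0, 93, 0, 0, []⟩)) (.node (.leaf ⟨10, 1768, 2363, 0, 0, 0, 0, 93, 0, 0, []⟩) (.leaf ⟨5, 2445, 2445, 1, 0, (-1), 0, 4, 3, 2445, [14499, 29300, 14498]⟩)))) (.node (.node (.node (.leaf ⟨11, 172, 618, 0, 0, 0, 0, 93, 0, 0, []⟩) (.leaf ⟨3, 3266, 3260, (-27), 0, (-1), 0, 32, 2, 3263, [19714, 19730, 19741]⟩)) (.node (.leaf ⟨6, 701, 697, 0, 0, 0, 0, 54, 0, 697, [4225, 4199, 4260]⟩) (.leaf ⟨11, 4258, 4699, 0, 0, 0, 0, 93, 0, 0, []⟩))) (.node (.node (.leaf ⟨10, 1230, 1231, 0, 0, 0, 0, 93, 0, 0, []⟩) (.leaf ⟨5, 3859, 3996, 0, 0, 0, 0, 93, 0, 0, []⟩)) (.node (.leaf ⟨2, 395, 395, 35, 0, (-1), 0, 29, 2, 105, [2160, 3848, 2160]⟩) (.leaf ⟨0, 0, 0, 0, 0, 0, 0, 0, 0, 0, []⟩)))))) (.node (.node (.node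 (.node (.node (.leaf ⟨1, 128, 128, 1, 0, 1, 0, 19, 0, 128, [525, 796, 524]⟩) (.leaf ⟨8, 118, 118, (-1), 0, 1, 0, 26, 3, 118, [499, 16804, 498]⟩)) (.node (.leaf ⟨4, 1578, 1578, (-1), 0, (-1), 0, 39, 0, 1578, [8911, 8988, 8910]⟩) (.leaf ⟨6, 4255, 4273, 0, 0, 0, 0, 52, 2, 4254, [25336, 25335, 25372]⟩))) (.node (.node (.leaf ⟨11, 136, 136, 1, 0, (-1), 0, 10, 3, 136, [643, 2478, 642]⟩) (.leaf ⟨8, 3591, 3592, 0, 0, 0, 0, 93, 0, 0, []⟩)) (.node (.leaf ⟨4, 2249, 2265, 0, 0, 0, 0, 44, 0, 2265, [13069, 13085, 13036]⟩) (.leaf ⟨4, 2486, 4917, 0, 0, 0, 0, 93, 0, 0, []⟩)))) (.node (.node (.node (.leaf ⟨4, 395, 395, (-1), 0, (-1), 0, 30, 5, 395, [2159, 1915, 2844, 1914, 2158]⟩) (.leaf ⟨1, 2975, 3005, 0, 0, 0, 0, 12, 0, 3005, [18243, 19229, 18142]⟩)) (.node (.leaf ⟨1, 1856, 1857, 0,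 0, 0, 0, 93, 0, 0, []⟩) (.leaf ⟨3, 2745, 2745, 0, 0, 2, 0, 37, 2, 3743, [27420, 22264, 27420]⟩))) (.node (.node (.leaf ⟨7, 1115, 1116, 0, 0, 0, 0, 93, 0, 0, []⟩) (.leaf ⟨6, 3660, 3907, 0, 0, 0, 0, 52, 2, 404, [21544, 2193, 23324]⟩)) (.node (.leaf ⟨6, 2493, 2490, 17, 0, (-1), 0, 45, 5, 2493, [14993, 15015, 15112, 15132, 14980]⟩) (.leaf ⟨0, 0, 0, 0, 0, 0, 0, 0, 0, 0, []⟩))))) (.node (.node (.node (.node (.leaf ⟨3, 312, 322, 0, 0, 0, 0, 93, 0, 0, []⟩) (.leaf ⟨1, 1465, 2987, 0, 0, 0, 0, 17, 0, 2987, [18185, 10237, 8454]⟩)) (.node (.leaf ⟨11, 1704, 1573, 0, 0, 0, 0, 50, 3, 1704, [10013, 10011, 8898]⟩) (.leaf ⟨7, 4447, 4453, 0, 0, 0, 0, 93, 0, 0, []⟩))) (.node (.node (.leaf ⟨7, 924, 924, (-1), 0, (-1), 0, 46, 3, 924, [5885, 5916, 5884]⟩) (.leaf ⟨4, 3751, 3751, 1, 0, (-1),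 0, 41, 0, 3751, [22271, 22244, 22270]⟩)) (.node (.leaf ⟨3, 642, 642, 1, 0, 1, 0, 31, 0, 642, [3547, 13992, 3546]⟩) (.leaf ⟨1, 5078, 5083, 162, 0, 20, 0, 18, 0, 5083, [30482, 30492, 30448]⟩)))) (.node (.node (.node (.leaf ⟨4, 79, 79, 1, 0, (-1), 0, 13, 3, 79, [325, 690, 324]⟩) (.leaf ⟨2, 3348, 3348, (-1), 0, (-1), 0, 24, 2, 3347, [20248, 20252, 20248]⟩)) (.node (.leaf ⟨4, 1719, 2061, 0, 0, 0, 0, 93, 0, 0, []⟩) (.leaf ⟨8, 2988, 528, 0, 0, 0, 0, 47, 3, 2988, [18187, 18185, 2766]⟩))) (.node (.node (.leaf ⟨8, 1276, 1251, 0, 0, 0, 0, 41, 3, 1276, [7617, 7965, 7538]⟩) (.leaf ⟨11, 4062, 4066, 0, 0, 0, 0, 62, 3, 4062, [24335, 24346, 24348]⟩)) (.node (.leaf ⟨6, 117, 117, (-1), 0, 1, 0, 45, 5, 117, [495, 491, 942, 490, 494]⟩) (.leaf ⟨0, 0, 0, 0, 0, 0, 0, 0, 0, 0, []⟩))))))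

def factsPart144 : ATree TFact :=
  .node (.node (.node (.node (.node (.node (.leaf ⟨7, 75, 76, 0, 0, 0, 0, 93, 0, 0, []⟩) (.leaf ⟨2, 2738, 2738, (-1), 0, (-1), 0, 29, 0, 2738, [16549, 16670, 16548]⟩)) (.node (.leaf ⟨10, 1477, 1478, 0, 0, 0, 0, 93, 0, 0, []⟩) (.leaf ⟨6, 4182, 4183, 0, 0, 0, 0, 93, 0, 0, []⟩))) (.node (.node (.leaf ⟨6, 702, 725, 0, 0, 0, 0, 93, 0, 0, []⟩) (.leaf ⟨2, 456, 2652, 0, 0, 0, 0, 28, 0, 2652, [15897, 20766, 2406]⟩)) (.node (.leaf ⟨2, 2150, 258, 0, 0, 0, 0, 26, 0, 258, [1629, 12575, 12504]⟩) (.leaf ⟨7, 4878, 4879, 0, 0, 0, 0, 93, 0, 0, []⟩)))) (.node (.node (.node (.leaf ⟨5, 406, 432, 0, 0, 0, 0, 93, 0, 0, []⟩) (.leaf ⟨10, 836, 3094, 0, 0, 0, 0, 93, 0, 0, []⟩)) (.node (.leaf ⟨2, 207, 207, 1, 0, (-1), 0, 25, 0, 207, [1497, 9454, 1496]⟩) (.leaf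 ⟨10, 4535, 4536, 0, 0, 0, 0, 93, 0, 0, []⟩))) (.node (.node (.leaf ⟨4, 1021, 1023, 0, 0, 0, 0, 44, 0, 1023, [6429, 6430, 6418]⟩) (.leaf ⟨3, 867, 931, 0, 0, 0, 0, 33, 0, 931, [5945, 5779, 5524]⟩)) (.node (.leaf ⟨2, 1598, 1697, (-17), 0, 9, 0, 25, 2, 757, [9036, 4808, 14623]⟩) (.leaf ⟨11, 159, 5156, 0, 0, 0, 0, 93, 0, 0, []⟩))))) (.node (.node (.node (.node (.leaf ⟨5, 183, 187, 0, 0, 0, 0, 46, 2, 182, [1226, 1225, 1294]⟩) (.leaf ⟨5, 2899, 2900, 0, 0, 0, 0, 93, 0, 0, []⟩)) (.node (.leaf ⟨9, 1527, 1488, 0, 0, 0, 0, 53, 3, 1527, [8631, 9502, 8538]⟩) (.leaf ⟨7, 634, 634, (-1), 0, (-1), 0, 58, 0, 634, [3511, 3532, 3510]⟩))) (.node (.node (.leaf ⟨1, 718, 849, 0, 0, 0, 0, 13, 0, 849, [5383, 5407, 4302]⟩) (.leaf ⟨5, 3710, 3711, 0, 0, 0, 0, 93, 0, 0, []⟩)) (.node (.leaf ⟨2, 2360,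 2363, 0, 0, 0, 0, 28, 2, 2359, [13572, 13571, 13598]⟩) (.leaf ⟨7, 1745, 1749, 0, 0, 0, 0, 6, 3, 1745, [10269, 13410, 10310]⟩)))) (.node (.node (.node (.leaf ⟨2, 618, 518, 21, 0, (-1), 0, 29, 0, 518, [2709, 1122, 3358]⟩) (.leaf ⟨5, 3238, 3271, 0, 0, 0, 0, 93, 0, 0, []⟩)) (.node (.leaf ⟨6, 790, 794, 0, 0, 0, 0, 55, 0, 794, [5029, 11551, 5008]⟩) (.leaf ⟨5, 4699, 4700, 0, 0, 0, 0, 93, 0, 0, []⟩))) (.node (.node (.leaf ⟨11, 1231, 1232, 0, 0, 0, 0, 93, 0, 0, []⟩) (.leaf ⟨7, 3996, 3997, 0, 0, 0, 0, 93, 0, 0, []⟩)) (.node (.leaf ⟨2, 406, 406, 35, 0, 1, 0, 28, 2, 395, [2220, 15646, 2220]⟩) (.leaf ⟨0, 0, 0, 0, 0, 0, 0, 0, 0, 0, []⟩)))))) (.node (.node (.node (.node (.node (.leaf ⟨1, 121, 121, 1, 0, 1, 0, 13, 2, 128, [785, 798, 785]⟩) (.leaf ⟨7, 2766, 2766, (-1), 0, 1, 0, 56, 4,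 119, [16756, 501, 17182, 500, 16756]⟩)) (.node (.leaf ⟨3, 1576, 573, 0, 0, 0, 0, 36, 2, 1575, [8906, 8905, 3068]⟩) (.leaf ⟨8, 4264, 4274, 0, 0, 0, 0, 93, 0, 0, []⟩))) (.node (.node (.leaf ⟨11, 670, 670, 1, 0, 1, 0, 20, 3, 670, [3805, 4894, 3804]⟩) (.leaf ⟨6, 3592, 3590, 0, 0, 0, 0, 52, 2, 3591, [21278, 21277, 21270]⟩)) (.node (.leaf ⟨4, 2250, 2266, 0, 0, 0, 0, 40, 0, 2266, [13071, 13087, 13038]⟩) (.leaf ⟨4, 2348, 4918, 0, 0, 0, 0, 93, 0, 0, []⟩)))) (.node (.node (.node (.leaf ⟨4, 406, 406, 1, 0, 1, 0, 43, 0, 406, [2221, 2846, 2220]⟩) (.leaf ⟨10, 2975, 3156, 0, 0, 0, 0, 93, 0, 0, []⟩)) (.node (.leaf ⟨9, 1852, 1857, 0, 0, 0, 0, 18, 3, 1852, [11021, 11036, 11038]⟩) (.leaf ⟨6, 927, 927, (-1), 0, (-1), 0, 53, 0, 927, [5925, 24842, 5924]⟩))) (.node (.node (.leaf ⟨0, 1116,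 1096, 0, 0, 0, 0, 6, 0, 1096, [6859, 6941, 6942]⟩) (.leaf ⟨9, 396, 396, 1, 0, 1, 0, 57, 3, 396, [2163, 22650, 2162]⟩)) (.node (.leaf ⟨3, 209, 16, 0, 0, 0, 0, 34, 0, 16, [31, 8855, 1500]⟩) (.leaf ⟨0, 0, 0, 0, 0, 0, 0, 0, 0, 0, []⟩))))) (.node (.node (.node (.node (.leaf ⟨9, 322, 323, 0, 0, 0, 0, 93, 0, 0, []⟩) (.leaf ⟨1, 1466, 2988, 0, 0, 0, 0, 14, 0, 2988, [18187, 18207, 8456]⟩)) (.node (.leaf ⟨10, 1611, 1705, 0, 0, 0, 0, 93, 0, 0, []⟩) (.leaf ⟨5, 4453, 4451, 0, 0, 0, 0, 46, 2, 4447, [26398, 26289, 26362]⟩))) (.node (.node (.leaf ⟨7, 925, 925, 1, 0, 1, 0, 58, 0, 925, [5897, 5918, 5896]⟩) (.leaf ⟨5, 3753, 3753, 1, 0, (-1), 0, 38, 5, 3753, [22275, 22273, 22302, 22272, 22274]⟩)) (.node (.leaf ⟨4, 644, 644, 1, 0, 1, 0, 30, 5, 644, [3555, 3551, 14110, 3550, 3554]⟩) (.leaf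 ⟨2, 2113, 2658, 0, 0, 0, 0, 28, 0, 2658, [15933, 27034, 12296]⟩)))) (.node (.node (.node (.leaf ⟨4, 80, 80, 1, 0, 1, 0, 22, 3, 80, [327, 3870, 326]⟩) (.leaf ⟨7, 3111, 3349, 0, 0, 0, 0, 93, 0, 0, []⟩)) (.node (.leaf ⟨8, 1705, 2056, 0, 0, 0, 0, 61, 0, 2056, [12043, 10937, 10016]⟩) (.leaf ⟨8, 688, 2989, 0, 0, 0, 0, 41, 3, 688, [4165, 28447, 18188]⟩))) (.node (.node (.leaf ⟨8, 1277, 1252, 0, 0, 0, 0, 34, 3, 1277, [7619, 7966, 7540]⟩) (.leaf ⟨5, 4066, 4067, 0, 0, 0, 0, 93, 0, 0, []⟩)) (.node (.leaf ⟨7, 117, 117, (-1), 0, 1, 0, 46, 3, 117, [495, 936, 494]⟩) (.leaf ⟨0, 0, 0, 0, 0, 0, 0, 0, 0, 0, []⟩))))))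

def factsPart145 : ATree TFact :=
  .node (.node (.node (.node (.node (.node (.leaf ⟨10, 76, 73, 0, 0, 0, 0, 58, 3, 76, [289, 287, 282]⟩) (.leaf ⟨2, 2739, 2739, 1, 0, 1, 0, 25, 0, 2739, [16551, 16672, 16550]⟩)) (.node (.leaf ⟨5, 1478, 1479, 0, 0, 0, 0, 93, 0, 0, []⟩) (.leaf ⟨2, 4183, 4181, 0, 0, 0, 0, 24, 0, 4181, [24857, 24863, 24864]⟩))) (.node (.node (.leaf ⟨6, 586, 726, 0, 0, 0, 0, 93, 0, 0, []⟩) (.leaf ⟨7, 456, 3455, 0, 0, 0, 0, 93, 0, 0, []⟩)) (.node (.leaf ⟨2, 2151, 259, 0, 0, 0, 0, 23, 0, 259, [1631, 12577, 12508]⟩) (.leaf ⟨9, 4876, 4879, 0, 0, 0, 0, 57, 3, 4876, [28939, 28958, 28960]⟩)))) (.node (.node (.node (.leaf ⟨7, 432, 433, 0, 0, 0, 0, 93, 0, 0, []⟩) (.leaf ⟨9, 838, 3094, 0, 0, 0, 0, 63, 2, 837, [5334, 5331, 18720]⟩)) (.node (.leaf ⟨2, 208, 208, (-1),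 0, 1, 0, 24, 0, 208, [1499, 10528, 1498]⟩) (.leaf ⟨7, 2655, 4537, 0, 0, 0, 0, 93, 0, 0, []⟩))) (.node (.node (.leaf ⟨5, 1010, 1023, (-21), 0, (-1), 0, 38, 5, 1010, [6380, 6391, 6415, 6424, 6432]⟩) (.leaf ⟨6, 867, 3817, 0, 0, 0, 0, 93, 0, 0, []⟩)) (.node (.leaf ⟨3, 1384, 1384, (-1), 0, 1, 0, 33, 0, 1384, [8075, 14238, 8074]⟩) (.leaf ⟨7, 5156, 5157, 0, 0, 0, 0, 93, 0, 0, []⟩))))) (.node (.node (.node (.node (.leaf ⟨10, 110, 188, 0, 0, 0, 0, 93, 0, 0, []⟩) (.leaf ⟨6, 2900, 2901, 0, 0, 0, 0, 93, 0, 0, []⟩)) (.node (.leaf ⟨9, 1517, 1489, (-4), 0, (-34), 0, 60, 3, 1522, [8620, 8604, 9495, 9504, 8540]⟩) (.leaf ⟨2, 2453, 692, 0, 0, 0, 0, 23, 0, 692, [4183, 14146, 14650]⟩))) (.node (.node (.leaf ⟨1, 719, 850, 0, 0, 0, 0, 19, 0, 850, [5385, 5409, 4304]⟩) (.leaf ⟨4, 3711, 3712,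 0, 0, 0, 0, 93, 0, 0, []⟩)) (.node (.leaf ⟨5, 2363, 2364, 0, 0, 0, 0, 93, 0, 0, []⟩) (.leaf ⟨10, 4988, 1749, (-71), 0, (-1), 0, 66, 42, 1671, [9864, 9788, 9790, 9792, 9794, 9796, 9876, 9878, 29853, 29855, 29859, 29863, 29870, 29875, 29880, 29888, 10188, 10172, 10174, 29904, 29912, 9800, 14330, 9471, 8736, 8670, 8645, 1496, 14596, 10528, 8852, 9891, 9838, 9790, 29914, 13498, 2679, 7865, 9766, 9102, 9751, 9740, 9720, 29916, 16152, 4333, 4328, 8996, 29918, 29920, 29975, 9086, 29933, 10202, 29930, 29926, 29923, 29977, 29978, 29980, 29982, 14518, 29984]⟩)))) (.node (.node (.node (.leaf ⟨1, 618, 617, 0, 0, 0, 0, 20, 0, 617, [3353, 1321, 3358]⟩) (.leaf ⟨2, 3271, 885, 0, 0, 0, 0, 23, 0, 885, [5599, 19639, 19744]⟩)) (.node (.leaf ⟨4, 729, 602, 0, 0, 0, 0, 43, 0, 602, [3259, 4177,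 4408]⟩) (.leaf ⟨11, 4700, 4259, 0, 0, 0, 0, 50, 3, 4700, [27937, 27935, 25344]⟩))) (.node (.node (.leaf ⟨5, 1232, 1233, 0, 0, 0, 0, 93, 0, 0, []⟩) (.leaf ⟨5, 3997, 3860, 0, 0, 0, 0, 46, 2, 3996, [23840, 23839, 23042]⟩)) (.node (.leaf ⟨2, 432, 432, 35, 0, (-1), 0, 23, 2, 406, [2336, 15648, 2336]⟩) (.leaf ⟨0, 0, 0, 0, 0, 0, 0, 0, 0, 0, []⟩)))))) (.node (.node (.node (.node (.node (.leaf ⟨2, 110, 110, 1, 0, 1, 0, 11, 5, 110, [497, 510, 800, 511, 496]⟩) (.leaf ⟨7, 2813, 2813, 1, 0, (-1), 0, 57, 0, 2813, [17179, 17184, 17178]⟩)) (.node (.leaf ⟨3, 722, 1577, 0, 0, 0, 0, 31, 0, 1577, [8909, 8992, 4328]⟩) (.leaf ⟨5, 4264, 4253, 0, 0, 0, 0, 46, 2, 4263, [25354, 25353, 25332]⟩))) (.node (.node (.leaf ⟨10, 670, 670, 1, 0, 1, 0, 19, 3, 670, [3805, 662, 3804]⟩) (.leaf ⟨5, 3592, 3593,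 0, 0, 0, 0, 93, 0, 0, []⟩)) (.node (.leaf ⟨4, 2251, 2267, 0, 0, 0, 0, 39, 0, 2267, [13073, 13089, 13040]⟩) (.leaf ⟨5, 4918, 4917, 0, 0, 0, 0, 38, 5, 4918, [29473, 13429, 10176, 14956, 29470]⟩)))) (.node (.node (.node (.leaf ⟨4, 407, 407, (-1), 0, (-1), 0, 40, 0, 407, [2223, 2848, 2222]⟩) (.leaf ⟨1, 3156, 3006, 0, 0, 0, 0, 19, 0, 3006, [18245, 19231, 19232]⟩)) (.node (.leaf ⟨8, 1503, 1853, 0, 0, 0, 0, 47, 3, 1503, [8569, 8567, 11022]⟩) (.leaf ⟨7, 932, 932, (-1), 0, (-1), 0, 51, 5, 932, [5965, 5927, 27424, 5926, 5964]⟩))) (.node (.node (.leaf ⟨6, 1116, 1117, 0, 0, 0, 0, 93, 0, 0, []⟩) (.leaf ⟨9, 397, 397, 1, 0, (-1), 0, 53, 3, 397, [2167, 23328, 2166]⟩)) (.node (.leaf ⟨3, 210, 17, 0, 0, 0, 0, 31, 0, 17, [33, 15137, 1502]⟩) (.leaf ⟨0, 0, 0, 0, 0, 0, 0, 0, 0, 0, []⟩)))))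 (.node (.node (.node (.node (.leaf ⟨10, 323, 324, 0, 0, 0, 0, 93, 0, 0, []⟩) (.leaf ⟨1, 1467, 2989, 0, 0, 0, 0, 13, 0, 2989, [18189, 18209, 8458]⟩)) (.node (.leaf ⟨4, 1705, 1067, 0, 0, 0, 0, 43, 0, 1067, [6689, 9139, 10016]⟩) (.leaf ⟨5, 2664, 4454, 0, 0, 0, 0, 93, 0, 0, []⟩))) (.node (.node (.leaf ⟨3, 920, 926, 0, 0, 0, 0, 93, 0, 0, []⟩) (.leaf ⟨8, 3752, 3122, 0, 0, 0, 0, 47, 3, 3752, [22273, 22271, 18968]⟩)) (.node (.leaf ⟨4, 645, 645, 1, 0, (-1), 0, 22, 3, 645, [3559, 14112, 3558]⟩) (.leaf ⟨2, 2114, 2659, 0, 0, 0, 0, 23, 0, 2659, [15935, 30497, 12298]⟩)))) (.node (.node (.node (.leaf ⟨3, 666, 666, 1, 0, 1, 0, 30, 4, 81, [3744, 329, 3872, 328, 3744]⟩) (.leaf ⟨3, 3349, 3347, 0, 0, 0, 0, 33, 0, 3347, [20245, 18843, 20256]⟩)) (.node (.leaf ⟨8, 1719, 2057, 0, 0, 0, 0, 47,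 3, 1719, [10125, 12064, 12044]⟩) (.leaf ⟨8, 689, 3247, 0, 0, 0, 0, 34, 3, 689, [4167, 28448, 19650]⟩))) (.node (.node (.leaf ⟨8, 1278, 1260, 0, 0, 0, 0, 26, 3, 1278, [7621, 7968, 7556]⟩) (.leaf ⟨4, 4067, 4068, 0, 0, 0, 0, 93, 0, 0, []⟩)) (.node (.leaf ⟨3, 718, 718, 1, 0, 1, 0, 30, 0, 718, [4303, 9695, 13524, 9694, 4302]⟩) (.leaf ⟨0, 0, 0, 0, 0, 0, 0, 0, 0, 0, []⟩))))))

def factsPart146 : ATree TFact :=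
  .node (.node (.node (.node (.node (.node (.leaf ⟨8, 76, 77, 0, 0, 0, 0, 93, 0, 0, []⟩) (.leaf ⟨2, 2740, 2740, (-1), 0, (-1), 0, 24, 0, 2740, [16553, 16674, 16552]⟩)) (.node (.leaf ⟨6, 1479, 1480, 0, 0, 0, 0, 93, 0, 0, []⟩) (.leaf ⟨10, 4182, 4182, (-1), 0, 1, 0, 58, 3, 4182, [24861, 20292, 24860]⟩))) (.node (.node (.leaf ⟨5, 725, 726, 0, 0, 0, 0, 45, 4, 702, [4384, 4269, 3194, 3196, 4386]⟩) (.leaf ⟨2, 3455, 3405, 0, 0, 0, 0, 25, 0, 3405, [20563, 20769, 20770]⟩)) (.node (.leaf ⟨2, 2152, 260, 0, 0, 0, 0, 22, 0, 260, [1633, 12579, 12512]⟩) (.leaf ⟨2, 4873, 4879, 27, 0, 1, 0, 27, 2, 4867, [28930, 28951, 28962]⟩)))) (.node (.node (.node (.leaf ⟨6, 433, 434, 0, 0, 0, 0, 93, 0, 0, []⟩) (.leaf ⟨11, 3094, 3095, 0, 0, 0, 0, 93, 0, 0, []⟩)) (.node (.leaf ⟨2, 1529, 1529, 1, 0,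 (-1), 0, 23, 0, 1529, [8637, 10530, 8636]⟩) (.leaf ⟨6, 4537, 4538, 0, 0, 0, 0, 93, 0, 0, []⟩))) (.node (.node (.leaf ⟨3, 1005, 1022, 0, 0, 0, 0, 36, 2, 1004, [6362, 6361, 6426]⟩) (.leaf ⟨3, 3817, 3814, 0, 0, 0, 0, 32, 0, 3814, [22805, 22817, 22818]⟩)) (.node (.leaf ⟨3, 1385, 1385, 1, 0, (-1), 0, 32, 0, 1385, [8077, 14626, 8076]⟩) (.leaf ⟨8, 2510, 523, 0, 0, 0, 0, 47, 3, 2510, [15053, 15051, 2726]⟩))))) (.node (.node (.node (.node (.leaf ⟨10, 109, 189, 0, 0, 0, 0, 93, 0, 0, []⟩) (.leaf ⟨7, 2901, 2902, 0, 0, 0, 0, 93, 0, 0, []⟩)) (.node (.leaf ⟨9, 1519, 1518, 4, 0, 34, 0, 57, 3, 1519, [8609, 9507, 8606]⟩) (.leaf ⟨4, 1617, 1617, 1, 0, 1, 0, 38, 0, 1617, [9235, 3043, 14166, 3042, 9234]⟩))) (.node (.node (.leaf ⟨1, 851, 851, (-1), 0, (-1), 0, 19, 0, 851, [5389, 2742, 5388]⟩)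 (.leaf ⟨7, 3712, 3713, 0, 0, 0, 0, 93, 0, 0, []⟩)) (.node (.leaf ⟨2, 2364, 2361, 0, 0, 0, 0, 23, 0, 2361, [13575, 13600, 13602]⟩) (.leaf ⟨4, 2429, 1775, 0, 0, 0, 0, 44, 0, 1775, [10589, 8863, 14384]⟩)))) (.node (.node (.node (.leaf ⟨2, 617, 617, (-1), 0, 1, 0, 11, 3, 518, [3361, 3362, 2744, 3361, 3362]⟩) (.leaf ⟨7, 3271, 3272, 0, 0, 0, 0, 93, 0, 0, []⟩)) (.node (.leaf ⟨4, 485, 485, 1, 0, (-1), 0, 38, 0, 485, [2521, 2602, 4480, 2603, 2520]⟩) (.leaf ⟨6, 4700, 4701, 0, 0, 0, 0, 93, 0, 0, []⟩))) (.node (.node (.leaf ⟨6, 1233, 1234, 0, 0, 0, 0, 93, 0, 0, []⟩) (.leaf ⟨6, 3997, 3998, 0, 0, 0, 0, 93, 0, 0, []⟩)) (.node (.leaf ⟨2, 590, 590, 35, 0, 1, 0, 22, 2, 432, [3222, 15650, 3222]⟩) (.leaf ⟨0, 0, 0, 0, 0, 0, 0, 0, 0, 0, []⟩)))))) (.node (.node (.node (.node (.node (.leaf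 ⟨2, 109, 109, 1, 0, (-1), 0, 26, 2, 110, [469, 802, 469]⟩) (.leaf ⟨6, 2812, 2812, (-1), 0, (-1), 0, 51, 0, 2812, [17175, 17181, 17186, 17180, 17174]⟩)) (.node (.leaf ⟨6, 722, 1594, 0, 0, 0, 0, 93, 0, 0, []⟩) (.leaf ⟨5, 4273, 4274, 0, 0, 0, 0, 47, 0, 4274, [25377, 25378, 25372]⟩))) (.node (.node (.leaf ⟨7, 670, 670, 1, 0, 1, 0, 16, 3, 670, [3805, 664, 3804]⟩) (.leaf ⟨6, 3586, 3593, 0, 0, 0, 0, 45, 5, 3586, [21253, 21264, 21274, 21281, 21282]⟩)) (.node (.leaf ⟨5, 2267, 2268, 0, 0, 0, 0, 93, 0, 0, []⟩) (.leaf ⟨11, 1730, 2348, 0, 0, 0, 0, 50, 3, 1730, [10173, 10171, 13428]⟩)))) (.node (.node (.node (.leaf ⟨7, 352, 534, 0, 0, 0, 0, 93, 0, 0, []⟩) (.leaf ⟨2, 2977, 3156, 0, 0, 0, 0, 28, 2, 2976, [18146, 18145, 19232]⟩)) (.node (.leaf ⟨8, 1854, 1504, 0, 0, 0, 0, 41, 3, 1854,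 [11027, 11043, 8570]⟩) (.leaf ⟨7, 933, 933, (-1), 0, 1, 0, 46, 3, 933, [5967, 27426, 5966]⟩))) (.node (.node (.leaf ⟨0, 1117, 1097, 0, 0, 0, 0, 5, 0, 1097, [6863, 6945, 6946]⟩) (.leaf ⟨9, 614, 614, 1, 0, 1, 0, 48, 3, 614, [3337, 23330, 3336]⟩)) (.node (.leaf ⟨4, 212, 19, 0, 0, 0, 0, 30, 5, 212, [1507, 1505, 15138, 34, 36]⟩) (.leaf ⟨0, 0, 0, 0, 0, 0, 0, 0, 0, 0, []⟩))))) (.node (.node (.node (.node (.leaf ⟨5, 324, 325, 0, 0, 0, 0, 93, 0, 0, []⟩) (.leaf ⟨1, 2978, 2990, 0, 0, 0, 0, 18, 0, 2990, [18191, 18211, 18166]⟩)) (.node (.leaf ⟨11, 1705, 1706, 0, 0, 0, 0, 93, 0, 0, []⟩) (.leaf ⟨7, 4454, 4455, 0, 0, 0, 0, 93, 0, 0, []⟩))) (.node (.node (.leaf ⟨9, 926, 927, 0, 0, 0, 0, 93, 0, 0, []⟩) (.leaf ⟨3, 3752, 3752, (-1), 0, (-1), 0, 34, 2, 3122, [22307, 22238, 22307]⟩)) (.node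 (.leaf ⟨4, 691, 691, (-1), 0, 1, 0, 43, 0, 691, [4181, 14114, 4180]⟩) (.leaf ⟨2, 2115, 4516, 0, 0, 0, 0, 25, 0, 4516, [26837, 30499, 12300]⟩)))) (.node (.node (.node (.leaf ⟨3, 672, 672, (-1), 0, (-1), 0, 36, 0, 672, [3861, 3874, 3860]⟩) (.leaf ⟨6, 3349, 3350, 0, 0, 0, 0, 93, 0, 0, []⟩)) (.node (.leaf ⟨8, 2061, 2058, 0, 0, 0, 0, 41, 3, 2061, [12063, 12066, 12046]⟩) (.leaf ⟨8, 694, 3248, 0, 0, 0, 0, 61, 0, 3248, [19653, 28451, 4190]⟩))) (.node (.node (.leaf ⟨8, 1279, 1261, 0, 0, 0, 0, 61, 0, 1261, [7559, 7971, 7622]⟩) (.leaf ⟨3, 4068, 4069, 0, 0, 0, 0, 93, 0, 0, []⟩)) (.node (.leaf ⟨1, 1702, 791, 0, 0, 0, 0, 14, 0, 791, [5019, 8183, 10006]⟩) (.leaf ⟨0, 0, 0, 0, 0, 0, 0, 0, 0, 0, []⟩))))))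

def factsPart147 : ATree TFact :=
  .node (.node (.node (.node (.node (.node (.leaf ⟨10, 74, 77, 0, 0, 0, 0, 61, 3, 74, [285, 291, 292]⟩) (.leaf ⟨2, 2741, 2741, 1, 0, 1, 0, 23, 0, 2741, [16555, 16676, 16554]⟩)) (.node (.leaf ⟨4, 1480, 1481, 0, 0, 0, 0, 93, 0, 0, []⟩) (.leaf ⟨10, 4183, 4183, (-1), 0, (-1), 0, 54, 3, 4183, [24865, 24868, 24864]⟩))) (.node (.node (.leaf ⟨4, 726, 726, (-1), 0, 1, 0, 39, 0, 726, [4387, 3206, 4386]⟩) (.leaf ⟨6, 3455, 3456, 0, 0, 0, 0, 93, 0, 0, []⟩)) (.node (.leaf ⟨3, 2156, 1910, 0, 0, 0, 0, 21, 5, 2156, [12529, 12517, 12580, 10890, 11300]⟩) (.leaf ⟨7, 2604, 4880, 0, 0, 0, 0, 93, 0, 0, []⟩)))) (.node (.node (.node (.leaf ⟨8, 434, 435, 0, 0, 0, 0, 93, 0, 0, []⟩) (.leaf ⟨9, 3095, 910, 0, 0, 0, 0, 64, 0, 910, [5789, 18722, 18724]⟩)) (.node (.leaf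 ⟨6, 1544, 1544, 1, 0, (-1), 0, 54, 0, 1544, [8695, 8674, 8694]⟩) (.leaf ⟨5, 4538, 4539, 0, 0, 0, 0, 93, 0, 0, []⟩))) (.node (.node (.leaf ⟨3, 1023, 1006, 0, 0, 0, 0, 37, 0, 1006, [6365, 6436, 6428]⟩) (.leaf ⟨8, 3817, 3818, 0, 0, 0, 0, 93, 0, 0, []⟩)) (.node (.leaf ⟨3, 1405, 1405, (-1), 0, 1, 0, 31, 0, 1405, [8125, 14628, 8124]⟩) (.leaf ⟨4, 5113, 523, 17, 0, (-1), 0, 44, 0, 523, [2729, 784, 30672]⟩))))) (.node (.node (.node (.node (.leaf ⟨8, 188, 189, 0, 0, 0, 0, 61, 0, 189, [1317, 468, 1314]⟩) (.leaf ⟨6, 2902, 2903, 0, 0, 0, 0, 93, 0, 0, []⟩)) (.node (.leaf ⟨7, 1124, 1624, 0, 0, 0, 0, 93, 0, 0, []⟩) (.leaf ⟨4, 2414, 2414, (-1), 0, (-1), 0, 39, 0, 2414, [14119, 25892, 14118]⟩))) (.node (.node (.leaf ⟨1, 852, 852, 1, 0, 1, 0, 20, 0, 852, [5391, 5412, 5390]⟩) (.leaf ⟨6,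 3713, 3714, 0, 0, 0, 0, 93, 0, 0, []⟩)) (.node (.leaf ⟨6, 2364, 2365, 0, 0, 0, 0, 93, 0, 0, []⟩) (.leaf ⟨5, 4988, 4984, 0, 0, 0, 0, 38, 5, 4988, [29907, 14387, 29988, 29844, 29846]⟩)))) (.node (.node (.node (.leaf ⟨2, 616, 616, 1, 0, (-1), 0, 28, 0, 616, [3357, 3364, 3356]⟩) (.leaf ⟨2, 3272, 3264, 0, 0, 0, 0, 25, 0, 3264, [19707, 19747, 19748]⟩)) (.node (.leaf ⟨4, 686, 607, 0, 0, 0, 0, 43, 2, 558, [4156, 3007, 3300]⟩) (.leaf ⟨11, 4260, 4701, 0, 0, 0, 0, 55, 3, 4260, [25347, 27939, 27940]⟩))) (.node (.node (.leaf ⟨4, 1234, 1235, 0, 0, 0, 0, 93, 0, 0, []⟩) (.leaf ⟨5, 3998, 3999, 0, 0, 0, 0, 93, 0, 0, []⟩)) (.node (.leaf ⟨7, 680, 680, (-1), 0, (-1), 0, 59, 0, 680, [4069, 4104, 4068]⟩) (.leaf ⟨0, 0, 0, 0, 0, 0, 0, 0, 0, 0, []⟩)))))) (.node (.node (.node (.node (.node (.leaf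 ⟨3, 97, 97, 1, 0, (-1), 0, 21, 5, 97, [447, 464, 804, 465, 446]⟩) (.leaf ⟨10, 2515, 2515, 1, 0, (-1), 0, 61, 3, 2515, [15073, 976, 15072]⟩)) (.node (.leaf ⟨3, 1594, 1578, 0, 0, 0, 0, 32, 0, 1578, [8911, 8995, 8996]⟩) (.leaf ⟨6, 4266, 4274, 0, 0, 0, 0, 52, 2, 4265, [25358, 25357, 25376]⟩))) (.node (.node (.leaf ⟨6, 670, 670, 1, 0, 1, 0, 15, 3, 670, [3805, 666, 3804]⟩) (.leaf ⟨5, 3578, 3594, 0, 0, 0, 0, 93, 0, 0, []⟩)) (.node (.leaf ⟨4, 2268, 2269, 0, 0, 0, 0, 93, 0, 0, []⟩) (.leaf ⟨11, 4918, 1731, 0, 0, 0, 0, 44, 3, 4918, [29473, 29477, 10174]⟩)))) (.node (.node (.node (.leaf ⟨3, 534, 407, 0, 0, 0, 0, 33, 0, 407, [2223, 2606, 2852]⟩) (.leaf ⟨1, 2986, 2977, (-59), 0, 47, 0, 11, 4, 2985, [18182, 18226, 19217, 19235, 19237]⟩)) (.node (.leaf ⟨8, 1855, 1505, 0, 0, 0, 0, 34,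 3, 1855, [11031, 11044, 8572]⟩) (.leaf ⟨6, 933, 933, (-1), 0, 11, 0, 45, 3, 928, [5964, 5966, 5954, 5964, 5966]⟩))) (.node (.node (.leaf ⟨1, 1099, 1099, 1, 0, 1, 0, 15, 0, 1099, [6875, 226, 6874]⟩) (.leaf ⟨8, 400, 400, (-1), 0, 1, 0, 60, 0, 400, [2179, 5378, 23332, 5379, 2178]⟩)) (.node (.leaf ⟨9, 212, 2521, 0, 0, 0, 0, 93, 0, 0, []⟩) (.leaf ⟨0, 0, 0, 0, 0, 0, 0, 0, 0, 0, []⟩))))) (.node (.node (.node (.node (.leaf ⟨7, 325, 326, 0, 0, 0, 0, 93, 0, 0, []⟩) (.leaf ⟨1, 2979, 2991, 0, 0, 0, 0, 19, 0, 2991, [18193, 18213, 18168]⟩)) (.node (.leaf ⟨4, 1706, 1703, 0, 0, 0, 0, 44, 0, 1703, [10011, 10019, 10020]⟩) (.leaf ⟨6, 4372, 4456, 0, 0, 0, 0, 93, 0, 0, []⟩))) (.node (.node (.leaf ⟨7, 927, 928, 0, 0, 0, 0, 93, 0, 0, []⟩) (.leaf ⟨5, 3739, 3739, (-1), 0, (-1), 0, 47, 0, 3739,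 [22079, 22222, 22078]⟩)) (.node (.leaf ⟨6, 1617, 2414, 0, 0, 0, 0, 93, 0, 0, []⟩) (.leaf ⟨8, 2115, 5086, 0, 0, 0, 0, 93, 0, 0, []⟩)))) (.node (.node (.node (.leaf ⟨3, 673, 673, 1, 0, 1, 0, 37, 0, 673, [3865, 3876, 3864]⟩) (.leaf ⟨3, 3350, 3348, 0, 0, 0, 0, 32, 0, 3348, [20249, 20259, 20260]⟩)) (.node (.leaf ⟨4, 1718, 2062, 0, 0, 0, 0, 93, 0, 0, []⟩) (.leaf ⟨8, 746, 4789, 0, 0, 0, 0, 47, 3, 746, [4663, 28452, 28438]⟩))) (.node (.node (.leaf ⟨8, 1280, 1262, 0, 0, 0, 0, 47, 3, 1280, [7625, 7972, 7560]⟩) (.leaf ⟨8, 3046, 4070, 0, 0, 0, 0, 93, 0, 0, []⟩)) (.node (.leaf ⟨1, 2450, 2454, 0, 0, 0, 0, 15, 0, 2454, [14657, 16165, 14636]⟩) (.leaf ⟨0, 0, 0, 0, 0, 0, 0, 0, 0, 0, []⟩))))))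

def factsPart148 : ATree TFact :=
  .node (.node (.node (.node (.node (.node (.leaf ⟨8, 0, 0, 1, 0, 1, 0, 88, 0, 0, []⟩) (.leaf ⟨2, 2742, 2742, (-1), 0, (-1), 0, 22, 0, 2742, [16557, 16678, 16556]⟩)) (.node (.leaf ⟨7, 1481, 1482, 0, 0, 0, 0, 93, 0, 0, []⟩) (.leaf ⟨5, 4004, 4004, 1, 0, 1, 0, 47, 0, 4004, [23879, 3158, 23878]⟩))) (.node (.node (.leaf ⟨6, 588, 727, 0, 0, 0, 0, 93, 0, 0, []⟩) (.leaf ⟨2, 3456, 3406, 0, 0, 0, 0, 24, 0, 3406, [20565, 20773, 20774]⟩)) (.node (.leaf ⟨3, 2157, 1911, 0, 0, 0, 0, 36, 0, 1911, [11303, 12583, 12530]⟩) (.leaf ⟨2, 271, 2469, 0, 0, 0, 0, 26, 0, 2469, [14889, 2679, 1702]⟩)))) (.node (.node (.node (.leaf ⟨5, 435, 436, 0, 0, 0, 0, 93, 0, 0, []⟩) (.leaf ⟨8, 649, 3094, 0, 0, 0, 0, 61, 0, 3094, [18721, 5744, 3608]⟩)) (.node (.leaf ⟨4, 1566,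 1566, (-1), 0, 1, 0, 22, 3, 1566, [8805, 9450, 8804]⟩) (.leaf ⟨10, 4539, 4540, 0, 0, 0, 0, 93, 0, 0, []⟩))) (.node (.node (.leaf ⟨10, 996, 1024, 0, 0, 0, 0, 93, 0, 0, []⟩) (.leaf ⟨3, 3818, 3815, 0, 0, 0, 0, 34, 0, 3815, [22809, 22821, 22822]⟩)) (.node (.leaf ⟨4, 1407, 1407, (-1), 0, 1, 0, 30, 5, 1407, [8129, 8127, 14630, 8126, 8128]⟩) (.leaf ⟨8, 5113, 5156, 0, 0, 0, 0, 62, 0, 5156, [31009, 17167, 30672]⟩))))) (.node (.node (.node (.node (.leaf ⟨1, 172, 188, 0, 0, 0, 0, 19, 0, 188, [1315, 497, 1076]⟩) (.leaf ⟨5, 2903, 2904, 0, 0, 0, 0, 93, 0, 0, []⟩)) (.node (.leaf ⟨7, 1516, 1123, 0, 0, 0, 0, 51, 3, 1514, [8600, 8602, 8599, 6996, 6998]⟩) (.leaf ⟨1, 1594, 725, 0, 0, 0, 0, 15, 0, 725, [4385, 4365, 8996]⟩))) (.node (.node (.leaf ⟨2, 850, 850, 1, 0, 11, 0, 11, 3, 852, [5400,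 5410, 5414, 5400, 5410]⟩) (.leaf ⟨11, 372, 3708, 0, 0, 0, 0, 59, 3, 372, [1997, 1995, 21786]⟩)) (.node (.leaf ⟨2, 2365, 2362, 0, 0, 0, 0, 24, 0, 2362, [13577, 13605, 13606]⟩) (.leaf ⟨10, 1648, 4984, 74, 0, (-2), 0, 49, 3, 1646, [9578, 9580, 10325, 29987, 29990]⟩)))) (.node (.node (.node (.leaf ⟨6, 99, 99, (-1), 0, 1, 0, 45, 5, 99, [425, 853, 2780, 852, 424]⟩) (.leaf ⟨6, 3272, 3273, 0, 0, 0, 0, 93, 0, 0, []⟩)) (.node (.leaf ⟨4, 608, 736, 0, 0, 0, 0, 44, 0, 736, [4457, 11558, 3304]⟩) (.leaf ⟨7, 4701, 4702, 0, 0, 0, 0, 93, 0, 0, []⟩))) (.node (.node (.leaf ⟨5, 1235, 1236, 0, 0, 0, 0, 93, 0, 0, []⟩) (.leaf ⟨6, 3862, 3999, 0, 0, 0, 0, 45, 5, 3862, [23047, 23045, 23843, 23844, 23846]⟩)) (.node (.leaf ⟨10, 680, 680, 1, 0, (-1), 0, 65, 4, 679, [4068, 4067, 14168, 4066, 4068]⟩)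 (.leaf ⟨0, 0, 0, 0, 0, 0, 0, 0, 0, 0, []⟩)))))) (.node (.node (.node (.node (.node (.leaf ⟨3, 93, 93, 1, 0, 1, 0, 31, 2, 97, [419, 806, 419]⟩) (.leaf ⟨10, 2767, 2767, 1, 0, 1, 0, 63, 3, 2767, [16767, 17190, 16766]⟩)) (.node (.leaf ⟨10, 760, 1595, 0, 0, 0, 0, 93, 0, 0, []⟩) (.leaf ⟨6, 4256, 4267, 0, 0, 0, 0, 45, 5, 4256, [25339, 25374, 25380, 25383, 25360]⟩))) (.node (.node (.leaf ⟨11, 432, 432, 1, 0, (-1), 0, 50, 3, 432, [2337, 2314, 2336]⟩) (.leaf ⟨8, 3580, 3594, 0, 0, 0, 0, 47, 3, 3580, [21241, 21213, 21286]⟩)) (.node (.leaf ⟨5, 2253, 2269, 0, 0, 0, 0, 38, 5, 2253, [13045, 13043, 13090, 13092, 13094]⟩) (.leaf ⟨10, 1731, 4919, 0, 0, 0, 0, 93, 0, 0, []⟩)))) (.node (.node (.node (.leaf ⟨2, 534, 486, 0, 0, 0, 0, 25, 0, 486, [2533, 2629, 2852]⟩) (.leaf ⟨11, 2979, 3157,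 0, 0, 0, 0, 93, 0, 0, []⟩)) (.node (.leaf ⟨8, 1856, 1506, 0, 0, 0, 0, 26, 3, 1856, [11035, 11046, 8574]⟩) (.leaf ⟨6, 3136, 3136, (-1), 0, 1, 0, 53, 0, 3136, [19095, 24876, 19094]⟩))) (.node (.node (.leaf ⟨1, 1100, 1100, (-1), 0, (-1), 0, 16, 0, 1100, [6879, 6950, 6878]⟩) (.leaf ⟨8, 401, 401, 1, 0, (-1), 0, 61, 0, 401, [2183, 23334, 2182]⟩)) (.node (.leaf ⟨4, 2521, 20, 0, 0, 0, 0, 42, 0, 20, [39, 15141, 15142]⟩) (.leaf ⟨0, 0, 0, 0, 0, 0, 0, 0, 0, 0, []⟩))))) (.node (.node (.node (.node (.leaf ⟨6, 326, 327, 0, 0, 0, 0, 93, 0, 0, []⟩) (.leaf ⟨1, 2980, 2992, 0, 0, 0, 0, 14, 0, 2992, [18195, 18215, 18170]⟩)) (.node (.leaf ⟨10, 1610, 1707, 0, 0, 0, 0, 93, 0, 0, []⟩) (.leaf ⟨5, 2677, 4456, 0, 0, 0, 0, 45, 4, 2676, [16004, 16003, 25080, 26008, 26406]⟩))) (.node (.node (.leaf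 ⟨3, 927, 921, 0, 0, 0, 0, 35, 2, 926, [5924, 5923, 5872]⟩) (.leaf ⟨10, 3711, 3711, (-1), 0, (-1), 0, 49, 5, 3711, [21793, 22083, 22310, 22082, 21792]⟩)) (.node (.leaf ⟨5, 2414, 728, 0, 0, 0, 0, 45, 4, 1617, [14118, 9235, 9244, 3216, 4396]⟩) (.leaf ⟨2, 5086, 5083, 0, 0, 0, 0, 26, 0, 5083, [30471, 30501, 30502]⟩)))) (.node (.node (.node (.leaf ⟨3, 674, 674, (-1), 0, (-1), 0, 31, 0, 674, [3869, 3878, 3868]⟩) (.leaf ⟨7, 3238, 3351, 0, 0, 0, 0, 93, 0, 0, []⟩)) (.node (.leaf ⟨7, 2061, 2062, 0, 0, 0, 0, 40, 3, 2061, [12063, 10440, 12070]⟩) (.leaf ⟨8, 561, 4478, 0, 0, 0, 0, 61, 0, 4478, [26527, 24309, 3020]⟩))) (.node (.node (.leaf ⟨8, 1281, 1263, 0, 0, 0, 0, 52, 3, 1281, [7627, 7974, 7562]⟩) (.leaf ⟨4, 4049, 427, 0, 0, 0, 0, 22, 3, 4049, [24263, 23786, 2296]⟩)) (.node (.leaf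 ⟨11, 782, 2698, 0, 0, 0, 0, 93, 0, 0, []⟩) (.leaf ⟨0, 0, 0, 0, 0, 0, 0, 0, 0, 0, []⟩))))))

def factsPart149 : ATree TFact :=
  .node (.node (.node (.node (.node (.node (.leaf ⟨8, 1, 1, 1, 0, (-1), 0, 17, 3, 1, [1, 296, 0]⟩) (.leaf ⟨7, 2737, 2753, 0, 0, 0, 0, 93, 0, 0, []⟩)) (.node (.leaf ⟨8, 1482, 1483, 0, 0, 0, 0, 93, 0, 0, []⟩) (.leaf ⟨6, 2722, 2722, 1, 0, 1, 0, 45, 5, 2722, [16485, 23880, 24872, 23881, 16484]⟩))) (.node (.node (.leaf ⟨3, 726, 727, 0, 0, 0, 0, 32, 0, 727, [4393, 3215, 4386]⟩) (.leaf ⟨8, 3456, 3457, 0, 0, 0, 0, 93, 0, 0, []⟩)) (.node (.leaf ⟨3, 2158, 1912, 0, 0, 0, 0, 31, 0, 1912, [11305, 12585, 12532]⟩) (.leaf ⟨2, 272, 2470, 0, 0, 0, 0, 23, 0, 2470, [14891, 28969, 1704]⟩)))) (.node (.node (.node (.leaf ⟨4, 436, 437, 0, 0, 0, 0, 93, 0, 0, []⟩) (.leaf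 ⟨8, 650, 3095, 0, 0, 0, 0, 62, 0, 3095, [18725, 18729, 3612]⟩)) (.node (.leaf ⟨3, 1566, 1566, (-1), 0, 1, 0, 21, 5, 1566, [8805, 8803, 9440, 8802, 8804]⟩) (.leaf ⟨5, 4537, 4533, 0, 0, 0, 0, 46, 2, 2655, [26914, 15903, 26906]⟩))) (.node (.node (.leaf ⟨3, 1024, 1010, 0, 0, 0, 0, 36, 2, 996, [6440, 6329, 6376]⟩) (.leaf ⟨7, 3818, 3819, 0, 0, 0, 0, 93, 0, 0, []⟩)) (.node (.leaf ⟨4, 1415, 1415, 1, 0, (-1), 0, 43, 0, 1415, [8157, 14632, 8156]⟩) (.leaf ⟨4, 2510, 5156, (-17), 0, 1, 0, 41, 2, 523, [31013, 31015, 31016]⟩))))) (.node (.node (.node (.node (.leaf ⟨4, 188, 184, 21, 0, (-1), 0, 13, 3, 188, [1321, 1115, 1234]⟩) (.leaf ⟨4, 2904, 2905, 0, 0, 0, 0, 93, 0, 0, []⟩)) (.node (.leaf ⟨8, 1624, 1518, 0, 0, 0, 0, 56, 5, 1624, [9511, 7001, 9513, 8604, 8606]⟩) (.leaf ⟨1, 1597, 1597,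 (-1), 0, (-1), 0, 20, 0, 1597, [9015, 4826, 9014]⟩))) (.node (.node (.leaf ⟨2, 615, 615, (-1), 0, (-11), 0, 22, 0, 615, [5387, 5416, 5386]⟩) (.leaf ⟨11, 3709, 373, 0, 0, 0, 0, 55, 3, 3709, [21789, 21801, 1998]⟩)) (.node (.leaf ⟨3, 2363, 707, 0, 0, 0, 0, 36, 2, 1768, [13598, 10545, 4280]⟩) (.leaf ⟨3, 2440, 2440, 1, 0, 1, 0, 36, 2, 2443, [14485, 14488, 14485]⟩)))) (.node (.node (.node (.leaf ⟨6, 100, 100, (-1), 0, (-1), 0, 39, 3, 100, [429, 3368, 428]⟩) (.leaf ⟨2, 3273, 3265, 0, 0, 0, 0, 24, 0, 3265, [19711, 19751, 19752]⟩)) (.node (.leaf ⟨3, 607, 784, 0, 0, 0, 0, 36, 0, 784, [4921, 3037, 3300]⟩) (.leaf ⟨11, 4261, 4702, 0, 0, 0, 0, 59, 3, 4261, [25349, 27942, 27944]⟩))) (.node (.node (.leaf ⟨7, 1236, 1237, 0, 0, 0, 0, 93, 0, 0, []⟩) (.leaf ⟨2, 3658, 3999, (-36), 0, (-16),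 0, 24, 2, 3666, [21595, 23837, 23848]⟩)) (.node (.leaf ⟨6, 638, 691, 0, 0, 0, 0, 54, 0, 691, [4181, 3561, 3522]⟩) (.leaf ⟨0, 0, 0, 0, 0, 0, 0, 0, 0, 0, []⟩)))))) (.node (.node (.node (.node (.node (.leaf ⟨4, 87, 87, 1, 0, 1, 0, 30, 3, 93, [407, 416, 808, 407, 416]⟩) (.leaf ⟨3, 2751, 2768, 0, 0, 0, 0, 35, 0, 2768, [16781, 16727, 16622]⟩)) (.node (.leaf ⟨6, 720, 1596, 0, 0, 0, 0, 93, 0, 0, []⟩) (.leaf ⟨6, 4257, 4268, 0, 0, 0, 0, 39, 3, 4257, [25341, 25384, 25362]⟩))) (.node (.node (.leaf ⟨11, 590, 590, 1, 0, 1, 0, 44, 3, 590, [3223, 4904, 3222]⟩) (.leaf ⟨5, 3045, 3595, 0, 0, 0, 0, 93, 0, 0, []⟩)) (.node (.leaf ⟨10, 2269, 2270, 0, 0, 0, 0, 93, 0, 0, []⟩) (.leaf ⟨5, 4912, 4912, (-1), 0, 1, 0, 4, 3, 4912, [29365, 29266, 29364]⟩)))) (.node (.node (.node (.leaf ⟨7, 469, 535,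 0, 0, 0, 0, 93, 0, 0, []⟩) (.leaf ⟨5, 3157, 3158, 0, 0, 0, 0, 93, 0, 0, []⟩)) (.node (.leaf ⟨8, 1857, 1790, 0, 0, 0, 0, 17, 3, 1857, [11039, 11048, 10736]⟩) (.leaf ⟨7, 3138, 3138, (-1), 0, 1, 0, 51, 5, 3138, [19099, 19097, 27432, 19096, 19098]⟩))) (.node (.node (.leaf ⟨1, 1101, 1101, 1, 0, 1, 0, 15, 0, 1101, [6883, 6952, 6882]⟩) (.leaf ⟨8, 402, 402, (-1), 0, 1, 0, 62, 0, 402, [2185, 23336, 2184]⟩)) (.node (.leaf ⟨10, 2521, 2522, 0, 0, 0, 0, 93, 0, 0, []⟩) (.leaf ⟨0, 0, 0, 0, 0, 0, 0, 0, 0, 0, []⟩))))) (.node (.node (.node (.node (.leaf ⟨5, 327, 328, 0, 0, 0, 0, 93, 0, 0, []⟩) (.leaf ⟨1, 2981, 2993, 0, 0, 0, 0, 16, 0, 2993, [18197, 18217, 18172]⟩)) (.node (.leaf ⟨3, 1705, 1707, 0, 0, 0, 0, 36, 2, 1611, [10016, 9107, 10024]⟩) (.leaf ⟨11, 4456, 4454, (-1), 0, (-5), 0, 50,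 3, 4456, [26409, 16014, 26402]⟩))) (.node (.node (.leaf ⟨3, 922, 928, 0, 0, 0, 0, 33, 0, 928, [5927, 5928, 5874]⟩) (.leaf ⟨6, 3741, 3755, 0, 0, 0, 0, 93, 0, 0, []⟩)) (.node (.leaf ⟨10, 642, 2415, 0, 0, 0, 0, 93, 0, 0, []⟩) (.leaf ⟨8, 796, 5087, 0, 0, 0, 0, 93, 0, 0, []⟩)))) (.node (.node (.node (.leaf ⟨4, 672, 82, 0, 0, 0, 0, 43, 2, 666, [3860, 3745, 338]⟩) (.leaf ⟨6, 3351, 3352, 0, 0, 0, 0, 93, 0, 0, []⟩)) (.node (.leaf ⟨10, 1468, 2063, 0, 0, 0, 0, 93, 0, 0, []⟩) (.leaf ⟨8, 1614, 4784, 0, 0, 0, 0, 62, 0, 4784, [28419, 28457, 9200]⟩))) (.node (.node (.leaf ⟨8, 1282, 1264, 0, 0, 0, 0, 41, 3, 1282, [7629, 7976, 7564]⟩) (.leaf ⟨4, 4050, 428, 0, 0, 0, 0, 42, 0, 428, [2299, 24361, 24268]⟩)) (.node (.leaf ⟨6, 599, 599, 1, 0, 1, 0, 39, 3, 599, [3253, 4134, 3252]⟩) (.leaf ⟨0,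 0, 0, 0, 0, 0, 0, 0, 0, 0, []⟩))))))

def factsPart150 : ATree TFact :=
  .node (.node (.node (.node (.node (.node (.leaf ⟨8, 2, 2, 1, 0, 1, 0, 26, 3, 2, [3, 298, 2]⟩) (.leaf ⟨6, 2753, 2754, 0, 0, 0, 0, 93, 0, 0, []⟩)) (.node (.leaf ⟨3, 1462, 1049, 0, 0, 0, 0, 32, 0, 1049, [6647, 7861, 8448]⟩) (.leaf ⟨6, 2723, 2723, 1, 0, (-1), 0, 39, 3, 2723, [16487, 24874, 16486]⟩))) (.node (.node (.leaf ⟨6, 589, 728, 0, 0, 0, 0, 93, 0, 0, []⟩) (.leaf ⟨2, 3457, 3407, 0, 0, 0, 0, 26, 0, 3407, [20567, 20777, 20778]⟩)) (.node (.leaf ⟨1, 2047, 1912, 8, 0, (-22), 0, 12, 2, 2039, [12235, 12569, 12586]⟩) (.leaf ⟨2, 273, 2471, 0, 0, 0, 0, 22, 0, 2471, [14893, 28971, 1706]⟩)))) (.node (.node (.node (.leaf ⟨3, 437, 438, 0, 0, 0, 0, 93, 0, 0, []⟩) (.leaf ⟨3, 3095, 3095, 1, 0, (-1), 0, 34, 0,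 3095, [18731, 3642, 18730]⟩)) (.node (.leaf ⟨7, 1565, 1565, 1, 0, (-1), 0, 33, 3, 1565, [8803, 9430, 8802]⟩) (.leaf ⟨6, 4535, 4539, 0, 0, 0, 0, 45, 5, 4535, [26911, 26909, 26923, 26916, 26918]⟩))) (.node (.node (.leaf ⟨5, 1006, 1024, 21, 0, 1, 0, 31, 1, 1010, [6434, 6438, 6443]⟩) (.leaf ⟨3, 3819, 3816, 0, 0, 0, 0, 33, 0, 3816, [22813, 22825, 22826]⟩)) (.node (.leaf ⟨6, 1702, 2450, 0, 0, 0, 0, 93, 0, 0, []⟩) (.leaf ⟨4, 5157, 5154, 17, 0, (-1), 0, 40, 2, 5156, [31010, 31019, 30990]⟩))))) (.node (.node (.node (.node (.leaf ⟨4, 189, 182, 21, 0, 1, 0, 41, 2, 188, [1318, 1322, 1245]⟩) (.leaf ⟨6, 2897, 2690, 0, 0, 0, 0, 15, 3, 2897, [17691, 2376, 16096]⟩)) (.node (.leaf ⟨4, 1121, 1625, 0, 0, 0, 0, 93, 0, 0, []⟩) (.leaf ⟨2, 725, 725, (-1), 0, (-11), 0, 11, 3, 1597, [9017, 25896,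 25898, 9017, 25896]⟩))) (.node (.node (.leaf ⟨2, 848, 848, 1, 0, 11, 0, 26, 0, 848, [5381, 5418, 5380]⟩) (.leaf ⟨11, 3710, 3698, 0, 0, 0, 0, 62, 3, 3710, [21791, 21802, 21730]⟩)) (.node (.leaf ⟨5, 707, 2366, 0, 0, 0, 0, 93, 0, 0, []⟩) (.leaf ⟨11, 1677, 4991, 0, 0, 0, 0, 93, 0, 0, []⟩)))) (.node (.node (.node (.leaf ⟨6, 105, 105, (-1), 0, 1, 0, 32, 3, 105, [449, 3370, 448]⟩) (.leaf ⟨5, 3273, 3274, 0, 0, 0, 0, 93, 0, 0, []⟩)) (.node (.leaf ⟨3, 608, 785, 0, 0, 0, 0, 37, 0, 785, [4923, 11563, 3304]⟩) (.leaf ⟨8, 4702, 4703, 0, 0, 0, 0, 93, 0, 0, []⟩))) (.node (.node (.leaf ⟨1, 1221, 1203, 0, 0, 0, 0, 18, 2, 1220, [7434, 7433, 7350]⟩) (.leaf ⟨4, 3546, 3999, 9, 0, (-21), 0, 22, 3, 3546, [23027, 21543, 23850]⟩)) (.node (.leaf ⟨7, 597, 691, (-61), 0, (-19), 0, 66, 13, 604, [3273,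 2769, 3299, 3005, 3169, 4204, 3116, 2571, 15632, 2567, 2574, 15634, 14050, 15636, 15638, 2915, 2921, 2944, 3884, 3878, 15640, 15642, 14056, 3866, 15644, 14053, 2885, 2623, 2800, 3132, 3138, 3135, 3327, 3343, 9340, 2245, 2223, 3178, 2336, 3222, 4972, 15652, 14200, 3224, 3226, 3232, 3234, 3238, 3242, 3246, 3582, 3598, 4002, 3651, 2468, 4593, 15654, 15656, 11616, 9203, 9206, 9210, 15658]⟩) (.leaf ⟨0, 0, 0, 0, 0, 0, 0, 0, 0, 0, []⟩)))))) (.node (.node (.node (.node (.node (.leaf ⟨4, 85, 85, 1, 0, (-1), 0, 39, 2, 87, [382, 810, 382]⟩) (.leaf ⟨9, 2759, 2814, 0, 0, 0, 0, 93, 0, 0, []⟩)) (.node (.leaf ⟨6, 714, 1595, 0, 0, 0, 0, 54, 0, 1595, [9001, 4757, 4294]⟩) (.leaf ⟨6, 4258, 4269, 0, 0, 0, 0, 54, 0, 4269, [25365, 25387, 25342]⟩))) (.node (.node (.leaf ⟨11, 591, 591, 1, 0,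 (-1), 0, 59, 3, 591, [3225, 4906, 3224]⟩) (.leaf ⟨5, 3577, 426, (-21), 0, (-1), 0, 46, 2, 2129, [21208, 12415, 2286]⟩)) (.node (.leaf ⟨5, 2270, 2271, 0, 0, 0, 0, 93, 0, 0, []⟩) (.leaf ⟨4, 4912, 1739, 0, 0, 0, 0, 3, 3, 4912, [29365, 10258, 10214]⟩)))) (.node (.node (.node (.leaf ⟨10, 486, 535, 0, 0, 0, 0, 58, 3, 486, [2533, 2453, 2858]⟩) (.leaf ⟨11, 3158, 2980, 0, 0, 0, 0, 50, 3, 3158, [19243, 19241, 18170]⟩)) (.node (.leaf ⟨5, 1635, 1858, 0, 0, 0, 0, 93, 0, 0, []⟩) (.leaf ⟨2, 964, 964, 1, 0, (-1), 0, 28, 2, 3548, [22622, 22636, 22622]⟩))) (.node (.node (.leaf ⟨1, 1102, 1102, (-1), 0, (-1), 0, 17, 0, 1102, [6887, 6954, 6886]⟩) (.leaf ⟨7, 3907, 3907, (-1), 0, 1, 0, 56, 4, 403, [23324, 2189, 23338, 2188, 23324]⟩)) (.node (.leaf ⟨4, 2522, 21, 0, 0, 0, 0, 43, 0, 21, [41,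 15145, 15146]⟩) (.leaf ⟨0, 0, 0, 0, 0, 0, 0, 0, 0, 0, []⟩))))) (.node (.node (.node (.node (.leaf ⟨3, 323, 313, 0, 0, 0, 0, 35, 2, 322, [1824, 1823, 1804]⟩) (.leaf ⟨1, 2982, 2994, 0, 0, 0, 0, 15, 0, 2994, [18199, 18219, 18174]⟩)) (.node (.leaf ⟨11, 1707, 1708, 0, 0, 0, 0, 93, 0, 0, []⟩) (.leaf ⟨7, 4456, 4457, 0, 0, 0, 0, 93, 0, 0, []⟩))) (.node (.node (.leaf ⟨7, 903, 929, 0, 0, 0, 0, 93, 0, 0, []⟩) (.leaf ⟨5, 3755, 3755, (-1), 0, (-1), 0, 45, 0, 3755, [22315, 22094, 22090, 22095, 22314]⟩)) (.node (.leaf ⟨6, 632, 2415, 0, 0, 0, 0, 54, 0, 2415, [14123, 3549, 3504]⟩) (.leaf ⟨3, 5087, 5086, 0, 0, 0, 0, 34, 0, 5086, [30503, 12463, 30506]⟩)))) (.node (.node (.node (.leaf ⟨4, 549, 673, 0, 0, 0, 0, 44, 0, 673, [3865, 3882, 2918]⟩) (.leaf ⟨4, 3238, 3111, 0, 0, 0, 0, 43, 2, 358,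 [19616, 1929, 18838]⟩)) (.node (.leaf ⟨8, 1717, 2063, 0, 0, 0, 0, 61, 0, 2063, [12075, 10957, 10100]⟩) (.leaf ⟨6, 4789, 4784, (-21), 0, (-11), 0, 52, 2, 746, [28454, 14727, 28458]⟩))) (.node (.node (.leaf ⟨8, 1283, 1265, 0, 0, 0, 0, 47, 3, 1283, [7631, 7978, 7566]⟩) (.leaf ⟨4, 4059, 429, 0, 0, 0, 0, 43, 0, 429, [2301, 24363, 24324]⟩)) (.node (.leaf ⟨5, 643, 599, 3, 0, 3, 0, 31, 3, 643, [3554, 8881, 3255]⟩) (.leaf ⟨0, 0, 0, 0, 0, 0, 0, 0, 0, 0, []⟩))))))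

def factsPart151 : ATree TFact :=
  .node (.node (.node (.node (.node (.node (.leaf ⟨8, 3, 3, 1, 0, (-1), 0, 34, 3, 3, [5, 300, 4]⟩) (.leaf ⟨5, 2754, 2755, 0, 0, 0, 0, 93, 0, 0, []⟩)) (.node (.leaf ⟨3, 1463, 1050, 0, 0, 0, 0, 33, 0, 1050, [6649, 8493, 8450]⟩) (.leaf ⟨7, 4183, 4183, 1, 0, (-1), 0, 51, 5, 4183, [24865, 24861, 24876, 24860, 24864]⟩))) (.node (.node (.leaf ⟨2, 727, 728, 0, 0, 0, 0, 24, 0, 728, [4397, 3221, 4392]⟩) (.leaf ⟨5, 3457, 3458, 0, 0, 0, 0, 93, 0, 0, []⟩)) (.node (.leaf ⟨5, 255, 2165, 0, 0, 0, 0, 93, 0, 0, []⟩) (.leaf ⟨3, 1202, 2600, 0, 0, 0, 0, 21, 5, 1202, [7349, 1709, 28972, 14894, 15538]⟩)))) (.node (.node (.node (.leaf ⟨2, 438, 439, 0, 0, 0, 0, 93, 0, 0, []⟩) (.leaf ⟨3, 910, 910, (-1), 0, 1, 0, 35, 0, 910, [18727, 18732, 18726]⟩)) (.node (.leaf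 ⟨6, 1565, 1565, (-1), 0, (-1), 0, 32, 3, 1565, [8803, 9422, 8802]⟩) (.leaf ⟨6, 4536, 4540, 0, 0, 0, 0, 54, 0, 4540, [26921, 26925, 26912]⟩))) (.node (.node (.leaf ⟨9, 1000, 1024, 0, 0, 0, 0, 63, 2, 999, [6350, 6347, 6440]⟩) (.leaf ⟨4, 955, 867, 0, 0, 0, 0, 40, 0, 867, [5525, 5787, 6084]⟩)) (.node (.leaf ⟨6, 1783, 2451, 0, 0, 0, 0, 93, 0, 0, []⟩) (.leaf ⟨6, 5157, 5158, 0, 0, 0, 0, 93, 0, 0, []⟩))))) (.node (.node (.node (.node (.leaf ⟨7, 189, 190, 0, 0, 0, 0, 93, 0, 0, []⟩) (.leaf ⟨6, 2898, 2711, 0, 0, 0, 0, 53, 0, 2711, [16451, 17709, 17692]⟩)) (.node (.leaf ⟨7, 1625, 1626, 0, 0, 0, 0, 93, 0, 0, []⟩) (.leaf ⟨3, 2414, 2414, (-1), 0, (-11), 0, 21, 5, 2414, [14145, 14139, 25900, 14138, 14144]⟩))) (.node (.node (.leaf ⟨3, 844, 844, 1, 0, 11, 0, 21, 5, 844, [5369, 5376, 5420,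 5377, 5368]⟩) (.leaf ⟨11, 3711, 3699, 0, 0, 0, 0, 50, 3, 3711, [21793, 21804, 21732]⟩)) (.node (.leaf ⟨3, 2366, 2364, 0, 0, 0, 0, 31, 0, 2364, [13603, 13610, 13612]⟩) (.leaf ⟨0, 4991, 2459, 0, 0, 0, 0, 10, 0, 2459, [14767, 9813, 29996]⟩)))) (.node (.node (.node (.leaf ⟨7, 107, 107, (-1), 0, 1, 0, 51, 5, 107, [453, 451, 3372, 450, 452]⟩) (.leaf ⟨2, 3274, 3266, 0, 0, 0, 0, 23, 0, 3266, [19713, 19755, 19756]⟩)) (.node (.leaf ⟨1, 723, 784, 0, 0, 0, 0, 19, 0, 784, [4921, 3063, 4330]⟩) (.leaf ⟨11, 4262, 4703, 0, 0, 0, 0, 62, 3, 4262, [25351, 27946, 27948]⟩))) (.node (.node (.leaf ⟨1, 1204, 1222, 0, 0, 0, 0, 19, 0, 1222, [7437, 7468, 7352]⟩) (.leaf ⟨3, 3853, 3136, 0, 0, 0, 0, 35, 2, 2724, [23028, 16489, 19094]⟩)) (.node (.leaf ⟨4, 598, 2418, (-27), 0, 1, 0, 43, 2, 589, [3250,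 9257, 14178]⟩) (.leaf ⟨0, 0, 0, 0, 0, 0, 0, 0, 0, 0, []⟩)))))) (.node (.node (.node (.node (.node (.leaf ⟨8, 94, 145, 0, 0, 0, 0, 93, 0, 0, []⟩) (.leaf ⟨4, 2814, 2751, 0, 0, 0, 0, 42, 0, 2751, [16623, 16713, 17196]⟩)) (.node (.leaf ⟨11, 1596, 1595, (-1), 0, (-5), 0, 55, 3, 1596, [9003, 4326, 9004]⟩) (.leaf ⟨5, 4260, 4271, 0, 0, 0, 0, 45, 4, 4259, [25346, 25345, 25388, 25366, 25368]⟩))) (.node (.node (.leaf ⟨11, 592, 592, 1, 0, 1, 0, 55, 3, 592, [3227, 4908, 3226]⟩) (.leaf ⟨6, 3595, 3594, 21, 0, (-1), 0, 45, 3, 426, [18398, 21290, 21293, 21210, 21286]⟩)) (.node (.leaf ⟨10, 2255, 2271, 0, 0, 0, 0, 49, 5, 2255, [13049, 13047, 13096, 13098, 13100]⟩) (.leaf ⟨3, 1739, 1739, (-1), 0, 1, 0, 2, 3, 1739, [10215, 29268, 10214]⟩)))) (.node (.node (.node (.leaf ⟨2, 530, 536, 0, 0,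 0, 0, 93, 0, 0, []⟩) (.leaf ⟨7, 3158, 3159, 0, 0, 0, 0, 93, 0, 0, []⟩)) (.node (.leaf ⟨4, 1858, 1859, 0, 0, 0, 0, 93, 0, 0, []⟩) (.leaf ⟨6, 411, 3066, 0, 0, 0, 0, 53, 0, 3066, [18527, 2371, 2230]⟩))) (.node (.node (.leaf ⟨1, 1103, 1103, 1, 0, 1, 0, 14, 0, 1103, [6891, 6956, 6890]⟩) (.leaf ⟨6, 3906, 3906, 1, 0, 1, 0, 51, 0, 3906, [23321, 23326, 23340, 23327, 23320]⟩)) (.node (.leaf ⟨11, 2522, 2523, 0, 0, 0, 0, 93, 0, 0, []⟩) (.leaf ⟨0, 0, 0, 0, 0, 0, 0, 0, 0, 0, []⟩))))) (.node (.node (.node (.node (.leaf ⟨3, 314, 324, 0, 0, 0, 0, 36, 0, 324, [1827, 1836, 1806]⟩) (.leaf ⟨1, 2983, 2995, 0, 0, 0, 0, 14, 0, 2995, [18201, 18221, 18176]⟩)) (.node (.leaf ⟨3, 1708, 1706, 0, 0, 0, 0, 37, 0, 1706, [10021, 10026, 10028]⟩) (.leaf ⟨11, 4455, 4457, 1, 0, 5, 0, 59, 3, 4455, [26405,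 26411, 26412]⟩))) (.node (.node (.leaf ⟨7, 908, 930, 0, 0, 0, 0, 93, 0, 0, []⟩) (.leaf ⟨4, 3755, 3714, 0, 0, 0, 0, 39, 0, 3714, [21799, 22096, 22314]⟩)) (.node (.leaf ⟨6, 1616, 2416, 0, 0, 0, 0, 93, 0, 0, []⟩) (.leaf ⟨4, 4772, 775, 0, 0, 0, 0, 43, 0, 775, [4851, 27066, 28300]⟩)))) (.node (.node (.node (.leaf ⟨4, 674, 674, (-1), 0, (-1), 0, 38, 0, 674, [3869, 3885, 2944, 3884, 3868]⟩) (.leaf ⟨4, 3349, 3351, 0, 0, 0, 0, 40, 0, 3351, [20265, 20268, 20256]⟩)) (.node (.leaf ⟨5, 2063, 2064, 0, 0, 0, 0, 93, 0, 0, []⟩) (.leaf ⟨7, 4786, 4791, 21, 0, (-11), 0, 51, 3, 4784, [28420, 28422, 28461, 28440, 28442]⟩))) (.node (.node (.leaf ⟨8, 1242, 1266, 13, 0, 21, 0, 56, 3, 1274, [7612, 7510, 7963, 7980, 7568]⟩) (.leaf ⟨4, 4063, 430, 0, 0, 0, 0, 44, 0, 430, [2303, 24365, 24338]⟩))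 (.node (.leaf ⟨5, 2417, 727, 0, 0, 0, 0, 45, 4, 700, [14136, 4259, 4256, 3210, 4392]⟩) (.leaf ⟨0, 0, 0, 0, 0, 0, 0, 0, 0, 0, []⟩))))))

def factsPart152 : ATree TFact :=
  .node (.node (.node (.node (.node (.node (.leaf ⟨8, 4, 4, 1, 0, 1, 0, 41, 3, 4, [7, 302, 6]⟩) (.leaf ⟨4, 2755, 2756, 0, 0, 0, 0, 93, 0, 0, []⟩)) (.node (.leaf ⟨3, 1464, 1051, 0, 0, 0, 0, 32, 0, 1051, [6651, 8495, 8452]⟩) (.leaf ⟨7, 3140, 4184, 0, 0, 0, 0, 93, 0, 0, []⟩))) (.node (.node (.leaf ⟨10, 728, 693, 0, 0, 0, 0, 54, 3, 728, [4397, 3250, 4188]⟩) (.leaf ⟨2, 3458, 3408, 0, 0, 0, 0, 23, 0, 3408, [20569, 20781, 20782]⟩)) (.node (.leaf ⟨7, 2165, 2166, 0, 0, 0, 0, 93, 0, 0, []⟩) (.leaf ⟨3, 1220, 2601, 0, 0, 0, 0, 12, 3, 1220, [7433, 28974, 15540]⟩)))) (.node (.node (.node (.leaf ⟨9, 439, 440, 0, 0,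 0, 0, 93, 0, 0, []⟩) (.leaf ⟨5, 909, 909, (-1), 0, 1, 0, 50, 0, 909, [5781, 5536, 5780]⟩)) (.node (.leaf ⟨3, 706, 1768, 0, 0, 0, 0, 93, 0, 0, []⟩) (.leaf ⟨7, 2650, 4541, 0, 0, 0, 0, 93, 0, 0, []⟩))) (.node (.node (.leaf ⟨5, 1009, 1000, 21, 0, (-1), 0, 48, 2, 1006, [6374, 6444, 6447]⟩) (.leaf ⟨4, 956, 3817, 0, 0, 0, 0, 39, 0, 3817, [22819, 22831, 6086]⟩)) (.node (.leaf ⟨6, 1571, 1704, (-21), 0, (-1), 0, 45, 5, 1571, [8875, 10005, 10001, 14360, 10012]⟩) (.leaf ⟨4, 5155, 5158, (-17), 0, 1, 0, 39, 2, 5154, [30992, 31021, 31022]⟩))))) (.node (.node (.node (.node (.leaf ⟨4, 183, 190, (-21), 0, (-1), 0, 40, 2, 182, [1226, 1325, 1326]⟩) (.leaf ⟨6, 2899, 2712, 0, 0, 0, 0, 54, 0, 2712, [16453, 17711, 17694]⟩)) (.node (.leaf ⟨6, 1626, 1627, 0, 0, 0, 0, 93, 0, 0, []⟩) (.leaf ⟨10,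 700, 700, 1, 0, (-1), 0, 49, 5, 700, [4259, 3047, 4110, 3046, 4258]⟩))) (.node (.node (.leaf ⟨3, 843, 843, 1, 0, (-11), 0, 35, 2, 844, [5357, 5422, 5357]⟩) (.leaf ⟨11, 3712, 3705, 0, 0, 0, 0, 44, 3, 3712, [21795, 21806, 21776]⟩)) (.node (.leaf ⟨6, 2366, 2367, 0, 0, 0, 0, 93, 0, 0, []⟩) (.leaf ⟨5, 4991, 4992, 0, 0, 0, 0, 93, 0, 0, []⟩)))) (.node (.node (.node (.leaf ⟨7, 110, 110, (-1), 0, (-1), 0, 46, 3, 110, [467, 3374, 466]⟩) (.leaf ⟨3, 1967, 3238, 0, 0, 0, 0, 36, 2, 359, [11520, 1931, 19616]⟩)) (.node (.leaf ⟨1, 765, 785, 0, 0, 0, 0, 20, 0, 785, [4923, 11567, 4768]⟩) (.leaf ⟨5, 4245, 4703, (-98), 0, 12, 0, 50, 2, 4249, [25324, 27933, 27950]⟩))) (.node (.node (.leaf ⟨1, 1205, 1223, 0, 0, 0, 0, 14, 0, 1223, [7439, 7471, 7354]⟩) (.leaf ⟨3, 3137, 3854, 0, 0, 0, 0, 33,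 0, 3854, [23031, 23854, 19096]⟩)) (.node (.leaf ⟨5, 2413, 2624, 0, 0, 0, 0, 93, 0, 0, []⟩) (.leaf ⟨0, 0, 0, 0, 0, 0, 0, 0, 0, 0, []⟩)))))) (.node (.node (.node (.node (.node (.leaf ⟨3, 145, 85, 0, 0, 0, 0, 34, 0, 85, [373, 413, 814]⟩) (.leaf ⟨5, 2814, 2814, (-1), 0, (-1), 0, 48, 0, 2814, [17197, 16714, 17196]⟩)) (.node (.leaf ⟨4, 1596, 1594, 0, 0, 0, 0, 39, 0, 1594, [8997, 4345, 9002]⟩) (.leaf ⟨5, 4261, 4272, 0, 0, 0, 0, 46, 0, 4272, [25371, 25391, 25348]⟩))) (.node (.node (.leaf ⟨11, 593, 593, 1, 0, (-1), 0, 50, 3, 593, [3233, 4910, 3232]⟩) (.leaf ⟨8, 3582, 3595, 0, 0, 0, 0, 47, 3, 3582, [21245, 21243, 21290]⟩)) (.node (.leaf ⟨6, 2271, 2272, 0, 0, 0, 0, 93, 0, 0, []⟩) (.leaf ⟨5, 1739, 4910, 0, 0, 0, 0, 4, 3, 1739, [10215, 15604, 29338]⟩)))) (.node (.node (.node (.leaf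 ⟨5, 536, 80, 0, 0, 0, 0, 23, 3, 536, [2863, 2776, 326]⟩) (.leaf ⟨11, 2981, 3159, 0, 0, 0, 0, 59, 3, 2981, [18173, 19245, 19246]⟩)) (.node (.leaf ⟨3, 1859, 1860, 0, 0, 0, 0, 93, 0, 0, []⟩) (.leaf ⟨6, 412, 3067, 0, 0, 0, 0, 54, 0, 3067, [18531, 27439, 2232]⟩))) (.node (.node (.leaf ⟨1, 1104, 1104, (-1), 0, (-1), 0, 13, 0, 1104, [6895, 6958, 6894]⟩) (.leaf ⟨5, 3905, 3905, (-1), 0, 1, 0, 45, 0, 3905, [23319, 23322, 23342, 23323, 23318]⟩)) (.node (.leaf ⟨4, 2523, 2492, 0, 0, 0, 0, 44, 0, 2492, [14991, 15149, 15150]⟩) (.leaf ⟨0, 0, 0, 0, 0, 0, 0, 0, 0, 0, []⟩))))) (.node (.node (.node (.node (.leaf ⟨3, 315, 325, 0, 0, 0, 0, 31, 0, 325, [1829, 1839, 1808]⟩) (.leaf ⟨1, 2984, 2996, 0, 0, 0, 0, 13, 0, 2996, [18203, 18223, 18178]⟩)) (.node (.leaf ⟨5, 1708, 1709, 0, 0, 0, 0, 93,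 0, 0, []⟩) (.leaf ⟨7, 4351, 4458, 0, 0, 0, 0, 93, 0, 0, []⟩))) (.node (.node (.leaf ⟨5, 930, 929, 0, 0, 0, 0, 46, 0, 929, [5933, 5767, 5934]⟩) (.leaf ⟨11, 181, 2134, 0, 0, 0, 0, 62, 3, 181, [1223, 9216, 12360]⟩)) (.node (.leaf ⟨11, 2415, 2416, 1, 0, 5, 0, 55, 3, 2415, [14125, 9226, 14126]⟩) (.leaf ⟨10, 771, 771, (-1), 0, 1, 0, 61, 3, 771, [4843, 14744, 4842]⟩)))) (.node (.node (.node (.leaf ⟨3, 146, 146, (-1), 0, (-1), 0, 33, 0, 146, [819, 3710, 818]⟩) (.leaf ⟨4, 3350, 3352, 0, 0, 0, 0, 39, 0, 3352, [20267, 20271, 20260]⟩)) (.node (.leaf ⟨8, 1718, 2064, 0, 0, 0, 0, 47, 3, 1718, [10103, 12076, 12078]⟩) (.leaf ⟨7, 4792, 4787, (-21), 0, 11, 0, 46, 3, 4792, [28445, 28463, 28424]⟩))) (.node (.node (.leaf ⟨2, 1259, 1242, (-13), 0, 21, 0, 26, 2, 1258, [7554, 7580, 7983]⟩) (.leaf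 ⟨4, 4064, 431, 0, 0, 0, 0, 40, 0, 431, [2305, 24367, 24340]⟩)) (.node (.leaf ⟨6, 849, 849, 1, 0, (-1), 0, 39, 3, 849, [5383, 4964, 5382]⟩) (.leaf ⟨0, 0, 0, 0, 0, 0, 0, 0, 0, 0, []⟩))))))

def factsPart153 : ATree TFact :=
  .node (.node (.node (.node (.node (.node (.leaf ⟨8, 5, 5, 1, 0, (-1), 0, 47, 3, 5, [9, 304, 8]⟩) (.leaf ⟨11, 2739, 2753, 0, 0, 0, 0, 59, 3, 2739, [16551, 16549, 16682]⟩)) (.node (.leaf ⟨3, 1465, 1052, 0, 0, 0, 0, 34, 0, 1052, [6653, 8497, 8454]⟩) (.leaf ⟨5, 4182, 4184, 0, 0, 0, 0, 46, 0, 4184, [24881, 19117, 24860]⟩))) (.node (.node (.leaf ⟨0, 688, 688, (-1), 0, (-1), 0, 3, 0, 688, [4165, 3580, 4164]⟩) (.leaf ⟨10, 3458, 3459, 0, 0, 0, 0, 93, 0, 0, []⟩)) (.node (.leaf ⟨6, 2166, 2167, 0, 0, 0, 0, 93, 0, 0, []⟩) (.leaf ⟨3, 1221, 2602, 0, 0, 0, 0, 35,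 0, 2602, [15543, 28977, 7434]⟩)))) (.node (.node (.node (.leaf ⟨10, 440, 441, 0, 0, 0, 0, 93, 0, 0, []⟩) (.leaf ⟨6, 862, 3096, 0, 0, 0, 0, 93, 0, 0, []⟩)) (.node (.leaf ⟨4, 1558, 1768, 0, 0, 0, 0, 30, 5, 1558, [8777, 8775, 9416, 4278, 10544]⟩) (.leaf ⟨6, 4541, 4542, 0, 0, 0, 0, 93, 0, 0, []⟩))) (.node (.node (.leaf ⟨8, 569, 1025, 0, 0, 0, 0, 93, 0, 0, []⟩) (.leaf ⟨8, 956, 3820, 0, 0, 0, 0, 93, 0, 0, []⟩)) (.node (.leaf ⟨7, 1702, 1571, 17, 0, 9, 0, 46, 3, 1702, [10007, 8185, 8874]⟩) (.leaf ⟨5, 5158, 5159, 0, 0, 0, 0, 93, 0, 0, []⟩))))) (.node (.node (.node (.node (.leaf ⟨10, 104, 191, 0, 0, 0, 0, 93, 0, 0, []⟩) (.leaf ⟨5, 2901, 2714, 0, 0, 0, 0, 45, 4, 2900, [17698, 17697, 17712, 16456, 16460]⟩)) (.node (.leaf ⟨8, 1627, 1628, 0, 0, 0, 0, 93, 0, 0, []⟩) (.leaf ⟨10, 2417,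 2417, 1, 0, 1, 0, 54, 3, 2417, [14137, 25904, 14136]⟩))) (.node (.node (.leaf ⟨3, 838, 838, (-1), 0, 11, 0, 31, 0, 838, [5353, 5424, 5352]⟩) (.leaf ⟨11, 3713, 3706, 0, 0, 0, 0, 59, 3, 3713, [21797, 21808, 21778]⟩)) (.node (.leaf ⟨3, 2367, 2365, 0, 0, 0, 0, 32, 0, 2365, [13607, 13615, 13616]⟩) (.leaf ⟨0, 4992, 2460, 0, 0, 0, 0, 4, 0, 2460, [14771, 29999, 30000]⟩)))) (.node (.node (.node (.leaf ⟨7, 188, 188, 1, 0, 1, 0, 58, 0, 188, [1315, 3376, 1314]⟩) (.leaf ⟨3, 3271, 1968, 0, 0, 0, 0, 31, 0, 1968, [11531, 19760, 19744]⟩)) (.node (.leaf ⟨2, 785, 785, (-1), 0, 1, 0, 11, 3, 520, [9320, 11568, 2748, 9320, 11568]⟩) (.leaf ⟨0, 4250, 4250, 1, 0, 1, 0, 8, 0, 4250, [25327, 26608, 25326]⟩))) (.node (.node (.leaf ⟨1, 1206, 1224, 0, 0, 0, 0, 15, 0, 1224, [7441, 7473, 7356]⟩) (.leaf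 ⟨3, 3138, 3855, 0, 0, 0, 0, 32, 0, 3855, [23033, 23857, 19098]⟩)) (.node (.leaf ⟨3, 2624, 1619, 0, 0, 0, 0, 31, 0, 1619, [9251, 14025, 15664]⟩) (.leaf ⟨0, 0, 0, 0, 0, 0, 0, 0, 0, 0, []⟩)))))) (.node (.node (.node (.node (.node (.leaf ⟨7, 99, 146, 0, 0, 0, 0, 93, 0, 0, []⟩) (.leaf ⟨8, 129, 2815, 0, 0, 0, 0, 93, 0, 0, []⟩)) (.node (.leaf ⟨4, 762, 1595, 0, 0, 0, 0, 43, 2, 761, [4750, 4749, 9000]⟩) (.leaf ⟨5, 3514, 4275, 0, 0, 0, 0, 93, 0, 0, []⟩))) (.node (.node (.leaf ⟨11, 594, 594, 1, 0, 1, 0, 44, 3, 594, [3235, 4912, 3234]⟩) (.leaf ⟨6, 3580, 3582, (-21), 0, 1, 0, 52, 2, 3594, [21289, 21295, 21297]⟩)) (.node (.leaf ⟨10, 2256, 2272, 0, 0, 0, 0, 54, 3, 2256, [13051, 13102, 13104]⟩) (.leaf ⟨6, 4910, 4910, (-1), 0, 1, 0, 5, 3, 4910, [29339, 16406, 29338]⟩)))) (.node (.node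 (.node (.leaf ⟨10, 536, 536, 1, 0, (-1), 0, 28, 3, 536, [2863, 2778, 2862]⟩) (.leaf ⟨6, 3159, 3160, 0, 0, 0, 0, 93, 0, 0, []⟩)) (.node (.leaf ⟨2, 1860, 1861, 0, 0, 0, 0, 93, 0, 0, []⟩) (.leaf ⟨7, 440, 4628, 0, 0, 0, 0, 93, 0, 0, []⟩))) (.node (.node (.leaf ⟨1, 1105, 1105, 1, 0, 1, 0, 12, 0, 1105, [6899, 6960, 6898]⟩) (.leaf ⟨7, 3662, 3908, 0, 0, 0, 0, 93, 0, 0, []⟩)) (.node (.leaf ⟨9, 211, 2524, 0, 0, 0, 0, 93, 0, 0, []⟩) (.leaf ⟨0, 0, 0, 0, 0, 0, 0, 0, 0, 0, []⟩))))) (.node (.node (.node (.node (.leaf ⟨3, 316, 326, 0, 0, 0, 0, 33, 0, 326, [1831, 1841, 1810]⟩) (.leaf ⟨1, 2985, 2997, 0, 0, 0, 0, 12, 0, 2997, [18205, 18225, 18180]⟩)) (.node (.leaf ⟨6, 1664, 1707, 0, 0, 0, 0, 54, 0, 1707, [10025, 9753, 9724]⟩) (.leaf ⟨8, 691, 2664, 0, 0, 0, 0, 61, 0, 2664, [15949, 15927,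 4180]⟩))) (.node (.node (.leaf ⟨4, 907, 926, 0, 0, 0, 0, 30, 5, 907, [5761, 5491, 5484, 5870, 5922]⟩) (.leaf ⟨11, 182, 2135, 0, 0, 0, 0, 50, 3, 182, [1225, 22320, 12362]⟩)) (.node (.leaf ⟨4, 2416, 725, 0, 0, 0, 0, 39, 0, 725, [4385, 9229, 14126]⟩) (.leaf ⟨10, 4570, 4570, (-1), 0, (-1), 0, 63, 3, 4570, [27077, 30512, 27076]⟩)))) (.node (.node (.node (.leaf ⟨3, 148, 148, 1, 0, 1, 0, 32, 0, 148, [841, 3888, 840]⟩) (.leaf ⟨5, 3352, 3353, 0, 0, 0, 0, 93, 0, 0, []⟩)) (.node (.leaf ⟨4, 2064, 2065, 0, 0, 0, 0, 93, 0, 0, []⟩) (.leaf ⟨9, 4776, 3248, 0, 0, 0, 0, 63, 2, 4775, [28392, 28389, 19652]⟩))) (.node (.node (.leaf ⟨11, 1253, 1351, 0, 0, 0, 0, 93, 0, 0, []⟩) (.leaf ⟨4, 4065, 3046, 0, 0, 0, 0, 39, 0, 3046, [18403, 24369, 24344]⟩)) (.node (.leaf ⟨6, 850, 850, (-1), 0, 1, 0,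 54, 0, 850, [5385, 16176, 5384]⟩) (.leaf ⟨0, 0, 0, 0, 0, 0, 0, 0, 0, 0, []⟩))))))

def factsPart154 : ATree TFact :=
  .node (.node (.node (.node (.node (.node (.leaf ⟨8, 6, 6, 1, 0, 1, 0, 52, 3, 6, [11, 306, 10]⟩) (.leaf ⟨11, 2754, 2740, 0, 0, 0, 0, 55, 3, 2754, [16685, 16691, 16552]⟩)) (.node (.leaf ⟨3, 1466, 1053, 0, 0, 0, 0, 31, 0, 1053, [6655, 8499, 8456]⟩) (.leaf ⟨7, 960, 4185, 0, 0, 0, 0, 93, 0, 0, []⟩))) (.node (.node (.leaf ⟨0, 689, 689, 1, 0, 1, 0, 2, 0, 689, [4167, 4402, 4166]⟩) (.leaf ⟨2, 3459, 3409, 0, 0, 0, 0, 28, 0, 3409, [20571, 20785, 20786]⟩)) (.node (.leaf ⟨8, 2167, 2168, 0, 0, 0, 0, 93, 0, 0, []⟩) (.leaf ⟨3, 4877, 2603, 0, 0, 0, 0, 2, 3, 4877, [28953, 28978, 15544]⟩)))) (.node (.node (.node (.leaf ⟨11, 441, 442, 0, 0, 0, 0, 93, 0, 0, []⟩) (.leaf ⟨5,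 3096, 3097, 0, 0, 0, 0, 93, 0, 0, []⟩)) (.node (.leaf ⟨7, 713, 713, (-1), 0, 1, 0, 58, 0, 713, [4293, 10468, 4292]⟩) (.leaf ⟨5, 4542, 4543, 0, 0, 0, 0, 93, 0, 0, []⟩))) (.node (.node (.leaf ⟨6, 1001, 1025, 0, 0, 0, 0, 52, 2, 570, [6354, 3057, 6450]⟩) (.leaf ⟨4, 3820, 3818, 0, 0, 0, 0, 41, 0, 3818, [22823, 22833, 22834]⟩)) (.node (.leaf ⟨7, 2451, 2450, 4, 0, (-10), 0, 51, 3, 1704, [14372, 14638, 14641, 14643, 14636]⟩) (.leaf ⟨7, 159, 5160, 0, 0, 0, 0, 93, 0, 0, []⟩))))) (.node (.node (.node (.node (.leaf ⟨3, 191, 189, 0, 0, 0, 0, 36, 0, 189, [1317, 465, 1330]⟩) (.leaf ⟨5, 2902, 2715, 0, 0, 0, 0, 46, 0, 2715, [16467, 17715, 17700]⟩)) (.node (.leaf ⟨7, 1628, 1629, 0, 0, 0, 0, 93, 0, 0, []⟩) (.leaf ⟨11, 2458, 791, 0, 0, 0, 0, 50, 3, 2458, [14691, 14687, 5018]⟩))) (.node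 (.node (.leaf ⟨3, 837, 837, (-1), 0, (-11), 0, 36, 2, 838, [5335, 5426, 5335]⟩) (.leaf ⟨11, 3714, 3707, 0, 0, 0, 0, 55, 3, 3714, [21799, 21810, 21780]⟩)) (.node (.leaf ⟨4, 768, 505, 0, 0, 0, 0, 43, 2, 767, [4780, 4779, 2654]⟩) (.leaf ⟨2, 4991, 4976, 0, 0, 0, 0, 29, 0, 4976, [29773, 9884, 29996]⟩)))) (.node (.node (.node (.leaf ⟨7, 617, 617, (-1), 0, (-1), 0, 59, 0, 617, [3353, 3378, 3352]⟩) (.leaf ⟨3, 3272, 3254, 0, 0, 0, 0, 33, 0, 3254, [19677, 19763, 19748]⟩)) (.node (.leaf ⟨11, 562, 562, 1, 0, (-1), 0, 50, 3, 562, [3025, 2318, 3024]⟩) (.leaf ⟨0, 4251, 4251, (-1), 0, (-1), 0, 9, 0, 4251, [25329, 27954, 25328]⟩))) (.node (.node (.leaf ⟨1, 1207, 1225, 0, 0, 0, 0, 16, 0, 1225, [7443, 7475, 7358]⟩) (.leaf ⟨3, 3792, 3856, 0, 0, 0, 0, 34, 0, 3856, [23035, 23859, 22584]⟩))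 (.node (.leaf ⟨10, 2624, 2625, 0, 0, 0, 0, 93, 0, 0, []⟩) (.leaf ⟨0, 0, 0, 0, 0, 0, 0, 0, 0, 0, []⟩)))))) (.node (.node (.node (.node (.node (.leaf ⟨2, 146, 94, 0, 0, 0, 0, 25, 0, 94, [397, 427, 818]⟩) (.leaf ⟨6, 2759, 2815, 0, 0, 0, 0, 52, 2, 130, [16710, 529, 17202]⟩)) (.node (.leaf ⟨11, 1594, 762, (-1), 0, 5, 0, 44, 1, 1595, [9007, 9008, 9011]⟩) (.leaf ⟨6, 4275, 4276, 0, 0, 0, 0, 93, 0, 0, []⟩))) (.node (.node (.leaf ⟨10, 594, 782, 0, 0, 0, 0, 93, 0, 0, []⟩) (.leaf ⟨11, 3593, 3580, 21, 0, 1, 0, 55, 1, 3582, [21261, 21284, 21299]⟩)) (.node (.leaf ⟨7, 2272, 2273, 0, 0, 0, 0, 93, 0, 0, []⟩) (.leaf ⟨7, 4910, 4908, (-3), 0, 3, 0, 6, 3, 4910, [29339, 29271, 29330]⟩)))) (.node (.node (.node (.leaf ⟨5, 498, 498, (-1), 0, (-1), 0, 49, 0, 498, [2577, 2865, 2866, 2864, 2576]⟩)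 (.leaf ⟨11, 2982, 3160, 0, 0, 0, 0, 55, 3, 2982, [18175, 19248, 19250]⟩)) (.node (.leaf ⟨1, 1861, 1862, 0, 0, 0, 0, 93, 0, 0, []⟩) (.leaf ⟨6, 4628, 4629, 0, 0, 0, 0, 93, 0, 0, []⟩))) (.node (.node (.leaf ⟨1, 1106, 1106, (-1), 0, (-1), 0, 18, 0, 1106, [6903, 6962, 6902]⟩) (.leaf ⟨6, 3908, 3909, 0, 0, 0, 0, 93, 0, 0, []⟩)) (.node (.leaf ⟨3, 2521, 2524, 0, 0, 0, 0, 35, 2, 212, [15142, 1507, 15154]⟩) (.leaf ⟨0, 0, 0, 0, 0, 0, 0, 0, 0, 0, []⟩))))) (.node (.node (.node (.node (.leaf ⟨3, 317, 327, 0, 0, 0, 0, 32, 0, 327, [1833, 1843, 1812]⟩) (.leaf ⟨9, 358, 2998, 0, 0, 0, 0, 93, 0, 0, []⟩)) (.node (.leaf ⟨11, 1664, 1710, 0, 0, 0, 0, 93, 0, 0, []⟩) (.leaf ⟨8, 692, 4454, 0, 0, 0, 0, 47, 3, 692, [4183, 26418, 26402]⟩))) (.node (.node (.leaf ⟨4, 908, 927, 0, 0, 0, 0, 42, 0, 927,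 [5925, 5939, 5764]⟩) (.leaf ⟨11, 2793, 3062, 0, 0, 0, 0, 64, 3, 2793, [16937, 22322, 18496]⟩)) (.node (.leaf ⟨4, 779, 2415, 0, 0, 0, 0, 43, 2, 643, [4862, 3551, 14122]⟩) (.leaf ⟨5, 4772, 4772, 1, 0, (-1), 0, 49, 0, 4772, [28301, 27078, 30514, 27079, 28300]⟩)))) (.node (.node (.node (.leaf ⟨10, 94, 94, 1, 0, 1, 0, 58, 3, 94, [397, 3718, 396]⟩) (.leaf ⟨5, 3272, 3351, 0, 0, 0, 0, 46, 2, 3271, [19748, 19745, 20264]⟩)) (.node (.leaf ⟨8, 2062, 2065, 0, 0, 0, 0, 41, 3, 2062, [12071, 12080, 12082]⟩) (.leaf ⟨9, 4789, 4780, 0, 0, 0, 0, 48, 3, 4789, [28439, 28467, 28406]⟩))) (.node (.node (.leaf ⟨5, 1351, 1352, 0, 0, 0, 0, 93, 0, 0, []⟩) (.leaf ⟨4, 4066, 4070, 0, 0, 0, 0, 41, 0, 4070, [24359, 24371, 24348]⟩)) (.node (.leaf ⟨5, 2416, 2416, (-1), 0, 1, 0, 45, 4, 1616, [14126, 9225,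 16178, 9224, 14126]⟩) (.leaf ⟨0, 0, 0, 0, 0, 0, 0, 0, 0, 0, []⟩))))))

def factsPart155 : ATree TFact :=
  .node (.node (.node (.node (.node (.node (.leaf ⟨8, 69, 69, 1, 0, (-1), 0, 7, 3, 69, [275, 308, 274]⟩) (.leaf ⟨11, 2755, 2741, 0, 0, 0, 0, 50, 3, 2755, [16687, 16692, 16554]⟩)) (.node (.leaf ⟨4, 1468, 1055, 0, 0, 0, 0, 30, 5, 1468, [8461, 8459, 8500, 6656, 6658]⟩) (.leaf ⟨4, 4184, 4185, 0, 0, 0, 0, 40, 2, 3140, [24880, 19109, 24884]⟩))) (.node (.node (.leaf ⟨0, 694, 694, (-1), 0, (-1), 0, 9, 0, 694, [4191, 4404, 4190]⟩) (.leaf ⟨7, 3459, 3460, 0, 0, 0, 0, 93, 0, 0, []⟩)) (.node (.leaf ⟨5, 1834, 2169, 0, 0, 0, 0, 93, 0, 0, []⟩) (.leaf ⟨3, 4878, 2604, 0, 0, 0, 0, 36, 0, 2604, [15547, 28981, 28954]⟩)))) (.node (.node (.node (.leaf ⟨8, 407, 443, 0, 0, 0, 0, 93, 0, 0,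 []⟩) (.leaf ⟨6, 930, 3098, 0, 0, 0, 0, 93, 0, 0, []⟩)) (.node (.leaf ⟨4, 763, 763, 1, 0, 1, 0, 38, 0, 763, [4753, 9010, 9402, 9011, 4752]⟩) (.leaf ⟨10, 4543, 4544, 0, 0, 0, 0, 93, 0, 0, []⟩))) (.node (.node (.leaf ⟨8, 269, 1026, 0, 0, 0, 0, 93, 0, 0, []⟩) (.leaf ⟨7, 3820, 3821, 0, 0, 0, 0, 93, 0, 0, []⟩)) (.node (.leaf ⟨6, 1619, 2452, 0, 0, 0, 0, 93, 0, 0, []⟩) (.leaf ⟨6, 5160, 5161, 0, 0, 0, 0, 93, 0, 0, []⟩))))) (.node (.node (.node (.node (.leaf ⟨7, 191, 192, 0, 0, 0, 0, 93, 0, 0, []⟩) (.leaf ⟨6, 2904, 2717, 0, 0, 0, 0, 45, 5, 2904, [17705, 17703, 17716, 16468, 16470]⟩)) (.node (.leaf ⟨4, 1626, 1122, 0, 0, 0, 0, 40, 2, 1625, [9518, 9517, 6996]⟩) (.leaf ⟨11, 727, 2453, (-1), 0, (-5), 0, 50, 3, 727, [16175, 14142, 14650]⟩))) (.node (.node (.leaf ⟨3, 835, 835, (-1),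 0, 11, 0, 31, 2, 837, [5332, 5428, 5332]⟩) (.leaf ⟨9, 181, 3715, 0, 0, 0, 0, 93, 0, 0, []⟩)) (.node (.leaf ⟨4, 1623, 769, 0, 0, 0, 0, 44, 0, 769, [4783, 13620, 9312]⟩) (.leaf ⟨2, 4992, 4977, 0, 0, 0, 0, 23, 0, 4977, [29775, 30005, 30000]⟩)))) (.node (.node (.node (.leaf ⟨5, 105, 105, 1, 0, 1, 0, 31, 3, 105, [449, 2008, 448]⟩) (.leaf ⟨3, 3273, 3255, 0, 0, 0, 0, 32, 0, 3255, [19679, 19765, 19752]⟩)) (.node (.leaf ⟨10, 785, 785, 1, 0, (-1), 0, 65, 4, 784, [4922, 4921, 11572, 4920, 4922]⟩) (.leaf ⟨0, 4252, 4252, 1, 0, 1, 0, 10, 0, 4252, [25331, 27956, 25330]⟩))) (.node (.node (.leaf ⟨1, 1208, 1226, 0, 0, 0, 0, 15, 0, 1226, [7445, 7477, 7360]⟩) (.leaf ⟨5, 3792, 4000, 0, 0, 0, 0, 93, 0, 0, []⟩)) (.node (.leaf ⟨3, 2625, 2418, 0, 0, 0, 0, 36, 0, 2418, [14179, 15667, 15668]⟩)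 (.leaf ⟨0, 0, 0, 0, 0, 0, 0, 0, 0, 0, []⟩)))))) (.node (.node (.node (.node (.node (.leaf ⟨8, 146, 147, 0, 0, 0, 0, 93, 0, 0, []⟩) (.leaf ⟨9, 2815, 2816, 0, 0, 0, 0, 93, 0, 0, []⟩)) (.node (.leaf ⟨11, 757, 1597, 0, 0, 0, 0, 93, 0, 0, []⟩) (.leaf ⟨4, 4276, 4277, 0, 0, 0, 0, 93, 0, 0, []⟩))) (.node (.node (.leaf ⟨5, 782, 783, 0, 0, 0, 0, 93, 0, 0, []⟩) (.leaf ⟨10, 3593, 3596, 0, 0, 0, 0, 93, 0, 0, []⟩)) (.node (.leaf ⟨10, 2257, 2273, 0, 0, 0, 0, 58, 3, 2257, [13053, 13106, 13108]⟩) (.leaf ⟨5, 4919, 4908, (-42), 0, (-8), 0, 68, 6, 4912, [29366, 29369, 10203, 10201, 10189, 10192, 29377, 29381, 9639, 9637, 9629, 9627, 29382, 9625, 29384, 9651, 29386, 29062, 2117, 17058, 1014, 519, 1004, 1012, 517, 515, 513, 14, 8730, 16, 8816, 8818, 8832, 29390, 9642, 9626, 29397, 764, 1040,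 1028, 1030, 1040, 782, 785, 505, 2724, 2736, 2688, 10494, 2692, 2669, 10292, 29414, 7136, 29422, 9056, 9072, 29427, 29429, 13629, 9657, 9646, 9634, 9618, 29436, 9639, 29442, 29448, 9638, 29452, 29454, 29461, 29463, 29464, 13613, 29466, 29468, 4742, 29096, 29470, 29475, 29478, 29480, 29482, 29484, 29486, 29488, 29490, 29492]⟩)))) (.node (.node (.node (.leaf ⟨5, 499, 499, 1, 0, 1, 0, 50, 0, 499, [2581, 2868, 2580]⟩) (.leaf ⟨1, 938, 3161, 0, 0, 0, 0, 93, 0, 0, []⟩)) (.node (.leaf ⟨8, 1858, 1848, (-73), 0, (-33), 0, 47, 3, 1858, [11053, 10703, 11012]⟩) (.leaf ⟨5, 4629, 4630, 0, 0, 0, 0, 93, 0, 0, []⟩))) (.node (.node (.leaf ⟨1, 1107, 1107, 1, 0, 1, 0, 19, 0, 1107, [6907, 6964, 6906]⟩) (.leaf ⟨4, 3908, 3904, 0, 0, 0, 0, 40, 2, 3662, [23346, 21549, 23316]⟩)) (.node (.leaf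 ⟨10, 2524, 2525, 0, 0, 0, 0, 93, 0, 0, []⟩) (.leaf ⟨0, 0, 0, 0, 0, 0, 0, 0, 0, 0, []⟩))))) (.node (.node (.node (.node (.leaf ⟨3, 318, 328, 0, 0, 0, 0, 31, 0, 328, [1835, 1845, 1814]⟩) (.leaf ⟨10, 2998, 2999, 0, 0, 0, 0, 93, 0, 0, []⟩)) (.node (.leaf ⟨6, 1710, 1708, 0, 0, 0, 0, 55, 0, 1708, [10029, 10035, 10036]⟩) (.leaf ⟨8, 4458, 4455, (-3), 0, 3, 0, 56, 3, 598, [25794, 26416, 4187, 26420, 26404]⟩))) (.node (.node (.leaf ⟨4, 930, 928, 0, 0, 0, 0, 40, 0, 928, [5927, 5941, 5934]⟩) (.leaf ⟨9, 2510, 3756, 0, 0, 0, 0, 93, 0, 0, []⟩)) (.node (.leaf ⟨11, 725, 779, (-1), 0, (-5), 0, 44, 1, 2415, [14128, 14130, 14133]⟩) (.leaf ⟨4, 776, 776, (-1), 0, (-1), 0, 38, 0, 776, [4853, 30511, 30516, 30510, 4852]⟩)))) (.node (.node (.node (.leaf ⟨10, 95, 95, 1, 0, (-1), 0, 54, 3, 95,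 [401, 3892, 400]⟩) (.leaf ⟨6, 3353, 3274, 0, 0, 0, 0, 45, 5, 3353, [20275, 20267, 20277, 19752, 19756]⟩)) (.node (.leaf ⟨7, 2065, 2066, 0, 0, 0, 0, 93, 0, 0, []⟩) (.leaf ⟨9, 4790, 4781, 0, 0, 0, 0, 57, 3, 4790, [28441, 28468, 28408]⟩))) (.node (.node (.leaf ⟨11, 1352, 1254, 0, 0, 0, 0, 50, 3, 1352, [7989, 7987, 7544]⟩) (.leaf ⟨5, 4070, 4071, 0, 0, 0, 0, 93, 0, 0, []⟩)) (.node (.leaf ⟨7, 592, 641, (-35), 0, (-7), 0, 40, 1, 447, [2822, 3230, 14065]⟩) (.leaf ⟨0, 0, 0, 0, 0, 0, 0, 0, 0, 0, []⟩))))))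

def factsPart156 : ATree TFact :=
  .node (.node (.node (.node (.node (.node (.leaf ⟨8, 70, 70, 1, 0, 1, 0, 17, 3, 70, [277, 310, 276]⟩) (.leaf ⟨11, 2756, 2742, 0, 0, 0, 0, 44, 3, 2756, [16689, 16694, 16556]⟩)) (.node (.leaf ⟨4, 1469, 1358, 0, 0, 0, 0, 22, 3, 1469, [8463, 8502, 8014]⟩) (.leaf ⟨3, 4185, 3343, 0, 0, 0, 0, 33, 0, 3343, [20233, 6129, 24884]⟩))) (.node (.node (.leaf ⟨10, 690, 729, 0, 0, 0, 0, 93, 0, 0, []⟩) (.leaf ⟨2, 3460, 3410, 0, 0, 0, 0, 25, 0, 3410, [20573, 20789, 20790]⟩)) (.node (.leaf ⟨7, 2169, 2170, 0, 0, 0, 0, 93, 0, 0, []⟩) (.leaf ⟨3, 4879, 4880, 0, 0, 0, 0, 33, 0, 4880, [28967, 28983, 28960]⟩)))) (.node (.node (.node (.leaf ⟨6, 409, 443, 0, 0, 0, 0, 52, 2, 408, [2226, 2225, 2358]⟩) (.leaf ⟨5, 3098, 3099, 0, 0, 0, 0, 93, 0, 0, []⟩)) (.node (.leaf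 ⟨3, 763, 1571, 0, 0, 0, 0, 31, 0, 1571, [8875, 9394, 4752]⟩) (.leaf ⟨10, 4533, 4541, 0, 0, 0, 0, 58, 3, 4533, [26907, 15901, 26928]⟩))) (.node (.node (.leaf ⟨5, 1025, 1026, 0, 0, 0, 0, 47, 0, 1026, [6455, 4784, 6450]⟩) (.leaf ⟨4, 3821, 3819, 0, 0, 0, 0, 40, 0, 3819, [22827, 22837, 22838]⟩)) (.node (.leaf ⟨1, 2451, 2452, 0, 0, 0, 0, 15, 0, 2452, [14647, 14225, 14638]⟩) (.leaf ⟨5, 5161, 5162, 0, 0, 0, 0, 93, 0, 0, []⟩))))) (.node (.node (.node (.node (.leaf ⟨3, 192, 190, 0, 0, 0, 0, 33, 0, 190, [1327, 1333, 1334]⟩) (.leaf ⟨6, 2905, 2718, 0, 0, 0, 0, 39, 3, 2905, [17707, 17718, 16472]⟩)) (.node (.leaf ⟨4, 1123, 1627, 0, 0, 0, 0, 39, 0, 1627, [9521, 9526, 6998]⟩) (.leaf ⟨7, 2458, 727, 18, 0, 4, 0, 59, 2, 791, [25909, 14655, 25911]⟩))) (.node (.node (.leaf ⟨4, 833, 833, (-1),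 0, 11, 0, 30, 3, 835, [5327, 5318, 5430, 5327, 5318]⟩) (.leaf ⟨7, 3715, 3716, 0, 0, 0, 0, 93, 0, 0, []⟩)) (.node (.leaf ⟨10, 705, 2368, 0, 0, 0, 0, 93, 0, 0, []⟩) (.leaf ⟨3, 2404, 4977, 27, 0, 49, 0, 66, 2, 2460, [14775, 14644, 14637, 10007, 14634, 14620, 14625, 9033, 7151, 13581, 14618, 4279, 9417, 14612, 9614, 14606, 9616, 14600, 14595, 14593, 14589, 8755, 8760, 14586, 8746, 9480, 14584, 8131, 8156, 8185, 10005, 10001, 14583, 14581, 14576, 14564, 14554, 10038, 10032, 14550, 14532, 14536, 14399, 14411, 14419, 14427, 14430, 14434, 14450, 14264, 14460, 14466, 14262, 14476, 29994, 14503, 29162, 29304, 29164, 10624, 13903, 30003, 30006]⟩)))) (.node (.node (.node (.leaf ⟨5, 106, 106, (-1), 0, (-1), 0, 46, 0, 106, [451, 3382, 450]⟩) (.leaf ⟨3, 3274, 3256, 0, 0, 0, 0, 31,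 0, 3256, [19681, 19767, 19756]⟩)) (.node (.leaf ⟨7, 784, 784, 1, 0, 1, 0, 58, 0, 784, [4921, 3182, 4920]⟩) (.leaf ⟨0, 4253, 4253, (-1), 0, (-1), 0, 6, 0, 4253, [25333, 27958, 25332]⟩))) (.node (.node (.leaf ⟨1, 1209, 1227, 0, 0, 0, 0, 17, 0, 1227, [7447, 7479, 7362]⟩) (.leaf ⟨3, 4000, 3857, 0, 0, 0, 0, 31, 0, 3857, [23037, 23861, 23862]⟩)) (.node (.leaf ⟨11, 2624, 752, 0, 0, 0, 0, 50, 3, 2624, [15665, 13995, 4720]⟩) (.leaf ⟨0, 0, 0, 0, 0, 0, 0, 0, 0, 0, []⟩)))))) (.node (.node (.node (.node (.node (.leaf ⟨2, 147, 145, 0, 0, 0, 0, 26, 0, 145, [815, 821, 822]⟩) (.leaf ⟨6, 2816, 2814, 0, 0, 0, 0, 53, 0, 2814, [17197, 17204, 17206]⟩)) (.node (.leaf ⟨2, 1594, 1597, (-1), 0, 5, 0, 29, 2, 762, [9013, 4809, 9014]⟩) (.leaf ⟨8, 4275, 4246, 0, 0, 0, 0, 47, 3, 4275, [25395, 20982,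 25310]⟩))) (.node (.node (.leaf ⟨10, 562, 784, 0, 0, 0, 0, 93, 0, 0, []⟩) (.leaf ⟨5, 423, 423, 1, 0, (-1), 0, 48, 0, 423, [2281, 17724, 2280]⟩)) (.node (.leaf ⟨10, 2268, 2274, 0, 0, 0, 0, 93, 0, 0, []⟩) (.leaf ⟨6, 4919, 4919, (-1), 0, 1, 0, 54, 0, 4919, [29481, 10196, 29480]⟩)))) (.node (.node (.node (.leaf ⟨6, 468, 468, 1, 0, 1, 0, 45, 5, 468, [2449, 2583, 2870, 2582, 2448]⟩) (.leaf ⟨10, 3161, 3162, 0, 0, 0, 0, 93, 0, 0, []⟩)) (.node (.leaf ⟨8, 1849, 1859, 73, 0, 33, 0, 41, 3, 1849, [11015, 11063, 11054]⟩) (.leaf ⟨4, 4630, 4631, 0, 0, 0, 0, 93, 0, 0, []⟩))) (.node (.node (.leaf ⟨1, 1108, 1108, (-1), 0, (-1), 0, 14, 0, 1108, [6911, 6966, 6910]⟩) (.leaf ⟨4, 3905, 3909, 0, 0, 0, 0, 39, 0, 3909, [23349, 23350, 23318]⟩)) (.node (.leaf ⟨3, 2525, 2522, 0, 0, 0, 0, 36, 0, 2522,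 [15147, 15156, 15158]⟩) (.leaf ⟨0, 0, 0, 0, 0, 0, 0, 0, 0, 0, []⟩))))) (.node (.node (.node (.node (.leaf ⟨4, 328, 329, 0, 0, 0, 0, 93, 0, 0, []⟩) (.leaf ⟨7, 2999, 3000, 0, 0, 0, 0, 93, 0, 0, []⟩)) (.node (.leaf ⟨5, 1664, 1664, (-1), 0, (-1), 0, 49, 0, 1664, [9725, 8959, 8982, 8958, 9724]⟩) (.leaf ⟨11, 4458, 4453, 0, 0, 0, 0, 59, 3, 4458, [26417, 26291, 26398]⟩))) (.node (.node (.leaf ⟨7, 904, 931, 0, 0, 0, 0, 93, 0, 0, []⟩) (.leaf ⟨2, 400, 400, 1, 0, 11, 0, 29, 0, 400, [2181, 22138, 2180]⟩)) (.node (.leaf ⟨6, 700, 2417, 0, 0, 0, 0, 93, 0, 0, []⟩) (.leaf ⟨4, 796, 796, 1, 0, 1, 0, 40, 0, 796, [5109, 30518, 5108]⟩)))) (.node (.node (.node (.leaf ⟨7, 95, 95, (-1), 0, (-1), 0, 51, 5, 95, [401, 397, 3726, 396, 400]⟩) (.leaf ⟨10, 3140, 3354, 0, 0, 0, 0, 93, 0, 0, []⟩)) (.node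 (.leaf ⟨8, 2059, 2066, 0, 0, 0, 0, 56, 5, 2059, [12049, 12069, 12072, 12084, 12086]⟩) (.leaf ⟨9, 4791, 4782, 0, 0, 0, 0, 53, 3, 4791, [28443, 28470, 28412]⟩))) (.node (.node (.leaf ⟨6, 1352, 1353, 0, 0, 0, 0, 93, 0, 0, []⟩) (.leaf ⟨4, 4071, 4072, 0, 0, 0, 0, 93, 0, 0, []⟩)) (.node (.leaf ⟨6, 781, 781, (-1), 0, (-1), 0, 51, 0, 781, [4871, 333, 356, 332, 4870]⟩) (.leaf ⟨0, 0, 0, 0, 0, 0, 0, 0, 0, 0, []⟩))))))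

def factsPart157 : ATree TFact :=
  .node (.node (.node (.node (.node (.node (.leaf ⟨8, 71, 71, 1, 0, (-1), 0, 26, 3, 71, [279, 312, 278]⟩) (.leaf ⟨7, 2736, 2757, 0, 0, 0, 0, 93, 0, 0, []⟩)) (.node (.leaf ⟨4, 1470, 1359, 0, 0, 0, 0, 42, 0, 1359, [8017, 8505, 8464]⟩) (.leaf ⟨7, 2139, 4186, 0, 0, 0, 0, 93, 0, 0, []⟩))) (.node (.node (.leaf ⟨2, 729, 694, 0, 0, 0, 0, 28, 2, 690, [4408, 4169, 4190]⟩) (.leaf ⟨6, 3460, 3461, 0, 0, 0, 0, 93, 0, 0, []⟩)) (.node (.leaf ⟨6, 2170, 2171, 0, 0, 0, 0, 93, 0, 0, []⟩) (.leaf ⟨3, 2469, 2469, 1, 0, 1, 0, 34, 0, 2469, [14889, 10292, 14888]⟩)))) (.node (.node (.node (.leaf ⟨8, 433, 444, 0, 0, 0, 0, 93, 0, 0, []⟩) (.leaf ⟨3, 908, 861, 0, 0, 0, 0, 35, 2, 907, [5764, 5761, 5492]⟩)) (.node (.leaf ⟨10, 1414, 1427, 3, 0, (-3), 0, 49, 3, 1412,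 [8152, 8154, 10477, 8272, 8278]⟩) (.leaf ⟨10, 4542, 4534, 0, 0, 0, 0, 54, 3, 4542, [26931, 26937, 26908]⟩))) (.node (.node (.leaf ⟨6, 271, 1026, 0, 0, 0, 0, 52, 2, 270, [1702, 1701, 6454]⟩) (.leaf ⟨5, 3820, 3822, 0, 0, 0, 0, 93, 0, 0, []⟩)) (.node (.leaf ⟨5, 788, 2453, 0, 0, 0, 0, 93, 0, 0, []⟩) (.leaf ⟨11, 5157, 5160, 0, 0, 0, 0, 59, 3, 5157, [31011, 31009, 31028]⟩))))) (.node (.node (.node (.node (.leaf ⟨10, 97, 193, 0, 0, 0, 0, 93, 0, 0, []⟩) (.leaf ⟨3, 2559, 2905, (-320), 0, 14, 0, 32, 2, 2568, [15357, 17689, 17721]⟩)) (.node (.leaf ⟨4, 1124, 1628, 0, 0, 0, 0, 41, 0, 1628, [9523, 9529, 7000]⟩) (.leaf ⟨4, 2458, 693, 27, 0, 1, 0, 40, 2, 727, [25913, 4616, 4621]⟩))) (.node (.node (.leaf ⟨5, 832, 853, 0, 0, 0, 0, 93, 0, 0, []⟩) (.leaf ⟨8, 3716, 3717, 0, 0, 0, 0, 93,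 0, 0, []⟩)) (.node (.leaf ⟨4, 707, 2368, 0, 0, 0, 0, 43, 2, 706, [4280, 4279, 13624]⟩) (.leaf ⟨4, 1684, 1684, 1, 0, (-1), 0, 43, 0, 1684, [9879, 29224, 9878]⟩)))) (.node (.node (.node (.leaf ⟨6, 110, 110, (-1), 0, (-1), 0, 45, 5, 110, [467, 453, 3384, 452, 466]⟩) (.leaf ⟨2, 3252, 3256, 27, 0, (-1), 0, 21, 4, 3235, [19672, 19698, 19743, 19759, 19768]⟩)) (.node (.leaf ⟨7, 785, 785, (-1), 0, (-1), 0, 59, 0, 785, [4923, 11576, 4922]⟩) (.leaf ⟨0, 4254, 4254, 1, 0, 1, 0, 5, 0, 4254, [25335, 27960, 25334]⟩))) (.node (.node (.leaf ⟨1, 1210, 1228, 0, 0, 0, 0, 14, 0, 1228, [7449, 7481, 7364]⟩) (.leaf ⟨8, 3135, 4001, 0, 0, 0, 0, 93, 0, 0, []⟩)) (.node (.leaf ⟨2, 2624, 2624, 1, 0, 1, 0, 29, 2, 752, [15673, 4836, 15673]⟩) (.leaf ⟨0, 0, 0, 0, 0, 0, 0, 0, 0, 0, []⟩)))))) (.node (.node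 (.node (.node (.node (.leaf ⟨5, 70, 70, 1, 0, 1, 0, 14, 3, 70, [277, 542, 276]⟩) (.leaf ⟨7, 2815, 2815, (-1), 0, (-1), 0, 56, 4, 129, [17202, 527, 16800, 526, 17202]⟩)) (.node (.leaf ⟨11, 12, 12, 1, 0, 1, 0, 65, 5, 12, [23, 2115, 1096, 2114, 22]⟩) (.leaf ⟨8, 4276, 4247, 0, 0, 0, 0, 52, 3, 4276, [25397, 25400, 25312]⟩))) (.node (.node (.leaf ⟨11, 784, 785, 0, 0, 0, 0, 93, 0, 0, []⟩) (.leaf ⟨10, 3588, 3588, 1, 0, (-1), 0, 49, 5, 3588, [21267, 2283, 21304, 2282, 21266]⟩)) (.node (.leaf ⟨4, 2270, 2274, 0, 0, 0, 0, 43, 2, 2269, [13098, 13095, 13112]⟩) (.leaf ⟨7, 1739, 4919, 39, 0, (-11), 0, 46, 1, 4908, [29493, 29489, 29495]⟩)))) (.node (.node (.node (.leaf ⟨6, 469, 469, 1, 0, (-1), 0, 39, 3, 469, [2451, 2872, 2450]⟩) (.leaf ⟨7, 3162, 3163, 0, 0, 0, 0, 93, 0, 0, []⟩)) (.node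 (.leaf ⟨8, 1860, 1850, (-73), 0, (-33), 0, 34, 3, 1860, [11057, 11065, 11016]⟩) (.leaf ⟨3, 4631, 4632, 0, 0, 0, 0, 93, 0, 0, []⟩))) (.node (.node (.leaf ⟨1, 1109, 1109, 1, 0, 1, 0, 16, 0, 1109, [6915, 6968, 6914]⟩) (.leaf ⟨3, 3664, 3908, 0, 0, 0, 0, 33, 2, 3663, [21552, 21551, 23346]⟩)) (.node (.leaf ⟨11, 2525, 2526, 0, 0, 0, 0, 93, 0, 0, []⟩) (.leaf ⟨0, 0, 0, 0, 0, 0, 0, 0, 0, 0, []⟩))))) (.node (.node (.node (.node (.leaf ⟨3, 329, 330, 0, 0, 0, 0, 93, 0, 0, []⟩) (.leaf ⟨6, 3000, 3001, 0, 0, 0, 0, 93, 0, 0, []⟩)) (.node (.leaf ⟨5, 1710, 1710, 1, 0, 1, 0, 50, 0, 1710, [10037, 10040, 10036]⟩) (.leaf ⟨8, 4457, 4453, 2, 0, 2, 0, 62, 2, 4455, [26414, 26423, 26424]⟩))) (.node (.node (.leaf ⟨10, 931, 929, 0, 0, 0, 0, 58, 3, 931, [5945, 5733, 5932]⟩) (.leaf ⟨1, 1016, 398, 0,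 0, 0, 0, 17, 0, 398, [2171, 5405, 6400]⟩)) (.node (.leaf ⟨3, 725, 2417, 0, 0, 0, 0, 32, 0, 2417, [14137, 4271, 4384]⟩) (.leaf ⟨4, 5087, 5087, (-1), 0, (-1), 0, 41, 0, 5087, [30507, 30520, 30506]⟩)))) (.node (.node (.node (.leaf ⟨4, 201, 201, (-1), 0, (-1), 0, 40, 0, 201, [1445, 1358, 1444]⟩) (.leaf ⟨6, 3354, 3238, 0, 0, 0, 0, 54, 0, 3238, [19617, 19141, 20280]⟩)) (.node (.leaf ⟨6, 2066, 2067, 0, 0, 0, 0, 93, 0, 0, []⟩) (.leaf ⟨9, 4792, 4783, 0, 0, 0, 0, 48, 3, 4792, [28445, 28472, 28414]⟩))) (.node (.node (.leaf ⟨11, 1255, 1353, 0, 0, 0, 0, 55, 3, 1255, [7547, 7991, 7992]⟩) (.leaf ⟨5, 4068, 4072, 0, 0, 0, 0, 38, 5, 4068, [24355, 24353, 24372, 24374, 24376]⟩)) (.node (.leaf ⟨3, 781, 781, (-1), 0, (-1), 0, 33, 0, 781, [4871, 1368, 4870]⟩) (.leaf ⟨0, 0, 0, 0, 0, 0, 0, 0,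 0, 0, []⟩))))))

def factsPart158 : ATree TFact :=
  .node (.node (.node (.node (.node (.node (.leaf ⟨8, 72, 72, 1, 0, 1, 0, 34, 3, 72, [281, 314, 280]⟩) (.leaf ⟨6, 2757, 2758, 0, 0, 0, 0, 93, 0, 0, []⟩)) (.node (.leaf ⟨4, 1471, 1360, 0, 0, 0, 0, 43, 0, 1360, [8019, 8507, 8466]⟩) (.leaf ⟨10, 4186, 3343, 0, 0, 0, 0, 58, 3, 4186, [24891, 12385, 20232]⟩))) (.node (.node (.leaf ⟨7, 699, 729, 0, 0, 0, 0, 58, 0, 729, [4409, 4235, 4230]⟩) (.leaf ⟨2, 3461, 3411, 0, 0, 0, 0, 24, 0, 3411, [20575, 20793, 20794]⟩)) (.node (.leaf ⟨9, 2169, 2165, 0, 0, 0, 0, 48, 3, 2169, [12599, 10927, 12590]⟩) (.leaf ⟨3, 2470, 2470, (-1), 0, (-1), 0, 31, 0, 2470, [14891, 28986, 14890]⟩)))) (.node (.node (.node (.leaf ⟨5, 433, 407, 0, 0, 0, 0, 46, 2, 432, [2338, 2337, 2222]⟩) (.leaf ⟨3, 862, 930,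 0, 0, 0, 0, 33, 0, 930, [5935, 18746, 5494]⟩)) (.node (.leaf ⟨6, 1424, 1769, 0, 0, 0, 0, 93, 0, 0, []⟩) (.leaf ⟨5, 4544, 4536, 0, 0, 0, 0, 49, 4, 4543, [26934, 26933, 26938, 26910, 26912]⟩))) (.node (.node (.leaf ⟨6, 1002, 272, 0, 0, 0, 0, 45, 5, 1002, [6357, 6452, 6456, 6459, 1704]⟩) (.leaf ⟨7, 3822, 3823, 0, 0, 0, 0, 93, 0, 0, []⟩)) (.node (.leaf ⟨10, 2453, 743, 3, 0, (-3), 0, 49, 3, 644, [4944, 14650, 8881, 4118, 4622]⟩) (.leaf ⟨11, 5161, 5158, 0, 0, 0, 0, 55, 3, 5161, [31031, 31035, 31022]⟩))))) (.node (.node (.node (.node (.leaf ⟨7, 193, 194, 0, 0, 0, 0, 93, 0, 0, []⟩) (.leaf ⟨5, 422, 422, (-1), 0, 1, 0, 31, 3, 422, [2279, 6148, 2278]⟩)) (.node (.leaf ⟨4, 1624, 1629, 0, 0, 0, 0, 40, 0, 1629, [9525, 9531, 9510]⟩) (.leaf ⟨2, 2454, 693, 0, 0, 0, 0, 24, 0, 693, [4189,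 14753, 14656]⟩))) (.node (.node (.leaf ⟨9, 853, 854, 0, 0, 0, 0, 93, 0, 0, []⟩) (.leaf ⟨10, 3715, 3715, 1, 0, 1, 0, 63, 3, 3715, [21815, 1292, 21814]⟩)) (.node (.leaf ⟨5, 851, 2368, 0, 0, 0, 0, 49, 4, 517, [5388, 2699, 10514, 4276, 13624]⟩) (.leaf ⟨4, 4976, 4976, (-1), 0, 1, 0, 44, 0, 4976, [29773, 30010, 29772]⟩)))) (.node (.node (.node (.leaf ⟨6, 188, 188, 1, 0, 1, 0, 54, 0, 188, [1315, 3386, 1314]⟩) (.leaf ⟨2, 3257, 3253, (-27), 0, 1, 0, 28, 2, 3256, [19682, 19771, 19662]⟩)) (.node (.leaf ⟨5, 1621, 1621, 1, 0, 1, 0, 50, 0, 1621, [9267, 3204, 9266]⟩) (.leaf ⟨0, 4255, 4255, (-1), 0, (-1), 0, 7, 0, 4255, [25337, 27962, 25336]⟩))) (.node (.node (.leaf ⟨1, 1211, 1229, 0, 0, 0, 0, 13, 0, 1229, [7451, 7483, 7366]⟩) (.leaf ⟨4, 4001, 3792, 0, 0, 0, 0, 41, 0, 3792, [22585,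 19105, 23866]⟩)) (.node (.leaf ⟨2, 2625, 2625, 1, 0, (-1), 0, 28, 2, 2624, [15668, 15674, 15668]⟩) (.leaf ⟨0, 0, 0, 0, 0, 0, 0, 0, 0, 0, []⟩)))))) (.node (.node (.node (.node (.node (.leaf ⟨10, 99, 99, 1, 0, 1, 0, 49, 5, 99, [425, 421, 826, 420, 424]⟩) (.leaf ⟨7, 2816, 2816, 1, 0, 1, 0, 57, 0, 2816, [17207, 17210, 17206]⟩)) (.node (.leaf ⟨11, 13, 13, 1, 0, (-1), 0, 50, 3, 13, [25, 9018, 24]⟩) (.leaf ⟨8, 4277, 4248, 0, 0, 0, 0, 41, 3, 4277, [25399, 25402, 25314]⟩))) (.node (.node (.leaf ⟨5, 615, 784, 0, 0, 0, 0, 49, 4, 614, [3338, 3337, 2246, 3024, 4920]⟩) (.leaf ⟨10, 3589, 3589, 1, 0, 1, 0, 58, 3, 3589, [21269, 21306, 21268]⟩)) (.node (.leaf ⟨5, 1991, 2275, 0, 0, 0, 0, 93, 0, 0, []⟩) (.leaf ⟨4, 2614, 2614, (-1), 0, 1, 0, 43, 0, 2614, [15583, 10302, 15582]⟩)))) (.node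 (.node (.node (.leaf ⟨4, 467, 467, (-1), 0, (-1), 0, 44, 0, 467, [2447, 1358, 2446]⟩) (.leaf ⟨6, 3163, 3164, 0, 0, 0, 0, 93, 0, 0, []⟩)) (.node (.leaf ⟨8, 1851, 1861, 73, 0, 33, 0, 26, 3, 1851, [11019, 11067, 11058]⟩) (.leaf ⟨2, 982, 4628, 0, 0, 0, 0, 25, 0, 4628, [27443, 11438, 6216]⟩))) (.node (.node (.leaf ⟨1, 1110, 1110, (-1), 0, (-1), 0, 15, 0, 1110, [6919, 6970, 6918]⟩) (.leaf ⟨3, 3909, 3665, 0, 0, 0, 0, 32, 0, 3665, [21555, 23354, 23348]⟩)) (.node (.leaf ⟨3, 2526, 2523, 0, 0, 0, 0, 37, 0, 2523, [15151, 15161, 15162]⟩) (.leaf ⟨0, 0, 0, 0, 0, 0, 0, 0, 0, 0, []⟩))))) (.node (.node (.node (.node (.leaf ⟨4, 320, 330, 0, 0, 0, 0, 30, 5, 320, [1819, 1817, 1846, 1848, 1850]⟩) (.leaf ⟨5, 3001, 3002, 0, 0, 0, 0, 93, 0, 0, []⟩)) (.node (.leaf ⟨6, 1709, 1709, 1, 0, 1, 0,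 45, 5, 1709, [10033, 10039, 10042, 10038, 10032]⟩) (.leaf ⟨8, 728, 4456, 0, 0, 0, 0, 52, 3, 728, [4397, 26010, 26406]⟩))) (.node (.node (.leaf ⟨4, 904, 904, (-1), 0, 11, 0, 30, 5, 904, [5779, 5787, 5426, 5786, 5778]⟩) (.leaf ⟨1, 1017, 399, 0, 0, 0, 0, 14, 0, 399, [2175, 22331, 6404]⟩)) (.node (.leaf ⟨3, 788, 779, 0, 0, 0, 0, 36, 2, 644, [4944, 3555, 4862]⟩) (.leaf ⟨7, 775, 5088, 0, 0, 0, 0, 93, 0, 0, []⟩)))) (.node (.node (.node (.leaf ⟨3, 201, 76, 0, 0, 0, 0, 33, 0, 76, [289, 408, 1444]⟩) (.leaf ⟨8, 583, 3355, 0, 0, 0, 0, 93, 0, 0, []⟩)) (.node (.leaf ⟨8, 2060, 2067, 0, 0, 0, 0, 52, 3, 2060, [12051, 12088, 12090]⟩) (.leaf ⟨7, 4788, 4783, 21, 0, (-11), 0, 57, 2, 4787, [28436, 28465, 28474]⟩))) (.node (.node (.leaf ⟨4, 1353, 1354, 0, 0, 0, 0, 93, 0, 0, []⟩) (.leaf ⟨3,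 4072, 4073, 0, 0, 0, 0, 93, 0, 0, []⟩)) (.node (.leaf ⟨4, 781, 781, 1, 0, (-1), 0, 40, 0, 781, [4871, 1354, 4870]⟩) (.leaf ⟨0, 0, 0, 0, 0, 0, 0, 0, 0, 0, []⟩))))))

def factsPart159 : ATree TFact :=
  .node (.node (.node (.node (.node (.node (.leaf ⟨8, 75, 75, (-1), 0, (-1), 0, 61, 0, 75, [287, 316, 286]⟩) (.leaf ⟨10, 2753, 2757, 0, 0, 0, 0, 58, 3, 2753, [16683, 16547, 16698]⟩)) (.node (.leaf ⟨4, 1472, 1439, 0, 0, 0, 0, 40, 0, 1439, [8363, 8509, 8468]⟩) (.leaf ⟨2, 4186, 4186, 1, 0, (-1), 0, 25, 2, 2139, [24890, 22632, 24890]⟩))) (.node (.node (.leaf ⟨2, 675, 730, 0, 0, 0, 0, 93, 0, 0, []⟩) (.leaf ⟨5, 3461, 3462, 0, 0, 0, 0, 93, 0, 0, []⟩)) (.node (.leaf ⟨9, 2170, 2166, 0, 0, 0, 0, 57, 3, 2170, [12601, 12604, 12592]⟩) (.leaf ⟨4, 2472, 2472, (-1), 0, (-1), 0, 30, 5, 2472,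 [14895, 14893, 28988, 14892, 14894]⟩)))) (.node (.node (.node (.leaf ⟨5, 443, 444, 0, 0, 0, 0, 47, 0, 444, [2363, 2364, 2358]⟩) (.leaf ⟨3, 3096, 3098, 0, 0, 0, 0, 32, 0, 3098, [18743, 18749, 18738]⟩)) (.node (.leaf ⟨2, 1575, 1770, 0, 0, 0, 0, 93, 0, 0, []⟩) (.leaf ⟨10, 4129, 4545, 0, 0, 0, 0, 93, 0, 0, []⟩))) (.node (.node (.leaf ⟨6, 1003, 273, 0, 0, 0, 0, 39, 3, 1003, [6359, 6460, 1706]⟩) (.leaf ⟨5, 3823, 3821, 0, 0, 0, 0, 46, 2, 3822, [22844, 22843, 22838]⟩)) (.node (.leaf ⟨7, 2453, 791, (-17), 0, (-9), 0, 46, 3, 2453, [14651, 5017, 5018]⟩) (.leaf ⟨11, 5162, 5159, 0, 0, 0, 0, 50, 3, 5162, [31033, 31036, 31026]⟩))))) (.node (.node (.node (.node (.leaf ⟨2, 191, 193, 0, 0, 0, 0, 28, 0, 193, [1339, 447, 1330]⟩) (.leaf ⟨5, 427, 427, (-1), 0, (-1), 0, 23, 3, 427, [2297,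 17724, 2296]⟩)) (.node (.leaf ⟨1, 1243, 1630, 0, 0, 0, 0, 93, 0, 0, []⟩) (.leaf ⟨6, 783, 4369, 0, 0, 0, 0, 93, 0, 0, []⟩))) (.node (.node (.leaf ⟨5, 854, 833, 0, 0, 0, 0, 48, 2, 853, [5436, 5435, 5314]⟩) (.leaf ⟨10, 3716, 3716, 1, 0, (-1), 0, 58, 3, 3716, [21817, 21820, 21816]⟩)) (.node (.leaf ⟨4, 519, 851, 0, 0, 0, 0, 43, 2, 518, [2702, 2701, 5388]⟩) (.leaf ⟨5, 4978, 4978, (-1), 0, 1, 0, 38, 5, 4978, [29777, 29775, 30012, 29774, 29776]⟩)))) (.node (.node (.node (.leaf ⟨6, 617, 617, (-1), 0, (-1), 0, 55, 0, 617, [3353, 3388, 3352]⟩) (.leaf ⟨10, 3274, 3275, 0, 0, 0, 0, 93, 0, 0, []⟩)) (.node (.leaf ⟨4, 1621, 753, 0, 0, 0, 0, 44, 0, 753, [4731, 3198, 9266]⟩) (.leaf ⟨0, 4256, 4256, 1, 0, 1, 0, 4, 0, 4256, [25339, 27964, 25338]⟩))) (.node (.node (.leaf ⟨1, 1212, 1230, 0,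 0, 0, 0, 12, 0, 1230, [7453, 7485, 7368]⟩) (.leaf ⟨9, 2721, 4002, 0, 0, 0, 0, 93, 0, 0, []⟩)) (.node (.leaf ⟨7, 754, 2624, 0, 0, 0, 0, 46, 3, 754, [4733, 14000, 15664]⟩) (.leaf ⟨0, 0, 0, 0, 0, 0, 0, 0, 0, 0, []⟩)))))) (.node (.node (.node (.node (.node (.leaf ⟨10, 146, 146, 1, 0, (-1), 0, 58, 3, 146, [819, 828, 818]⟩) (.leaf ⟨10, 2815, 2815, 1, 0, (-1), 0, 61, 3, 2815, [17203, 546, 17202]⟩)) (.node (.leaf ⟨11, 14, 14, 1, 0, 1, 0, 59, 3, 14, [27, 9020, 26]⟩) (.leaf ⟨6, 1952, 4278, 0, 0, 0, 0, 93, 0, 0, []⟩))) (.node (.node (.leaf ⟨5, 616, 785, 0, 0, 0, 0, 50, 0, 785, [4923, 4925, 3340]⟩) (.leaf ⟨10, 3591, 3591, 1, 0, (-1), 0, 54, 3, 3591, [21277, 21308, 21276]⟩)) (.node (.leaf ⟨7, 2275, 2276, 0, 0, 0, 0, 93, 0, 0, []⟩) (.leaf ⟨6, 4894, 2615, (-178), 0, 12, 0, 66, 26,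 2449, [14591, 8662, 8676, 8742, 8653, 9476, 29024, 16232, 29027, 9005, 4325, 4766, 29033, 29036, 29043, 29044, 29046, 29048, 29050, 29052, 3360, 2702, 29060, 29068, 2704, 13632, 13614, 13604, 29074, 29086, 13576, 13588, 29088, 29106, 29108, 29113, 29116, 29118, 29120, 10027, 10018, 8898, 8902, 29126, 14775, 29130, 29322, 29324, 10677, 29328, 29355, 9579, 29334, 29358, 29362, 29495, 29496, 29499, 10264, 28943, 15800, 29500, 15584]⟩)))) (.node (.node (.node (.leaf ⟨5, 469, 469, (-1), 0, (-1), 0, 38, 5, 469, [2451, 2449, 2876, 2448, 2450]⟩) (.leaf ⟨9, 3161, 3165, 0, 0, 0, 0, 93, 0, 0, []⟩)) (.node (.leaf ⟨8, 1862, 1852, (-73), 0, (-33), 0, 17, 3, 1862, [11061, 11069, 11020]⟩) (.leaf ⟨2, 983, 4629, 0, 0, 0, 0, 24, 0, 4629, [27445, 27453, 6218]⟩))) (.node (.node (.leaf ⟨1,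 1111, 1111, 1, 0, 1, 0, 17, 0, 1111, [6923, 6972, 6922]⟩) (.leaf ⟨0, 407, 407, (-1), 0, (-1), 0, 6, 0, 407, [2223, 9294, 2222]⟩)) (.node (.leaf ⟨2, 209, 209, 1, 0, (-1), 0, 26, 0, 209, [1501, 10530, 1500]⟩) (.leaf ⟨0, 0, 0, 0, 0, 0, 0, 0, 0, 0, []⟩))))) (.node (.node (.node (.node (.leaf ⟨2, 330, 331, 0, 0, 0, 0, 93, 0, 0, []⟩) (.leaf ⟨4, 3002, 3003, 0, 0, 0, 0, 93, 0, 0, []⟩)) (.node (.leaf ⟨4, 1688, 1711, 0, 0, 0, 0, 93, 0, 0, []⟩) (.leaf ⟨4, 4348, 4456, 27, 0, (-1), 0, 41, 2, 2452, [25760, 14669, 26428]⟩))) (.node (.node (.leaf ⟨4, 931, 931, (-1), 0, (-11), 0, 40, 2, 904, [5944, 5948, 5944]⟩) (.leaf ⟨1, 2825, 400, 0, 0, 0, 0, 18, 0, 400, [2179, 22333, 17340]⟩)) (.node (.leaf ⟨11, 2417, 788, (-1), 0, 5, 0, 37, 1, 779, [14135, 14138, 14141]⟩) (.leaf ⟨5, 796, 5088, 0,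 0, 0, 0, 46, 2, 776, [5108, 4853, 30524]⟩)))) (.node (.node (.node (.leaf ⟨2, 76, 76, 1, 0, 1, 0, 25, 0, 76, [289, 1372, 288]⟩) (.leaf ⟨10, 3355, 2721, 0, 0, 0, 0, 61, 3, 3355, [20285, 3130, 16482]⟩)) (.node (.leaf ⟨9, 2030, 2063, 0, 0, 0, 0, 63, 2, 2029, [11990, 11989, 12074]⟩) (.leaf ⟨10, 4788, 4793, 0, 0, 0, 0, 93, 0, 0, []⟩))) (.node (.node (.leaf ⟨11, 1256, 1354, 0, 0, 0, 0, 44, 3, 1256, [7549, 7994, 7996]⟩) (.leaf ⟨5, 4069, 4073, 0, 0, 0, 0, 31, 3, 4069, [24357, 24378, 24380]⟩)) (.node (.leaf ⟨11, 781, 781, 1, 0, (-1), 0, 59, 3, 781, [4871, 2490, 4870]⟩) (.leaf ⟨0, 0, 0, 0, 0, 0, 0, 0, 0, 0, []⟩))))))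

def factsPart160 : ATree TFact :=
  .node (.node (.node (.node (.node (.node (.leaf ⟨7, 77, 77, (-1), 0, (-1), 0, 56, 4, 76, [292, 289, 318, 288, 292]⟩) (.leaf ⟨10, 2758, 2754, 0, 0, 0, 0, 54, 3, 2758, [16701, 16703, 16684]⟩)) (.node (.leaf ⟨4, 1473, 1440, 0, 0, 0, 0, 39, 0, 1440, [8365, 8511, 8470]⟩) (.leaf ⟨2, 3343, 3343, 1, 0, 1, 0, 28, 2, 4186, [24892, 24894, 24892]⟩))) (.node (.node (.leaf ⟨10, 730, 731, 0, 0, 0, 0, 93, 0, 0, []⟩) (.leaf ⟨2, 3462, 3412, 0, 0, 0, 0, 23, 0, 3412, [20577, 20797, 20798]⟩)) (.node (.leaf ⟨9, 2171, 2167, 0, 0, 0, 0, 53, 3, 2171, [12603, 12606, 12594]⟩) (.leaf ⟨4, 2600, 2600, (-1), 0, 1, 0, 22, 3, 2600, [15539, 28990, 15538]⟩)))) (.node (.node (.node (.leaf ⟨6, 435, 444, 0, 0, 0, 0, 52, 2, 434, [2342, 2341, 2362]⟩) (.leaf ⟨3, 3097, 3099,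 0, 0, 0, 0, 31, 0, 3099, [18745, 18751, 18740]⟩)) (.node (.leaf ⟨10, 1770, 1771, 0, 0, 0, 0, 93, 0, 0, []⟩) (.leaf ⟨5, 4127, 4541, 3, 0, 3, 0, 46, 2, 2656, [24660, 15929, 26928]⟩))) (.node (.node (.leaf ⟨6, 1004, 274, 0, 0, 0, 0, 32, 3, 1004, [6361, 6462, 1708]⟩) (.leaf ⟨6, 3823, 3824, 0, 0, 0, 0, 93, 0, 0, []⟩)) (.node (.leaf ⟨6, 791, 2454, 0, 0, 0, 0, 93, 0, 0, []⟩) (.leaf ⟨7, 158, 5163, 0, 0, 0, 0, 93, 0, 0, []⟩))))) (.node (.node (.node (.node (.leaf ⟨2, 192, 194, 0, 0, 0, 0, 25, 0, 194, [1341, 1343, 1334]⟩) (.leaf ⟨5, 2897, 2897, (-1), 0, 1, 0, 14, 3, 2897, [17691, 17726, 17690]⟩)) (.node (.leaf ⟨0, 1630, 1631, 0, 0, 0, 0, 93, 0, 0, []⟩) (.leaf ⟨3, 4369, 2454, 0, 0, 0, 0, 32, 0, 2454, [14657, 14757, 25918]⟩))) (.node (.node (.leaf ⟨11, 541, 541, 1, 0, 1, 0, 55,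 3, 541, [2897, 4568, 2896]⟩) (.leaf ⟨10, 3717, 3717, 1, 0, 1, 0, 61, 3, 3717, [21819, 21822, 21818]⟩)) (.node (.leaf ⟨4, 520, 2366, 0, 0, 0, 0, 38, 0, 2366, [13613, 13626, 13629, 13631, 2704]⟩) (.leaf ⟨6, 1788, 4978, 273, 0, 39, 0, 66, 5, 1605, [29316, 29792, 29791, 14963, 29789, 8688, 29786, 8687, 8663, 8785, 8811, 8801, 9448, 9438, 8834, 9428, 9420, 8799, 8808, 9414, 4354, 4323, 10450, 3409, 10456, 10520, 10516, 5392, 10513, 4273, 9040, 24, 9786, 10504, 29795, 13518, 6648, 6650, 6692, 6694, 6696, 8270, 8272, 8277, 10569, 10562, 10584, 29805, 29801, 29816, 29820, 29824, 10160, 10168, 29842, 29850, 29993, 10691, 10644, 14818, 30008, 29776, 30014]⟩)))) (.node (.node (.node (.leaf ⟨5, 188, 188, 1, 0, 1, 0, 49, 4, 110, [1314, 467, 876, 466, 1314]⟩) (.leaf ⟨3, 3275, 3257,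 0, 0, 0, 0, 36, 0, 3257, [19683, 19769, 19774]⟩)) (.node (.leaf ⟨2, 792, 464, 0, 0, 0, 0, 29, 0, 464, [2429, 3218, 5022]⟩) (.leaf ⟨0, 4257, 4257, (-1), 0, (-1), 0, 3, 0, 4257, [25341, 27966, 25340]⟩))) (.node (.node (.leaf ⟨1, 1213, 1231, 0, 0, 0, 0, 19, 0, 1231, [7455, 7487, 7370]⟩) (.leaf ⟨5, 3133, 4002, 0, 0, 0, 0, 48, 2, 2722, [19072, 16485, 23870]⟩)) (.node (.leaf ⟨3, 2415, 2415, (-1), 0, (-1), 0, 36, 0, 2415, [14123, 14110, 14122]⟩) (.leaf ⟨0, 0, 0, 0, 0, 0, 0, 0, 0, 0, []⟩)))))) (.node (.node (.node (.node (.node (.leaf ⟨10, 147, 147, 1, 0, 1, 0, 61, 3, 147, [823, 830, 822]⟩) (.leaf ⟨10, 2816, 2816, 1, 0, 1, 0, 63, 3, 2816, [17207, 17214, 17206]⟩)) (.node (.leaf ⟨11, 15, 15, 1, 0, (-1), 0, 55, 3, 15, [29, 9022, 28]⟩) (.leaf ⟨5, 4278, 4279, 0, 0, 0, 0, 93, 0, 0,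 []⟩))) (.node (.node (.leaf ⟨11, 567, 786, 0, 0, 0, 0, 93, 0, 0, []⟩) (.leaf ⟨10, 3592, 3592, 1, 0, 1, 0, 61, 3, 3592, [21279, 21310, 21278]⟩)) (.node (.leaf ⟨6, 2276, 2277, 0, 0, 0, 0, 93, 0, 0, []⟩) (.leaf ⟨8, 4894, 4885, 0, 0, 0, 0, 41, 3, 4894, [29115, 15810, 29018]⟩)))) (.node (.node (.node (.leaf ⟨11, 75, 537, 0, 0, 0, 0, 93, 0, 0, []⟩) (.leaf ⟨10, 3165, 3166, 0, 0, 0, 0, 93, 0, 0, []⟩)) (.node (.leaf ⟨5, 1641, 1863, 0, 0, 0, 0, 93, 0, 0, []⟩) (.leaf ⟨2, 984, 4630, 0, 0, 0, 0, 23, 0, 4630, [27447, 27455, 6220]⟩))) (.node (.node (.leaf ⟨1, 1112, 1112, (-1), 0, (-1), 0, 14, 0, 1112, [6927, 6974, 6926]⟩) (.leaf ⟨0, 408, 408, 1, 0, 1, 0, 5, 0, 408, [2225, 23358, 2224]⟩)) (.node (.leaf ⟨2, 210, 210, (-1), 0, 1, 0, 23, 0, 210, [1503, 15166, 1502]⟩) (.leaf ⟨0, 0, 0, 0,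 0, 0, 0, 0, 0, 0, []⟩))))) (.node (.node (.node (.node (.leaf ⟨4, 321, 331, 0, 0, 0, 0, 22, 3, 321, [1821, 1852, 1854]⟩) (.leaf ⟨10, 3003, 3004, 0, 0, 0, 0, 93, 0, 0, []⟩)) (.node (.leaf ⟨10, 1711, 1712, 0, 0, 0, 0, 93, 0, 0, []⟩) (.leaf ⟨4, 4457, 4349, (-27), 0, 1, 0, 40, 2, 4456, [26412, 26431, 25762]⟩))) (.node (.node (.leaf ⟨4, 929, 929, (-1), 0, 11, 0, 43, 2, 931, [5946, 5950, 5946]⟩) (.leaf ⟨2, 1016, 2509, 0, 0, 0, 0, 26, 0, 2509, [15051, 13529, 6400]⟩)) (.node (.leaf ⟨2, 2417, 2414, 0, 0, 0, 0, 24, 0, 2414, [14119, 9237, 14136]⟩) (.leaf ⟨8, 5088, 5089, 0, 0, 0, 0, 93, 0, 0, []⟩)))) (.node (.node (.node (.leaf ⟨7, 530, 530, 1, 0, 1, 0, 16, 3, 530, [2775, 686, 2774]⟩) (.leaf ⟨5, 3355, 3355, (-1), 0, 1, 0, 47, 0, 3355, [20285, 3140, 20284]⟩)) (.node (.leaf ⟨9, 2064,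 2031, 0, 0, 0, 0, 48, 3, 2064, [12079, 12095, 11992]⟩) (.leaf ⟨2, 4050, 3984, 0, 0, 0, 0, 27, 2, 4049, [24268, 24263, 23774]⟩))) (.node (.node (.leaf ⟨5, 1354, 1355, 0, 0, 0, 0, 93, 0, 0, []⟩) (.leaf ⟨10, 3499, 4074, 0, 0, 0, 0, 93, 0, 0, []⟩)) (.node (.leaf ⟨5, 2698, 2699, 0, 0, 0, 0, 93, 0, 0, []⟩) (.leaf ⟨0, 0, 0, 0, 0, 0, 0, 0, 0, 0, []⟩))))))

def factsPart161 : ATree TFact :=
  .node (.node (.node (.node (.node (.node (.leaf ⟨0, 5, 78, 0, 0, 0, 0, 93, 0, 0, []⟩) (.leaf ⟨7, 2754, 2754, 1, 0, 1, 0, 51, 5, 2754, [16685, 16683, 16652, 16682, 16684]⟩)) (.node (.leaf ⟨4, 1474, 1441, 0, 0, 0, 0, 41, 0, 1441, [8367, 8513, 8472]⟩) (.leaf ⟨6, 2139, 980, 0, 0, 0, 0, 54, 0, 980, [6193, 2371, 12384]⟩))) (.node (.node (.leaf ⟨2, 685, 483, 0, 0, 0, 0, 22, 0, 483, [2517, 2637,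 4140]⟩) (.leaf ⟨7, 748, 3463, 0, 0, 0, 0, 93, 0, 0, []⟩)) (.node (.leaf ⟨5, 1837, 2172, 0, 0, 0, 0, 93, 0, 0, []⟩) (.leaf ⟨4, 2601, 2601, (-1), 0, (-1), 0, 13, 3, 2601, [15541, 28992, 15540]⟩)))) (.node (.node (.node (.leaf ⟨6, 410, 436, 0, 0, 0, 0, 45, 5, 410, [2229, 2360, 2366, 2369, 2344]⟩) (.leaf ⟨4, 3072, 3029, 0, 0, 0, 0, 44, 0, 3029, [18345, 6065, 18550]⟩)) (.node (.leaf ⟨5, 1771, 1772, 0, 0, 0, 0, 93, 0, 0, []⟩) (.leaf ⟨6, 4543, 4129, (-3), 0, 3, 0, 45, 3, 4541, [26930, 26932, 26945, 24662, 24664]⟩))) (.node (.node (.leaf ⟨6, 1007, 275, 0, 0, 0, 0, 53, 0, 275, [1711, 6465, 6366]⟩) (.leaf ⟨6, 3092, 3825, 0, 0, 0, 0, 93, 0, 0, []⟩)) (.node (.leaf ⟨6, 789, 789, 1, 0, 1, 0, 54, 0, 789, [4993, 9386, 4992]⟩) (.leaf ⟨6, 5163, 5164, 0, 0, 0, 0, 93, 0, 0, []⟩))))) (.node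 (.node (.node (.node (.leaf ⟨7, 97, 195, 0, 0, 0, 0, 93, 0, 0, []⟩) (.leaf ⟨5, 2898, 2898, 1, 0, (-1), 0, 48, 0, 2898, [17693, 17728, 17692]⟩)) (.node (.leaf ⟨10, 1631, 1632, 0, 0, 0, 0, 93, 0, 0, []⟩) (.leaf ⟨10, 726, 4369, 0, 0, 0, 0, 54, 3, 726, [4387, 5092, 25918]⟩))) (.node (.node (.leaf ⟨11, 832, 832, 1, 0, (-1), 0, 62, 3, 832, [5313, 5440, 5312]⟩) (.leaf ⟨9, 7, 7, (-1), 0, (-1), 0, 63, 0, 7, [13, 6564, 12]⟩)) (.node (.leaf ⟨4, 1622, 2367, 0, 0, 0, 0, 39, 0, 2367, [13617, 13633, 9310]⟩) (.leaf ⟨6, 4966, 1761, (-273), 0, (-39), 0, 52, 2, 4978, [29784, 30017, 10698]⟩)))) (.node (.node (.node (.leaf ⟨5, 617, 617, (-1), 0, (-1), 0, 50, 0, 617, [3353, 3392, 3352]⟩) (.leaf ⟨10, 3266, 3276, 0, 0, 0, 0, 93, 0, 0, []⟩)) (.node (.leaf ⟨11, 459, 459, 1, 0, 1, 0, 50, 3, 459,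 [2419, 9376, 2418]⟩) (.leaf ⟨0, 4258, 4258, 1, 0, 1, 0, 9, 0, 4258, [25343, 27968, 25342]⟩))) (.node (.node (.leaf ⟨1, 1214, 1232, 0, 0, 0, 0, 20, 0, 1232, [7457, 7489, 7372]⟩) (.leaf ⟨7, 4002, 4003, 0, 0, 0, 0, 93, 0, 0, []⟩)) (.node (.leaf ⟨2, 2415, 2415, (-1), 0, (-1), 0, 28, 0, 2415, [14123, 14102, 14122]⟩) (.leaf ⟨0, 0, 0, 0, 0, 0, 0, 0, 0, 0, []⟩)))))) (.node (.node (.node (.node (.node (.leaf ⟨8, 98, 98, (-1), 0, (-1), 0, 61, 0, 98, [421, 312, 420]⟩) (.leaf ⟨2, 2815, 2815, (-1), 0, (-1), 0, 26, 0, 2815, [17203, 1100, 17202]⟩)) (.node (.leaf ⟨11, 755, 755, 1, 0, 1, 0, 50, 3, 755, [4737, 9024, 4736]⟩) (.leaf ⟨4, 4279, 4280, 0, 0, 0, 0, 93, 0, 0, []⟩))) (.node (.node (.leaf ⟨4, 567, 784, 0, 0, 0, 0, 43, 2, 563, [3044, 3027, 4920]⟩) (.leaf ⟨5, 3596, 3596, 1, 0, 1,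 0, 49, 4, 3593, [21302, 21283, 21312, 21282, 21302]⟩)) (.node (.leaf ⟨5, 2277, 2278, 0, 0, 0, 0, 93, 0, 0, []⟩) (.leaf ⟨6, 2618, 4885, 178, 0, (-12), 0, 52, 2, 2615, [15600, 29503, 29504]⟩)))) (.node (.node (.node (.leaf ⟨5, 537, 538, 0, 0, 0, 0, 93, 0, 0, []⟩) (.leaf ⟨9, 3166, 3162, 0, 0, 0, 0, 63, 2, 3165, [19264, 19263, 19256]⟩)) (.node (.leaf ⟨9, 1858, 1863, 0, 0, 0, 0, 48, 3, 1858, [11053, 9566, 11072]⟩) (.leaf ⟨2, 986, 4631, 0, 0, 0, 0, 22, 0, 4631, [27449, 27457, 6234]⟩))) (.node (.node (.leaf ⟨1, 1113, 1113, 1, 0, 1, 0, 13, 0, 1113, [6931, 6976, 6930]⟩) (.leaf ⟨0, 409, 409, (-1), 0, (-1), 0, 7, 0, 409, [2227, 23360, 2226]⟩)) (.node (.leaf ⟨2, 211, 211, 1, 0, (-1), 0, 22, 0, 211, [1505, 15168, 1504]⟩) (.leaf ⟨0, 0, 0, 0, 0, 0, 0, 0, 0, 0, []⟩))))) (.node (.node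 (.node (.node (.leaf ⟨9, 252, 332, 0, 0, 0, 0, 93, 0, 0, []⟩) (.leaf ⟨3, 3003, 3005, 0, 0, 0, 0, 93, 0, 0, []⟩)) (.node (.leaf ⟨11, 1712, 1713, 0, 0, 0, 0, 93, 0, 0, []⟩) (.leaf ⟨4, 4345, 4453, 25, 0, 11, 0, 41, 0, 4453, [26427, 26432, 25770]⟩))) (.node (.node (.leaf ⟨5, 928, 928, (-1), 0, 11, 0, 38, 3, 929, [5937, 5942, 5952, 5937, 5942]⟩) (.leaf ⟨2, 1017, 2510, 0, 0, 0, 0, 23, 0, 2510, [15053, 22337, 6404]⟩)) (.node (.leaf ⟨2, 691, 788, 0, 0, 0, 0, 28, 2, 645, [4180, 3559, 4944]⟩) (.leaf ⟨5, 5089, 5087, 0, 0, 0, 0, 47, 0, 5087, [30507, 30526, 30528]⟩)))) (.node (.node (.node (.leaf ⟨6, 530, 530, 1, 0, 1, 0, 15, 3, 530, [2775, 688, 2774]⟩) (.leaf ⟨10, 2722, 2722, (-1), 0, 1, 0, 49, 5, 2722, [16485, 20287, 20288, 20286, 16484]⟩)) (.node (.leaf ⟨9, 2065, 2032, 0, 0, 0,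 0, 42, 3, 2065, [12083, 12096, 11994]⟩) (.leaf ⟨2, 4291, 4059, 0, 0, 0, 0, 28, 0, 4059, [24325, 28480, 25444]⟩))) (.node (.node (.leaf ⟨11, 1257, 1355, 0, 0, 0, 0, 50, 3, 1257, [7551, 7998, 8000]⟩) (.leaf ⟨7, 4074, 4075, 0, 0, 0, 0, 93, 0, 0, []⟩)) (.node (.leaf ⟨10, 593, 2700, 0, 0, 0, 0, 93, 0, 0, []⟩) (.leaf ⟨0, 0, 0, 0, 0, 0, 0, 0, 0, 0, []⟩))))))

def factsPart162 : ATree TFact :=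
  .node (.node (.node (.node (.node (.node (.leaf ⟨1, 78, 79, 0, 0, 0, 0, 93, 0, 0, []⟩) (.leaf ⟨5, 2753, 2753, 1, 0, (-1), 0, 46, 0, 2753, [16683, 16630, 16682]⟩)) (.node (.leaf ⟨5, 1476, 1443, 0, 0, 0, 0, 38, 5, 1476, [8477, 8475, 8514, 8368, 8370]⟩) (.leaf ⟨10, 435, 435, (-1), 0, 1, 0, 61, 3, 435, [2343, 3202, 2342]⟩))) (.node (.node (.leaf ⟨3, 698, 730, 0, 0, 0, 0, 21, 5, 698, [4229, 4193, 4418, 3984, 4414]⟩) (.leaf ⟨3, 3463, 3455, 0, 0, 0, 0, 33, 0, 3455, [20771, 4707, 20802]⟩)) (.node (.leaf ⟨8, 2172, 2169, 0, 0, 0, 0, 47, 3, 2172, [12611, 10942, 12598]⟩) (.leaf ⟨4, 2602, 2602, 1, 0, 1, 0, 42, 0, 2602, [15543, 28994, 15542]⟩)))) (.node (.node (.node (.leaf ⟨6, 417, 437, 0, 0, 0, 0, 39, 3, 417, [2261, 2370, 2346]⟩) (.leaf ⟨4, 3073, 3030, 0, 0, 0, 0, 40, 0, 3030,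 [18349, 18755, 18566]⟩)) (.node (.leaf ⟨6, 1772, 1773, 0, 0, 0, 0, 93, 0, 0, []⟩) (.leaf ⟨6, 4545, 4544, 3, 0, (-3), 0, 54, 2, 4129, [26942, 26947, 26934]⟩))) (.node (.node (.leaf ⟨6, 1008, 276, 0, 0, 0, 0, 54, 0, 276, [1713, 6467, 6368]⟩) (.leaf ⟨8, 3825, 3826, 0, 0, 0, 0, 93, 0, 0, []⟩)) (.node (.leaf ⟨5, 2454, 2454, 1, 0, 1, 0, 45, 4, 791, [14656, 5019, 14658, 5018, 14656]⟩) (.leaf ⟨10, 5160, 5163, 0, 0, 0, 0, 58, 3, 5160, [31029, 915, 31040]⟩))))) (.node (.node (.node (.node (.leaf ⟨10, 194, 195, 0, 0, 0, 0, 58, 3, 194, [1341, 1339, 1346]⟩) (.leaf ⟨10, 2900, 2900, 1, 0, (-1), 0, 49, 5, 2900, [17697, 17695, 17730, 17694, 17696]⟩)) (.node (.leaf ⟨5, 1632, 1633, 0, 0, 0, 0, 93, 0, 0, []⟩) (.leaf ⟨2, 726, 726, 1, 0, 11, 0, 23, 0, 726, [4389, 25900, 4388]⟩))) (.node (.node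 (.leaf ⟨11, 853, 853, 1, 0, 1, 0, 50, 3, 853, [5435, 5442, 5434]⟩) (.leaf ⟨9, 122, 122, (-1), 0, 1, 0, 48, 3, 122, [513, 21826, 512]⟩)) (.node (.leaf ⟨2, 769, 2367, 21, 0, (-1), 0, 22, 2, 1623, [13622, 9323, 13634]⟩) (.leaf ⟨7, 1763, 4968, 273, 0, (-39), 0, 51, 3, 1761, [10424, 10426, 30019, 29742, 29744]⟩)))) (.node (.node (.node (.leaf ⟨1, 305, 619, 0, 0, 0, 0, 93, 0, 0, []⟩) (.leaf ⟨2, 3275, 3276, 0, 0, 0, 0, 28, 0, 3276, [19779, 19759, 19774]⟩)) (.node (.leaf ⟨11, 460, 460, 1, 0, (-1), 0, 44, 3, 460, [2421, 11586, 2420]⟩) (.leaf ⟨0, 4699, 4699, (-1), 0, (-1), 0, 10, 0, 4699, [27935, 27970, 27934]⟩))) (.node (.node (.leaf ⟨1, 1215, 1233, 0, 0, 0, 0, 14, 0, 1233, [7459, 7491, 7374]⟩) (.leaf ⟨5, 4003, 3134, 0, 0, 0, 0, 46, 0, 3134, [19077, 23872, 23874]⟩)) (.node (.leaf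 ⟨0, 178, 178, (-17), 0, (-1), 0, 66, 0, 178, [1286, 1218, 1220, 1228, 1323, 3705, 3834, 3833, 3830, 3828, 3775, 403, 414, 1378, 1390, 3788, 379, 374, 3790, 3792, 3794, 3674, 3673, 3747, 3818, 3745, 329, 327, 850, 854, 852, 424, 428, 448, 3848, 872, 450, 452, 466, 1236, 3846, 3844, 1241, 3842, 3840, 1229, 1266, 1274, 1282, 1290, 3838, 1221, 1256, 1264, 1272, 1280, 1288, 1219, 3836, 1254, 1262, 1270, 1278]⟩) (.leaf ⟨0, 0, 0, 0, 0, 0, 0, 0, 0, 0, []⟩)))))) (.node (.node (.node (.node (.node (.leaf ⟨8, 99, 99, (-1), 0, 1, 0, 47, 3, 99, [425, 834, 424]⟩) (.leaf ⟨2, 2816, 2816, 1, 0, 1, 0, 27, 0, 2816, [17207, 17218, 17206]⟩)) (.node (.leaf ⟨11, 756, 756, 1, 0, (-1), 0, 44, 3, 756, [4739, 9026, 4738]⟩) (.leaf ⟨3, 4280, 4281, 0, 0, 0, 0, 93, 0, 0, []⟩))) (.node (.node (.leaf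 ⟨4, 785, 786, 0, 0, 0, 0, 44, 0, 786, [4929, 4930, 4922]⟩) (.leaf ⟨7, 3596, 3597, 0, 0, 0, 0, 93, 0, 0, []⟩)) (.node (.leaf ⟨9, 2261, 2279, 0, 0, 0, 0, 93, 0, 0, []⟩) (.leaf ⟨7, 4887, 4884, (-178), 0, (-12), 0, 51, 3, 4885, [29020, 29022, 29507, 29010, 29012]⟩)))) (.node (.node (.node (.leaf ⟨3, 467, 537, 0, 0, 0, 0, 37, 0, 537, [2881, 408, 2446]⟩) (.leaf ⟨7, 3166, 3167, 0, 0, 0, 0, 93, 0, 0, []⟩)) (.node (.leaf ⟨4, 1863, 1864, 0, 0, 0, 0, 93, 0, 0, []⟩) (.leaf ⟨4, 4317, 970, 0, 0, 0, 0, 40, 0, 970, [6161, 18528, 25592]⟩))) (.node (.node (.leaf ⟨1, 1114, 1114, (-1), 0, (-1), 0, 19, 0, 1114, [6935, 6978, 6934]⟩) (.leaf ⟨0, 410, 410, 1, 0, 1, 0, 4, 0, 410, [2229, 23362, 2228]⟩)) (.node (.leaf ⟨2, 2524, 2524, (-1), 0, 1, 0, 27, 0, 2524, [15155, 15170, 15154]⟩) (.leaf ⟨0,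 0, 0, 0, 0, 0, 0, 0, 0, 0, []⟩))))) (.node (.node (.node (.node (.leaf ⟨7, 332, 333, 0, 0, 0, 0, 93, 0, 0, []⟩) (.leaf ⟨10, 3005, 3006, 0, 0, 0, 0, 93, 0, 0, []⟩)) (.node (.leaf ⟨7, 1464, 248, 0, 0, 0, 0, 51, 3, 1462, [8450, 8452, 8449, 1606, 1608]⟩) (.leaf ⟨3, 3051, 4343, 0, 0, 0, 0, 31, 0, 4343, [25745, 26308, 18436]⟩))) (.node (.node (.leaf ⟨5, 922, 922, (-1), 0, (-11), 0, 31, 3, 922, [5930, 5954, 5931]⟩) (.leaf ⟨2, 2825, 3756, 0, 0, 0, 0, 27, 0, 3756, [22327, 22339, 17340]⟩)) (.node (.leaf ⟨11, 2414, 691, (-1), 0, (-5), 0, 29, 1, 788, [14143, 14144, 14147]⟩) (.leaf ⟨8, 4653, 5090, 0, 0, 0, 0, 93, 0, 0, []⟩)))) (.node (.node (.node (.leaf ⟨3, 79, 79, (-1), 0, (-1), 0, 12, 3, 79, [325, 692, 324]⟩) (.leaf ⟨10, 2723, 2723, (-1), 0, (-1), 0, 43, 3, 2723, [16487, 20290,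 16486]⟩)) (.node (.leaf ⟨9, 2066, 2033, 0, 0, 0, 0, 57, 3, 2066, [12087, 12098, 11996]⟩) (.leaf ⟨11, 4291, 4794, 0, 0, 0, 0, 93, 0, 0, []⟩))) (.node (.node (.leaf ⟨7, 1355, 1356, 0, 0, 0, 0, 93, 0, 0, []⟩) (.leaf ⟨6, 4075, 4076, 0, 0, 0, 0, 93, 0, 0, []⟩)) (.node (.leaf ⟨4, 782, 2700, 0, 0, 0, 0, 43, 2, 594, [4916, 3235, 16194]⟩) (.leaf ⟨0, 0, 0, 0, 0, 0, 0, 0, 0, 0, []⟩))))))

def factsPart163 : ATree TFact :=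
  .node (.node (.node (.node (.node (.node (.leaf ⟨2, 79, 80, 0, 0, 0, 0, 93, 0, 0, []⟩) (.leaf ⟨8, 130, 2759, 0, 0, 0, 0, 93, 0, 0, []⟩)) (.node (.leaf ⟨5, 1477, 1444, 0, 0, 0, 0, 31, 3, 1477, [8479, 8516, 8372]⟩) (.leaf ⟨5, 980, 980, (-1), 0, 1, 0, 49, 4, 436, [6192, 2345, 24900, 2344, 6192]⟩))) (.node (.node (.leaf ⟨3, 699, 731, 0, 0, 0, 0, 36, 0, 731, [4417, 4421, 4230]⟩) (.leaf ⟨6, 3463, 3464, 0, 0, 0, 0, 93, 0, 0, []⟩)) (.node (.leaf ⟨5, 1838, 2173, 0, 0, 0, 0, 93, 0, 0, []⟩) (.leaf ⟨4, 2603, 2603, 1, 0, (-1), 0, 3, 3, 2603, [15545, 28996, 15544]⟩)))) (.node (.node (.node (.leaf ⟨6, 422, 438, 0, 0, 0, 0, 32, 3, 422, [2279, 2372, 2348]⟩) (.leaf ⟨4, 3074, 3031, 0, 0, 0, 0, 39, 0, 3031, [18353, 18757, 18568]⟩)) (.node (.leaf ⟨6, 1770, 1422, 0, 0, 0, 0, 24, 3, 1770,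 [10559, 8912, 8258]⟩) (.leaf ⟨7, 2664, 4546, 0, 0, 0, 0, 93, 0, 0, []⟩))) (.node (.node (.leaf ⟨6, 1009, 277, 0, 0, 0, 0, 55, 0, 277, [1715, 6469, 6370]⟩) (.leaf ⟨5, 3826, 3827, 0, 0, 0, 0, 93, 0, 0, []⟩)) (.node (.leaf ⟨6, 787, 792, 0, 0, 0, 0, 55, 0, 792, [5023, 4257, 4934]⟩) (.leaf ⟨10, 5164, 5161, 0, 0, 0, 0, 54, 3, 5164, [31043, 31045, 31030]⟩))))) (.node (.node (.node (.node (.leaf ⟨8, 91, 196, 0, 0, 0, 0, 93, 0, 0, []⟩) (.leaf ⟨10, 2901, 2901, 1, 0, 1, 0, 54, 3, 2901, [17699, 17732, 17698]⟩)) (.node (.leaf ⟨7, 1633, 1634, 0, 0, 0, 0, 93, 0, 0, []⟩) (.leaf ⟨2, 4369, 4369, (-1), 0, (-11), 0, 28, 0, 4369, [25923, 25924, 25922]⟩))) (.node (.node (.leaf ⟨11, 854, 854, 1, 0, (-1), 0, 64, 3, 854, [5437, 5444, 5436]⟩) (.leaf ⟨9, 123, 123, (-1), 0, (-1), 0, 42, 3, 123,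 [515, 21828, 514]⟩)) (.node (.leaf ⟨2, 1423, 1067, 0, 0, 0, 0, 28, 2, 1422, [8260, 8259, 6688]⟩) (.leaf ⟨0, 2909, 4993, 0, 0, 0, 0, 93, 0, 0, []⟩)))) (.node (.node (.node (.leaf ⟨7, 619, 620, 0, 0, 0, 0, 93, 0, 0, []⟩) (.leaf ⟨7, 2137, 3277, 0, 0, 0, 0, 93, 0, 0, []⟩)) (.node (.leaf ⟨11, 461, 461, 1, 0, 1, 0, 37, 3, 461, [2423, 11588, 2422]⟩) (.leaf ⟨0, 4700, 4700, 1, 0, 1, 0, 4, 0, 4700, [27937, 27972, 27936]⟩))) (.node (.node (.leaf ⟨1, 1216, 1234, 0, 0, 0, 0, 15, 0, 1234, [7461, 7493, 7376]⟩) (.leaf ⟨8, 576, 4004, 0, 0, 0, 0, 93, 0, 0, []⟩)) (.node (.leaf ⟨0, 619, 619, (-17), 0, 1, 0, 10, 2, 178, [9212, 15684, 9212]⟩) (.leaf ⟨0, 0, 0, 0, 0, 0, 0, 0, 0, 0, []⟩)))))) (.node (.node (.node (.node (.node (.leaf ⟨7, 147, 147, (-1), 0, 1, 0, 56, 4, 146, [822, 819, 836, 818,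 822]⟩) (.leaf ⟨3, 2815, 2815, 1, 0, (-1), 0, 34, 0, 2815, [17203, 1104, 17202]⟩)) (.node (.leaf ⟨10, 1597, 1597, 1, 0, (-1), 0, 65, 4, 757, [9014, 4741, 9028, 4740, 9014]⟩) (.leaf ⟨10, 4281, 4282, 0, 0, 0, 0, 93, 0, 0, []⟩))) (.node (.node (.leaf ⟨11, 568, 787, 0, 0, 0, 0, 93, 0, 0, []⟩) (.leaf ⟨6, 3597, 3598, 0, 0, 0, 0, 93, 0, 0, []⟩)) (.node (.leaf ⟨2, 2263, 2279, 0, 0, 0, 0, 27, 2, 2262, [13064, 13063, 13124]⟩) (.leaf ⟨4, 2612, 4920, 0, 0, 0, 0, 93, 0, 0, []⟩)))) (.node (.node (.node (.leaf ⟨3, 468, 538, 0, 0, 0, 0, 31, 0, 538, [2883, 2885, 2448]⟩) (.leaf ⟨9, 3163, 3167, 0, 0, 0, 0, 57, 3, 3163, [19259, 19267, 19268]⟩)) (.node (.leaf ⟨9, 1859, 1864, 0, 0, 0, 0, 42, 3, 1859, [11055, 11074, 11076]⟩) (.leaf ⟨4, 4318, 971, 0, 0, 0, 0, 39, 0, 971, [6163, 27461, 25594]⟩)))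 (.node (.node (.leaf ⟨1, 1115, 1115, 1, 0, 1, 0, 14, 0, 1115, [6939, 6980, 6938]⟩) (.leaf ⟨0, 417, 417, (-1), 0, (-1), 0, 3, 0, 417, [2261, 23364, 2260]⟩)) (.node (.leaf ⟨2, 2525, 2525, 1, 0, (-1), 0, 28, 0, 2525, [15159, 15172, 15158]⟩) (.leaf ⟨0, 0, 0, 0, 0, 0, 0, 0, 0, 0, []⟩))))) (.node (.node (.node (.node (.leaf ⟨6, 333, 334, 0, 0, 0, 0, 93, 0, 0, []⟩) (.leaf ⟨3, 3006, 3004, 0, 0, 0, 0, 36, 2, 3005, [18244, 18243, 18240]⟩)) (.node (.leaf ⟨7, 1609, 1688, 0, 0, 0, 0, 46, 3, 1609, [9103, 10053, 9908]⟩) (.leaf ⟨6, 3051, 4459, 0, 0, 0, 0, 93, 0, 0, []⟩))) (.node (.node (.leaf ⟨6, 924, 924, (-1), 0, (-11), 0, 45, 3, 922, [5876, 5884, 5956, 5876, 5884]⟩) (.leaf ⟨1, 3756, 3756, (-1), 0, 11, 0, 11, 2, 400, [22328, 22335, 22340, 22335, 22340]⟩)) (.node (.leaf ⟨11, 728, 692,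 (-1), 0, 5, 0, 50, 3, 728, [14121, 14148, 4182]⟩) (.leaf ⟨9, 2671, 3600, 0, 0, 0, 0, 48, 3, 2671, [15975, 23729, 21322]⟩)))) (.node (.node (.node (.leaf ⟨0, 665, 665, (-1), 0, (-1), 0, 9, 0, 665, [3685, 3772, 3684]⟩) (.leaf ⟨5, 3354, 3354, 1, 0, (-1), 0, 49, 0, 3354, [20281, 19117, 20292, 19116, 20280]⟩)) (.node (.leaf ⟨9, 2067, 2034, 0, 0, 0, 0, 53, 3, 2067, [12091, 12100, 11998]⟩) (.leaf ⟨2, 4794, 4063, 0, 0, 0, 0, 29, 0, 4063, [24339, 28483, 28484]⟩))) (.node (.node (.leaf ⟨11, 1258, 1356, 0, 0, 0, 0, 59, 3, 1258, [7553, 8002, 8004]⟩) (.leaf ⟨5, 4076, 4077, 0, 0, 0, 0, 93, 0, 0, []⟩)) (.node (.leaf ⟨11, 2700, 2701, 0, 0, 0, 0, 93, 0, 0, []⟩) (.leaf ⟨0, 0, 0, 0, 0, 0, 0, 0, 0, 0, []⟩))))))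

def factsPart164 : ATree TFact :=
  .node (.node (.node (.node (.node (.node (.leaf ⟨3, 80, 81, 0, 0, 0, 0, 93, 0, 0, []⟩) (.leaf ⟨4, 2759, 2734, 0, 0, 0, 0, 41, 0, 2734, [16541, 971, 16710]⟩)) (.node (.leaf ⟨10, 1479, 1457, 0, 0, 0, 0, 49, 5, 1479, [8483, 8481, 8518, 8374, 8428]⟩) (.leaf ⟨3, 1954, 979, 0, 0, 0, 0, 36, 2, 438, [11464, 2349, 6188]⟩))) (.node (.node (.leaf ⟨10, 688, 732, 0, 0, 0, 0, 93, 0, 0, []⟩) (.leaf ⟨3, 3464, 3456, 0, 0, 0, 0, 32, 0, 3456, [20775, 20805, 20806]⟩)) (.node (.leaf ⟨7, 2172, 2173, 0, 0, 0, 0, 46, 3, 2172, [12611, 10948, 12614]⟩) (.leaf ⟨4, 2604, 2604, (-1), 0, 1, 0, 43, 0, 2604, [15547, 28998, 15546]⟩)))) (.node (.node (.node (.leaf ⟨6, 427, 439, 0, 0, 0, 0, 24, 3, 427, [2297, 2374, 2350]⟩) (.leaf ⟨3, 906, 3025, (-21), 0, (-11), 0, 34,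 2, 478, [5742, 13687, 18330]⟩)) (.node (.leaf ⟨6, 1771, 1423, 0, 0, 0, 0, 54, 0, 1423, [8261, 10567, 10560]⟩) (.leaf ⟨10, 4546, 4127, 0, 0, 0, 0, 58, 3, 4546, [26951, 15949, 24660]⟩))) (.node (.node (.leaf ⟨6, 325, 292, (-21), 0, (-1), 0, 45, 5, 325, [1829, 6353, 6449, 6470, 1752]⟩) (.leaf ⟨7, 3827, 3828, 0, 0, 0, 0, 93, 0, 0, []⟩)) (.node (.leaf ⟨6, 2453, 793, (-21), 0, 1, 0, 45, 5, 2453, [14651, 4947, 4943, 14662, 5024]⟩) (.leaf ⟨7, 157, 5165, 0, 0, 0, 0, 93, 0, 0, []⟩))))) (.node (.node (.node (.node (.leaf ⟨6, 93, 196, 0, 0, 0, 0, 52, 2, 92, [394, 393, 1350]⟩) (.leaf ⟨1, 1001, 409, 0, 0, 0, 0, 17, 0, 409, [2227, 3059, 6354]⟩)) (.node (.leaf ⟨6, 1634, 1635, 0, 0, 0, 0, 93, 0, 0, []⟩) (.leaf ⟨3, 693, 693, (-1), 0, (-11), 0, 21, 5, 693, [25917, 25921, 25926, 25920,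 25916]⟩))) (.node (.node (.leaf ⟨8, 547, 855, 0, 0, 0, 0, 93, 0, 0, []⟩) (.leaf ⟨9, 124, 124, (-1), 0, 1, 0, 35, 3, 124, [517, 21830, 516]⟩)) (.node (.leaf ⟨2, 1703, 2190, 0, 0, 0, 0, 29, 0, 2190, [12679, 13638, 10010]⟩) (.leaf ⟨10, 4993, 4994, 0, 0, 0, 0, 93, 0, 0, []⟩)))) (.node (.node (.node (.leaf ⟨6, 620, 621, 0, 0, 0, 0, 93, 0, 0, []⟩) (.leaf ⟨6, 3277, 3278, 0, 0, 0, 0, 93, 0, 0, []⟩)) (.node (.leaf ⟨11, 462, 462, 1, 0, (-1), 0, 29, 3, 462, [2425, 11590, 2424]⟩) (.leaf ⟨0, 4701, 4701, (-1), 0, (-1), 0, 5, 0, 4701, [27941, 27974, 27940]⟩))) (.node (.node (.leaf ⟨1, 1217, 1235, 0, 0, 0, 0, 13, 0, 1235, [7463, 7495, 7378]⟩) (.leaf ⟨6, 2721, 4004, 0, 0, 0, 0, 52, 2, 577, [16482, 3103, 23878]⟩)) (.node (.leaf ⟨0, 628, 628, (-17), 0, (-1), 0, 9, 2, 619, [3492, 15686,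 3492]⟩) (.leaf ⟨0, 0, 0, 0, 0, 0, 0, 0, 0, 0, []⟩)))))) (.node (.node (.node (.node (.node (.leaf ⟨6, 146, 148, 0, 0, 0, 0, 93, 0, 0, []⟩) (.leaf ⟨3, 2816, 2816, (-1), 0, 1, 0, 35, 0, 2816, [17207, 17222, 17206]⟩)) (.node (.leaf ⟨10, 1158, 1598, 0, 0, 0, 0, 93, 0, 0, []⟩) (.leaf ⟨6, 1950, 4283, 0, 0, 0, 0, 93, 0, 0, []⟩))) (.node (.node (.leaf ⟨3, 786, 787, 0, 0, 0, 0, 37, 0, 787, [4935, 3048, 4928]⟩) (.leaf ⟨5, 3598, 3599, 0, 0, 0, 0, 93, 0, 0, []⟩)) (.node (.leaf ⟨10, 2279, 2280, 0, 0, 0, 0, 93, 0, 0, []⟩) (.leaf ⟨9, 4885, 4920, 0, 0, 0, 0, 42, 3, 4885, [29019, 15576, 29510]⟩)))) (.node (.node (.node (.leaf ⟨2, 537, 537, 1, 0, 1, 0, 29, 0, 537, [2881, 1372, 2880]⟩) (.leaf ⟨6, 3167, 3168, 0, 0, 0, 0, 93, 0, 0, []⟩)) (.node (.leaf ⟨3, 1864, 1865, 0, 0, 0, 0, 93, 0, 0,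 []⟩) (.leaf ⟨4, 972, 972, (-1), 0, 1, 0, 38, 0, 972, [6167, 27463, 25616, 27462, 6166]⟩))) (.node (.node (.leaf ⟨1, 1116, 1116, (-1), 0, (-1), 0, 16, 0, 1116, [6943, 6982, 6942]⟩) (.leaf ⟨0, 418, 418, 1, 0, 1, 0, 8, 0, 418, [2263, 23366, 2262]⟩)) (.node (.leaf ⟨2, 2526, 2526, (-1), 0, 1, 0, 29, 0, 2526, [15163, 15174, 15162]⟩) (.leaf ⟨0, 0, 0, 0, 0, 0, 0, 0, 0, 0, []⟩))))) (.node (.node (.node (.node (.leaf ⟨5, 334, 335, 0, 0, 0, 0, 93, 0, 0, []⟩) (.leaf ⟨6, 949, 3007, 0, 0, 0, 0, 93, 0, 0, []⟩)) (.node (.leaf ⟨7, 1610, 1711, 0, 0, 0, 0, 40, 3, 1610, [9105, 10054, 10046]⟩) (.leaf ⟨3, 4459, 4344, 0, 0, 0, 0, 32, 0, 4344, [25747, 26437, 26438]⟩))) (.node (.node (.leaf ⟨6, 925, 925, (-1), 0, 11, 0, 54, 2, 924, [5896, 5958, 5896]⟩) (.leaf ⟨0, 623, 521, 0, 0, 0, 0, 6, 0,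 521, [2719, 9815, 3404]⟩)) (.node (.leaf ⟨6, 597, 597, 1, 0, (-1), 0, 54, 0, 597, [3247, 14088, 3246]⟩) (.leaf ⟨9, 2672, 4304, 0, 0, 0, 0, 53, 3, 2672, [15977, 30534, 25514]⟩)))) (.node (.node (.node (.leaf ⟨3, 671, 671, 1, 0, (-1), 0, 21, 5, 671, [3835, 3704, 3708, 3705, 3834]⟩) (.leaf ⟨6, 3271, 3271, 1, 0, (-1), 0, 45, 5, 3271, [19745, 20283, 20294, 20282, 19744]⟩)) (.node (.leaf ⟨9, 2053, 2035, 0, 0, 0, 0, 60, 5, 2053, [12037, 12061, 12092, 12102, 12000]⟩) (.leaf ⟨7, 4794, 4795, 0, 0, 0, 0, 93, 0, 0, []⟩))) (.node (.node (.leaf ⟨8, 1356, 1357, 0, 0, 0, 0, 93, 0, 0, []⟩) (.leaf ⟨4, 4077, 4078, 0, 0, 0, 0, 93, 0, 0, []⟩)) (.node (.leaf ⟨4, 2701, 2698, 0, 0, 0, 0, 44, 0, 2698, [16169, 16196, 16198]⟩) (.leaf ⟨0, 0, 0, 0, 0, 0, 0, 0, 0, 0, []⟩))))))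

def factsPart165 : ATree TFact :=
  .node (.node (.node (.node (.node (.node (.leaf ⟨6, 69, 78, 0, 0, 0, 0, 5, 3, 69, [275, 11, 322]⟩) (.leaf ⟨5, 2759, 2759, 1, 0, 1, 0, 47, 0, 2759, [16711, 964, 16710]⟩)) (.node (.leaf ⟨10, 1480, 1458, 0, 0, 0, 0, 54, 3, 1480, [8485, 8520, 8430]⟩) (.leaf ⟨2, 465, 1954, 0, 0, 0, 0, 28, 2, 439, [2430, 2351, 11464]⟩))) (.node (.node (.leaf ⟨11, 732, 733, 0, 0, 0, 0, 93, 0, 0, []⟩) (.leaf ⟨8, 3464, 3465, 0, 0, 0, 0, 93, 0, 0, []⟩)) (.node (.leaf ⟨5, 1839, 2174, 0, 0, 0, 0, 93, 0, 0, []⟩) (.leaf ⟨4, 4880, 4880, 1, 0, (-1), 0, 40, 0, 4880, [28967, 29000, 28966]⟩)))) (.node (.node (.node (.leaf ⟨6, 428, 440, 0, 0, 0, 0, 53, 0, 440, [2353, 2377, 2298]⟩) (.leaf ⟨3, 3026, 3014, 21, 0, 11, 0, 33, 2, 3025, [18324, 18761, 18282]⟩)) (.node (.leaf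 ⟨5, 1773, 1769, 0, 0, 0, 0, 45, 4, 1772, [10564, 10563, 10568, 8262, 10556]⟩) (.leaf ⟨6, 4546, 4547, 0, 0, 0, 0, 93, 0, 0, []⟩))) (.node (.node (.leaf ⟨7, 294, 327, 21, 0, (-1), 0, 51, 3, 292, [1754, 1756, 6473, 1830, 1832]⟩) (.leaf ⟨6, 3828, 3829, 0, 0, 0, 0, 93, 0, 0, []⟩)) (.node (.leaf ⟨7, 2454, 2452, (-4), 0, 10, 0, 51, 5, 2454, [14657, 14655, 14664, 13980, 14646]⟩) (.leaf ⟨5, 5163, 5165, 0, 0, 0, 0, 46, 2, 158, [31040, 913, 31048]⟩))))) (.node (.node (.node (.node (.leaf ⟨4, 70, 70, (-1), 0, 1, 0, 13, 3, 70, [277, 592, 276]⟩) (.leaf ⟨1, 1002, 410, 0, 0, 0, 0, 14, 0, 410, [2229, 17737, 6356]⟩)) (.node (.leaf ⟨9, 1630, 1636, 0, 0, 0, 0, 93, 0, 0, []⟩) (.leaf ⟨0, 590, 590, 1, 0, 1, 0, 3, 0, 590, [3223, 9296, 3222]⟩))) (.node (.node (.leaf ⟨10, 855, 832, 0, 0, 0, 0,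 61, 3, 855, [5449, 2912, 5312]⟩) (.leaf ⟨9, 160, 160, (-1), 0, (-1), 0, 27, 3, 160, [917, 21832, 916]⟩)) (.node (.leaf ⟨3, 2362, 2190, (-21), 0, (-1), 0, 21, 5, 2362, [13609, 13619, 13637, 10134, 13640]⟩) (.leaf ⟨5, 4994, 4995, 0, 0, 0, 0, 93, 0, 0, []⟩)))) (.node (.node (.node (.leaf ⟨5, 621, 622, 0, 0, 0, 0, 93, 0, 0, []⟩) (.leaf ⟨5, 3278, 3279, 0, 0, 0, 0, 93, 0, 0, []⟩)) (.node (.leaf ⟨10, 464, 464, 1, 0, (-1), 0, 65, 4, 463, [2428, 2427, 11592, 2426, 2428]⟩) (.leaf ⟨0, 4702, 4702, 1, 0, 1, 0, 6, 0, 4702, [27945, 27976, 27944]⟩))) (.node (.node (.leaf ⟨1, 1218, 1236, 0, 0, 0, 0, 14, 0, 1236, [7465, 7497, 7380]⟩) (.leaf ⟨9, 4004, 4005, 0, 0, 0, 0, 93, 0, 0, []⟩)) (.node (.leaf ⟨0, 639, 639, (-17), 0, 1, 0, 4, 2, 628, [3538, 15688, 3538]⟩) (.leaf ⟨0, 0, 0, 0, 0, 0,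 0, 0, 0, 0, []⟩)))))) (.node (.node (.node (.node (.node (.leaf ⟨8, 148, 149, 0, 0, 0, 0, 93, 0, 0, []⟩) (.leaf ⟨9, 2752, 2817, 0, 0, 0, 0, 93, 0, 0, []⟩)) (.node (.leaf ⟨11, 1598, 1599, 0, 0, 0, 0, 93, 0, 0, []⟩) (.leaf ⟨4, 4283, 4284, 0, 0, 0, 0, 93, 0, 0, []⟩))) (.node (.node (.leaf ⟨4, 616, 626, 21, 0, (-1), 0, 43, 0, 626, [3453, 3426, 3356]⟩) (.leaf ⟨5, 419, 3600, 0, 0, 0, 0, 93, 0, 0, []⟩)) (.node (.leaf ⟨2, 2280, 2264, 0, 0, 0, 0, 28, 0, 2264, [13067, 13126, 13128]⟩) (.leaf ⟨7, 4920, 4921, 0, 0, 0, 0, 93, 0, 0, []⟩)))) (.node (.node (.node (.leaf ⟨2, 538, 538, (-1), 0, (-1), 0, 23, 0, 538, [2883, 2888, 2882]⟩) (.leaf ⟨9, 3164, 3168, 0, 0, 0, 0, 53, 3, 3164, [19261, 19270, 19272]⟩)) (.node (.leaf ⟨9, 1860, 1865, 0, 0, 0, 0, 35, 3, 1860, [11057, 11078, 11080]⟩)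 (.leaf ⟨3, 986, 986, 1, 0, 1, 0, 30, 0, 986, [6235, 6231, 27464, 6230, 6234]⟩))) (.node (.node (.leaf ⟨1, 1117, 1117, 1, 0, 1, 0, 15, 0, 1117, [6947, 6984, 6946]⟩) (.leaf ⟨0, 419, 419, (-1), 0, (-1), 0, 9, 0, 419, [2265, 23368, 2264]⟩)) (.node (.leaf ⟨11, 2524, 2524, 1, 0, 1, 0, 64, 3, 2524, [15155, 12788, 15154]⟩) (.leaf ⟨0, 0, 0, 0, 0, 0, 0, 0, 0, 0, []⟩))))) (.node (.node (.node (.node (.leaf ⟨4, 335, 336, 0, 0, 0, 0, 93, 0, 0, []⟩) (.leaf ⟨5, 3007, 3008, 0, 0, 0, 0, 93, 0, 0, []⟩)) (.node (.leaf ⟨7, 1707, 1712, 0, 0, 0, 0, 58, 0, 1712, [10049, 10057, 10024]⟩) (.leaf ⟨7, 4459, 4460, 0, 0, 0, 0, 93, 0, 0, []⟩))) (.node (.node (.leaf ⟨3, 925, 811, 50, 0, (-6), 0, 68, 2, 805, [5207, 5215, 5240, 5244, 5211, 5223, 5252, 5261, 5266, 5278, 5290, 5300, 5297, 5310, 5298, 5318,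 5432, 5439, 5446, 5456, 5438, 5458, 5478, 5482, 5489, 5498, 5510, 5520, 5527, 5538, 5525, 5566, 5568, 5617, 5629, 5640, 5627, 5623, 5632, 5642, 5668, 5672, 5690, 5694, 5702, 5712, 5717, 5723, 5721, 5759, 5774, 5783, 5791, 5795, 5793, 5351, 5348, 5796, 5810, 5814, 5828, 5836, 5815, 5841, 5846, 5222, 5209, 5242, 5218, 5848, 5257, 5264, 5274, 5286, 5299, 5296, 5850, 5864, 5868, 5882, 5884, 5894, 5896, 5906, 5920, 5960, 5906, 5146, 5198]⟩) (.leaf ⟨0, 624, 522, 0, 0, 0, 0, 5, 0, 522, [2723, 22345, 3408]⟩)) (.node (.leaf ⟨5, 693, 693, 1, 0, (-1), 0, 45, 4, 598, [4188, 3249, 14152, 3248, 4188]⟩) (.leaf ⟨11, 4304, 775, (-1), 0, (-5), 0, 64, 1, 777, [15987, 30536, 4859]⟩)))) (.node (.node (.node (.leaf ⟨4, 671, 671, (-1), 0, 1, 0, 43, 0, 671, [3833, 3786, 3832]⟩) (.leaf ⟨7, 3273,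 3273, 1, 0, (-1), 0, 51, 5, 3273, [19753, 19749, 20296, 19748, 19752]⟩)) (.node (.leaf ⟨9, 2054, 2036, 0, 0, 0, 0, 48, 3, 2054, [12039, 12104, 12002]⟩) (.leaf ⟨2, 4795, 4064, 0, 0, 0, 0, 25, 0, 4064, [24341, 28487, 28488]⟩))) (.node (.node (.leaf ⟨11, 1259, 1357, 0, 0, 0, 0, 62, 3, 1259, [7555, 8006, 8008]⟩) (.leaf ⟨3, 4078, 4079, 0, 0, 0, 0, 93, 0, 0, []⟩)) (.node (.leaf ⟨10, 592, 592, (-1), 0, 1, 0, 54, 3, 592, [3227, 14202, 3226]⟩) (.leaf ⟨0, 0, 0, 0, 0, 0, 0, 0, 0, 0, []⟩))))))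

def factsPart166 : ATree TFact :=
  .node (.node (.node (.node (.node (.node (.leaf ⟨6, 79, 70, 0, 0, 0, 0, 15, 3, 79, [325, 331, 276]⟩) (.leaf ⟨4, 2735, 2735, (-1), 0, 1, 0, 38, 0, 2735, [16543, 16713, 16714, 16712, 16542]⟩)) (.node (.leaf ⟨10, 1481, 1459, 0, 0, 0, 0, 43, 3, 1481, [8487, 8522, 8432]⟩) (.leaf ⟨7, 438, 4187, 0, 0, 0, 0, 93, 0, 0, []⟩))) (.node (.node (.leaf ⟨2, 732, 477, 0, 0, 0, 0, 28, 0, 477, [2467, 4171, 4424]⟩) (.leaf ⟨3, 3465, 3457, 0, 0, 0, 0, 34, 0, 3457, [20779, 20809, 20810]⟩)) (.node (.leaf ⟨8, 2173, 2174, 0, 0, 0, 0, 47, 3, 2173, [12615, 10960, 12618]⟩) (.leaf ⟨7, 2605, 4881, 0, 0, 0, 0, 93, 0, 0, []⟩)))) (.node (.node (.node (.leaf ⟨6, 429, 441, 0, 0, 0, 0, 54, 0, 441, [2355, 2379, 2300]⟩) (.leaf ⟨3, 3015, 3027, (-21), 0, (-11), 0, 32, 2,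 3014, [18284, 18763, 18336]⟩)) (.node (.leaf ⟨4, 1665, 1770, 0, 0, 0, 0, 22, 3, 1665, [9731, 8934, 10558]⟩) (.leaf ⟨10, 4128, 4547, 0, 0, 0, 0, 54, 3, 4128, [24663, 26953, 26954]⟩))) (.node (.node (.leaf ⟨7, 328, 295, (-21), 0, 1, 0, 46, 3, 328, [1835, 6475, 1758]⟩) (.leaf ⟨8, 3092, 3830, 0, 0, 0, 0, 93, 0, 0, []⟩)) (.node (.leaf ⟨4, 728, 2452, (-27), 0, 1, 0, 39, 2, 589, [4396, 9257, 14646]⟩) (.leaf ⟨6, 5165, 5165, 1, 0, 1, 0, 51, 0, 5165, [31049, 16850, 17034, 16851, 31048]⟩))))) (.node (.node (.node (.node (.leaf ⟨4, 71, 71, (-1), 0, (-1), 0, 22, 3, 71, [279, 1354, 278]⟩) (.leaf ⟨1, 1003, 417, 0, 0, 0, 0, 13, 0, 417, [2261, 17739, 6358]⟩)) (.node (.leaf ⟨0, 1636, 1637, 0, 0, 0, 0, 93, 0, 0, []⟩) (.leaf ⟨0, 591, 591, (-1), 0, (-1), 0, 6, 0, 591, [3225, 25930, 3224]⟩)))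 (.node (.node (.leaf ⟨5, 855, 855, (-1), 0, 1, 0, 47, 0, 855, [5449, 2926, 5448]⟩) (.leaf ⟨9, 178, 178, (-1), 0, 1, 0, 18, 3, 178, [1217, 21834, 1216]⟩)) (.node (.leaf ⟨11, 269, 269, 1, 0, (-1), 0, 59, 3, 269, [1699, 9974, 1698]⟩) (.leaf ⟨7, 4995, 4996, 0, 0, 0, 0, 93, 0, 0, []⟩)))) (.node (.node (.node (.leaf ⟨7, 305, 623, 0, 0, 0, 0, 93, 0, 0, []⟩) (.leaf ⟨10, 3279, 3280, 0, 0, 0, 0, 93, 0, 0, []⟩)) (.node (.leaf ⟨0, 534, 534, 1, 0, 1, 0, 6, 0, 534, [2853, 3570, 2852]⟩) (.leaf ⟨0, 4703, 4703, (-1), 0, (-1), 0, 7, 0, 4703, [27949, 27978, 27948]⟩))) (.node (.node (.leaf ⟨1, 1219, 1237, 0, 0, 0, 0, 16, 0, 1237, [7467, 7499, 7382]⟩) (.leaf ⟨6, 4005, 4002, 0, 0, 0, 0, 53, 0, 4002, [23871, 23880, 23882]⟩)) (.node (.leaf ⟨4, 445, 639, (-35), 0, 7, 0, 40, 2, 446, [2387, 9367,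 3541]⟩) (.leaf ⟨0, 0, 0, 0, 0, 0, 0, 0, 0, 0, []⟩)))))) (.node (.node (.node (.node (.node (.leaf ⟨6, 149, 147, 0, 0, 0, 0, 52, 2, 148, [842, 841, 822]⟩) (.leaf ⟨4, 2815, 2752, 0, 0, 0, 0, 41, 0, 2752, [16643, 968, 17202]⟩)) (.node (.leaf ⟨7, 757, 1598, 0, 0, 0, 0, 58, 0, 1598, [9033, 7151, 4740]⟩) (.leaf ⟨6, 4284, 1951, 0, 0, 0, 0, 39, 3, 4284, [25419, 25417, 11458]⟩))) (.node (.node (.leaf ⟨5, 634, 786, (-21), 0, (-1), 0, 38, 5, 634, [3512, 3507, 4939, 4926, 4932]⟩) (.leaf ⟨3, 3600, 3588, 0, 0, 0, 0, 31, 0, 3588, [21267, 2291, 21322]⟩)) (.node (.leaf ⟨11, 2280, 2281, 0, 0, 0, 0, 93, 0, 0, []⟩) (.leaf ⟨9, 4886, 4921, 0, 0, 0, 0, 57, 3, 4886, [29021, 29512, 29514]⟩)))) (.node (.node (.node (.leaf ⟨10, 538, 539, 0, 0, 0, 0, 93, 0, 0, []⟩) (.leaf ⟨10, 1467, 3169, 0, 0,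 0, 0, 93, 0, 0, []⟩)) (.node (.leaf ⟨2, 1865, 1866, 0, 0, 0, 0, 93, 0, 0, []⟩) (.leaf ⟨2, 4632, 4632, (-1), 0, 1, 0, 21, 0, 4632, [27451, 27459, 27466, 27458, 27450]⟩))) (.node (.node (.leaf ⟨2, 1105, 1118, 0, 0, 0, 0, 93, 0, 0, []⟩) (.leaf ⟨0, 3600, 3600, 1, 0, 1, 0, 4, 0, 3600, [21323, 23370, 21322]⟩)) (.node (.leaf ⟨10, 2526, 2526, 1, 0, 1, 0, 65, 4, 2525, [15162, 15159, 15178, 15158, 15162]⟩) (.leaf ⟨0, 0, 0, 0, 0, 0, 0, 0, 0, 0, []⟩))))) (.node (.node (.node (.node (.leaf ⟨10, 336, 337, 0, 0, 0, 0, 93, 0, 0, []⟩) (.leaf ⟨4, 3008, 3009, 0, 0, 0, 0, 93, 0, 0, []⟩)) (.node (.leaf ⟨7, 1708, 1713, 0, 0, 0, 0, 59, 0, 1713, [10051, 10059, 10028]⟩) (.leaf ⟨3, 4460, 4345, 0, 0, 0, 0, 33, 0, 4345, [25749, 26441, 26442]⟩))) (.node (.node (.leaf ⟨6, 928, 932, 0, 0, 0, 0, 93,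 0, 0, []⟩) (.leaf ⟨0, 1012, 2509, 0, 0, 0, 0, 7, 0, 2509, [15051, 22347, 6382]⟩)) (.node (.leaf ⟨4, 738, 738, 1, 0, 1, 0, 38, 0, 738, [4599, 4222, 4218, 4223, 4598]⟩) (.leaf ⟨11, 5088, 4653, 1, 0, 5, 0, 59, 3, 5088, [30525, 30539, 27612]⟩)))) (.node (.node (.node (.leaf ⟨5, 671, 671, 1, 0, 1, 0, 49, 4, 667, [3832, 3775, 3724, 3774, 3832]⟩) (.leaf ⟨7, 3274, 3274, 1, 0, 1, 0, 46, 3, 3274, [19757, 20298, 19756]⟩)) (.node (.leaf ⟨9, 2055, 2037, 0, 0, 0, 0, 42, 3, 2055, [12041, 12106, 12004]⟩) (.leaf ⟨6, 4795, 4796, 0, 0, 0, 0, 93, 0, 0, []⟩))) (.node (.node (.leaf ⟨2, 1237, 1357, 13, 0, (-21), 0, 29, 2, 1242, [7520, 7985, 8010]⟩) (.leaf ⟨8, 4076, 4080, 0, 0, 0, 0, 93, 0, 0, []⟩)) (.node (.leaf ⟨5, 2700, 2700, (-1), 0, 1, 0, 49, 4, 593, [16194, 3233, 16202, 3232, 16194]⟩)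 (.leaf ⟨0, 0, 0, 0, 0, 0, 0, 0, 0, 0, []⟩))))))

def factsPart167 : ATree TFact :=
  .node (.node (.node (.node (.node (.node (.leaf ⟨6, 80, 71, 0, 0, 0, 0, 24, 3, 80, [327, 332, 278]⟩) (.leaf ⟨4, 2736, 2736, 1, 0, (-1), 0, 42, 0, 2736, [16545, 16716, 16544]⟩)) (.node (.leaf ⟨10, 1482, 1460, 0, 0, 0, 0, 58, 3, 1482, [8489, 8524, 8434]⟩) (.leaf ⟨2, 4153, 4187, 0, 0, 0, 0, 25, 2, 439, [24732, 2351, 24908]⟩))) (.node (.node (.leaf ⟨2, 733, 655, 0, 0, 0, 0, 29, 0, 655, [3649, 4429, 4426]⟩) (.leaf ⟨5, 3465, 3466, 0, 0, 0, 0, 93, 0, 0, []⟩)) (.node (.leaf ⟨7, 2174, 2175, 0, 0, 0, 0, 93, 0, 0, []⟩) (.leaf ⟨5, 4881, 4880, 0, 0, 0, 0, 46, 2, 2605, [29004, 15559, 28966]⟩)))) (.node (.node (.node (.leaf ⟨6, 430, 442, 0, 0, 0, 0, 55, 0, 442, [2357, 2381, 2302]⟩) (.leaf ⟨3, 3031,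 3011, 21, 0, 11, 0, 35, 2, 3027, [18354, 18765, 18290]⟩)) (.node (.leaf ⟨4, 1666, 1771, 0, 0, 0, 0, 43, 0, 1771, [10561, 10573, 9732]⟩) (.leaf ⟨5, 4547, 4548, 0, 0, 0, 0, 93, 0, 0, []⟩))) (.node (.node (.leaf ⟨7, 296, 329, 21, 0, (-1), 0, 40, 3, 296, [1761, 6477, 1848]⟩) (.leaf ⟨6, 3826, 3830, 0, 0, 0, 0, 52, 2, 3825, [22852, 22851, 22860]⟩)) (.node (.leaf ⟨11, 597, 2455, 0, 0, 0, 0, 93, 0, 0, []⟩) (.leaf ⟨5, 5164, 5164, (-1), 0, 1, 0, 45, 0, 5164, [31043, 31050, 31052, 31051, 31042]⟩))))) (.node (.node (.node (.node (.leaf ⟨4, 88, 88, 1, 0, 1, 0, 43, 0, 88, [385, 1356, 384]⟩) (.leaf ⟨1, 1004, 422, 0, 0, 0, 0, 12, 0, 422, [2279, 17741, 6360]⟩)) (.node (.leaf ⟨10, 1637, 1638, 0, 0, 0, 0, 93, 0, 0, []⟩) (.leaf ⟨0, 592, 592, 1, 0, 1, 0, 5, 0, 592, [3227, 25932, 3226]⟩)))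 (.node (.node (.leaf ⟨10, 853, 853, (-1), 0, 1, 0, 49, 5, 853, [5435, 5451, 5452, 5450, 5434]⟩) (.leaf ⟨9, 179, 179, (-1), 0, (-1), 0, 57, 3, 179, [1219, 21836, 1218]⟩)) (.node (.leaf ⟨11, 270, 270, 1, 0, 1, 0, 55, 3, 270, [1701, 13644, 1700]⟩) (.leaf ⟨8, 1754, 2909, 0, 0, 0, 0, 17, 3, 1754, [10351, 7130, 17770]⟩)))) (.node (.node (.node (.leaf ⟨1, 620, 623, 0, 0, 0, 0, 16, 2, 619, [3398, 3397, 3404]⟩) (.leaf ⟨5, 153, 153, 1, 0, 1, 0, 47, 0, 153, [883, 3384, 882]⟩)) (.node (.leaf ⟨0, 556, 556, (-1), 0, (-1), 0, 5, 0, 556, [3003, 11596, 3002]⟩) (.leaf ⟨9, 1388, 4704, 0, 0, 0, 0, 93, 0, 0, []⟩))) (.node (.node (.leaf ⟨5, 1231, 1238, 0, 0, 0, 0, 93, 0, 0, []⟩) (.leaf ⟨8, 531, 531, (-1), 0, 1, 0, 61, 0, 531, [2797, 21470, 2796]⟩)) (.node (.leaf ⟨2, 433, 433, 1, 0, (-1),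 0, 24, 2, 434, [2341, 14194, 2341]⟩) (.leaf ⟨0, 0, 0, 0, 0, 0, 0, 0, 0, 0, []⟩)))))) (.node (.node (.node (.node (.node (.leaf ⟨7, 98, 150, 0, 0, 0, 0, 93, 0, 0, []⟩) (.leaf ⟨4, 2816, 2817, 0, 0, 0, 0, 42, 0, 2817, [17227, 17229, 17206]⟩)) (.node (.leaf ⟨7, 1597, 1599, 0, 0, 0, 0, 59, 0, 1599, [9035, 9037, 9014]⟩) (.leaf ⟨7, 4284, 4285, 0, 0, 0, 0, 93, 0, 0, []⟩))) (.node (.node (.leaf ⟨5, 787, 636, 21, 0, 1, 0, 31, 1, 634, [4940, 4936, 3519]⟩) (.leaf ⟨7, 3600, 3601, 0, 0, 0, 0, 93, 0, 0, []⟩)) (.node (.leaf ⟨2, 2281, 2265, 0, 0, 0, 0, 29, 0, 2265, [13069, 13131, 13132]⟩) (.leaf ⟨6, 4921, 4922, 0, 0, 0, 0, 93, 0, 0, []⟩)))) (.node (.node (.node (.leaf ⟨7, 539, 540, 0, 0, 0, 0, 93, 0, 0, []⟩) (.leaf ⟨11, 3169, 3170, 0, 0, 0, 0, 93, 0, 0, []⟩)) (.node (.leaf ⟨9, 1861,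 1866, 0, 0, 0, 0, 27, 3, 1861, [11059, 11082, 11084]⟩) (.leaf ⟨10, 4632, 4633, 0, 0, 0, 0, 93, 0, 0, []⟩))) (.node (.node (.leaf ⟨9, 1118, 1119, 0, 0, 0, 0, 93, 0, 0, []⟩) (.leaf ⟨0, 3601, 3601, (-1), 0, (-1), 0, 6, 0, 3601, [21327, 23372, 21326]⟩)) (.node (.leaf ⟨7, 2526, 2527, 0, 0, 0, 0, 93, 0, 0, []⟩) (.leaf ⟨0, 0, 0, 0, 0, 0, 0, 0, 0, 0, []⟩))))) (.node (.node (.node (.node (.leaf ⟨5, 337, 338, 0, 0, 0, 0, 93, 0, 0, []⟩) (.leaf ⟨10, 3009, 3010, 0, 0, 0, 0, 93, 0, 0, []⟩)) (.node (.leaf ⟨5, 1713, 1714, 0, 0, 0, 0, 93, 0, 0, []⟩) (.leaf ⟨8, 4369, 4459, 0, 0, 0, 0, 52, 3, 4369, [25919, 18462, 26438]⟩))) (.node (.node (.leaf ⟨5, 932, 933, 0, 0, 0, 0, 93, 0, 0, []⟩) (.leaf ⟨0, 1013, 2510, 0, 0, 0, 0, 4, 0, 2510, [15053, 22349, 6384]⟩)) (.node (.leaf ⟨3, 740, 740, (-1),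 0, 1, 0, 30, 0, 740, [4607, 4605, 14156, 4604, 4606]⟩) (.leaf ⟨11, 5090, 5089, (-1), 0, (-5), 0, 62, 3, 5090, [30533, 30541, 30528]⟩)))) (.node (.node (.node (.leaf ⟨6, 671, 671, 1, 0, 1, 0, 54, 0, 671, [3833, 3828, 3832]⟩) (.leaf ⟨3, 3237, 3276, (-73), 0, 19, 0, 66, 37, 3280, [19789, 19800, 19808, 19787, 19816, 19824, 19832, 19840, 19852, 19839, 19856, 19860, 19864, 19874, 19878, 19877, 19880, 15929, 19891, 19894, 19893, 18306, 18308, 18310, 18312, 19614, 19910, 19930, 19951, 19957, 20204, 20199, 20197, 20206, 5981, 5923, 5871, 5435, 5462, 5474, 20211, 20212, 20215, 20216, 18710, 5801, 20026, 20220, 20225, 20228, 20230, 20235, 20236, 20242, 20250, 20254, 20263, 20272, 20274, 20278, 20300, 19774, 19780]⟩)) (.node (.leaf ⟨6, 1964, 2068, 0, 0, 0, 0, 93, 0, 0, []⟩) (.leaf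 ⟨2, 4796, 4065, 0, 0, 0, 0, 24, 0, 4065, [24345, 28491, 28492]⟩))) (.node (.node (.leaf ⟨2, 1055, 1358, 0, 0, 0, 0, 93, 0, 0, []⟩) (.leaf ⟨5, 4080, 4081, 0, 0, 0, 0, 93, 0, 0, []⟩)) (.node (.leaf ⟨5, 2701, 2701, 1, 0, (-1), 0, 50, 0, 2701, [16199, 16204, 16198]⟩) (.leaf ⟨0, 0, 0, 0, 0, 0, 0, 0, 0, 0, []⟩))))))

def factsPart168 : ATree TFact :=
  .node (.node (.node (.node (.node (.node (.leaf ⟨6, 81, 72, 0, 0, 0, 0, 32, 3, 81, [329, 334, 280]⟩) (.leaf ⟨4, 2737, 2737, (-1), 0, 1, 0, 43, 0, 2737, [16547, 16718, 16546]⟩)) (.node (.leaf ⟨10, 1483, 1461, 0, 0, 0, 0, 61, 3, 1483, [8491, 8526, 8436]⟩) (.leaf ⟨6, 4187, 4188, 0, 0, 0, 0, 93, 0, 0, []⟩))) (.node (.node (.leaf ⟨2, 731, 676, 0, 0, 0, 0, 28, 2, 730, [4416, 4415, 3986]⟩) (.leaf ⟨3, 3466, 3458, 0, 0, 0, 0, 31, 0,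 3458, [20783, 20813, 20814]⟩)) (.node (.leaf ⟨8, 2170, 2175, 0, 0, 0, 0, 56, 5, 2170, [12601, 12613, 12616, 12620, 12622]⟩) (.leaf ⟨6, 4881, 4882, 0, 0, 0, 0, 93, 0, 0, []⟩)))) (.node (.node (.node (.leaf ⟨6, 432, 445, 0, 0, 0, 0, 93, 0, 0, []⟩) (.leaf ⟨6, 897, 3100, 0, 0, 0, 0, 93, 0, 0, []⟩)) (.node (.leaf ⟨2, 1590, 1774, 0, 0, 0, 0, 93, 0, 0, []⟩) (.leaf ⟨10, 4548, 4549, 0, 0, 0, 0, 93, 0, 0, []⟩))) (.node (.node (.leaf ⟨7, 330, 297, (-21), 0, 1, 0, 33, 3, 330, [1851, 6479, 1762]⟩) (.leaf ⟨8, 955, 3831, 0, 0, 0, 0, 93, 0, 0, []⟩)) (.node (.leaf ⟨5, 2455, 2456, 0, 0, 0, 0, 93, 0, 0, []⟩) (.leaf ⟨10, 5162, 5162, (-1), 0, 1, 0, 49, 5, 5162, [31033, 31047, 31054, 31046, 31032]⟩))))) (.node (.node (.node (.node (.leaf ⟨5, 90, 90, 1, 0, 1, 0, 38, 5, 90, [389, 387, 1358,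 386, 388]⟩) (.leaf ⟨2, 2382, 2897, 0, 0, 0, 0, 11, 5, 2382, [13771, 11743, 17742, 2296, 17690]⟩)) (.node (.leaf ⟨9, 1637, 1631, 0, 0, 0, 0, 8, 3, 1637, [9549, 9547, 9536]⟩) (.leaf ⟨0, 593, 593, (-1), 0, (-1), 0, 4, 0, 593, [3233, 25934, 3232]⟩))) (.node (.node (.leaf ⟨10, 854, 854, (-1), 0, (-1), 0, 63, 3, 854, [5437, 5454, 5436]⟩) (.leaf ⟨9, 180, 180, (-1), 0, 1, 0, 53, 3, 180, [1221, 21838, 1220]⟩)) (.node (.leaf ⟨11, 504, 504, 1, 0, (-1), 0, 50, 3, 504, [2651, 13646, 2650]⟩) (.leaf ⟨8, 1755, 4993, 0, 0, 0, 0, 7, 3, 1755, [10353, 30030, 30022]⟩)))) (.node (.node (.node (.leaf ⟨6, 623, 624, 0, 0, 0, 0, 93, 0, 0, []⟩) (.leaf ⟨6, 109, 109, 1, 0, 1, 0, 45, 5, 109, [457, 884, 19790, 885, 456]⟩)) (.node (.leaf ⟨0, 557, 557, 1, 0, 1, 0, 4, 0, 557, [3005, 11598, 3004]⟩) (.leaf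 ⟨1, 4704, 4250, 0, 0, 0, 0, 18, 0, 4250, [25327, 15869, 27982]⟩))) (.node (.node (.leaf ⟨6, 1238, 1239, 0, 0, 0, 0, 93, 0, 0, []⟩) (.leaf ⟨7, 4004, 4004, (-1), 0, 1, 0, 56, 4, 576, [23878, 3101, 23886, 3100, 23878]⟩)) (.node (.leaf ⟨3, 475, 475, (-1), 0, 1, 0, 36, 2, 646, [3587, 4002, 3587]⟩) (.leaf ⟨0, 0, 0, 0, 0, 0, 0, 0, 0, 0, []⟩)))))) (.node (.node (.node (.node (.node (.leaf ⟨5, 146, 150, 0, 0, 0, 0, 46, 2, 99, [818, 425, 846]⟩) (.leaf ⟨5, 2817, 2817, (-1), 0, (-1), 0, 48, 0, 2817, [17227, 16646, 17226]⟩)) (.node (.leaf ⟨6, 12, 12, 1, 0, 1, 0, 54, 0, 12, [23, 3464, 22]⟩) (.leaf ⟨6, 4285, 4286, 0, 0, 0, 0, 93, 0, 0, []⟩))) (.node (.node (.leaf ⟨10, 644, 788, 0, 0, 0, 0, 93, 0, 0, []⟩) (.leaf ⟨3, 3601, 3589, 0, 0, 0, 0, 33, 0, 3589, [21269, 21325, 21326]⟩)) (.node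 (.leaf ⟨9, 2260, 2282, 0, 0, 0, 0, 93, 0, 0, []⟩) (.leaf ⟨9, 4887, 4922, 0, 0, 0, 0, 53, 3, 4887, [29023, 29516, 29518]⟩)))) (.node (.node (.node (.leaf ⟨6, 540, 541, 0, 0, 0, 0, 93, 0, 0, []⟩) (.leaf ⟨5, 3170, 3171, 0, 0, 0, 0, 93, 0, 0, []⟩)) (.node (.leaf ⟨1, 1866, 1867, 0, 0, 0, 0, 93, 0, 0, []⟩) (.leaf ⟨7, 4621, 4629, 0, 0, 0, 0, 51, 5, 4621, [27393, 27391, 2378, 27442, 27444]⟩))) (.node (.node (.leaf ⟨10, 1119, 1120, 0, 0, 0, 0, 93, 0, 0, []⟩) (.leaf ⟨0, 3602, 3602, 1, 0, 1, 0, 5, 0, 3602, [21331, 23374, 21330]⟩)) (.node (.leaf ⟨6, 2527, 2528, 0, 0, 0, 0, 93, 0, 0, []⟩) (.leaf ⟨0, 0, 0, 0, 0, 0, 0, 0, 0, 0, []⟩))))) (.node (.node (.node (.node (.leaf ⟨6, 338, 339, 0, 0, 0, 0, 93, 0, 0, []⟩) (.leaf ⟨2, 356, 868, 0, 0, 0, 0, 26, 0, 868, [5541, 2635, 1924]⟩)) (.node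 (.leaf ⟨7, 1709, 1714, 0, 0, 0, 0, 46, 3, 1709, [10033, 10060, 10062]⟩) (.leaf ⟨2, 4459, 4459, 1, 0, 11, 0, 26, 0, 4459, [26447, 25926, 26446]⟩))) (.node (.node (.leaf ⟨3, 923, 932, 0, 0, 0, 0, 32, 0, 932, [5965, 5931, 5876]⟩) (.leaf ⟨0, 2828, 3756, 0, 0, 0, 0, 8, 0, 3756, [22327, 22351, 17356]⟩)) (.node (.leaf ⟨10, 794, 794, 1, 0, (-1), 0, 65, 4, 697, [5028, 4225, 14082, 4224, 5028]⟩) (.leaf ⟨10, 5090, 5090, 1, 0, (-1), 0, 61, 3, 5090, [30533, 27808, 30532]⟩)))) (.node (.node (.node (.leaf ⟨7, 671, 671, 1, 0, 1, 0, 58, 0, 671, [3833, 3830, 3832]⟩) (.leaf ⟨2, 3236, 3237, 100, 0, 18, 0, 21, 4, 3253, [19675, 19773, 19777, 19780, 20303]⟩)) (.node (.leaf ⟨8, 2068, 2069, 0, 0, 0, 0, 93, 0, 0, []⟩) (.leaf ⟨5, 4796, 4797, 0, 0, 0, 0, 93, 0, 0, []⟩))) (.node (.node (.leaf ⟨9,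 1358, 1359, 0, 0, 0, 0, 93, 0, 0, []⟩) (.leaf ⟨8, 4081, 4077, 0, 0, 0, 0, 47, 3, 4081, [24399, 24397, 24390]⟩)) (.node (.leaf ⟨4, 2699, 2699, (-1), 0, (-1), 0, 38, 0, 2699, [16193, 16201, 16206, 16200, 16192]⟩) (.leaf ⟨0, 0, 0, 0, 0, 0, 0, 0, 0, 0, []⟩))))))

def factsPart169 : ATree TFact :=
  .node (.node (.node (.node (.node (.node (.leaf ⟨10, 81, 82, 0, 0, 0, 0, 93, 0, 0, []⟩) (.leaf ⟨4, 2753, 2753, 1, 0, (-1), 0, 40, 0, 2753, [16683, 16720, 16682]⟩)) (.node (.leaf ⟨11, 1120, 1484, 0, 0, 0, 0, 93, 0, 0, []⟩) (.leaf ⟨2, 4188, 4154, 0, 0, 0, 0, 24, 0, 4154, [24735, 24910, 24912]⟩))) (.node (.node (.leaf ⟨5, 733, 731, 27, 0, 1, 0, 23, 3, 733, [4430, 4097, 4433]⟩) (.leaf ⟨10, 3466, 3467, 0, 0, 0, 0, 93, 0, 0, []⟩)) (.node (.leaf ⟨6, 2175, 2176, 0, 0, 0, 0, 93, 0, 0,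 []⟩) (.leaf ⟨7, 2618, 4883, 0, 0, 0, 0, 93, 0, 0, []⟩)))) (.node (.node (.node (.leaf ⟨7, 445, 446, 0, 0, 0, 0, 93, 0, 0, []⟩) (.leaf ⟨5, 3100, 3101, 0, 0, 0, 0, 93, 0, 0, []⟩)) (.node (.leaf ⟨5, 1774, 1665, 0, 0, 0, 0, 23, 3, 1774, [10577, 8960, 9730]⟩) (.leaf ⟨5, 4545, 4549, 0, 0, 0, 0, 49, 4, 4129, [26942, 24665, 26956, 26958, 26960]⟩))) (.node (.node (.leaf ⟨7, 298, 331, 21, 0, (-1), 0, 25, 3, 298, [1765, 6481, 1854]⟩) (.leaf ⟨5, 3830, 3831, 0, 0, 0, 0, 47, 0, 3831, [22865, 18691, 22860]⟩)) (.node (.leaf ⟨11, 2456, 598, 0, 0, 0, 0, 50, 3, 2456, [14673, 14671, 3248]⟩) (.leaf ⟨9, 5160, 2777, 0, 0, 0, 0, 57, 3, 5160, [31029, 16839, 16836]⟩))))) (.node (.node (.node (.node (.leaf ⟨5, 91, 91, (-1), 0, (-1), 0, 46, 0, 91, [391, 1360, 390]⟩) (.leaf ⟨2, 2587, 2898, 0, 0,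 0, 0, 27, 0, 2898, [17693, 17745, 15448]⟩)) (.node (.leaf ⟨9, 1632, 1638, 0, 0, 0, 0, 63, 0, 1638, [9551, 9552, 9538]⟩) (.leaf ⟨0, 594, 594, 1, 0, 1, 0, 3, 0, 594, [3235, 25936, 3234]⟩))) (.node (.node (.leaf ⟨7, 833, 856, 0, 0, 0, 0, 93, 0, 0, []⟩) (.leaf ⟨8, 3715, 3715, (-1), 0, 1, 0, 60, 4, 181, [21814, 1223, 21840, 1222, 21814]⟩)) (.node (.leaf ⟨11, 767, 767, 1, 0, 1, 0, 44, 3, 767, [4779, 13648, 4778]⟩) (.leaf ⟨8, 1756, 4994, 0, 0, 0, 0, 61, 0, 4994, [30025, 30033, 10358]⟩)))) (.node (.node (.node (.leaf ⟨1, 624, 621, 0, 0, 0, 0, 15, 0, 621, [3401, 3406, 3408]⟩) (.leaf ⟨6, 189, 189, (-1), 0, (-1), 0, 54, 0, 189, [1317, 19792, 1316]⟩)) (.node (.leaf ⟨0, 558, 558, (-1), 0, (-1), 0, 3, 0, 558, [3007, 11600, 3006]⟩) (.leaf ⟨10, 4704, 4705, 0, 0, 0, 0, 93, 0, 0, []⟩)))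 (.node (.node (.leaf ⟨4, 1239, 1240, 0, 0, 0, 0, 93, 0, 0, []⟩) (.leaf ⟨7, 4005, 4005, 1, 0, (-1), 0, 57, 0, 4005, [23883, 23888, 23882]⟩)) (.node (.leaf ⟨3, 474, 474, (-1), 0, (-1), 0, 31, 2, 475, [2463, 15696, 2463]⟩) (.leaf ⟨0, 0, 0, 0, 0, 0, 0, 0, 0, 0, []⟩)))))) (.node (.node (.node (.node (.node (.leaf ⟨10, 79, 151, 0, 0, 0, 0, 93, 0, 0, []⟩) (.leaf ⟨6, 2817, 2751, 0, 0, 0, 0, 53, 0, 2751, [16623, 16644, 17226]⟩)) (.node (.leaf ⟨5, 1099, 1099, 1, 0, 1, 0, 45, 4, 13, [6874, 25, 9040, 24, 6874]⟩) (.leaf ⟨7, 4278, 4286, 0, 0, 0, 0, 51, 5, 4278, [25407, 11461, 25421, 25422, 25424]⟩))) (.node (.node (.leaf ⟨6, 636, 788, 0, 0, 0, 0, 54, 0, 788, [4945, 3557, 3516]⟩) (.leaf ⟨6, 3601, 3602, 0, 0, 0, 0, 93, 0, 0, []⟩)) (.node (.leaf ⟨3, 2279, 2282, 0, 0, 0, 0, 35, 2, 2261,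 [13124, 13061, 13136]⟩) (.leaf ⟨7, 4882, 4922, 178, 0, 12, 0, 57, 2, 4884, [29016, 29509, 29520]⟩)))) (.node (.node (.node (.leaf ⟨5, 541, 542, 0, 0, 0, 0, 93, 0, 0, []⟩) (.leaf ⟨7, 3171, 3172, 0, 0, 0, 0, 93, 0, 0, []⟩)) (.node (.leaf ⟨9, 1862, 1867, 0, 0, 0, 0, 18, 3, 1862, [11061, 11086, 11088]⟩) (.leaf ⟨7, 4622, 4630, 0, 0, 0, 0, 46, 3, 4622, [27395, 27472, 27446]⟩))) (.node (.node (.leaf ⟨5, 1120, 1121, 0, 0, 0, 0, 93, 0, 0, []⟩) (.leaf ⟨0, 3603, 3603, (-1), 0, (-1), 0, 7, 0, 3603, [21335, 23376, 21334]⟩)) (.node (.leaf ⟨5, 2528, 2529, 0, 0, 0, 0, 93, 0, 0, []⟩) (.leaf ⟨0, 0, 0, 0, 0, 0, 0, 0, 0, 0, []⟩))))) (.node (.node (.node (.node (.leaf ⟨7, 339, 340, 0, 0, 0, 0, 93, 0, 0, []⟩) (.leaf ⟨2, 357, 869, 0, 0, 0, 0, 23, 0, 869, [5543, 18257, 1926]⟩)) (.node (.leaf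 ⟨11, 245, 245, 1, 0, 1, 0, 65, 5, 245, [1603, 2713, 698, 2712, 1602]⟩) (.leaf ⟨2, 4460, 4460, 1, 0, (-11), 0, 25, 2, 4459, [26442, 26448, 26442]⟩))) (.node (.node (.leaf ⟨3, 924, 933, 0, 0, 0, 0, 31, 0, 933, [5967, 5969, 5884]⟩) (.leaf ⟨0, 3062, 3062, 1, 0, 11, 0, 0, 2, 3756, [22342, 22353, 18508, 22353, 18508]⟩)) (.node (.leaf ⟨5, 581, 560, 0, 0, 0, 0, 23, 3, 581, [3111, 3172, 3010]⟩) (.leaf ⟨8, 4299, 5091, 0, 0, 0, 0, 93, 0, 0, []⟩)))) (.node (.node (.node (.leaf ⟨5, 185, 185, 1, 0, 1, 0, 38, 5, 185, [1237, 467, 3716, 466, 1236]⟩) (.leaf ⟨4, 3246, 3236, (-73), 0, 19, 0, 22, 1, 3237, [19615, 19649, 20305]⟩)) (.node (.leaf ⟨5, 2069, 2070, 0, 0, 0, 0, 93, 0, 0, []⟩) (.leaf ⟨2, 4797, 4788, 0, 0, 0, 0, 23, 0, 4788, [28435, 28495, 28496]⟩))) (.node (.node (.leaf ⟨10, 1359,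 1360, 0, 0, 0, 0, 93, 0, 0, []⟩) (.leaf ⟨4, 4081, 4082, 0, 0, 0, 0, 93, 0, 0, []⟩)) (.node (.leaf ⟨3, 2698, 2457, 0, 0, 0, 0, 37, 0, 2457, [14687, 14754, 16168]⟩) (.leaf ⟨0, 0, 0, 0, 0, 0, 0, 0, 0, 0, []⟩))))))

def factsPart170 : ATree TFact :=
  .node (.node (.node (.node (.node (.node (.leaf ⟨6, 82, 75, 0, 0, 0, 0, 54, 0, 75, [287, 337, 338]⟩) (.leaf ⟨7, 390, 2760, 0, 0, 0, 0, 93, 0, 0, []⟩)) (.node (.leaf ⟨5, 1484, 1485, 0, 0, 0, 0, 93, 0, 0, []⟩) (.leaf ⟨5, 4188, 4189, 0, 0, 0, 0, 93, 0, 0, []⟩))) (.node (.node (.leaf ⟨7, 696, 732, 0, 0, 0, 0, 58, 0, 732, [4425, 4195, 4220]⟩) (.leaf ⟨3, 3467, 3459, 0, 0, 0, 0, 36, 0, 3459, [20787, 20817, 20818]⟩)) (.node (.leaf ⟨8, 2171, 2176, 0, 0, 0, 0, 52, 3, 2171, [12603, 12624, 12626]⟩) (.leaf ⟨6, 4883, 4884, 0, 0, 0, 0, 93,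 0, 0, []⟩)))) (.node (.node (.node (.leaf ⟨6, 446, 447, 0, 0, 0, 0, 93, 0, 0, []⟩) (.leaf ⟨6, 3101, 3012, 0, 0, 0, 0, 45, 5, 3101, [18771, 18769, 5723, 18276, 18278]⟩)) (.node (.leaf ⟨10, 1774, 1774, 1, 0, (-1), 0, 28, 3, 1774, [10577, 8984, 10576]⟩) (.leaf ⟨5, 4455, 4546, 0, 0, 0, 0, 46, 2, 4454, [26404, 26403, 26950]⟩))) (.node (.node (.leaf ⟨1, 303, 298, (-8), 0, (-22), 0, 16, 2, 304, [1787, 6321, 6483]⟩) (.leaf ⟨6, 3820, 3831, 0, 0, 0, 0, 52, 2, 956, [22834, 6087, 22864]⟩)) (.node (.leaf ⟨7, 2456, 728, (-2), 0, 2, 0, 59, 2, 598, [14675, 4187, 14151]⟩) (.leaf ⟨9, 5161, 3730, 0, 0, 0, 0, 53, 3, 5161, [31031, 31058, 21970]⟩))))) (.node (.node (.node (.node (.leaf ⟨5, 196, 196, 1, 0, 1, 0, 47, 0, 196, [1351, 1362, 1350]⟩) (.leaf ⟨10, 2587, 2906, 0, 0, 0, 0, 93, 0, 0,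 []⟩)) (.node (.leaf ⟨5, 1638, 1639, 0, 0, 0, 0, 93, 0, 0, []⟩) (.leaf ⟨0, 595, 595, (-1), 0, (-1), 0, 2, 0, 595, [3239, 25938, 3238]⟩))) (.node (.node (.leaf ⟨8, 540, 857, 0, 0, 0, 0, 93, 0, 0, []⟩) (.leaf ⟨7, 3717, 3717, (-1), 0, 1, 0, 56, 4, 3716, [21818, 21817, 21842, 21816, 21818]⟩)) (.node (.leaf ⟨11, 1037, 1037, 1, 0, (-1), 0, 37, 3, 1037, [6545, 13650, 6544]⟩) (.leaf ⟨8, 4948, 4995, 0, 0, 0, 0, 47, 3, 4948, [29601, 30034, 30026]⟩)))) (.node (.node (.node (.leaf ⟨5, 624, 625, 0, 0, 0, 0, 93, 0, 0, []⟩) (.leaf ⟨6, 2137, 2137, 1, 0, 1, 0, 55, 0, 2137, [12371, 19794, 12370]⟩)) (.node (.leaf ⟨0, 559, 559, 1, 0, 1, 0, 2, 0, 559, [3009, 11602, 3008]⟩) (.leaf ⟨1, 4705, 4251, 0, 0, 0, 0, 19, 0, 4251, [25329, 27985, 27986]⟩))) (.node (.node (.leaf ⟨5, 1240, 1241, 0, 0,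 0, 0, 93, 0, 0, []⟩) (.leaf ⟨6, 4003, 4003, (-1), 0, (-1), 0, 51, 0, 4003, [23875, 23885, 23890, 23884, 23874]⟩)) (.node (.leaf ⟨3, 473, 473, (-1), 0, 1, 0, 32, 2, 474, [2461, 15698, 2461]⟩) (.leaf ⟨0, 0, 0, 0, 0, 0, 0, 0, 0, 0, []⟩)))))) (.node (.node (.node (.node (.node (.leaf ⟨6, 151, 98, 0, 0, 0, 0, 54, 0, 98, [421, 333, 850]⟩) (.leaf ⟨7, 2751, 2818, 0, 0, 0, 0, 93, 0, 0, []⟩)) (.node (.leaf ⟨5, 1100, 1100, (-1), 0, (-1), 0, 46, 0, 1100, [6879, 9042, 6878]⟩) (.leaf ⟨5, 4286, 4287, 0, 0, 0, 0, 93, 0, 0, []⟩))) (.node (.node (.leaf ⟨7, 610, 610, 1, 0, 1, 0, 51, 5, 610, [3311, 3309, 2786, 3308, 3310]⟩) (.leaf ⟨3, 3602, 3591, 0, 0, 0, 0, 32, 0, 3591, [21277, 21329, 21330]⟩)) (.node (.leaf ⟨10, 2282, 2283, 0, 0, 0, 0, 93, 0, 0, []⟩) (.leaf ⟨10, 2935, 4923, 0, 0, 0, 0,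 93, 0, 0, []⟩)))) (.node (.node (.node (.leaf ⟨4, 542, 543, 0, 0, 0, 0, 93, 0, 0, []⟩) (.leaf ⟨6, 3172, 3173, 0, 0, 0, 0, 93, 0, 0, []⟩)) (.node (.leaf ⟨8, 1842, 1863, 0, 0, 0, 0, 47, 3, 1842, [11001, 10411, 11072]⟩) (.leaf ⟨7, 4623, 4631, 0, 0, 0, 0, 40, 3, 4623, [27397, 27474, 27448]⟩))) (.node (.node (.leaf ⟨7, 1121, 1122, 0, 0, 0, 0, 93, 0, 0, []⟩) (.leaf ⟨0, 3604, 3604, 1, 0, 1, 0, 4, 0, 3604, [21339, 23378, 21338]⟩)) (.node (.leaf ⟨4, 2529, 2530, 0, 0, 0, 0, 93, 0, 0, []⟩) (.leaf ⟨0, 0, 0, 0, 0, 0, 0, 0, 0, 0, []⟩))))) (.node (.node (.node (.node (.leaf ⟨7, 254, 341, 0, 0, 0, 0, 93, 0, 0, []⟩) (.leaf ⟨2, 358, 870, 0, 0, 0, 0, 22, 0, 870, [5545, 18259, 1928]⟩)) (.node (.leaf ⟨11, 246, 246, 1, 0, (-1), 0, 50, 3, 246, [1605, 10066, 1604]⟩) (.leaf ⟨6, 3053, 4461, 0,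 0, 0, 0, 93, 0, 0, []⟩))) (.node (.node (.leaf ⟨10, 811, 933, (-50), 0, (-6), 0, 36, 3, 811, [5963, 5897, 5970]⟩) (.leaf ⟨0, 2793, 2793, 1, 0, (-11), 0, 10, 2, 3062, [22325, 22354, 22325]⟩)) (.node (.leaf ⟨10, 581, 581, 1, 0, 1, 0, 28, 3, 581, [3111, 3146, 3110]⟩) (.leaf ⟨5, 5090, 5091, 0, 0, 0, 0, 47, 0, 5091, [30547, 27817, 30532]⟩)))) (.node (.node (.node (.leaf ⟨6, 185, 185, (-1), 0, 1, 0, 39, 3, 185, [1237, 3386, 1236]⟩) (.leaf ⟨1, 3224, 3238, 0, 0, 0, 0, 19, 0, 3238, [19617, 1969, 19576]⟩)) (.node (.leaf ⟨4, 2070, 2071, 0, 0, 0, 0, 93, 0, 0, []⟩) (.leaf ⟨10, 4797, 4798, 0, 0, 0, 0, 93, 0, 0, []⟩))) (.node (.node (.leaf ⟨5, 1360, 1361, 0, 0, 0, 0, 93, 0, 0, []⟩) (.leaf ⟨8, 4078, 4082, 0, 0, 0, 0, 41, 3, 4078, [24393, 24401, 24402]⟩)) (.node (.leaf ⟨3, 2699, 2458,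 0, 0, 0, 0, 31, 0, 2458, [14691, 16211, 16192]⟩) (.leaf ⟨0, 0, 0, 0, 0, 0, 0, 0, 0, 0, []⟩))))))

def factsPart171 : ATree TFact :=
  .node (.node (.node (.node (.node (.node (.leaf ⟨7, 0, 0, 1, 0, 1, 0, 87, 0, 0, []⟩) (.leaf ⟨3, 2734, 175, 0, 0, 0, 0, 34, 0, 175, [1181, 973, 16540]⟩)) (.node (.leaf ⟨10, 1485, 1486, 0, 0, 0, 0, 93, 0, 0, []⟩) (.leaf ⟨2, 4189, 4155, 0, 0, 0, 0, 23, 0, 4155, [24737, 24915, 24916]⟩))) (.node (.node (.leaf ⟨11, 696, 734, 0, 0, 0, 0, 93, 0, 0, []⟩) (.leaf ⟨7, 3467, 3468, 0, 0, 0, 0, 93, 0, 0, []⟩)) (.node (.leaf ⟨9, 2174, 2021, 0, 0, 0, 0, 48, 3, 2174, [12619, 10971, 11942]⟩) (.leaf ⟨9, 4883, 4881, 0, 0, 0, 0, 57, 3, 4883, [29011, 15820, 29004]⟩)))) (.node (.node (.node (.leaf ⟨8, 447, 448, 0, 0, 0, 0, 93, 0, 0, []⟩) (.leaf ⟨5, 891, 891,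 (-1), 0, 1, 0, 47, 0, 891, [5645, 4484, 5644]⟩)) (.node (.leaf ⟨5, 1666, 1666, (-1), 0, (-1), 0, 49, 0, 1666, [9733, 10579, 10580, 10578, 9732]⟩) (.leaf ⟨6, 4548, 4514, 0, 0, 0, 0, 45, 5, 4548, [26959, 26955, 26965, 26830, 26832]⟩))) (.node (.node (.leaf ⟨1, 302, 291, 8, 0, 22, 0, 15, 2, 298, [1783, 6485, 1785]⟩) (.leaf ⟨6, 3827, 3822, 0, 0, 0, 0, 45, 5, 3827, [22855, 22862, 22866, 22869, 22842]⟩)) (.node (.leaf ⟨4, 2454, 2456, 25, 0, 11, 0, 40, 2, 2452, [14667, 14669, 14677]⟩) (.leaf ⟨8, 3730, 5166, 0, 0, 0, 0, 93, 0, 0, []⟩))))) (.node (.node (.node (.node (.leaf ⟨6, 97, 97, 1, 0, 1, 0, 45, 5, 97, [419, 1352, 1364, 1353, 418]⟩) (.leaf ⟨2, 2906, 2899, 0, 0, 0, 0, 28, 0, 2899, [17695, 17747, 17748]⟩)) (.node (.leaf ⟨9, 1633, 1639, 0, 0, 0, 0, 48, 3, 1633, [9541, 9554,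 9556]⟩) (.leaf ⟨0, 789, 789, 1, 0, 1, 0, 9, 0, 789, [4993, 25940, 4992]⟩))) (.node (.node (.leaf ⟨6, 832, 857, 0, 0, 0, 0, 52, 2, 541, [5312, 2897, 5460]⟩) (.leaf ⟨9, 186, 3718, 0, 0, 0, 0, 93, 0, 0, []⟩)) (.node (.leaf ⟨10, 1703, 1703, 1, 0, (-1), 0, 65, 4, 1067, [10010, 6689, 13652, 6688, 10010]⟩) (.leaf ⟨8, 4996, 4940, 0, 0, 0, 0, 56, 5, 4996, [30029, 30037, 29612, 29630, 29578]⟩)))) (.node (.node (.node (.leaf ⟨1, 625, 622, 0, 0, 0, 0, 14, 0, 622, [3403, 3411, 3412]⟩) (.leaf ⟨7, 3278, 3278, 1, 0, 1, 0, 51, 5, 3278, [19785, 19783, 19796, 19782, 19784]⟩)) (.node (.leaf ⟨0, 701, 701, (-1), 0, (-1), 0, 9, 0, 701, [4261, 11604, 4260]⟩) (.leaf ⟨11, 4705, 4706, 0, 0, 0, 0, 93, 0, 0, []⟩))) (.node (.node (.leaf ⟨7, 1241, 1242, 0, 0, 0, 0, 93, 0, 0, []⟩) (.leaf ⟨5, 3135,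 3135, 1, 0, (-1), 0, 45, 0, 3135, [19081, 23877, 23892, 23876, 19080]⟩)) (.node (.leaf ⟨7, 642, 593, (-41), 0, 15, 0, 66, 41, 639, [13950, 3540, 3544, 3546, 3550, 3554, 3558, 4180, 15661, 14152, 3248, 15662, 15671, 15676, 15669, 15679, 5089, 4865, 14132, 15680, 15682, 14123, 15690, 14096, 9370, 15693, 4130, 2385, 2338, 3200, 15694, 2611, 4142, 3296, 3002, 4150, 3319, 3632, 4034, 4029, 2590, 2567, 2565, 2470, 3113, 4200, 2799, 1918, 2758, 2760, 5048, 3592, 15700, 2502, 4484, 2460, 2522, 4478, 2635, 2612, 3230, 3232, 9382]⟩) (.leaf ⟨0, 0, 0, 0, 0, 0, 0, 0, 0, 0, []⟩)))))) (.node (.node (.node (.node (.node (.leaf ⟨7, 151, 151, (-1), 0, 1, 0, 58, 0, 151, [851, 356, 850]⟩) (.leaf ⟨10, 2818, 2818, 1, 0, (-1), 0, 58, 3, 2818, [17237, 16628, 17236]⟩)) (.node (.leaf ⟨6, 1157,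 1157, (-1), 0, (-1), 0, 45, 5, 1157, [7137, 6883, 9044, 6882, 7136]⟩) (.leaf ⟨7, 4279, 4287, 0, 0, 0, 0, 46, 3, 4279, [25409, 25426, 25428]⟩))) (.node (.node (.leaf ⟨5, 609, 609, 1, 0, (-1), 0, 46, 0, 609, [3309, 2202, 3308]⟩) (.leaf ⟨8, 3602, 3603, 0, 0, 0, 0, 93, 0, 0, []⟩)) (.node (.leaf ⟨3, 2283, 2280, 0, 0, 0, 0, 36, 0, 2280, [13129, 13138, 13140]⟩) (.leaf ⟨5, 4923, 4924, 0, 0, 0, 0, 93, 0, 0, []⟩)))) (.node (.node (.node (.leaf ⟨3, 543, 544, 0, 0, 0, 0, 93, 0, 0, []⟩) (.leaf ⟨10, 2423, 3174, 0, 0, 0, 0, 93, 0, 0, []⟩)) (.node (.leaf ⟨8, 1864, 1843, 0, 0, 0, 0, 41, 3, 1864, [11077, 11093, 11002]⟩) (.leaf ⟨7, 4626, 4632, 0, 0, 0, 0, 33, 3, 4626, [27403, 27476, 27450]⟩))) (.node (.node (.leaf ⟨6, 1122, 1123, 0, 0, 0, 0, 93, 0, 0, []⟩) (.leaf ⟨0, 3610, 3610, (-1),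 0, (-1), 0, 3, 0, 3610, [21361, 23380, 21360]⟩)) (.node (.leaf ⟨3, 2530, 2531, 0, 0, 0, 0, 93, 0, 0, []⟩) (.leaf ⟨0, 0, 0, 0, 0, 0, 0, 0, 0, 0, []⟩))))) (.node (.node (.node (.node (.leaf ⟨6, 341, 342, 0, 0, 0, 0, 93, 0, 0, []⟩) (.leaf ⟨2, 2998, 871, 0, 0, 0, 0, 27, 0, 871, [5547, 18261, 18228]⟩)) (.node (.leaf ⟨11, 1462, 1462, 1, 0, 1, 0, 55, 3, 1462, [8449, 10068, 8448]⟩) (.leaf ⟨7, 4461, 4462, 0, 0, 0, 0, 93, 0, 0, []⟩))) (.node (.node (.leaf ⟨4, 933, 807, 50, 0, (-6), 0, 43, 0, 807, [5149, 5198, 5972]⟩) (.leaf ⟨0, 3715, 3715, 1, 0, 11, 0, 4, 2, 2793, [21860, 22356, 21860]⟩)) (.node (.leaf ⟨5, 561, 561, (-1), 0, 1, 0, 49, 0, 561, [3021, 14163, 14164, 14162, 3020]⟩) (.leaf ⟨11, 4298, 776, (-1), 0, 5, 0, 50, 3, 4298, [25517, 30538, 4852]⟩)))) (.node (.node (.node (.leaf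 ⟨7, 185, 185, (-1), 0, 1, 0, 40, 3, 185, [1237, 3376, 1236]⟩) (.leaf ⟨1, 3225, 3239, 0, 0, 0, 0, 20, 0, 3239, [19619, 20309, 19578]⟩)) (.node (.leaf ⟨1, 2048, 1961, 0, 0, 0, 0, 19, 0, 1961, [11499, 1973, 12026]⟩) (.leaf ⟨2, 4798, 4793, 0, 0, 0, 0, 28, 0, 4793, [28479, 28499, 28500]⟩))) (.node (.node (.leaf ⟨7, 1361, 1362, 0, 0, 0, 0, 93, 0, 0, []⟩) (.leaf ⟨3, 4082, 4083, 0, 0, 0, 0, 93, 0, 0, []⟩)) (.node (.leaf ⟨6, 2457, 2457, (-1), 0, (-1), 0, 55, 0, 2457, [14687, 14658, 14686]⟩) (.leaf ⟨0, 0, 0, 0, 0, 0, 0, 0, 0, 0, []⟩))))))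

def factsPart172 : ATree TFact :=
  .node (.node (.node (.node (.node (.node (.leaf ⟨7, 1, 1, 1, 0, (-1), 0, 16, 3, 1, [1, 342, 0]⟩) (.leaf ⟨3, 2735, 176, 0, 0, 0, 0, 31, 0, 176, [1183, 16727, 16542]⟩)) (.node (.leaf ⟨7, 1486, 1487, 0, 0, 0, 0, 93, 0, 0, []⟩) (.leaf ⟨4, 4189, 4190, 0, 0, 0, 0, 93, 0, 0, []⟩))) (.node (.node (.leaf ⟨7, 734, 733, 0, 0, 0, 0, 59, 0, 733, [4427, 4437, 4438]⟩) (.leaf ⟨3, 3468, 3460, 0, 0, 0, 0, 33, 0, 3460, [20791, 20821, 20822]⟩)) (.node (.leaf ⟨9, 2175, 2022, 0, 0, 0, 0, 57, 3, 2175, [12623, 12630, 11944]⟩) (.leaf ⟨9, 4884, 4882, 0, 0, 0, 0, 53, 3, 4884, [29013, 29014, 29008]⟩)))) (.node (.node (.node (.leaf ⟨5, 448, 449, 0, 0, 0, 0, 93, 0, 0, []⟩) (.leaf ⟨6, 877, 877, (-1), 0, 1, 0, 45, 5, 877, [5573, 5646, 18774, 5647, 5572]⟩)) (.node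 (.leaf ⟨4, 1772, 1772, 1, 0, (-1), 0, 38, 0, 1772, [10563, 10575, 10582, 10574, 10562]⟩) (.leaf ⟨6, 4549, 4515, 0, 0, 0, 0, 54, 0, 4515, [26835, 26967, 26960]⟩))) (.node (.node (.leaf ⟨8, 281, 299, 0, 0, 0, 0, 47, 3, 281, [1723, 1721, 1766]⟩) (.leaf ⟨7, 3829, 3824, 0, 0, 0, 0, 51, 5, 3829, [22859, 22857, 22870, 22844, 22848]⟩)) (.node (.leaf ⟨3, 598, 598, 1, 0, (-1), 0, 36, 0, 598, [3251, 9246, 3250]⟩) (.leaf ⟨7, 5166, 5167, 0, 0, 0, 0, 93, 0, 0, []⟩))))) (.node (.node (.node (.node (.leaf ⟨3, 70, 70, 1, 0, 1, 0, 12, 3, 70, [277, 610, 276]⟩) (.leaf ⟨5, 2906, 2907, 0, 0, 0, 0, 93, 0, 0, []⟩)) (.node (.leaf ⟨7, 1639, 1640, 0, 0, 0, 0, 93, 0, 0, []⟩) (.leaf ⟨3, 597, 597, 1, 0, 1, 0, 31, 2, 598, [3249, 14680, 3249]⟩))) (.node (.node (.leaf ⟨9, 857, 858, 0, 0, 0, 0, 93, 0,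 0, []⟩) (.leaf ⟨6, 3718, 3715, 0, 0, 0, 0, 53, 0, 3715, [21815, 1252, 21846]⟩)) (.node (.leaf ⟨7, 1703, 1782, 0, 0, 0, 0, 59, 0, 1782, [10637, 6709, 10010]⟩) (.leaf ⟨3, 4993, 1631, 0, 0, 0, 0, 2, 3, 4993, [30023, 17772, 9536]⟩)))) (.node (.node (.node (.leaf ⟨11, 160, 305, 0, 0, 0, 0, 29, 3, 160, [917, 2114, 1788]⟩) (.leaf ⟨7, 3279, 3279, 1, 0, (-1), 0, 46, 3, 3279, [19787, 19798, 19786]⟩)) (.node (.leaf ⟨0, 790, 790, 1, 0, 1, 0, 10, 0, 790, [5009, 11606, 5008]⟩) (.leaf ⟨1, 4706, 4252, 0, 0, 0, 0, 20, 0, 4252, [25331, 27989, 27990]⟩))) (.node (.node (.leaf ⟨11, 1233, 1238, 0, 0, 0, 0, 50, 3, 1233, [7459, 7457, 7502]⟩) (.leaf ⟨5, 4001, 4001, (-1), 0, 1, 0, 47, 0, 4001, [23867, 23894, 23866]⟩)) (.node (.leaf ⟨7, 1405, 760, 41, 0, (-15), 0, 16, 3, 1405, [8176, 15703, 8163]⟩)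 (.leaf ⟨0, 0, 0, 0, 0, 0, 0, 0, 0, 0, []⟩)))))) (.node (.node (.node (.node (.node (.leaf ⟨6, 150, 150, 1, 0, 1, 0, 51, 0, 150, [847, 853, 854, 852, 846]⟩) (.leaf ⟨2, 2751, 2751, 1, 0, 1, 0, 27, 0, 2751, [16623, 16664, 16622]⟩)) (.node (.leaf ⟨6, 1158, 1158, (-1), 0, 1, 0, 39, 3, 1158, [7139, 9046, 7138]⟩) (.leaf ⟨4, 4287, 4288, 0, 0, 0, 0, 93, 0, 0, []⟩))) (.node (.node (.leaf ⟨3, 582, 582, 1, 0, 1, 0, 33, 0, 582, [3125, 2844, 3124]⟩) (.leaf ⟨3, 3603, 3592, 0, 0, 0, 0, 34, 0, 3592, [21279, 21333, 21334]⟩)) (.node (.leaf ⟨11, 2283, 2284, 0, 0, 0, 0, 93, 0, 0, []⟩) (.leaf ⟨7, 4924, 4925, 0, 0, 0, 0, 93, 0, 0, []⟩)))) (.node (.node (.node (.leaf ⟨2, 544, 545, 0, 0, 0, 0, 93, 0, 0, []⟩) (.leaf ⟨8, 552, 938, 0, 0, 0, 0, 26, 3, 552, [2979, 5748, 6010]⟩)) (.node (.leaf ⟨8,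 1865, 1844, 0, 0, 0, 0, 34, 3, 1865, [11081, 11094, 11004]⟩) (.leaf ⟨7, 4627, 4633, 0, 0, 0, 0, 58, 0, 4633, [27471, 27479, 27404]⟩))) (.node (.node (.leaf ⟨8, 1123, 1124, 0, 0, 0, 0, 93, 0, 0, []⟩) (.leaf ⟨0, 3863, 3863, 1, 0, 1, 0, 6, 0, 3863, [23049, 23382, 23048]⟩)) (.node (.leaf ⟨2, 2531, 2532, 0, 0, 0, 0, 93, 0, 0, []⟩) (.leaf ⟨0, 0, 0, 0, 0, 0, 0, 0, 0, 0, []⟩))))) (.node (.node (.node (.node (.leaf ⟨5, 342, 343, 0, 0, 0, 0, 93, 0, 0, []⟩) (.leaf ⟨2, 2999, 872, 0, 0, 0, 0, 28, 0, 872, [5549, 18263, 18230]⟩)) (.node (.leaf ⟨11, 1463, 1463, 1, 0, (-1), 0, 59, 3, 1463, [8451, 10070, 8450]⟩) (.leaf ⟨10, 4461, 4459, 0, 0, 0, 0, 54, 3, 4461, [26453, 18444, 26438]⟩))) (.node (.node (.leaf ⟨10, 926, 926, (-1), 0, 1, 0, 36, 3, 926, [5923, 5898, 5922]⟩) (.leaf ⟨0, 3716,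 3716, 1, 0, (-11), 0, 6, 2, 3715, [21816, 22358, 21816]⟩)) (.node (.leaf ⟨11, 551, 551, 1, 0, (-1), 0, 37, 3, 551, [2977, 5004, 2976]⟩) (.leaf ⟨11, 796, 4299, 1, 0, (-5), 0, 59, 3, 796, [5109, 30551, 25490]⟩)))) (.node (.node (.node (.leaf ⟨2, 184, 184, (-1), 0, (-1), 0, 23, 0, 184, [1229, 1282, 1228]⟩) (.leaf ⟨1, 3226, 3243, 0, 0, 0, 0, 14, 0, 3243, [19627, 20311, 19580]⟩)) (.node (.leaf ⟨1, 2049, 1962, 0, 0, 0, 0, 14, 0, 1962, [11501, 12119, 12028]⟩) (.leaf ⟨3, 3984, 3141, 0, 0, 0, 0, 35, 2, 3983, [23774, 23773, 19110]⟩))) (.node (.node (.leaf ⟨6, 1362, 1363, 0, 0, 0, 0, 93, 0, 0, []⟩) (.leaf ⟨8, 4079, 4083, 0, 0, 0, 0, 34, 3, 4079, [24395, 24404, 24406]⟩)) (.node (.leaf ⟨7, 2417, 2457, (-18), 0, (-4), 0, 59, 2, 788, [14143, 5017, 14686]⟩) (.leaf ⟨0, 0, 0, 0, 0, 0,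 0, 0, 0, 0, []⟩))))))

def factsPart173 : ATree TFact :=
  .node (.node (.node (.node (.node (.node (.leaf ⟨7, 2, 2, 1, 0, 1, 0, 25, 3, 2, [3, 344, 2]⟩) (.leaf ⟨3, 2736, 389, 0, 0, 0, 0, 35, 0, 389, [2089, 16729, 16544]⟩)) (.node (.leaf ⟨6, 1487, 1488, 0, 0, 0, 0, 93, 0, 0, []⟩) (.leaf ⟨2, 4190, 4156, 0, 0, 0, 0, 22, 0, 4156, [24739, 24919, 24920]⟩))) (.node (.node (.leaf ⟨5, 734, 735, 0, 0, 0, 0, 93, 0, 0, []⟩) (.leaf ⟨6, 3468, 3469, 0, 0, 0, 0, 93, 0, 0, []⟩)) (.node (.leaf ⟨9, 2176, 2023, 0, 0, 0, 0, 53, 3, 2176, [12627, 12632, 11946]⟩) (.leaf ⟨4, 2608, 4885, 0, 0, 0, 0, 93, 0, 0, []⟩)))) (.node (.node (.node (.leaf ⟨4, 449, 450, 0, 0, 0, 0, 93, 0, 0, []⟩) (.leaf ⟨6, 878, 878, (-1), 0, (-1), 0, 39, 3, 878, [5575, 18776, 5574]⟩)) (.node (.leaf ⟨4, 1773, 1773, (-1),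 0, 1, 0, 39, 0, 1773, [10565, 10584, 10564]⟩) (.leaf ⟨5, 4540, 4515, (-3), 0, (-3), 0, 45, 4, 4536, [26926, 26941, 26949, 26962, 26968]⟩))) (.node (.node (.leaf ⟨8, 300, 282, 0, 0, 0, 0, 41, 3, 300, [1769, 6489, 1724]⟩) (.leaf ⟨6, 915, 3832, 0, 0, 0, 0, 93, 0, 0, []⟩)) (.node (.leaf ⟨3, 2456, 2456, 1, 0, 1, 0, 37, 2, 598, [14675, 14680, 14675]⟩) (.leaf ⟨8, 2777, 5168, 0, 0, 0, 0, 93, 0, 0, []⟩))))) (.node (.node (.node (.node (.leaf ⟨2, 72, 72, 1, 0, 1, 0, 21, 4, 71, [280, 279, 1368, 278, 280]⟩) (.leaf ⟨2, 2907, 2900, 0, 0, 0, 0, 23, 0, 2900, [17697, 17751, 17752]⟩)) (.node (.leaf ⟨9, 1634, 1640, 0, 0, 0, 0, 57, 3, 1634, [9543, 9558, 9560]⟩) (.leaf ⟨4, 597, 597, 1, 0, (-1), 0, 43, 0, 597, [3247, 4982, 3246]⟩))) (.node (.node (.leaf ⟨6, 858, 833, 0, 0, 0, 0, 53, 0, 833,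 [5315, 5462, 5464]⟩) (.leaf ⟨7, 3718, 3718, 1, 0, (-1), 0, 57, 0, 3718, [21847, 1308, 21846]⟩)) (.node (.leaf ⟨6, 1068, 1068, 1, 0, 1, 0, 45, 5, 1068, [6693, 6651, 6786, 6650, 6692]⟩) (.leaf ⟨3, 4994, 1632, 0, 0, 0, 0, 36, 0, 1632, [9539, 30041, 30024]⟩)))) (.node (.node (.node (.leaf ⟨11, 161, 623, 0, 0, 0, 0, 59, 3, 161, [919, 3416, 3404]⟩) (.leaf ⟨5, 189, 189, 1, 0, (-1), 0, 49, 4, 109, [1316, 457, 878, 456, 1316]⟩)) (.node (.leaf ⟨2, 561, 701, 0, 0, 0, 0, 28, 2, 560, [3020, 3011, 4260]⟩) (.leaf ⟨7, 4706, 4707, 0, 0, 0, 0, 93, 0, 0, []⟩))) (.node (.node (.leaf ⟨11, 1239, 1234, 0, 0, 0, 0, 55, 3, 1239, [7505, 7513, 7460]⟩) (.leaf ⟨4, 4000, 4000, 1, 0, 1, 0, 38, 0, 4000, [23863, 23869, 23896, 23868, 23862]⟩)) (.node (.leaf ⟨7, 511, 1674, (-41), 0, 15, 0, 6, 3, 511,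 [9825, 15705, 9807]⟩) (.leaf ⟨0, 0, 0, 0, 0, 0, 0, 0, 0, 0, []⟩)))))) (.node (.node (.node (.node (.node (.leaf ⟨5, 148, 148, (-1), 0, 1, 0, 45, 0, 148, [841, 848, 856, 849, 840]⟩) (.leaf ⟨2, 2818, 2818, (-1), 0, (-1), 0, 25, 0, 2818, [17237, 17240, 17236]⟩)) (.node (.leaf ⟨6, 1598, 1598, 1, 0, (-1), 0, 54, 0, 1598, [9033, 9048, 9032]⟩) (.leaf ⟨7, 4280, 4288, 0, 0, 0, 0, 40, 3, 4280, [25411, 25430, 25432]⟩))) (.node (.node (.leaf ⟨2, 582, 495, 0, 0, 0, 0, 25, 0, 495, [2565, 2625, 3124]⟩) (.leaf ⟨5, 3603, 3604, 0, 0, 0, 0, 93, 0, 0, []⟩)) (.node (.leaf ⟨3, 2284, 2281, 0, 0, 0, 0, 37, 0, 2281, [13133, 13143, 13144]⟩) (.leaf ⟨6, 4925, 4926, 0, 0, 0, 0, 93, 0, 0, []⟩)))) (.node (.node (.node (.leaf ⟨7, 538, 546, 0, 0, 0, 0, 93, 0, 0, []⟩) (.leaf ⟨8, 2423, 3161, 0, 0, 0,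 0, 17, 3, 2423, [14281, 19288, 19254]⟩)) (.node (.leaf ⟨8, 1866, 1845, 0, 0, 0, 0, 26, 3, 1866, [11085, 11096, 11006]⟩) (.leaf ⟨5, 428, 428, 1, 0, 1, 0, 48, 0, 428, [2299, 17726, 2298]⟩))) (.node (.node (.leaf ⟨5, 1124, 1125, 0, 0, 0, 0, 93, 0, 0, []⟩) (.leaf ⟨0, 3864, 3864, (-1), 0, (-1), 0, 5, 0, 3864, [23051, 23384, 23050]⟩)) (.node (.leaf ⟨8, 1580, 2533, 0, 0, 0, 0, 93, 0, 0, []⟩) (.leaf ⟨0, 0, 0, 0, 0, 0, 0, 0, 0, 0, []⟩))))) (.node (.node (.node (.node (.leaf ⟨4, 343, 344, 0, 0, 0, 0, 93, 0, 0, []⟩) (.leaf ⟨2, 3000, 949, 0, 0, 0, 0, 25, 0, 949, [6055, 18265, 18232]⟩)) (.node (.leaf ⟨11, 1464, 1464, 1, 0, 1, 0, 55, 3, 1464, [8453, 10072, 8452]⟩) (.leaf ⟨10, 4462, 4460, 0, 0, 0, 0, 58, 3, 4462, [26455, 26456, 26442]⟩))) (.node (.node (.leaf ⟨10, 927, 927, (-1), 0,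 (-1), 0, 63, 3, 927, [5925, 5976, 5924]⟩) (.leaf ⟨0, 3717, 3717, 1, 0, 11, 0, 7, 2, 3716, [21818, 22360, 21818]⟩)) (.node (.leaf ⟨11, 552, 552, 1, 0, 1, 0, 29, 3, 552, [2979, 14168, 2978]⟩) (.leaf ⟨11, 5091, 5087, (-1), 0, 5, 0, 62, 3, 5091, [30547, 30553, 30506]⟩)))) (.node (.node (.node (.leaf ⟨3, 184, 184, (-1), 0, (-1), 0, 31, 0, 184, [1229, 1274, 1228]⟩) (.leaf ⟨1, 3227, 3244, 0, 0, 0, 0, 16, 0, 3244, [19629, 20313, 19582]⟩)) (.node (.leaf ⟨1, 2050, 1963, 0, 0, 0, 0, 13, 0, 1963, [11503, 12121, 12030]⟩) (.leaf ⟨3, 4006, 4291, 0, 0, 0, 0, 36, 0, 4291, [25445, 28504, 23962]⟩))) (.node (.node (.leaf ⟨8, 1363, 1364, 0, 0, 0, 0, 93, 0, 0, []⟩) (.leaf ⟨5, 3046, 4084, 0, 0, 0, 0, 93, 0, 0, []⟩)) (.node (.leaf ⟨10, 727, 2454, 0, 0, 0, 0, 54, 3, 727, [4393, 5020, 14656]⟩)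 (.leaf ⟨0, 0, 0, 0, 0, 0, 0, 0, 0, 0, []⟩))))))

def factsPart174 : ATree TFact :=
  .node (.node (.node (.node (.node (.node (.leaf ⟨7, 3, 3, 1, 0, (-1), 0, 33, 3, 3, [5, 346, 4]⟩) (.leaf ⟨3, 2737, 390, 0, 0, 0, 0, 36, 0, 390, [2091, 16731, 16546]⟩)) (.node (.leaf ⟨8, 1488, 1489, 0, 0, 0, 0, 93, 0, 0, []⟩) (.leaf ⟨7, 437, 4191, 0, 0, 0, 0, 93, 0, 0, []⟩))) (.node (.node (.leaf ⟨7, 731, 735, (-27), 0, 1, 0, 46, 3, 731, [4435, 4441, 4442]⟩) (.leaf ⟨3, 3469, 3461, 0, 0, 0, 0, 32, 0, 3461, [20795, 20825, 20826]⟩)) (.node (.leaf ⟨9, 2168, 2024, 0, 0, 0, 0, 60, 5, 2168, [12597, 12609, 12628, 12634, 11948]⟩) (.leaf ⟨7, 4885, 4886, 0, 0, 0, 0, 93, 0, 0, []⟩)))) (.node (.node (.node (.leaf ⟨3, 450, 451, 0, 0, 0, 0, 93, 0, 0, []⟩) (.leaf ⟨6, 881, 881, 1, 0, 1, 0, 53, 0, 881,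 [5581, 18778, 5580]⟩)) (.node (.leaf ⟨11, 1155, 1775, 0, 0, 0, 0, 93, 0, 0, []⟩) (.leaf ⟨7, 4372, 4550, 0, 0, 0, 0, 93, 0, 0, []⟩))) (.node (.node (.leaf ⟨8, 301, 283, 0, 0, 0, 0, 34, 3, 301, [1771, 6490, 1726]⟩) (.leaf ⟨8, 3832, 3833, 0, 0, 0, 0, 93, 0, 0, []⟩)) (.node (.leaf ⟨2, 597, 789, 0, 0, 0, 0, 28, 2, 596, [3246, 3243, 4992]⟩) (.leaf ⟨6, 5166, 5168, 0, 0, 0, 0, 52, 2, 3730, [31062, 21971, 31066]⟩))))) (.node (.node (.node (.node (.leaf ⟨2, 75, 75, (-1), 0, (-1), 0, 28, 0, 75, [287, 1370, 286]⟩) (.leaf ⟨6, 2907, 2908, 0, 0, 0, 0, 93, 0, 0, []⟩)) (.node (.leaf ⟨6, 1640, 1641, 0, 0, 0, 0, 93, 0, 0, []⟩) (.leaf ⟨4, 2453, 4370, 0, 0, 0, 0, 93, 0, 0, []⟩))) (.node (.node (.leaf ⟨8, 537, 537, 1, 0, 1, 0, 62, 0, 537, [2881, 318, 2880]⟩) (.leaf ⟨6, 3716, 3716, (-1), 0,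 (-1), 0, 51, 0, 3716, [21817, 21849, 21850, 21848, 21816]⟩)) (.node (.leaf ⟨6, 1069, 1069, 1, 0, (-1), 0, 39, 3, 1069, [6695, 13658, 6694]⟩) (.leaf ⟨3, 4995, 1633, 0, 0, 0, 0, 31, 0, 1633, [9541, 30043, 30026]⟩)))) (.node (.node (.node (.leaf ⟨11, 162, 624, 0, 0, 0, 0, 55, 3, 162, [921, 3418, 3408]⟩) (.leaf ⟨5, 2137, 2137, (-1), 0, 1, 0, 50, 0, 2137, [12371, 19802, 12370]⟩)) (.node (.leaf ⟨2, 790, 1614, 0, 0, 0, 0, 29, 0, 1614, [9201, 11610, 5008]⟩) (.leaf ⟨1, 4707, 4253, 0, 0, 0, 0, 16, 0, 4253, [25333, 27993, 27994]⟩))) (.node (.node (.leaf ⟨11, 1240, 1235, 0, 0, 0, 0, 44, 3, 1240, [7507, 7514, 7462]⟩) (.leaf ⟨3, 3858, 3858, (-1), 0, 1, 0, 30, 0, 3858, [23039, 23865, 23898, 23864, 23038]⟩)) (.node (.leaf ⟨4, 509, 1100, 35, 0, (-7), 0, 3, 3, 509, [9821, 10501, 6881]⟩)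 (.leaf ⟨0, 0, 0, 0, 0, 0, 0, 0, 0, 0, []⟩)))))) (.node (.node (.node (.node (.node (.leaf ⟨5, 149, 149, 1, 0, (-1), 0, 47, 0, 149, [843, 858, 842]⟩) (.leaf ⟨3, 2818, 2769, 0, 0, 0, 0, 33, 0, 2769, [16789, 17195, 17236]⟩)) (.node (.leaf ⟨6, 1599, 1599, (-1), 0, 1, 0, 55, 0, 1599, [9035, 9050, 9034]⟩) (.leaf ⟨3, 4288, 4289, 0, 0, 0, 0, 93, 0, 0, []⟩))) (.node (.node (.leaf ⟨3, 469, 469, (-17), 0, 5, 0, 37, 2, 90, [3948, 3932, 3948]⟩) (.leaf ⟨3, 3604, 3593, 0, 0, 0, 0, 31, 0, 3593, [21283, 21337, 21338]⟩)) (.node (.leaf ⟨9, 995, 2285, 0, 0, 0, 0, 93, 0, 0, []⟩) (.leaf ⟨10, 4880, 2940, 0, 0, 0, 0, 58, 3, 4880, [28967, 15547, 17962]⟩)))) (.node (.node (.node (.leaf ⟨6, 546, 547, 0, 0, 0, 0, 93, 0, 0, []⟩) (.leaf ⟨8, 3174, 3162, 0, 0, 0, 0, 61, 0, 3162, [19257, 19291, 19286]⟩))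 (.node (.leaf ⟨8, 1867, 1846, 0, 0, 0, 0, 17, 3, 1867, [11089, 11098, 11008]⟩) (.leaf ⟨5, 4620, 4620, (-1), 0, (-1), 0, 46, 0, 4620, [27391, 27482, 27390]⟩))) (.node (.node (.leaf ⟨4, 1125, 1126, 0, 0, 0, 0, 93, 0, 0, []⟩) (.leaf ⟨0, 3865, 3865, 1, 0, 1, 0, 4, 0, 3865, [23053, 23386, 23052]⟩)) (.node (.leaf ⟨5, 2533, 2534, 0, 0, 0, 0, 93, 0, 0, []⟩) (.leaf ⟨0, 0, 0, 0, 0, 0, 0, 0, 0, 0, []⟩))))) (.node (.node (.node (.node (.leaf ⟨10, 344, 345, 0, 0, 0, 0, 93, 0, 0, []⟩) (.leaf ⟨2, 3001, 3007, 0, 0, 0, 0, 24, 0, 3007, [18249, 18267, 18234]⟩)) (.node (.leaf ⟨11, 1688, 1688, 1, 0, (-1), 0, 50, 3, 1688, [9909, 10074, 9908]⟩) (.leaf ⟨7, 869, 4463, 0, 0, 0, 0, 93, 0, 0, []⟩))) (.node (.node (.leaf ⟨2, 926, 934, 0, 0, 0, 0, 93, 0, 0, []⟩) (.leaf ⟨2, 3717, 3717, 1, 0, 1, 0,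 26, 0, 3717, [21819, 21946, 21818]⟩)) (.node (.leaf ⟨10, 1613, 1613, 1, 0, 1, 0, 65, 4, 555, [9186, 3001, 14170, 3000, 9186]⟩) (.leaf ⟨5, 4251, 5092, 0, 0, 0, 0, 93, 0, 0, []⟩)))) (.node (.node (.node (.leaf ⟨3, 90, 90, (-17), 0, (-5), 0, 66, 30, 665, [3685, 3688, 3692, 3683, 865, 3890, 1414, 3894, 3896, 401, 3780, 3898, 3900, 3902, 290, 283, 337, 2939, 3816, 2937, 2863, 2778, 3904, 3906, 2776, 3870, 3908, 326, 2576, 2584, 2578, 386, 388, 3910, 3834, 3912, 3914, 3916, 3918, 3920, 3833, 3777, 3702, 1236, 3922, 3924, 3926, 1241, 3928, 3930, 1323, 3392, 3388, 3378, 1315, 802, 3703, 3698, 3683, 437, 433, 870, 430]⟩) (.leaf ⟨1, 3228, 3245, 0, 0, 0, 0, 15, 0, 3245, [19633, 20315, 19584]⟩)) (.node (.leaf ⟨1, 2051, 1964, 0, 0, 0, 0, 16, 0, 1964, [11509, 12123, 12032]⟩) (.leaf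 ⟨3, 4009, 4794, 0, 0, 0, 0, 37, 0, 4794, [28485, 28507, 23972]⟩))) (.node (.node (.leaf ⟨5, 1364, 1365, 0, 0, 0, 0, 93, 0, 0, []⟩) (.leaf ⟨4, 4084, 4085, 0, 0, 0, 0, 93, 0, 0, []⟩)) (.node (.leaf ⟨11, 2418, 2454, 12, 0, 18, 0, 68, 8, 2698, [16169, 4917, 3237, 3260, 16170, 16173, 3554, 14112, 8881, 14180, 4118, 4622, 4625, 4392, 16175, 14139, 14131, 16180, 14129, 14123, 3547, 16183, 3227, 9380, 4974, 3228, 2364, 2316, 2244, 2206, 2163, 3176, 2204, 2159, 1915, 1913, 1911, 421, 826, 4870, 16184, 4874, 16186, 16188, 4874, 16190, 4873, 849, 819, 3368, 425, 1438, 1432, 424, 2155, 2796, 2802, 3100, 3102, 3104, 4206, 3106, 3170, 4470, 4156, 5034, 4460, 4454, 4598, 4604, 4606, 4614, 15909, 4184, 4183, 15661, 14152, 3248, 14680, 15662, 14184, 16192, 16208, 16212, 14691, 16214,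 16217, 16174, 16218]⟩) (.leaf ⟨0, 0, 0, 0, 0, 0, 0, 0, 0, 0, []⟩))))))

def factsPart175 : ATree TFact :=
  .node (.node (.node (.node (.node (.node (.leaf ⟨7, 4, 4, 1, 0, 1, 0, 40, 3, 4, [7, 348, 6]⟩) (.leaf ⟨3, 2753, 2760, 0, 0, 0, 0, 33, 0, 2760, [16725, 16733, 16682]⟩)) (.node (.leaf ⟨5, 1489, 1490, 0, 0, 0, 0, 93, 0, 0, []⟩) (.leaf ⟨3, 4187, 4191, 0, 0, 0, 0, 33, 2, 438, [24908, 2349, 24924]⟩))) (.node (.node (.leaf ⟨3, 735, 729, 27, 0, 1, 0, 33, 0, 729, [4413, 4422, 4444]⟩) (.leaf ⟨5, 3469, 3470, 0, 0, 0, 0, 93, 0, 0, []⟩)) (.node (.leaf ⟨4, 2165, 2177, 0, 0, 0, 0, 93, 0, 0, []⟩) (.leaf ⟨6, 4886, 4887, 0, 0, 0, 0, 93, 0, 0, []⟩)))) (.node (.node (.node (.leaf ⟨10, 451, 452, 0, 0, 0, 0, 93, 0, 0, []⟩) (.leaf ⟨6, 882, 882, (-1), 0, (-1), 0, 54, 0, 882, [5583, 18780,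 5582]⟩)) (.node (.leaf ⟨2, 1155, 1725, 0, 0, 0, 0, 28, 2, 1154, [7120, 7119, 10156]⟩) (.leaf ⟨6, 4550, 4551, 0, 0, 0, 0, 93, 0, 0, []⟩))) (.node (.node (.leaf ⟨8, 302, 284, 0, 0, 0, 0, 26, 3, 302, [1773, 6492, 1728]⟩) (.leaf ⟨10, 3832, 3825, 0, 0, 0, 0, 54, 3, 3832, [22875, 18849, 22850]⟩)) (.node (.leaf ⟨11, 789, 2457, 0, 0, 0, 0, 93, 0, 0, []⟩) (.leaf ⟨9, 125, 125, (-1), 0, (-1), 0, 57, 3, 125, [519, 21832, 518]⟩))))) (.node (.node (.node (.node (.leaf ⟨2, 83, 83, 1, 0, 1, 0, 23, 0, 83, [369, 1372, 368]⟩) (.leaf ⟨2, 2908, 2901, 0, 0, 0, 0, 24, 0, 2901, [17699, 17755, 17756]⟩)) (.node (.leaf ⟨9, 1635, 1641, 0, 0, 0, 0, 53, 3, 1635, [9545, 9562, 9564]⟩) (.leaf ⟨11, 4370, 742, 1, 0, 5, 0, 44, 3, 4370, [25949, 25911, 4616]⟩))) (.node (.node (.leaf ⟨8, 538, 538, 1, 0, (-1),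 0, 47, 3, 538, [2883, 5468, 2882]⟩) (.leaf ⟨6, 3717, 3717, 1, 0, 1, 0, 52, 0, 3717, [21819, 21852, 21818]⟩)) (.node (.leaf ⟨6, 1070, 1070, 1, 0, 1, 0, 32, 3, 1070, [6697, 13660, 6696]⟩) (.leaf ⟨3, 4996, 1634, 0, 0, 0, 0, 33, 0, 1634, [9543, 30045, 30028]⟩)))) (.node (.node (.node (.leaf ⟨11, 165, 625, 0, 0, 0, 0, 50, 3, 165, [927, 3420, 3412]⟩) (.leaf ⟨5, 3277, 3277, 1, 0, (-1), 0, 46, 0, 3277, [19783, 19804, 19782]⟩)) (.node (.leaf ⟨2, 555, 679, 0, 0, 0, 0, 28, 2, 552, [3000, 2979, 4066]⟩) (.leaf ⟨6, 4707, 4708, 0, 0, 0, 0, 93, 0, 0, []⟩))) (.node (.node (.leaf ⟨11, 1241, 1236, 0, 0, 0, 0, 50, 3, 1241, [7509, 7516, 7464]⟩) (.leaf ⟨3, 3859, 3859, 1, 0, (-1), 0, 36, 0, 3859, [23041, 23900, 23040]⟩)) (.node (.leaf ⟨2, 1100, 1384, (-35), 0, (-7), 0, 22, 0, 1384, [8220,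 2676, 15708]⟩) (.leaf ⟨0, 0, 0, 0, 0, 0, 0, 0, 0, 0, []⟩)))))) (.node (.node (.node (.node (.node (.leaf ⟨4, 101, 146, 0, 0, 0, 0, 40, 2, 100, [432, 429, 818]⟩) (.leaf ⟨4, 2768, 2768, 1, 0, (-1), 0, 42, 0, 2768, [16781, 16966, 16780]⟩)) (.node (.leaf ⟨5, 1599, 1600, 0, 0, 0, 0, 93, 0, 0, []⟩) (.leaf ⟨7, 4281, 4289, 0, 0, 0, 0, 33, 3, 4281, [25413, 25434, 25436]⟩))) (.node (.node (.leaf ⟨3, 470, 470, (-17), 0, (-5), 0, 36, 2, 469, [2452, 4956, 2452]⟩) (.leaf ⟨10, 3604, 3605, 0, 0, 0, 0, 93, 0, 0, []⟩)) (.node (.leaf ⟨10, 2285, 2286, 0, 0, 0, 0, 93, 0, 0, []⟩) (.leaf ⟨7, 4923, 4927, 0, 0, 0, 0, 93, 0, 0, []⟩)))) (.node (.node (.node (.leaf ⟨10, 540, 546, 0, 0, 0, 0, 58, 3, 540, [2895, 2893, 2906]⟩) (.leaf ⟨1, 3174, 555, 0, 0, 0, 0, 19, 2, 2423, [19286, 14281, 3000]⟩))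 (.node (.leaf ⟨9, 1790, 1846, 73, 0, (-33), 0, 60, 3, 1852, [11040, 11050, 11071, 11090, 11100]⟩) (.leaf ⟨6, 4622, 4622, (-1), 0, (-1), 0, 45, 5, 4622, [27395, 27393, 27484, 27392, 27394]⟩))) (.node (.node (.leaf ⟨10, 1126, 1127, 0, 0, 0, 0, 93, 0, 0, []⟩) (.leaf ⟨0, 3866, 3866, (-1), 0, (-1), 0, 9, 0, 3866, [23055, 23388, 23054]⟩)) (.node (.leaf ⟨4, 2534, 2535, 0, 0, 0, 0, 93, 0, 0, []⟩) (.leaf ⟨0, 0, 0, 0, 0, 0, 0, 0, 0, 0, []⟩))))) (.node (.node (.node (.node (.leaf ⟨5, 345, 346, 0, 0, 0, 0, 93, 0, 0, []⟩) (.leaf ⟨2, 3002, 3008, 0, 0, 0, 0, 23, 0, 3008, [18251, 18269, 18236]⟩)) (.node (.leaf ⟨11, 1711, 1711, 1, 0, 1, 0, 44, 3, 1711, [10047, 10076, 10046]⟩) (.leaf ⟨6, 4463, 4464, 0, 0, 0, 0, 93, 0, 0, []⟩))) (.node (.node (.leaf ⟨9, 934, 935, 0, 0, 0, 0, 93, 0, 0,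 []⟩) (.leaf ⟨3, 3717, 3717, 1, 0, 1, 0, 34, 0, 3717, [21819, 21950, 21818]⟩)) (.node (.leaf ⟨7, 1613, 1613, (-1), 0, 1, 0, 59, 0, 1613, [9187, 9338, 9186]⟩) (.leaf ⟨9, 3051, 5092, 0, 0, 0, 0, 48, 3, 3051, [18437, 26675, 30556]⟩)))) (.node (.node (.node (.leaf ⟨4, 83, 83, (-17), 0, (-5), 0, 30, 3, 90, [389, 410, 3932, 389, 410]⟩) (.leaf ⟨1, 3229, 3246, 0, 0, 0, 0, 14, 0, 3246, [19635, 20317, 19586]⟩)) (.node (.leaf ⟨1, 2052, 2068, 0, 0, 0, 0, 15, 0, 2068, [12111, 12125, 12034]⟩) (.leaf ⟨3, 4010, 4795, 0, 0, 0, 0, 33, 0, 4795, [28489, 28509, 23974]⟩))) (.node (.node (.leaf ⟨4, 1365, 1366, 0, 0, 0, 0, 93, 0, 0, []⟩) (.leaf ⟨3, 4085, 4086, 0, 0, 0, 0, 93, 0, 0, []⟩)) (.node (.leaf ⟨11, 2450, 2410, (-12), 0, (-18), 0, 20, 3, 2450, [16166, 16221, 14227]⟩) (.leaf ⟨0, 0, 0,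 0, 0, 0, 0, 0, 0, 0, []⟩))))))

def factsPart176 : ATree TFact :=
  .node (.node (.node (.node (.node (.node (.leaf ⟨7, 5, 5, 1, 0, (-1), 0, 46, 3, 5, [9, 350, 8]⟩) (.leaf ⟨7, 393, 2761, 0, 0, 0, 0, 93, 0, 0, []⟩)) (.node (.leaf ⟨4, 1490, 1491, 0, 0, 0, 0, 93, 0, 0, []⟩) (.leaf ⟨6, 4191, 4192, 0, 0, 0, 0, 93, 0, 0, []⟩))) (.node (.node (.leaf ⟨4, 606, 734, 0, 0, 0, 0, 44, 0, 734, [4439, 4222, 3292]⟩) (.leaf ⟨3, 3470, 3462, 0, 0, 0, 0, 31, 0, 3462, [20799, 20829, 20830]⟩)) (.node (.leaf ⟨7, 2177, 2178, 0, 0, 0, 0, 93, 0, 0, []⟩) (.leaf ⟨2, 1157, 1405, (-41), 0, (-15), 0, 25, 2, 755, [7148, 4804, 15705]⟩)))) (.node (.node (.node (.leaf ⟨5, 452, 453, 0, 0, 0, 0, 93, 0, 0, []⟩) (.leaf ⟨7, 3100, 3100, (-1), 0, (-1), 0, 51, 5, 3100, [18769, 5715, 18782, 5714, 18768]⟩)) (.node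 (.leaf ⟨2, 1726, 1775, 0, 0, 0, 0, 29, 0, 1775, [10589, 10590, 10158]⟩) (.leaf ⟨5, 4551, 4552, 0, 0, 0, 0, 93, 0, 0, []⟩))) (.node (.node (.leaf ⟨1, 262, 284, (-8), 0, (-22), 0, 17, 2, 291, [1750, 6487, 6494]⟩) (.leaf ⟨10, 3833, 3826, 0, 0, 0, 0, 61, 3, 3833, [22877, 22878, 22852]⟩)) (.node (.leaf ⟨2, 2457, 2455, 0, 0, 0, 0, 29, 0, 2455, [14671, 14684, 14686]⟩) (.leaf ⟨9, 126, 126, (-1), 0, 1, 0, 53, 3, 126, [521, 31070, 520]⟩))))) (.node (.node (.node (.node (.leaf ⟨2, 84, 84, (-1), 0, (-1), 0, 25, 0, 84, [371, 1374, 370]⟩) (.leaf ⟨9, 2906, 2383, 0, 0, 0, 0, 63, 2, 2587, [17748, 15449, 13772]⟩)) (.node (.leaf ⟨4, 1164, 1642, 0, 0, 0, 0, 93, 0, 0, []⟩) (.leaf ⟨10, 744, 4370, (-3), 0, 3, 0, 43, 3, 744, [4627, 14653, 25948]⟩))) (.node (.node (.leaf ⟨8, 539, 539, (-1),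 0, 1, 0, 61, 0, 539, [2893, 5470, 2892]⟩) (.leaf ⟨7, 2793, 3719, 0, 0, 0, 0, 93, 0, 0, []⟩)) (.node (.leaf ⟨6, 1071, 1071, (-1), 0, (-1), 0, 54, 0, 1071, [6699, 13662, 6698]⟩) (.leaf ⟨3, 1762, 4940, 73, 0, (-33), 0, 34, 0, 4940, [30039, 30046, 10700]⟩)))) (.node (.node (.node (.leaf ⟨4, 618, 625, 21, 0, (-1), 0, 44, 0, 625, [3423, 1114, 3358]⟩) (.leaf ⟨6, 3279, 3279, 1, 0, (-1), 0, 45, 5, 3279, [19787, 19785, 19806, 19784, 19786]⟩)) (.node (.leaf ⟨2, 680, 1613, 0, 0, 0, 0, 29, 0, 1613, [9187, 11614, 4068]⟩) (.leaf ⟨1, 4708, 4254, 0, 0, 0, 0, 15, 0, 4254, [25335, 27997, 27998]⟩))) (.node (.node (.leaf ⟨11, 1242, 1237, 0, 0, 0, 0, 59, 3, 1242, [7511, 7518, 7466]⟩) (.leaf ⟨3, 3996, 3996, (-1), 0, 1, 0, 31, 0, 3996, [23839, 23902, 23838]⟩)) (.node (.leaf ⟨10, 1383, 1383,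 (-1), 0, (-1), 0, 43, 3, 1383, [8073, 13310, 8072]⟩) (.leaf ⟨0, 0, 0, 0, 0, 0, 0, 0, 0, 0, []⟩)))))) (.node (.node (.node (.node (.node (.leaf ⟨4, 148, 102, 0, 0, 0, 0, 39, 0, 102, [437, 862, 840]⟩) (.leaf ⟨4, 2769, 2769, (-1), 0, 1, 0, 40, 0, 2769, [16789, 17246, 16788]⟩)) (.node (.leaf ⟨10, 1157, 1601, 0, 0, 0, 0, 93, 0, 0, []⟩) (.leaf ⟨6, 3588, 4290, 0, 0, 0, 0, 93, 0, 0, []⟩))) (.node (.node (.leaf ⟨7, 614, 614, 1, 0, 1, 0, 46, 3, 614, [3337, 4866, 3336]⟩) (.leaf ⟨3, 3605, 3596, 0, 0, 0, 0, 36, 0, 3596, [21303, 21341, 21342]⟩)) (.node (.leaf ⟨11, 163, 1012, 0, 0, 0, 0, 62, 3, 163, [923, 3420, 6382]⟩) (.leaf ⟨10, 4927, 2936, 0, 0, 0, 0, 58, 3, 4927, [29535, 29525, 17936]⟩)))) (.node (.node (.node (.leaf ⟨10, 547, 541, 0, 0, 0, 0, 54, 3, 547, [2909, 2911, 2896]⟩) (.leaf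 ⟨6, 1714, 3174, 27, 0, 1, 0, 15, 3, 1714, [10247, 9191, 19295]⟩)) (.node (.leaf ⟨9, 1847, 1791, (-73), 0, 33, 0, 57, 3, 1847, [11011, 11103, 10738]⟩) (.leaf ⟨6, 4623, 4623, (-1), 0, 1, 0, 39, 3, 4623, [27397, 27486, 27396]⟩))) (.node (.node (.leaf ⟨5, 1127, 1128, 0, 0, 0, 0, 93, 0, 0, []⟩) (.leaf ⟨1, 2291, 418, 0, 0, 0, 0, 18, 0, 418, [2263, 17741, 13176]⟩)) (.node (.leaf ⟨3, 2535, 2536, 0, 0, 0, 0, 93, 0, 0, []⟩) (.leaf ⟨0, 0, 0, 0, 0, 0, 0, 0, 0, 0, []⟩))))) (.node (.node (.node (.node (.leaf ⟨6, 346, 347, 0, 0, 0, 0, 93, 0, 0, []⟩) (.leaf ⟨2, 3003, 3009, 0, 0, 0, 0, 22, 0, 3009, [18253, 18271, 18238]⟩)) (.node (.leaf ⟨10, 1713, 1713, 1, 0, 1, 0, 65, 4, 1712, [10050, 10049, 10078, 10048, 10050]⟩) (.leaf ⟨7, 868, 4465, 0, 0, 0, 0, 93, 0, 0, []⟩))) (.node (.node (.leaf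 ⟨2, 935, 927, 0, 0, 0, 0, 27, 2, 934, [5982, 5981, 5924]⟩) (.leaf ⟨4, 3717, 3717, 1, 0, 1, 0, 41, 0, 3717, [21819, 21954, 21818]⟩)) (.node (.leaf ⟨11, 1619, 743, 0, 0, 0, 0, 50, 3, 1619, [9251, 9249, 4622]⟩) (.leaf ⟨7, 5092, 5093, 0, 0, 0, 0, 93, 0, 0, []⟩)))) (.node (.node (.node (.leaf ⟨5, 657, 657, (-17), 0, (-5), 0, 38, 3, 83, [369, 3735, 3934, 369, 3735]⟩) (.leaf ⟨4, 3230, 3229, 73, 0, (-19), 0, 13, 3, 3230, [19612, 20307, 20319]⟩)) (.node (.leaf ⟨1, 2053, 2069, 0, 0, 0, 0, 17, 0, 2069, [12113, 12127, 12036]⟩) (.leaf ⟨3, 4764, 4796, 0, 0, 0, 0, 32, 0, 4796, [28493, 28511, 28218]⟩))) (.node (.node (.leaf ⟨3, 1366, 1367, 0, 0, 0, 0, 93, 0, 0, []⟩) (.leaf ⟨11, 2675, 4087, 0, 0, 0, 0, 93, 0, 0, []⟩)) (.node (.leaf ⟨6, 1415, 1415, 1, 0, (-1), 0, 54, 0, 1415, [8157, 9164,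 8156]⟩) (.leaf ⟨0, 0, 0, 0, 0, 0, 0, 0, 0, 0, []⟩))))))

def factsPart177 : ATree TFact :=
  .node (.node (.node (.node (.node (.node (.leaf ⟨7, 78, 78, 1, 0, 1, 0, 6, 3, 78, [323, 352, 322]⟩) (.leaf ⟨2, 2760, 2761, 21, 0, (-1), 0, 25, 2, 390, [16724, 2109, 16736]⟩)) (.node (.leaf ⟨3, 1491, 1492, 0, 0, 0, 0, 93, 0, 0, []⟩) (.leaf ⟨3, 4192, 4188, 0, 0, 0, 0, 32, 0, 4188, [24913, 24926, 24928]⟩))) (.node (.node (.leaf ⟨5, 606, 606, 1, 0, (-1), 0, 50, 0, 606, [3293, 4218, 3292]⟩) (.leaf ⟨4, 3470, 3471, 0, 0, 0, 0, 93, 0, 0, []⟩)) (.node (.leaf ⟨6, 2178, 2179, 0, 0, 0, 0, 93, 0, 0, []⟩) (.leaf ⟨7, 1595, 2703, (-17), 0, (-9), 0, 40, 3, 1595, [9011, 14623, 16234]⟩)))) (.node (.node (.node (.leaf ⟨4, 453, 454, 0, 0, 0, 0, 93, 0, 0, []⟩) (.leaf ⟨7, 3101, 3101, (-1), 0, 1, 0,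 46, 3, 3101, [18771, 18784, 18770]⟩)) (.node (.leaf ⟨2, 1771, 1576, 0, 0, 0, 0, 28, 2, 1770, [10560, 10559, 8906]⟩) (.leaf ⟨8, 4550, 4537, 0, 0, 0, 0, 56, 5, 4550, [26973, 26011, 3270, 15914, 26914]⟩))) (.node (.node (.leaf ⟨1, 285, 263, 8, 0, 22, 0, 16, 2, 284, [1730, 6497, 1638]⟩) (.leaf ⟨5, 3832, 3832, (-1), 0, 1, 0, 45, 0, 3832, [22875, 5815, 5810, 5814, 22874]⟩)) (.node (.leaf ⟨5, 2457, 2458, 0, 0, 0, 0, 93, 0, 0, []⟩) (.leaf ⟨9, 127, 127, (-1), 0, (-1), 0, 48, 3, 127, [523, 31072, 522]⟩))))) (.node (.node (.node (.node (.leaf ⟨2, 86, 86, 1, 0, 1, 0, 24, 0, 86, [379, 1376, 378]⟩) (.leaf ⟨9, 2384, 2907, 0, 0, 0, 0, 48, 3, 2384, [13775, 17761, 17752]⟩)) (.node (.leaf ⟨7, 1642, 1643, 0, 0, 0, 0, 93, 0, 0, []⟩) (.leaf ⟨11, 589, 744, (-27), 0, (-1), 0, 44, 3, 589, [9257,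 14176, 4626]⟩))) (.node (.node (.leaf ⟨7, 857, 857, (-1), 0, 1, 0, 56, 4, 540, [5460, 2895, 5472, 2894, 5460]⟩) (.leaf ⟨8, 3719, 3720, 0, 0, 0, 0, 93, 0, 0, []⟩)) (.node (.leaf ⟨6, 1782, 1782, 1, 0, 1, 0, 55, 0, 1782, [10637, 13664, 10636]⟩) (.leaf ⟨3, 4941, 1763, (-73), 0, 33, 0, 32, 2, 4940, [29580, 30049, 10426]⟩)))) (.node (.node (.node (.leaf ⟨4, 622, 617, (-21), 0, 1, 0, 13, 3, 622, [3415, 3425, 3362]⟩) (.leaf ⟨7, 2135, 3281, 0, 0, 0, 0, 93, 0, 0, []⟩)) (.node (.leaf ⟨4, 1613, 1613, (-1), 0, (-1), 0, 22, 3, 1613, [11617, 4086, 11616]⟩) (.leaf ⟨8, 4708, 4709, 0, 0, 0, 0, 93, 0, 0, []⟩))) (.node (.node (.leaf ⟨2, 322, 1243, 0, 0, 0, 0, 93, 0, 0, []⟩) (.leaf ⟨3, 3997, 3997, 1, 0, (-1), 0, 33, 0, 3997, [23841, 23904, 23840]⟩)) (.node (.leaf ⟨10, 1384, 1384, (-1), 0,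 1, 0, 58, 3, 1384, [8075, 15712, 8074]⟩) (.leaf ⟨0, 0, 0, 0, 0, 0, 0, 0, 0, 0, []⟩)))))) (.node (.node (.node (.node (.node (.leaf ⟨4, 149, 103, 0, 0, 0, 0, 41, 0, 103, [441, 865, 842]⟩) (.leaf ⟨6, 2772, 2819, 0, 0, 0, 0, 93, 0, 0, []⟩)) (.node (.leaf ⟨4, 1598, 1601, 0, 0, 0, 0, 43, 2, 1158, [9032, 7139, 9056]⟩) (.leaf ⟨5, 4290, 4283, 0, 0, 0, 0, 45, 4, 3588, [25440, 21267, 12418, 11456, 25416]⟩))) (.node (.node (.leaf ⟨7, 615, 615, (-1), 0, (-1), 0, 58, 0, 615, [3339, 4960, 3338]⟩) (.leaf ⟨7, 3605, 3606, 0, 0, 0, 0, 93, 0, 0, []⟩)) (.node (.leaf ⟨11, 164, 1013, 0, 0, 0, 0, 50, 3, 164, [925, 13152, 6384]⟩) (.leaf ⟨5, 4925, 4927, 0, 0, 0, 0, 46, 2, 4924, [29528, 29527, 29534]⟩)))) (.node (.node (.node (.leaf ⟨7, 537, 548, 0, 0, 0, 0, 93, 0, 0, []⟩) (.leaf ⟨8, 1712, 3169,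 0, 0, 0, 0, 61, 0, 3169, [19277, 10955, 10048]⟩)) (.node (.leaf ⟨3, 231, 1868, 0, 0, 0, 0, 93, 0, 0, []⟩) (.leaf ⟨6, 4626, 4626, (-1), 0, (-1), 0, 32, 3, 4626, [27403, 27488, 27402]⟩))) (.node (.node (.leaf ⟨7, 1128, 1129, 0, 0, 0, 0, 93, 0, 0, []⟩) (.leaf ⟨1, 2292, 419, 0, 0, 0, 0, 19, 0, 419, [2265, 23393, 13178]⟩)) (.node (.leaf ⟨2, 2536, 2537, 0, 0, 0, 0, 93, 0, 0, []⟩) (.leaf ⟨0, 0, 0, 0, 0, 0, 0, 0, 0, 0, []⟩))))) (.node (.node (.node (.node (.leaf ⟨7, 347, 348, 0, 0, 0, 0, 93, 0, 0, []⟩) (.leaf ⟨2, 3004, 3010, 0, 0, 0, 0, 28, 0, 3010, [18255, 18273, 18240]⟩)) (.node (.leaf ⟨5, 1712, 1715, 0, 0, 0, 0, 93, 0, 0, []⟩) (.leaf ⟨5, 4463, 4465, 0, 0, 0, 0, 46, 2, 869, [26460, 5543, 26464]⟩))) (.node (.node (.leaf ⟨2, 539, 539, 1, 0, 1, 0, 28, 0, 539, [2893, 2890, 2892]⟩)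 (.leaf ⟨8, 3727, 3757, 0, 0, 0, 0, 93, 0, 0, []⟩)) (.node (.leaf ⟨10, 1619, 2418, 0, 0, 0, 0, 93, 0, 0, []⟩) (.leaf ⟨9, 3052, 5093, 0, 0, 0, 0, 57, 3, 3052, [18439, 30558, 30560]⟩)))) (.node (.node (.node (.leaf ⟨7, 672, 672, (-1), 0, (-1), 0, 58, 0, 672, [3861, 3748, 3860]⟩) (.leaf ⟨10, 3229, 3223, (-73), 0, (-19), 0, 43, 3, 3229, [20321, 19589, 19572]⟩)) (.node (.leaf ⟨1, 2054, 2070, 0, 0, 0, 0, 14, 0, 2070, [12115, 12129, 12038]⟩) (.leaf ⟨3, 4765, 4797, 0, 0, 0, 0, 31, 0, 4797, [28497, 28513, 28220]⟩))) (.node (.node (.leaf ⟨10, 1367, 1368, 0, 0, 0, 0, 93, 0, 0, []⟩) (.leaf ⟨9, 4087, 430, 0, 0, 0, 0, 64, 0, 430, [2303, 16016, 24416]⟩)) (.node (.leaf ⟨5, 2450, 2450, 1, 0, (-1), 0, 45, 4, 1702, [14636, 10007, 16224, 10006, 14636]⟩) (.leaf ⟨0, 0, 0, 0, 0, 0, 0, 0, 0,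 0, []⟩))))))

def factsPart178 : ATree TFact :=
  .node (.node (.node (.node (.node (.node (.leaf ⟨7, 79, 79, 1, 0, (-1), 0, 16, 3, 79, [325, 354, 324]⟩) (.leaf ⟨7, 392, 2762, 0, 0, 0, 0, 93, 0, 0, []⟩)) (.node (.leaf ⟨2, 1492, 1493, 0, 0, 0, 0, 93, 0, 0, []⟩) (.leaf ⟨5, 4192, 4193, 0, 0, 0, 0, 93, 0, 0, []⟩))) (.node (.node (.leaf ⟨4, 735, 735, (-1), 0, (-1), 0, 38, 0, 735, [4443, 4449, 4450, 4448, 4442]⟩) (.leaf ⟨4, 3466, 3472, 0, 0, 0, 0, 93, 0, 0, []⟩)) (.node (.leaf ⟨8, 2179, 2180, 0, 0, 0, 0, 93, 0, 0, []⟩) (.leaf ⟨3, 1662, 724, 0, 0, 0, 0, 36, 0, 724, [4335, 9695, 9702]⟩)))) (.node (.node (.node (.leaf ⟨9, 451, 455, 0, 0, 0, 0, 93, 0, 0, []⟩) (.leaf ⟨6, 896, 3102, 0, 0, 0, 0, 93, 0, 0, []⟩)) (.node (.leaf ⟨2, 1577, 1772, 0, 0, 0, 0, 23, 0, 1772, [10563, 10594,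 8908]⟩) (.leaf ⟨8, 4551, 4538, 0, 0, 0, 0, 52, 3, 4551, [26975, 26978, 26916]⟩))) (.node (.node (.leaf ⟨1, 264, 286, (-8), 0, (-22), 0, 15, 2, 263, [1640, 6499, 1732]⟩) (.leaf ⟨5, 3833, 3833, 1, 0, (-1), 0, 47, 0, 3833, [22877, 22882, 22876]⟩)) (.node (.leaf ⟨2, 2458, 2456, 0, 0, 0, 0, 23, 0, 2456, [14673, 14689, 14690]⟩) (.leaf ⟨8, 2775, 2775, 1, 0, (-1), 0, 60, 0, 2775, [16833, 15068, 31074, 15069, 16832]⟩))))) (.node (.node (.node (.node (.leaf ⟨2, 87, 87, (-1), 0, (-1), 0, 26, 0, 87, [381, 1378, 380]⟩) (.leaf ⟨9, 2385, 2908, 0, 0, 0, 0, 53, 3, 2385, [13777, 17762, 17756]⟩)) (.node (.leaf ⟨6, 1643, 1644, 0, 0, 0, 0, 93, 0, 0, []⟩) (.leaf ⟨10, 742, 2456, 29, 0, 1, 0, 65, 4, 4370, [25950, 25953, 25955, 3250, 14675]⟩))) (.node (.node (.leaf ⟨7, 858, 858, 1, 0, (-1),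 0, 57, 0, 858, [5465, 5474, 5464]⟩) (.leaf ⟨5, 2793, 3715, 0, 0, 0, 0, 48, 2, 182, [16936, 1225, 21814]⟩)) (.node (.leaf ⟨1, 1738, 463, 0, 0, 0, 0, 19, 2, 1737, [10212, 10211, 2426]⟩) (.leaf ⟨3, 4932, 4968, (-54), 0, (-44), 0, 33, 0, 4968, [30021, 30051, 29634]⟩)))) (.node (.node (.node (.leaf ⟨2, 8, 8, (-1), 0, 1, 0, 29, 0, 8, [15, 716, 14]⟩) (.leaf ⟨4, 3281, 3277, (-21), 0, 1, 0, 40, 2, 2135, [19810, 12377, 19782]⟩)) (.node (.leaf ⟨10, 738, 738, (-1), 0, 1, 0, 49, 5, 738, [4599, 4221, 4146, 4220, 4598]⟩) (.leaf ⟨1, 4709, 4255, 0, 0, 0, 0, 17, 0, 4255, [25337, 28001, 28002]⟩))) (.node (.node (.leaf ⟨9, 1243, 1244, 0, 0, 0, 0, 93, 0, 0, []⟩) (.leaf ⟨3, 3998, 3998, (-1), 0, 1, 0, 32, 0, 3998, [23845, 23906, 23844]⟩)) (.node (.leaf ⟨4, 306, 306, 1, 0, (-1), 0, 43, 0, 306,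 [1791, 9284, 1790]⟩) (.leaf ⟨0, 0, 0, 0, 0, 0, 0, 0, 0, 0, []⟩)))))) (.node (.node (.node (.node (.node (.leaf ⟨2, 108, 108, 1, 0, 1, 0, 23, 2, 109, [457, 804, 457]⟩) (.leaf ⟨6, 389, 389, (-1), 0, 1, 0, 53, 0, 389, [2089, 16960, 2088]⟩)) (.node (.leaf ⟨11, 1601, 1602, 0, 0, 0, 0, 93, 0, 0, []⟩) (.leaf ⟨10, 3984, 4291, 0, 0, 0, 0, 93, 0, 0, []⟩))) (.node (.node (.leaf ⟨6, 614, 614, 1, 0, 1, 0, 45, 5, 614, [3337, 2167, 2206, 2166, 3336]⟩) (.leaf ⟨3, 3606, 3597, 0, 0, 0, 0, 33, 0, 3597, [21317, 21345, 21346]⟩)) (.node (.leaf ⟨4, 1017, 2287, 0, 0, 0, 0, 93, 0, 0, []⟩) (.leaf ⟨10, 4881, 4925, 3, 0, (-3), 0, 49, 3, 2940, [29533, 29007, 17967, 29537, 29539]⟩)))) (.node (.node (.node (.leaf ⟨5, 546, 548, 0, 0, 0, 0, 46, 2, 538, [2906, 2883, 2914]⟩) (.leaf ⟨8, 1713, 3170, 0,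 0, 0, 0, 62, 0, 3170, [19279, 19299, 10050]⟩)) (.node (.leaf ⟨2, 1868, 1869, 0, 0, 0, 0, 93, 0, 0, []⟩) (.leaf ⟨6, 4627, 4627, 1, 0, 1, 0, 54, 0, 4627, [27405, 27490, 27404]⟩))) (.node (.node (.leaf ⟨6, 1129, 1130, 0, 0, 0, 0, 93, 0, 0, []⟩) (.leaf ⟨1, 2293, 3600, 0, 0, 0, 0, 14, 0, 3600, [21323, 23395, 13182]⟩)) (.node (.leaf ⟨9, 2537, 2538, 0, 0, 0, 0, 93, 0, 0, []⟩) (.leaf ⟨0, 0, 0, 0, 0, 0, 0, 0, 0, 0, []⟩))))) (.node (.node (.node (.node (.leaf ⟨2, 254, 332, 0, 0, 0, 0, 27, 2, 253, [1620, 1619, 1858]⟩) (.leaf ⟨6, 899, 3011, 0, 0, 0, 0, 93, 0, 0, []⟩)) (.node (.leaf ⟨4, 1712, 1689, 0, 0, 0, 0, 43, 2, 1711, [10048, 10047, 9910]⟩) (.leaf ⟨6, 4465, 4465, 1, 0, (-1), 0, 51, 0, 4465, [26465, 5558, 18678, 5559, 26464]⟩))) (.node (.node (.leaf ⟨2, 540, 540, (-1), 0, (-1),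 0, 25, 0, 540, [2895, 5986, 2894]⟩) (.leaf ⟨6, 3757, 3720, 0, 0, 0, 0, 52, 2, 3727, [22370, 21957, 21858]⟩)) (.node (.leaf ⟨11, 600, 600, 1, 0, (-1), 0, 37, 3, 600, [3255, 13996, 3254]⟩) (.leaf ⟨8, 5093, 5094, 0, 0, 0, 0, 93, 0, 0, []⟩)))) (.node (.node (.node (.leaf ⟨6, 658, 658, 1, 0, (-1), 0, 51, 0, 658, [3659, 3863, 3938, 3862, 3658]⟩) (.leaf ⟨10, 3226, 3356, 0, 0, 0, 0, 93, 0, 0, []⟩)) (.node (.leaf ⟨1, 2055, 2071, 0, 0, 0, 0, 13, 0, 2071, [12117, 12131, 12040]⟩) (.leaf ⟨3, 4766, 4798, 0, 0, 0, 0, 36, 0, 4798, [28501, 28515, 28222]⟩))) (.node (.node (.leaf ⟨5, 1368, 1369, 0, 0, 0, 0, 93, 0, 0, []⟩) (.leaf ⟨2, 2131, 4087, 0, 0, 0, 0, 29, 0, 4087, [24417, 16006, 12348]⟩)) (.node (.leaf ⟨4, 2450, 2702, 0, 0, 0, 0, 93, 0, 0, []⟩) (.leaf ⟨0, 0, 0, 0, 0, 0, 0, 0, 0, 0,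 []⟩))))))

def factsPart179 : ATree TFact :=
  .node (.node (.node (.node (.node (.node (.leaf ⟨7, 80, 80, 1, 0, 1, 0, 25, 3, 80, [327, 356, 326]⟩) (.leaf ⟨9, 2761, 2762, 0, 0, 0, 0, 57, 3, 2761, [16737, 2097, 16740]⟩)) (.node (.leaf ⟨7, 1493, 1494, 0, 0, 0, 0, 93, 0, 0, []⟩) (.leaf ⟨3, 4193, 4189, 0, 0, 0, 0, 31, 0, 4189, [24917, 24931, 24932]⟩))) (.node (.node (.leaf ⟨6, 686, 696, 0, 0, 0, 0, 54, 0, 696, [4221, 4149, 4156]⟩) (.leaf ⟨10, 3472, 3473, 0, 0, 0, 0, 93, 0, 0, []⟩)) (.node (.leaf ⟨4, 2178, 2166, 0, 0, 0, 0, 40, 2, 2177, [12640, 12639, 12592]⟩) (.leaf ⟨11, 1662, 4888, 0, 0, 0, 0, 93, 0, 0, []⟩)))) (.node (.node (.node (.leaf ⟨10, 455, 456, 0, 0, 0, 0, 93, 0, 0, []⟩) (.leaf ⟨10, 3102, 3100, 0, 0, 0, 0, 54, 3, 3102, [18789, 5717, 18768]⟩)) (.node (.leaf ⟨2,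 1578, 1773, 0, 0, 0, 0, 24, 0, 1773, [10565, 10597, 8910]⟩) (.leaf ⟨8, 4552, 4539, 0, 0, 0, 0, 47, 3, 4552, [26977, 26980, 26918]⟩))) (.node (.node (.leaf ⟨1, 287, 265, 8, 0, 22, 0, 14, 2, 286, [1734, 6501, 1642]⟩) (.leaf ⟨10, 3827, 3827, 1, 0, (-1), 0, 49, 5, 3827, [22855, 22881, 22884, 22880, 22854]⟩)) (.node (.leaf ⟨0, 600, 600, (-1), 0, (-1), 0, 2, 0, 600, [3255, 14014, 3254]⟩) (.leaf ⟨8, 2776, 2776, (-1), 0, 1, 0, 61, 0, 2776, [16835, 31076, 16834]⟩))))) (.node (.node (.node (.node (.leaf ⟨5, 71, 71, 1, 0, (-1), 0, 23, 3, 71, [279, 826, 278]⟩) (.leaf ⟨9, 1893, 2378, 0, 0, 0, 0, 63, 2, 1636, [11194, 9547, 13754]⟩)) (.node (.leaf ⟨1, 1412, 1645, 0, 0, 0, 0, 93, 0, 0, []⟩) (.leaf ⟨6, 782, 782, 1, 0, (-1), 0, 54, 0, 782, [4917, 9384, 4916]⟩))) (.node (.node (.leaf ⟨6,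 856, 856, (-1), 0, (-1), 0, 51, 0, 856, [5459, 5467, 5476, 5466, 5458]⟩) (.leaf ⟨5, 3716, 3719, 0, 0, 0, 0, 46, 0, 3719, [21857, 21860, 21816]⟩)) (.node (.leaf ⟨1, 589, 1777, 0, 0, 0, 0, 14, 0, 1777, [10619, 13668, 3216]⟩) (.leaf ⟨3, 4975, 4937, 54, 0, 44, 0, 35, 2, 4968, [29770, 30053, 29572]⟩)))) (.node (.node (.node (.leaf ⟨2, 9, 9, 1, 0, (-1), 0, 23, 0, 9, [17, 3428, 16]⟩) (.leaf ⟨6, 3281, 3282, 0, 0, 0, 0, 93, 0, 0, []⟩)) (.node (.leaf ⟨5, 647, 647, 1, 0, (-1), 0, 50, 0, 647, [3589, 4496, 3588]⟩) (.leaf ⟨5, 4709, 4710, 0, 0, 0, 0, 93, 0, 0, []⟩))) (.node (.node (.leaf ⟨10, 1244, 1245, 0, 0, 0, 0, 93, 0, 0, []⟩) (.leaf ⟨3, 3999, 3999, 1, 0, (-1), 0, 31, 0, 3999, [23847, 23908, 23846]⟩)) (.node (.leaf ⟨3, 518, 518, 1, 0, (-1), 0, 30, 0, 518, [2701, 9655, 9644, 9654,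 2700]⟩) (.leaf ⟨0, 0, 0, 0, 0, 0, 0, 0, 0, 0, []⟩)))))) (.node (.node (.node (.node (.node (.leaf ⟨10, 100, 100, 1, 0, (-1), 0, 43, 3, 100, [429, 828, 428]⟩) (.leaf ⟨7, 2819, 2819, (-1), 0, 1, 0, 51, 5, 2819, [17251, 16813, 17252, 16812, 17250]⟩)) (.node (.leaf ⟨4, 1602, 1599, 0, 0, 0, 0, 44, 0, 1599, [9035, 9058, 9060]⟩) (.leaf ⟨4, 4291, 424, 0, 0, 0, 0, 43, 0, 424, [2283, 23789, 25444]⟩))) (.node (.node (.leaf ⟨6, 615, 615, (-1), 0, (-1), 0, 54, 0, 615, [3339, 4964, 3338]⟩) (.leaf ⟨6, 3606, 3607, 0, 0, 0, 0, 93, 0, 0, []⟩)) (.node (.leaf ⟨11, 177, 2287, 0, 0, 0, 0, 44, 3, 177, [1187, 6406, 13156]⟩) (.leaf ⟨10, 4926, 4882, (-3), 0, 3, 0, 54, 3, 4926, [29531, 29541, 29008]⟩)))) (.node (.node (.node (.leaf ⟨11, 82, 549, 0, 0, 0, 0, 93, 0, 0, []⟩) (.leaf ⟨8, 1714, 3171,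 0, 0, 0, 0, 47, 3, 1714, [10063, 19300, 19280]⟩)) (.node (.leaf ⟨1, 1869, 1870, 0, 0, 0, 0, 93, 0, 0, []⟩) (.leaf ⟨0, 950, 950, 1, 0, 1, 0, 8, 0, 950, [6059, 24996, 6058]⟩))) (.node (.node (.leaf ⟨2, 1119, 1106, 0, 0, 0, 0, 27, 2, 1118, [6990, 6989, 6902]⟩) (.leaf ⟨7, 2293, 3910, 0, 0, 0, 0, 93, 0, 0, []⟩)) (.node (.leaf ⟨10, 2538, 2539, 0, 0, 0, 0, 93, 0, 0, []⟩) (.leaf ⟨0, 0, 0, 0, 0, 0, 0, 0, 0, 0, []⟩))))) (.node (.node (.node (.node (.leaf ⟨2, 333, 341, 0, 0, 0, 0, 25, 0, 341, [1877, 1892, 1860]⟩) (.leaf ⟨5, 3011, 3012, 0, 0, 0, 0, 93, 0, 0, []⟩)) (.node (.leaf ⟨10, 246, 246, (-1), 0, (-1), 0, 49, 5, 246, [1605, 1603, 9668, 1602, 1604]⟩) (.leaf ⟨5, 4464, 4464, (-1), 0, (-1), 0, 45, 0, 4464, [26463, 26466, 26468, 26467, 26462]⟩))) (.node (.node (.leaf ⟨2, 541, 541,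 1, 0, 1, 0, 24, 0, 541, [2897, 5988, 2896]⟩) (.leaf ⟨7, 3757, 3758, 0, 0, 0, 0, 93, 0, 0, []⟩)) (.node (.leaf ⟨10, 1618, 1618, 1, 0, (-1), 0, 65, 4, 683, [9248, 4119, 14180, 4118, 9248]⟩) (.leaf ⟨9, 5094, 5087, (-47), 0, 11, 0, 60, 3, 3052, [30562, 30564, 18465, 18432, 30506]⟩)))) (.node (.node (.node (.leaf ⟨11, 538, 83, 0, 0, 0, 0, 50, 3, 538, [2883, 2881, 368]⟩) (.leaf ⟨7, 3356, 3357, 0, 0, 0, 0, 93, 0, 0, []⟩)) (.node (.leaf ⟨6, 1970, 2072, 0, 0, 0, 0, 93, 0, 0, []⟩) (.leaf ⟨4, 4754, 4766, 54, 0, 24, 0, 66, 10, 3464, [28255, 28268, 28251, 28282, 27071, 28290, 28298, 28305, 28303, 28309, 18503, 18513, 18615, 18644, 18977, 5142, 5144, 5146, 5198, 5963, 28318, 5897, 5918, 5958, 5885, 5883, 5869, 19083, 28324, 28328, 19081, 23877, 28332, 28336, 28344, 28339, 21461, 21467,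 28346, 28350, 28355, 28358, 28362, 23134, 23130, 5333, 5785, 5777, 22799, 22780, 22782, 22786, 28188, 28370, 28386, 20808, 28403, 28404, 28416, 28477, 28478, 28503, 28517]⟩))) (.node (.node (.leaf ⟨6, 1369, 1370, 0, 0, 0, 0, 93, 0, 0, []⟩) (.leaf ⟨5, 4087, 3290, 21, 0, 1, 0, 23, 1, 2143, [12411, 24420, 19873]⟩)) (.node (.leaf ⟨3, 1721, 2450, 0, 0, 0, 0, 32, 0, 2450, [14637, 16125, 10138]⟩) (.leaf ⟨0, 0, 0, 0, 0, 0, 0, 0, 0, 0, []⟩))))))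

def factsPart180 : ATree TFact :=
  .node (.node (.node (.node (.node (.node (.leaf ⟨7, 81, 81, 1, 0, (-1), 0, 33, 3, 81, [329, 358, 328]⟩) (.leaf ⟨7, 2516, 2763, 0, 0, 0, 0, 93, 0, 0, []⟩)) (.node (.leaf ⟨1, 1390, 1495, 0, 0, 0, 0, 93, 0, 0, []⟩) (.leaf ⟨4, 4191, 3345, 0, 0, 0, 0, 40, 2, 437, [24924, 2347, 20238]⟩))) (.node (.node (.leaf ⟨11, 686, 736, 0, 0, 0, 0, 93, 0, 0, []⟩) (.leaf ⟨7, 3473, 3474, 0, 0, 0, 0, 93, 0, 0, []⟩)) (.node (.leaf ⟨4, 2167, 2179, 0, 0, 0, 0, 39, 0, 2179, [12643, 12646, 12594]⟩) (.leaf ⟨3, 4888, 764, 0, 0, 0, 0, 37, 0, 764, [4763, 29029, 29030]⟩)))) (.node (.node (.node (.leaf ⟨9, 456, 452, 0, 0, 0, 0, 63, 2, 455, [2406, 2405, 2398]⟩) (.leaf ⟨11, 3102, 3102, 1, 0, 1, 0, 55, 3, 3102, [18789, 5712, 18788]⟩)) (.node (.leaf ⟨3, 1775, 1773, 1,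 0, 5, 0, 21, 5, 1775, [10593, 10165, 9017, 8998, 10598]⟩) (.leaf ⟨10, 4552, 4553, 0, 0, 0, 0, 93, 0, 0, []⟩))) (.node (.node (.leaf ⟨7, 283, 1027, 0, 0, 0, 0, 93, 0, 0, []⟩) (.leaf ⟨10, 3828, 3828, 1, 0, 1, 0, 58, 3, 3828, [22857, 22886, 22856]⟩)) (.node (.leaf ⟨0, 683, 683, 1, 0, 1, 0, 9, 0, 683, [4119, 14694, 4118]⟩) (.leaf ⟨7, 5168, 5168, (-1), 0, 1, 0, 56, 4, 2777, [31066, 16837, 31078, 16836, 31066]⟩))))) (.node (.node (.node (.node (.leaf ⟨5, 72, 72, 1, 0, 1, 0, 31, 3, 72, [281, 1382, 280]⟩) (.leaf ⟨11, 2908, 1893, (-1), 0, (-5), 0, 64, 1, 2378, [13847, 17764, 17767]⟩)) (.node (.leaf ⟨0, 1645, 1646, 0, 0, 0, 0, 93, 0, 0, []⟩) (.leaf ⟨6, 2698, 2698, (-1), 0, 1, 0, 55, 0, 2698, [16169, 25958, 16168]⟩))) (.node (.node (.leaf ⟨7, 854, 859, 0, 0, 0, 0, 93, 0, 0, []⟩)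 (.leaf ⟨5, 3717, 3720, 0, 0, 0, 0, 47, 0, 3720, [21859, 21863, 21818]⟩)) (.node (.leaf ⟨3, 1777, 1777, (-1), 0, (-1), 0, 12, 3, 1777, [13671, 9246, 13670]⟩) (.leaf ⟨7, 4972, 4997, 0, 0, 0, 0, 93, 0, 0, []⟩)))) (.node (.node (.node (.leaf ⟨2, 10, 10, (-1), 0, 1, 0, 22, 0, 10, [19, 3430, 18]⟩) (.leaf ⟨4, 3278, 3282, 21, 0, (-1), 0, 39, 2, 3277, [19784, 19813, 19814]⟩)) (.node (.leaf ⟨6, 647, 647, 1, 0, (-1), 0, 55, 0, 647, [3589, 4488, 3588]⟩) (.leaf ⟨1, 4710, 4256, 0, 0, 0, 0, 14, 0, 4256, [25339, 28005, 28006]⟩))) (.node (.node (.leaf ⟨5, 1245, 1246, 0, 0, 0, 0, 93, 0, 0, []⟩) (.leaf ⟨11, 2721, 2721, 1, 0, (-1), 0, 62, 3, 2721, [16483, 16284, 16482]⟩)) (.node (.leaf ⟨7, 724, 724, (-1), 0, 1, 0, 58, 0, 724, [4335, 9662, 4334]⟩) (.leaf ⟨0, 0, 0, 0, 0, 0, 0, 0, 0, 0, []⟩))))))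 (.node (.node (.node (.node (.node (.leaf ⟨10, 105, 105, 1, 0, 1, 0, 36, 3, 105, [449, 870, 448]⟩) (.leaf ⟨10, 2760, 2772, 0, 0, 0, 0, 58, 3, 2760, [16725, 2091, 16812]⟩)) (.node (.leaf ⟨10, 13, 13, (-1), 0, (-1), 0, 49, 5, 13, [25, 23, 3480, 22, 24]⟩) (.leaf ⟨10, 2724, 2724, (-1), 0, 1, 0, 36, 3, 2724, [16489, 20292, 16488]⟩))) (.node (.node (.leaf ⟨7, 564, 564, (-1), 0, (-1), 0, 33, 3, 564, [3029, 3184, 3028]⟩) (.leaf ⟨3, 3607, 3598, 0, 0, 0, 0, 32, 0, 3598, [21319, 21349, 21350]⟩)) (.node (.leaf ⟨10, 2287, 2288, 0, 0, 0, 0, 93, 0, 0, []⟩) (.leaf ⟨10, 2601, 4928, 0, 0, 0, 0, 93, 0, 0, []⟩)))) (.node (.node (.node (.leaf ⟨6, 549, 537, 0, 0, 0, 0, 55, 0, 537, [2881, 341, 2918]⟩) (.leaf ⟨6, 3162, 3171, (-27), 0, (-1), 0, 52, 2, 3174, [19292, 19297, 19302]⟩)) (.node (.leaf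 ⟨10, 1870, 1871, 0, 0, 0, 0, 93, 0, 0, []⟩) (.leaf ⟨0, 951, 951, (-1), 0, (-1), 0, 9, 0, 951, [6063, 27494, 6062]⟩))) (.node (.node (.leaf ⟨2, 1107, 1120, 0, 0, 0, 0, 28, 0, 1120, [6993, 7014, 6906]⟩) (.leaf ⟨1, 3910, 3601, 0, 0, 0, 0, 16, 0, 3601, [21327, 23397, 23398]⟩)) (.node (.leaf ⟨11, 2539, 2540, 0, 0, 0, 0, 93, 0, 0, []⟩) (.leaf ⟨0, 0, 0, 0, 0, 0, 0, 0, 0, 0, []⟩))))) (.node (.node (.node (.node (.leaf ⟨2, 334, 342, 0, 0, 0, 0, 24, 0, 342, [1879, 1895, 1862]⟩) (.leaf ⟨4, 3012, 3013, 0, 0, 0, 0, 93, 0, 0, []⟩)) (.node (.leaf ⟨10, 1462, 1462, (-1), 0, 1, 0, 54, 3, 1462, [8449, 10086, 8448]⟩) (.leaf ⟨7, 870, 4466, 0, 0, 0, 0, 93, 0, 0, []⟩))) (.node (.node (.leaf ⟨2, 832, 832, (-1), 0, (-1), 0, 26, 0, 832, [5313, 5990, 5312]⟩) (.leaf ⟨8, 3729, 3759, 0, 0, 0, 0,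 93, 0, 0, []⟩)) (.node (.leaf ⟨5, 2418, 2418, 1, 0, (-1), 0, 49, 4, 1619, [14178, 9251, 14182, 9250, 14178]⟩) (.leaf ⟨11, 4263, 5092, 0, 0, 0, 0, 50, 3, 4263, [25353, 25331, 30556]⟩)))) (.node (.node (.node (.leaf ⟨11, 84, 546, 0, 0, 0, 0, 59, 3, 84, [371, 3943, 2906]⟩) (.leaf ⟨10, 3357, 3227, 0, 0, 0, 0, 58, 3, 3357, [20327, 20325, 19582]⟩)) (.node (.leaf ⟨5, 2072, 2073, 0, 0, 0, 0, 93, 0, 0, []⟩) (.leaf ⟨1, 4763, 4754, (-54), 0, 24, 0, 13, 2, 4761, [28217, 28246, 28519]⟩))) (.node (.node (.leaf ⟨4, 1370, 1371, 0, 0, 0, 0, 93, 0, 0, []⟩) (.leaf ⟨9, 4074, 3290, 0, 0, 0, 0, 63, 2, 3499, [24384, 20939, 19868]⟩)) (.node (.leaf ⟨10, 1405, 2703, 0, 0, 0, 0, 93, 0, 0, []⟩) (.leaf ⟨0, 0, 0, 0, 0, 0, 0, 0, 0, 0, []⟩))))))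

def factsPart181 : ATree TFact :=
  .node (.node (.node (.node (.node (.node (.leaf ⟨7, 82, 82, (-1), 0, 1, 0, 58, 0, 82, [339, 360, 338]⟩) (.leaf ⟨10, 2763, 2762, (-17), 0, 1, 0, 58, 3, 2763, [16745, 15079, 16740]⟩)) (.node (.leaf ⟨9, 1495, 1496, 0, 0, 0, 0, 93, 0, 0, []⟩) (.leaf ⟨4, 3346, 4192, 0, 0, 0, 0, 39, 0, 4192, [24929, 24936, 20240]⟩))) (.node (.node (.leaf ⟨6, 736, 734, 0, 0, 0, 0, 55, 0, 734, [4439, 4455, 4456]⟩) (.leaf ⟨6, 3474, 3475, 0, 0, 0, 0, 93, 0, 0, []⟩)) (.node (.leaf ⟨4, 2168, 2180, 0, 0, 0, 0, 41, 0, 2180, [12645, 12649, 12596]⟩) (.leaf ⟨2, 1662, 1662, (-1), 0, (-1), 0, 28, 0, 1662, [9703, 9700, 9702]⟩)))) (.node (.node (.node (.leaf ⟨5, 456, 457, 0, 0, 0, 0, 93, 0, 0, []⟩) (.leaf ⟨5, 3102, 3103, 0, 0, 0, 0, 93, 0, 0, []⟩)) (.node (.leaf ⟨11,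 1153, 1153, 1, 0, 1, 0, 37, 3, 1153, [7117, 9028, 7116]⟩) (.leaf ⟨8, 4553, 4540, 0, 0, 0, 0, 61, 0, 4540, [26921, 26983, 26984]⟩))) (.node (.node (.leaf ⟨2, 285, 1027, 0, 0, 0, 0, 25, 2, 284, [1730, 1729, 6504]⟩) (.leaf ⟨10, 3829, 3829, 1, 0, (-1), 0, 54, 3, 3829, [22859, 22888, 22858]⟩)) (.node (.leaf ⟨0, 743, 743, (-1), 0, (-1), 0, 4, 0, 743, [4623, 14696, 4622]⟩) (.leaf ⟨6, 5167, 5167, 1, 0, 1, 0, 51, 0, 5167, [31065, 31068, 31080, 31069, 31064]⟩))))) (.node (.node (.node (.node (.leaf ⟨10, 83, 83, 1, 0, 1, 0, 49, 5, 83, [369, 287, 1384, 286, 368]⟩) (.leaf ⟨1, 37, 2909, 0, 0, 0, 0, 93, 0, 0, []⟩)) (.node (.leaf ⟨10, 1646, 1647, 0, 0, 0, 0, 93, 0, 0, []⟩) (.leaf ⟨7, 779, 782, (-17), 0, (-9), 0, 33, 3, 779, [14141, 5017, 14754]⟩))) (.node (.node (.leaf ⟨5, 856, 859,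 0, 0, 0, 0, 46, 0, 859, [5481, 5438, 5458]⟩) (.leaf ⟨7, 379, 3721, 0, 0, 0, 0, 93, 0, 0, []⟩)) (.node (.leaf ⟨2, 1718, 2173, 0, 0, 0, 0, 23, 0, 2173, [12615, 12690, 10102]⟩) (.leaf ⟨4, 4974, 4997, 0, 0, 0, 0, 40, 2, 4973, [29764, 29761, 30056]⟩)))) (.node (.node (.node (.leaf ⟨3, 305, 305, (-1), 0, 1, 0, 21, 5, 305, [1789, 21, 3432, 20, 1788]⟩) (.leaf ⟨3, 2134, 2134, 1, 0, 1, 0, 34, 0, 2134, [12361, 3440, 12360]⟩)) (.node (.leaf ⟨10, 648, 648, 1, 0, 1, 0, 65, 4, 500, [3604, 2601, 4016, 2600, 3604]⟩) (.leaf ⟨4, 4710, 4711, 0, 0, 0, 0, 93, 0, 0, []⟩))) (.node (.node (.leaf ⟨7, 1246, 1247, 0, 0, 0, 0, 93, 0, 0, []⟩) (.leaf ⟨11, 2722, 2722, 1, 0, 1, 0, 50, 3, 2722, [16485, 23912, 16484]⟩)) (.node (.leaf ⟨7, 764, 764, 1, 0, (-1), 0, 59, 0, 764, [4763, 15720, 4762]⟩) (.leaf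 ⟨0, 0, 0, 0, 0, 0, 0, 0, 0, 0, []⟩)))))) (.node (.node (.node (.node (.node (.leaf ⟨10, 106, 106, 1, 0, (-1), 0, 58, 3, 106, [451, 872, 450]⟩) (.leaf ⟨10, 2819, 2798, 0, 0, 0, 0, 54, 3, 2819, [17251, 17257, 17022]⟩)) (.node (.leaf ⟨10, 1099, 1099, (-1), 0, 1, 0, 54, 3, 1099, [6875, 9064, 6874]⟩) (.leaf ⟨10, 3853, 3853, (-1), 0, (-1), 0, 63, 3, 3853, [23029, 25448, 23028]⟩))) (.node (.node (.leaf ⟨7, 565, 565, (-1), 0, 1, 0, 25, 3, 565, [3031, 4968, 3030]⟩) (.leaf ⟨5, 3607, 3608, 0, 0, 0, 0, 93, 0, 0, []⟩)) (.node (.leaf ⟨11, 1014, 2288, 1, 0, 5, 0, 65, 5, 1014, [6387, 13155, 1193, 13158, 13160]⟩) (.leaf ⟨5, 4928, 4929, 0, 0, 0, 0, 93, 0, 0, []⟩)))) (.node (.node (.node (.leaf ⟨7, 549, 549, 1, 0, (-1), 0, 59, 0, 549, [2919, 362, 2918]⟩) (.leaf ⟨7, 3173, 3164, 27, 0, (-1),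 0, 51, 3, 3171, [19282, 19284, 19305, 19258, 19260]⟩)) (.node (.leaf ⟨5, 1871, 1872, 0, 0, 0, 0, 93, 0, 0, []⟩) (.leaf ⟨0, 3072, 3072, 1, 0, 1, 0, 10, 0, 3072, [18551, 27496, 18550]⟩))) (.node (.node (.leaf ⟨2, 1108, 1121, 0, 0, 0, 0, 23, 0, 1121, [6995, 7017, 6910]⟩) (.leaf ⟨6, 3910, 3911, 0, 0, 0, 0, 93, 0, 0, []⟩)) (.node (.leaf ⟨7, 2540, 2541, 0, 0, 0, 0, 93, 0, 0, []⟩) (.leaf ⟨0, 0, 0, 0, 0, 0, 0, 0, 0, 0, []⟩))))) (.node (.node (.node (.node (.leaf ⟨2, 335, 343, 0, 0, 0, 0, 23, 0, 343, [1881, 1897, 1864]⟩) (.leaf ⟨7, 906, 3014, 0, 0, 0, 0, 93, 0, 0, []⟩)) (.node (.leaf ⟨10, 1463, 1463, (-1), 0, (-1), 0, 58, 3, 1463, [8451, 10088, 8450]⟩) (.leaf ⟨6, 4466, 4467, 0, 0, 0, 0, 93, 0, 0, []⟩))) (.node (.node (.leaf ⟨2, 853, 853, 1, 0, 1, 0, 23, 0, 853, [5435, 5992, 5434]⟩)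 (.leaf ⟨10, 3759, 3757, 21, 0, 1, 0, 61, 3, 3759, [22377, 21969, 22370]⟩)) (.node (.leaf ⟨2, 546, 546, 1, 0, 1, 0, 25, 0, 546, [2907, 2890, 2906]⟩) (.leaf ⟨11, 5093, 4264, 0, 0, 0, 0, 59, 3, 5093, [30561, 30569, 25354]⟩)))) (.node (.node (.node (.leaf ⟨11, 468, 89, 0, 0, 0, 0, 50, 3, 468, [2449, 2447, 386]⟩) (.leaf ⟨6, 3357, 3358, 0, 0, 0, 0, 93, 0, 0, []⟩)) (.node (.leaf ⟨4, 2073, 2074, 0, 0, 0, 0, 93, 0, 0, []⟩) (.leaf ⟨5, 3168, 4763, 54, 0, 24, 0, 14, 1, 4754, [28189, 28196, 28521]⟩))) (.node (.node (.leaf ⟨5, 1371, 1372, 0, 0, 0, 0, 93, 0, 0, []⟩) (.leaf ⟨5, 430, 4074, 21, 0, (-1), 0, 48, 2, 4087, [24418, 24422, 24425]⟩)) (.node (.leaf ⟨4, 1697, 2703, 0, 0, 0, 0, 43, 2, 1406, [9986, 8127, 16232]⟩) (.leaf ⟨0, 0, 0, 0, 0, 0, 0, 0, 0, 0, []⟩))))))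

def factsPart182 : ATree TFact :=
  .node (.node (.node (.node (.node (.node (.leaf ⟨6, 76, 76, 1, 0, 1, 0, 51, 0, 76, [289, 341, 362, 340, 288]⟩) (.leaf ⟨9, 2516, 2764, 0, 0, 0, 0, 93, 0, 0, []⟩)) (.node (.leaf ⟨0, 1496, 1497, 0, 0, 0, 0, 93, 0, 0, []⟩) (.leaf ⟨7, 435, 4194, 0, 0, 0, 0, 93, 0, 0, []⟩))) (.node (.node (.leaf ⟨7, 686, 686, 1, 0, 1, 0, 58, 0, 686, [4157, 4154, 4156]⟩) (.leaf ⟨4, 3473, 3467, 0, 0, 0, 0, 43, 2, 3472, [20838, 20837, 20818]⟩)) (.node (.leaf ⟨4, 2169, 2181, 0, 0, 0, 0, 93, 0, 0, []⟩) (.leaf ⟨2, 4888, 4888, 1, 0, 1, 0, 29, 0, 4888, [29031, 29034, 29030]⟩)))) (.node (.node (.node (.leaf ⟨9, 453, 457, 0, 0, 0, 0, 48, 3, 453, [2401, 2409, 2410]⟩) (.leaf ⟨6, 893, 3104, 0, 0, 0, 0, 93, 0, 0, []⟩)) (.node (.leaf ⟨10, 1726, 1726, 1, 0, 1, 0, 65, 4,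 1725, [10158, 10157, 10602, 10156, 10158]⟩) (.leaf ⟨10, 4550, 4458, 0, 0, 0, 0, 58, 3, 4550, [26973, 26292, 26416]⟩))) (.node (.node (.leaf ⟨6, 1027, 1028, 0, 0, 0, 0, 93, 0, 0, []⟩) (.leaf ⟨7, 3077, 3834, 0, 0, 0, 0, 93, 0, 0, []⟩)) (.node (.leaf ⟨2, 743, 603, 0, 0, 0, 0, 23, 0, 603, [3269, 4120, 4622]⟩) (.leaf ⟨5, 5166, 5169, 0, 0, 0, 0, 93, 0, 0, []⟩))))) (.node (.node (.node (.node (.leaf ⟨10, 84, 84, 1, 0, (-1), 0, 58, 3, 84, [371, 1386, 370]⟩) (.leaf ⟨3, 2909, 1630, 0, 0, 0, 0, 12, 3, 2909, [17771, 7654, 9534]⟩)) (.node (.leaf ⟨5, 1647, 1648, 0, 0, 0, 0, 93, 0, 0, []⟩) (.leaf ⟨7, 2698, 725, 18, 0, 4, 0, 59, 2, 782, [16168, 25963, 14135]⟩))) (.node (.node (.leaf ⟨3, 828, 853, 0, 0, 0, 0, 31, 0, 853, [5435, 5317, 5292]⟩) (.leaf ⟨4, 3721, 3719, 21, 0, 1, 0, 40, 2,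 379, [21866, 16947, 21856]⟩)) (.node (.leaf ⟨3, 1838, 1838, (-1), 0, (-1), 0, 36, 0, 1838, [10945, 10486, 10944]⟩) (.leaf ⟨6, 4997, 4998, 0, 0, 0, 0, 93, 0, 0, []⟩)))) (.node (.node (.node (.leaf ⟨3, 619, 619, (-1), 0, (-1), 0, 12, 3, 619, [3397, 3434, 3396]⟩) (.leaf ⟨3, 2135, 2135, (-1), 0, (-1), 0, 31, 0, 2135, [12363, 19818, 12362]⟩)) (.node (.leaf ⟨2, 606, 648, 0, 0, 0, 0, 29, 0, 648, [3605, 2639, 3292]⟩) (.leaf ⟨1, 4711, 4257, 0, 0, 0, 0, 13, 0, 4257, [25341, 28009, 28010]⟩))) (.node (.node (.leaf ⟨6, 1247, 1248, 0, 0, 0, 0, 93, 0, 0, []⟩) (.leaf ⟨11, 2723, 2723, 1, 0, (-1), 0, 44, 3, 2723, [16487, 23914, 16486]⟩)) (.node (.leaf ⟨6, 724, 724, (-1), 0, 1, 0, 54, 0, 724, [4335, 9674, 4334]⟩) (.leaf ⟨0, 0, 0, 0, 0, 0, 0, 0, 0, 0, []⟩)))))) (.node (.node (.node (.node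 (.node (.leaf ⟨10, 107, 107, 1, 0, 1, 0, 54, 3, 107, [453, 874, 452]⟩) (.leaf ⟨2, 2796, 2798, 35, 0, (-1), 0, 66, 57, 2776, [16835, 16844, 16992, 17040, 17002, 17048, 17056, 2109, 17044, 16998, 16860, 17033, 17036, 17062, 17070, 17074, 17078, 17082, 17088, 17090, 17100, 17105, 17107, 17115, 17118, 17132, 17113, 17136, 17140, 17144, 17110, 16905, 17150, 16902, 17157, 17160, 17164, 17172, 17177, 17188, 17175, 17192, 16783, 17195, 17199, 17200, 17209, 17212, 17216, 17220, 17224, 17230, 17232, 17234, 17236, 17238, 17242, 17244, 17248, 16816, 17250, 17254, 17258]⟩)) (.node (.leaf ⟨10, 1100, 1100, (-1), 0, (-1), 0, 58, 3, 1100, [6879, 9066, 6878]⟩) (.leaf ⟨5, 4291, 4291, 1, 0, (-1), 0, 49, 0, 4291, [25445, 23817, 25450, 23816, 25444]⟩))) (.node (.node (.leaf ⟨3, 590, 590,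 1, 0, 1, 0, 30, 0, 590, [3223, 2609, 2804, 2608, 3222]⟩) (.leaf ⟨3, 3608, 3599, 0, 0, 0, 0, 31, 0, 3599, [21321, 21353, 21354]⟩)) (.node (.leaf ⟨5, 2288, 2289, 0, 0, 0, 0, 93, 0, 0, []⟩) (.leaf ⟨4, 4929, 4930, 0, 0, 0, 0, 93, 0, 0, []⟩)))) (.node (.node (.node (.leaf ⟨6, 548, 548, (-1), 0, (-1), 0, 51, 0, 548, [2915, 2921, 2922, 2920, 2914]⟩) (.leaf ⟨9, 2979, 3169, 0, 0, 0, 0, 63, 2, 2978, [18168, 18167, 19276]⟩)) (.node (.leaf ⟨6, 1872, 1873, 0, 0, 0, 0, 93, 0, 0, []⟩) (.leaf ⟨0, 3073, 3073, (-1), 0, (-1), 0, 6, 0, 3073, [18567, 27498, 18566]⟩))) (.node (.node (.leaf ⟨2, 1109, 1122, 0, 0, 0, 0, 25, 0, 1122, [6997, 7019, 6914]⟩) (.leaf ⟨1, 3911, 3602, 0, 0, 0, 0, 15, 0, 3602, [21331, 23401, 23402]⟩)) (.node (.leaf ⟨6, 2541, 2542, 0, 0, 0, 0, 93, 0, 0, []⟩) (.leaf ⟨0,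 0, 0, 0, 0, 0, 0, 0, 0, 0, []⟩))))) (.node (.node (.node (.node (.leaf ⟨2, 336, 344, 0, 0, 0, 0, 22, 0, 344, [1883, 1899, 1866]⟩) (.leaf ⟨6, 3014, 3015, 0, 0, 0, 0, 93, 0, 0, []⟩)) (.node (.leaf ⟨10, 1464, 1464, (-1), 0, 1, 0, 54, 3, 1464, [8453, 10090, 8452]⟩) (.leaf ⟨4, 4466, 4463, 0, 0, 0, 0, 40, 2, 870, [26472, 5545, 26460]⟩))) (.node (.node (.leaf ⟨2, 920, 920, (-1), 0, (-1), 0, 22, 0, 920, [5871, 5994, 5870]⟩) (.leaf ⟨7, 3759, 3760, 0, 0, 0, 0, 93, 0, 0, []⟩)) (.node (.leaf ⟨4, 538, 538, (-17), 0, 5, 0, 44, 2, 83, [3943, 3934, 3943]⟩) (.leaf ⟨11, 5094, 4274, 0, 0, 0, 0, 62, 3, 5094, [30565, 30570, 25376]⟩)))) (.node (.node (.node (.leaf ⟨11, 90, 469, 0, 0, 0, 0, 44, 3, 90, [389, 3947, 2450]⟩) (.leaf ⟨10, 3228, 3358, 0, 0, 0, 0, 54, 3, 3228, [19585, 20329, 20330]⟩))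 (.node (.leaf ⟨9, 2072, 2068, 0, 0, 0, 0, 53, 3, 2072, [12135, 11646, 12110]⟩) (.leaf ⟨10, 2554, 4799, 0, 0, 0, 0, 93, 0, 0, []⟩))) (.node (.node (.leaf ⟨7, 1372, 1373, 0, 0, 0, 0, 93, 0, 0, []⟩) (.leaf ⟨5, 4075, 431, (-21), 0, 1, 0, 46, 2, 4074, [24386, 24427, 2304]⟩)) (.node (.leaf ⟨10, 1385, 1385, (-1), 0, (-1), 0, 54, 3, 1385, [8077, 15714, 8076]⟩) (.leaf ⟨0, 0, 0, 0, 0, 0, 0, 0, 0, 0, []⟩))))))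

def factsPart183 : ATree TFact :=
  .node (.node (.node (.node (.node (.node (.leaf ⟨6, 77, 77, (-1), 0, (-1), 0, 52, 0, 77, [293, 364, 292]⟩) (.leaf ⟨7, 2764, 2765, 0, 0, 0, 0, 93, 0, 0, []⟩)) (.node (.leaf ⟨10, 1497, 1498, 0, 0, 0, 0, 93, 0, 0, []⟩) (.leaf ⟨5, 3345, 4194, 0, 0, 0, 0, 46, 2, 436, [20238, 2345, 24940]⟩))) (.node (.node (.leaf ⟨7, 736, 736, (-1), 0, (-1), 0, 59, 0, 736, [4457, 4460, 4456]⟩) (.leaf ⟨4, 3468, 3474, 0, 0, 0, 0, 40, 0, 3474, [20841, 20844, 20822]⟩)) (.node (.leaf ⟨7, 2181, 2182, 0, 0, 0, 0, 93, 0, 0, []⟩) (.leaf ⟨11, 171, 4889, 0, 0, 0, 0, 93, 0, 0, []⟩)))) (.node (.node (.node (.leaf ⟨4, 457, 458, 0, 0, 0, 0, 93, 0, 0, []⟩) (.leaf ⟨4, 3104, 3102, 0, 0, 0, 0, 39, 0, 3102, [18789, 5695, 18796]⟩)) (.node (.leaf ⟨7, 1725, 1603, 0, 0, 0, 0,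 58, 0, 1603, [9079, 7153, 10156]⟩) (.leaf ⟨10, 4551, 4530, 0, 0, 0, 0, 54, 3, 4551, [26975, 26988, 26894]⟩))) (.node (.node (.leaf ⟨2, 1028, 286, 0, 0, 0, 0, 24, 0, 286, [1733, 6506, 6508]⟩) (.leaf ⟨2, 3834, 3092, 0, 0, 0, 0, 25, 0, 3092, [18689, 18643, 22892]⟩)) (.node (.leaf ⟨3, 752, 743, 0, 0, 0, 0, 31, 0, 743, [4623, 4124, 4720]⟩) (.leaf ⟨7, 5169, 5170, 0, 0, 0, 0, 93, 0, 0, []⟩))))) (.node (.node (.node (.node (.leaf ⟨10, 86, 86, 1, 0, 1, 0, 54, 3, 86, [379, 1388, 378]⟩) (.leaf ⟨9, 2909, 2910, 0, 0, 0, 0, 93, 0, 0, []⟩)) (.node (.leaf ⟨8, 1645, 1630, 0, 0, 0, 0, 17, 3, 1645, [9575, 8198, 9534]⟩) (.leaf ⟨4, 2417, 2417, (-1), 0, 1, 0, 39, 0, 2417, [14137, 4266, 14136]⟩))) (.node (.node (.leaf ⟨3, 829, 854, 0, 0, 0, 0, 35, 0, 854, [5437, 5485, 5294]⟩) (.leaf ⟨8, 3721,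 3722, 0, 0, 0, 0, 93, 0, 0, []⟩)) (.node (.leaf ⟨3, 2173, 2173, 1, 0, 1, 0, 31, 0, 2173, [12615, 13676, 12614]⟩) (.leaf ⟨4, 4998, 4975, 0, 0, 0, 0, 39, 0, 4975, [29769, 30058, 30060]⟩)))) (.node (.node (.node (.leaf ⟨3, 620, 620, 1, 0, 1, 0, 33, 0, 620, [3399, 3436, 3398]⟩) (.leaf ⟨3, 3281, 3281, 1, 0, 1, 0, 33, 0, 3281, [19811, 19820, 19810]⟩)) (.node (.leaf ⟨3, 606, 1621, 0, 0, 0, 0, 37, 0, 1621, [9267, 2621, 3292]⟩) (.leaf ⟨10, 4711, 4712, 0, 0, 0, 0, 93, 0, 0, []⟩))) (.node (.node (.leaf ⟨8, 1248, 1249, 0, 0, 0, 0, 93, 0, 0, []⟩) (.leaf ⟨11, 2724, 2724, 1, 0, 1, 0, 37, 3, 2724, [16489, 23916, 16488]⟩)) (.node (.leaf ⟨6, 764, 764, 1, 0, (-1), 0, 55, 0, 764, [4763, 15724, 4762]⟩) (.leaf ⟨0, 0, 0, 0, 0, 0, 0, 0, 0, 0, []⟩)))))) (.node (.node (.node (.node (.node (.leaf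 ⟨10, 108, 108, 1, 0, (-1), 0, 61, 3, 108, [455, 876, 454]⟩) (.leaf ⟨2, 2799, 2797, (-35), 0, 1, 0, 23, 2, 2798, [17024, 17261, 17004]⟩)) (.node (.leaf ⟨10, 1101, 1101, (-1), 0, 1, 0, 54, 3, 1101, [6883, 9068, 6882]⟩) (.leaf ⟨4, 3588, 3588, (-1), 0, (-1), 0, 38, 0, 3588, [21267, 25447, 25452, 25446, 21266]⟩))) (.node (.node (.leaf ⟨3, 591, 591, (-1), 0, (-1), 0, 33, 0, 591, [3225, 4972, 3224]⟩) (.leaf ⟨4, 3608, 3609, 0, 0, 0, 0, 93, 0, 0, []⟩)) (.node (.leaf ⟨11, 1011, 2289, 1, 0, (-5), 0, 50, 3, 1011, [6391, 13162, 13164]⟩) (.leaf ⟨7, 4930, 4931, 0, 0, 0, 0, 93, 0, 0, []⟩)))) (.node (.node (.node (.leaf ⟨5, 547, 547, 1, 0, (-1), 0, 45, 0, 547, [2909, 2916, 2924, 2917, 2908]⟩) (.leaf ⟨9, 3170, 3157, 0, 0, 0, 0, 64, 0, 3157, [19241, 19308, 19278]⟩)) (.node (.leaf ⟨7, 1873,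 1874, 0, 0, 0, 0, 93, 0, 0, []⟩) (.leaf ⟨7, 3071, 4634, 0, 0, 0, 0, 93, 0, 0, []⟩))) (.node (.node (.leaf ⟨2, 1110, 1123, 0, 0, 0, 0, 24, 0, 1123, [6999, 7021, 6918]⟩) (.leaf ⟨8, 3911, 3912, 0, 0, 0, 0, 93, 0, 0, []⟩)) (.node (.leaf ⟨5, 2542, 2543, 0, 0, 0, 0, 93, 0, 0, []⟩) (.leaf ⟨0, 0, 0, 0, 0, 0, 0, 0, 0, 0, []⟩))))) (.node (.node (.node (.node (.leaf ⟨2, 337, 345, 0, 0, 0, 0, 28, 0, 345, [1885, 1901, 1868]⟩) (.leaf ⟨5, 3015, 3016, 0, 0, 0, 0, 93, 0, 0, []⟩)) (.node (.leaf ⟨5, 1689, 1689, (-1), 0, 1, 0, 49, 4, 1688, [9910, 9909, 10092, 9908, 9910]⟩) (.leaf ⟨4, 4464, 4467, 0, 0, 0, 0, 39, 0, 4467, [26475, 26476, 26462]⟩))) (.node (.node (.leaf ⟨3, 934, 934, (-1), 0, (-1), 0, 21, 5, 934, [5981, 5923, 5996, 5922, 5980]⟩) (.leaf ⟨10, 3758, 3760, (-21), 0, (-1), 0, 58,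 3, 3758, [22375, 22379, 22380]⟩)) (.node (.leaf ⟨4, 539, 539, (-17), 0, (-5), 0, 43, 2, 538, [2892, 14188, 2892]⟩) (.leaf ⟨9, 5091, 4274, 46, 0, (-6), 0, 64, 2, 5087, [30555, 30567, 30572]⟩)))) (.node (.node (.node (.leaf ⟨11, 470, 470, 1, 0, 1, 0, 65, 5, 470, [2453, 3949, 3720, 3948, 2452]⟩) (.leaf ⟨5, 3218, 3358, 73, 0, (-19), 0, 49, 4, 3217, [19504, 19574, 20323, 19587, 20332]⟩)) (.node (.leaf ⟨5, 2068, 2075, 0, 0, 0, 0, 93, 0, 0, []⟩) (.leaf ⟨3, 2549, 4755, 0, 0, 0, 0, 35, 2, 2536, [15262, 15201, 28198]⟩))) (.node (.node (.leaf ⟨8, 1373, 1374, 0, 0, 0, 0, 93, 0, 0, []⟩) (.leaf ⟨6, 4084, 4077, 21, 0, 1, 0, 45, 3, 431, [18402, 24410, 24429, 24388, 24390]⟩)) (.node (.leaf ⟨5, 2703, 2703, (-1), 0, (-1), 0, 49, 4, 1405, [16232, 8125, 16236, 8124, 16232]⟩) (.leaf ⟨0, 0,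 0, 0, 0, 0, 0, 0, 0, 0, []⟩))))))

def factsPart184 : ATree TFact :=
  .node (.node (.node (.node (.node (.node (.leaf ⟨5, 75, 83, 0, 0, 0, 0, 93, 0, 0, []⟩) (.leaf ⟨9, 2765, 2763, 0, 0, 0, 0, 57, 3, 2765, [16751, 16749, 16744]⟩)) (.node (.leaf ⟨5, 1498, 1499, 0, 0, 0, 0, 93, 0, 0, []⟩) (.leaf ⟨8, 432, 432, (-1), 0, (-1), 0, 47, 3, 432, [2337, 22680, 2336]⟩))) (.node (.node (.leaf ⟨11, 534, 534, 1, 0, 1, 0, 59, 3, 534, [2853, 3276, 2852]⟩) (.leaf ⟨4, 3469, 3475, 0, 0, 0, 0, 39, 0, 3475, [20843, 20847, 20826]⟩)) (.node (.leaf ⟨6, 2182, 2183, 0, 0, 0, 0, 93, 0, 0, []⟩) (.leaf ⟨11, 168, 1661, 0, 0, 0, 0, 50, 3, 168, [995, 14326, 9692]⟩)))) (.node (.node (.node (.leaf ⟨9, 454, 458, 0, 0, 0, 0, 42, 3, 454, [2403, 2412, 2414]⟩) (.leaf ⟨5, 3104, 3104, 1, 0, (-1), 0, 45, 0,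 3104, [18797, 5673, 5668, 5672, 18796]⟩)) (.node (.leaf ⟨7, 1726, 1604, 0, 0, 0, 0, 59, 0, 1604, [9081, 10607, 10158]⟩) (.leaf ⟨5, 4553, 4532, 0, 0, 0, 0, 49, 4, 4552, [26984, 26977, 26990, 26896, 26902]⟩))) (.node (.node (.leaf ⟨5, 1028, 1029, 0, 0, 0, 0, 93, 0, 0, []⟩) (.leaf ⟨6, 3834, 3835, 0, 0, 0, 0, 93, 0, 0, []⟩)) (.node (.leaf ⟨3, 603, 603, 1, 0, (-1), 0, 21, 5, 603, [14701, 14703, 4836, 14702, 14700]⟩) (.leaf ⟨5, 5170, 5167, 0, 0, 0, 0, 46, 2, 5169, [31086, 31085, 31064]⟩))))) (.node (.node (.node (.node (.leaf ⟨10, 87, 87, 1, 0, (-1), 0, 61, 3, 87, [381, 1390, 380]⟩) (.leaf ⟨3, 2910, 1636, 0, 0, 0, 0, 35, 0, 1636, [9547, 17773, 17774]⟩)) (.node (.leaf ⟨8, 1646, 1631, 0, 0, 0, 0, 7, 3, 1646, [9577, 9582, 9536]⟩) (.leaf ⟨3, 692, 692, (-1), 0, (-1), 0, 31, 0,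 692, [4183, 14108, 4182]⟩))) (.node (.node (.leaf ⟨3, 830, 859, 0, 0, 0, 0, 33, 0, 859, [5481, 5487, 5296]⟩) (.leaf ⟨4, 3720, 3722, (-21), 0, (-1), 0, 41, 2, 3719, [21858, 21869, 21870]⟩)) (.node (.leaf ⟨11, 1837, 2369, 0, 0, 0, 0, 93, 0, 0, []⟩) (.leaf ⟨5, 4998, 4999, 0, 0, 0, 0, 93, 0, 0, []⟩)))) (.node (.node (.node (.leaf ⟨3, 621, 621, (-1), 0, (-1), 0, 32, 0, 621, [3401, 3438, 3400]⟩) (.leaf ⟨3, 3282, 3282, (-1), 0, (-1), 0, 32, 0, 3282, [19815, 19822, 19814]⟩)) (.node (.leaf ⟨6, 739, 739, (-1), 0, (-1), 0, 45, 5, 739, [4603, 11551, 4264, 11550, 4602]⟩) (.leaf ⟨1, 4712, 4258, 0, 0, 0, 0, 19, 0, 4258, [25343, 28013, 28014]⟩))) (.node (.node (.leaf ⟨5, 1249, 1250, 0, 0, 0, 0, 93, 0, 0, []⟩) (.leaf ⟨11, 3853, 3853, 1, 0, (-1), 0, 64, 3, 3853, [23029, 23918, 23028]⟩))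 (.node (.leaf ⟨11, 1770, 1770, 1, 0, (-1), 0, 29, 3, 1770, [10559, 14348, 10558]⟩) (.leaf ⟨0, 0, 0, 0, 0, 0, 0, 0, 0, 0, []⟩)))))) (.node (.node (.node (.node (.node (.leaf ⟨7, 108, 152, 0, 0, 0, 0, 93, 0, 0, []⟩) (.leaf ⟨5, 2819, 2819, 1, 0, 1, 0, 45, 0, 2819, [17251, 16817, 16810, 16816, 17250]⟩)) (.node (.leaf ⟨5, 1601, 1601, (-1), 0, 1, 0, 49, 4, 1157, [9056, 7137, 9070, 7136, 9056]⟩) (.leaf ⟨4, 4290, 4290, 1, 0, 1, 0, 39, 0, 4290, [25441, 25454, 25440]⟩))) (.node (.node (.leaf ⟨3, 592, 592, 1, 0, 1, 0, 32, 0, 592, [3227, 4974, 3226]⟩) (.leaf ⟨4, 3604, 3610, 0, 0, 0, 0, 93, 0, 0, []⟩)) (.node (.leaf ⟨5, 1022, 2290, 0, 0, 0, 0, 93, 0, 0, []⟩) (.leaf ⟨6, 4931, 4932, 0, 0, 0, 0, 93, 0, 0, []⟩)))) (.node (.node (.node (.leaf ⟨10, 542, 542, 1, 0, (-1), 0, 49, 5, 542,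 [2899, 2913, 2926, 2912, 2898]⟩) (.leaf ⟨9, 3171, 3158, 0, 0, 0, 0, 48, 3, 3171, [19281, 19310, 19242]⟩)) (.node (.leaf ⟨8, 1874, 1875, 0, 0, 0, 0, 93, 0, 0, []⟩) (.leaf ⟨2, 4634, 3073, 0, 0, 0, 0, 25, 0, 3073, [18567, 18557, 27502]⟩))) (.node (.node (.leaf ⟨2, 1111, 1124, 0, 0, 0, 0, 26, 0, 1124, [7001, 7023, 6922]⟩) (.leaf ⟨1, 3912, 3603, 0, 0, 0, 0, 17, 0, 3603, [21335, 23405, 23406]⟩)) (.node (.leaf ⟨4, 2543, 2544, 0, 0, 0, 0, 93, 0, 0, []⟩) (.leaf ⟨0, 0, 0, 0, 0, 0, 0, 0, 0, 0, []⟩))))) (.node (.node (.node (.node (.leaf ⟨2, 338, 346, 0, 0, 0, 0, 23, 0, 346, [1887, 1903, 1870]⟩) (.leaf ⟨9, 3014, 899, 0, 0, 0, 0, 57, 3, 3014, [18283, 5756, 5720]⟩)) (.node (.leaf ⟨4, 1715, 1715, 1, 0, 1, 0, 38, 0, 1715, [10083, 10084, 10094, 10085, 10082]⟩) (.leaf ⟨7, 940, 4468, 0,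 0, 0, 0, 93, 0, 0, []⟩))) (.node (.node (.leaf ⟨3, 935, 935, 1, 0, 1, 0, 35, 0, 935, [5983, 5998, 5982]⟩) (.leaf ⟨2, 3759, 3759, 1, 0, (-3), 0, 26, 2, 3729, [22376, 21996, 22376]⟩)) (.node (.leaf ⟨2, 397, 397, (-1), 0, 1, 0, 23, 2, 614, [3337, 4030, 3337]⟩) (.leaf ⟨8, 2698, 4396, 0, 0, 0, 0, 62, 0, 4396, [26121, 18461, 16168]⟩)))) (.node (.node (.node (.leaf ⟨11, 471, 471, 1, 0, (-1), 0, 50, 3, 471, [2455, 3950, 2454]⟩) (.leaf ⟨10, 211, 3359, 0, 0, 0, 0, 93, 0, 0, []⟩)) (.node (.leaf ⟨9, 2073, 2075, 0, 0, 0, 0, 48, 3, 2073, [12137, 12140, 12142]⟩) (.leaf ⟨3, 4756, 2550, 0, 0, 0, 0, 36, 0, 2550, [15267, 28526, 28200]⟩))) (.node (.node (.leaf ⟨4, 1254, 1375, 0, 0, 0, 0, 93, 0, 0, []⟩) (.leaf ⟨6, 4078, 4085, (-21), 0, (-1), 0, 39, 3, 4078, [24393, 24431, 24412]⟩)) (.node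 (.leaf ⟨4, 1698, 1698, 1, 0, (-1), 0, 38, 0, 1698, [9989, 16234, 16238, 16235, 9988]⟩) (.leaf ⟨0, 0, 0, 0, 0, 0, 0, 0, 0, 0, []⟩))))))

def factsPart185 : ATree TFact :=
  .node (.node (.node (.node (.node (.node (.leaf ⟨7, 83, 84, 0, 0, 0, 0, 93, 0, 0, []⟩) (.leaf ⟨10, 2761, 2765, 17, 0, (-1), 0, 63, 3, 2761, [16742, 16747, 16753]⟩)) (.node (.leaf ⟨7, 1499, 1500, 0, 0, 0, 0, 93, 0, 0, []⟩) (.leaf ⟨7, 444, 444, (-1), 0, (-1), 0, 56, 4, 433, [2362, 2339, 24944, 2338, 2362]⟩))) (.node (.node (.leaf ⟨11, 556, 556, 1, 0, (-1), 0, 55, 3, 556, [3003, 4464, 3002]⟩) (.leaf ⟨5, 3475, 3476, 0, 0, 0, 0, 93, 0, 0, []⟩)) (.node (.leaf ⟨9, 2181, 2177, 0, 0, 0, 0, 42, 3, 2181, [12653, 12604, 12638]⟩) (.leaf ⟨10, 4889, 4888, 0, 0, 0, 0, 65, 4, 171, [29038, 1057, 29040, 9702, 29030]⟩))))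 (.node (.node (.node (.leaf ⟨5, 434, 459, 0, 0, 0, 0, 93, 0, 0, []⟩) (.leaf ⟨4, 3103, 3103, (-1), 0, (-1), 0, 38, 0, 3103, [18795, 18799, 18800, 18798, 18794]⟩)) (.node (.leaf ⟨6, 1603, 1603, 1, 0, 1, 0, 54, 0, 1603, [9079, 10342, 9078]⟩) (.leaf ⟨8, 4515, 4532, 3, 0, (-3), 0, 47, 3, 4515, [26971, 26987, 26992]⟩))) (.node (.node (.leaf ⟨2, 1029, 287, 0, 0, 0, 0, 23, 0, 287, [1735, 6511, 6512]⟩) (.leaf ⟨2, 3835, 3825, 0, 0, 0, 0, 24, 0, 3825, [22851, 22895, 22896]⟩)) (.node (.leaf ⟨7, 568, 568, 1, 0, 1, 0, 58, 0, 568, [3047, 4968, 3046]⟩) (.leaf ⟨8, 2798, 5171, 0, 0, 0, 0, 93, 0, 0, []⟩))))) (.node (.node (.node (.node (.leaf ⟨7, 87, 197, 0, 0, 0, 0, 93, 0, 0, []⟩) (.leaf ⟨10, 2910, 2911, 0, 0, 0, 0, 93, 0, 0, []⟩)) (.node (.leaf ⟨8, 1647, 1632, 0, 0, 0, 0, 61, 0, 1632,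 [9539, 9585, 9578]⟩) (.leaf ⟨11, 2412, 2452, 0, 0, 0, 0, 55, 3, 2412, [13939, 14177, 14646]⟩))) (.node (.node (.leaf ⟨4, 828, 860, 0, 0, 0, 0, 93, 0, 0, []⟩) (.leaf ⟨3, 3708, 3721, 0, 0, 0, 0, 33, 0, 3721, [21867, 2069, 21786]⟩)) (.node (.leaf ⟨2, 1706, 2369, 0, 0, 0, 0, 29, 0, 2369, [13681, 12704, 10020]⟩) (.leaf ⟨7, 4971, 5000, 0, 0, 0, 0, 93, 0, 0, []⟩)))) (.node (.node (.node (.leaf ⟨3, 622, 622, 1, 0, 1, 0, 31, 0, 622, [3403, 3440, 3402]⟩) (.leaf ⟨2, 2134, 2134, 1, 0, 1, 0, 26, 0, 2134, [12361, 3448, 12360]⟩)) (.node (.leaf ⟨6, 740, 740, (-1), 0, 1, 0, 39, 3, 740, [4607, 11632, 4606]⟩) (.leaf ⟨11, 4712, 4713, 0, 0, 0, 0, 93, 0, 0, []⟩))) (.node (.node (.leaf ⟨4, 1250, 1251, 0, 0, 0, 0, 93, 0, 0, []⟩) (.leaf ⟨11, 3854, 3854, 1, 0, 1, 0, 59, 3, 3854, [23031, 23920,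 23030]⟩)) (.node (.leaf ⟨10, 2427, 2427, 1, 0, (-1), 0, 65, 4, 1771, [14334, 10561, 15728, 10560, 14334]⟩) (.leaf ⟨0, 0, 0, 0, 0, 0, 0, 0, 0, 0, []⟩)))))) (.node (.node (.node (.node (.node (.leaf ⟨8, 106, 153, 0, 0, 0, 0, 93, 0, 0, []⟩) (.leaf ⟨10, 2799, 2799, 1, 0, 1, 0, 49, 5, 2799, [17025, 17259, 17264, 17258, 17024]⟩)) (.node (.leaf ⟨5, 1602, 1602, 1, 0, (-1), 0, 50, 0, 1602, [9061, 9072, 9060]⟩) (.leaf ⟨5, 4284, 4284, 1, 0, 1, 0, 38, 5, 4284, [25419, 25443, 25456, 25442, 25418]⟩))) (.node (.node (.leaf ⟨3, 593, 593, (-1), 0, (-1), 0, 31, 0, 593, [3233, 4976, 3232]⟩) (.leaf ⟨10, 3610, 3611, 0, 0, 0, 0, 93, 0, 0, []⟩)) (.node (.leaf ⟨4, 2288, 1018, 0, 0, 0, 0, 43, 2, 2287, [13160, 13157, 6408]⟩) (.leaf ⟨10, 2602, 4933, 0, 0, 0, 0, 93, 0, 0, []⟩)))) (.node (.node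 (.node (.leaf ⟨10, 543, 543, 1, 0, 1, 0, 43, 3, 543, [2901, 2928, 2900]⟩) (.leaf ⟨9, 3172, 3159, 0, 0, 0, 0, 57, 3, 3172, [19283, 19312, 19246]⟩)) (.node (.leaf ⟨3, 236, 1876, 0, 0, 0, 0, 93, 0, 0, []⟩) (.leaf ⟨7, 3068, 4635, 0, 0, 0, 0, 93, 0, 0, []⟩))) (.node (.node (.leaf ⟨2, 1112, 1125, 0, 0, 0, 0, 23, 0, 1125, [7003, 7025, 6926]⟩) (.leaf ⟨5, 3912, 3913, 0, 0, 0, 0, 93, 0, 0, []⟩)) (.node (.leaf ⟨10, 2544, 2545, 0, 0, 0, 0, 93, 0, 0, []⟩) (.leaf ⟨0, 0, 0, 0, 0, 0, 0, 0, 0, 0, []⟩))))) (.node (.node (.node (.node (.leaf ⟨2, 339, 347, 0, 0, 0, 0, 24, 0, 347, [1889, 1905, 1872]⟩) (.leaf ⟨9, 3015, 3011, 0, 0, 0, 0, 53, 3, 3015, [18285, 18288, 18276]⟩)) (.node (.leaf ⟨3, 1711, 1716, 0, 0, 0, 0, 93, 0, 0, []⟩) (.leaf ⟨6, 4468, 4469, 0, 0, 0, 0, 93, 0, 0, []⟩))) (.node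 (.node (.leaf ⟨2, 907, 936, 0, 0, 0, 0, 93, 0, 0, []⟩) (.leaf ⟨2, 3760, 3760, 1, 0, 3, 0, 25, 2, 3759, [22380, 22384, 22380]⟩)) (.node (.leaf ⟨2, 434, 434, 1, 0, 1, 0, 23, 2, 459, [2419, 4138, 2419]⟩) (.leaf ⟨8, 2699, 4405, 0, 0, 0, 0, 47, 3, 2699, [16193, 30576, 26138]⟩)))) (.node (.node (.node (.leaf ⟨10, 471, 471, (-1), 0, (-1), 0, 49, 5, 471, [2455, 2453, 2878, 2452, 2454]⟩) (.leaf ⟨0, 3359, 3224, 0, 0, 0, 0, 9, 0, 3224, [19577, 1663, 20336]⟩)) (.node (.leaf ⟨4, 2075, 2076, 0, 0, 0, 0, 93, 0, 0, []⟩) (.leaf ⟨3, 4757, 2551, 0, 0, 0, 0, 37, 0, 2551, [15271, 28529, 28202]⟩))) (.node (.node (.leaf ⟨6, 1256, 1375, 0, 0, 0, 0, 39, 3, 1256, [7549, 7547, 8048]⟩) (.leaf ⟨6, 4086, 4079, 21, 0, 1, 0, 32, 3, 4086, [24415, 24433, 24394]⟩)) (.node (.leaf ⟨4, 1721, 1721, (-1),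 0, 1, 0, 39, 0, 1721, [10139, 16240, 10138]⟩) (.leaf ⟨0, 0, 0, 0, 0, 0, 0, 0, 0, 0, []⟩))))))

def factsPart186 : ATree TFact :=
  .node (.node (.node (.node (.node (.node (.leaf ⟨8, 84, 85, 0, 0, 0, 0, 93, 0, 0, []⟩) (.leaf ⟨8, 119, 2766, 0, 0, 0, 0, 93, 0, 0, []⟩)) (.node (.leaf ⟨6, 1500, 1501, 0, 0, 0, 0, 93, 0, 0, []⟩) (.leaf ⟨6, 4194, 4194, 1, 0, (-1), 0, 51, 0, 4194, [24941, 2368, 24946, 2369, 24940]⟩))) (.node (.node (.leaf ⟨11, 557, 557, 1, 0, 1, 0, 50, 3, 557, [3005, 4466, 3004]⟩) (.leaf ⟨4, 3476, 3477, 0, 0, 0, 0, 93, 0, 0, []⟩)) (.node (.leaf ⟨9, 2182, 2178, 0, 0, 0, 0, 57, 3, 2182, [12655, 12658, 12640]⟩) (.leaf ⟨7, 4889, 4889, (-1), 0, (-1), 0, 59, 0, 4889, [29039, 1062, 29038]⟩)))) (.node (.node (.node (.leaf ⟨4, 459, 460, 0, 0, 0, 0, 93, 0, 0, []⟩) (.leaf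 ⟨9, 3020, 3105, 0, 0, 0, 0, 93, 0, 0, []⟩)) (.node (.leaf ⟨6, 1604, 1604, (-1), 0, (-1), 0, 55, 0, 1604, [9081, 10610, 9080]⟩) (.leaf ⟨7, 4529, 4515, 6, 0, 0, 0, 56, 2, 4522, [26870, 26885, 26892, 26905, 26995]⟩))) (.node (.node (.leaf ⟨7, 282, 1030, 0, 0, 0, 0, 93, 0, 0, []⟩) (.leaf ⟨8, 3835, 3836, 0, 0, 0, 0, 93, 0, 0, []⟩)) (.node (.leaf ⟨7, 787, 787, (-1), 0, (-1), 0, 59, 0, 787, [4935, 14706, 4934]⟩) (.leaf ⟨5, 5171, 5172, 0, 0, 0, 0, 93, 0, 0, []⟩))))) (.node (.node (.node (.node (.leaf ⟨8, 83, 83, (-1), 0, 1, 0, 47, 3, 83, [369, 318, 368]⟩) (.leaf ⟨3, 2911, 1893, 0, 0, 0, 0, 36, 0, 1893, [11195, 17777, 17778]⟩)) (.node (.leaf ⟨8, 1648, 1633, 0, 0, 0, 0, 47, 3, 1648, [9581, 9586, 9540]⟩) (.leaf ⟨4, 2412, 692, 26, 0, 4, 0, 44, 2, 2452, [25971, 14669, 14150]⟩)))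 (.node (.node (.leaf ⟨9, 860, 861, 0, 0, 0, 0, 93, 0, 0, []⟩) (.leaf ⟨8, 3708, 3723, 0, 0, 0, 0, 93, 0, 0, []⟩)) (.node (.leaf ⟨1, 1706, 794, 0, 0, 0, 0, 20, 0, 794, [5029, 12701, 10020]⟩) (.leaf ⟨6, 5000, 5001, 0, 0, 0, 0, 93, 0, 0, []⟩)))) (.node (.node (.node (.leaf ⟨2, 619, 619, (-1), 0, (-1), 0, 11, 5, 619, [3397, 1789, 222, 1788, 3396]⟩) (.leaf ⟨2, 2135, 2135, (-1), 0, (-1), 0, 23, 0, 2135, [12363, 19826, 12362]⟩)) (.node (.leaf ⟨7, 464, 740, 59, 0, 31, 0, 66, 27, 790, [11542, 11548, 11552, 5080, 11554, 4250, 4120, 4119, 3263, 4115, 4110, 3039, 3009, 3016, 2546, 4998, 2548, 2520, 11556, 5069, 4431, 5042, 4441, 4459, 5036, 11561, 11564, 11570, 11574, 11578, 9272, 11580, 11582, 5082, 11584, 11594, 11608, 11612, 9202, 11618, 9198, 9193, 9185, 11620, 4600, 5069, 3653,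 11622, 11624, 3607, 11626, 11629, 11630, 11582, 4732, 5089, 5091, 5093, 4834, 3214, 4612, 4615, 11634]⟩) (.leaf ⟨1, 4713, 4699, 0, 0, 0, 0, 20, 0, 4699, [27935, 28017, 28018]⟩))) (.node (.node (.leaf ⟨3, 1251, 1252, 0, 0, 0, 0, 93, 0, 0, []⟩) (.leaf ⟨11, 3855, 3855, 1, 0, (-1), 0, 55, 3, 3855, [23033, 23922, 23032]⟩)) (.node (.leaf ⟨7, 1771, 1771, 1, 0, 1, 0, 58, 0, 1771, [10561, 14508, 10560]⟩) (.leaf ⟨0, 0, 0, 0, 0, 0, 0, 0, 0, 0, []⟩)))))) (.node (.node (.node (.node (.node (.leaf ⟨6, 108, 153, 0, 0, 0, 0, 52, 2, 107, [454, 453, 882]⟩) (.leaf ⟨10, 2797, 2797, 1, 0, 1, 0, 28, 3, 2797, [17263, 17266, 17262]⟩)) (.node (.leaf ⟨4, 1600, 1600, (-1), 0, (-1), 0, 38, 0, 1600, [9055, 9063, 9074, 9062, 9054]⟩) (.leaf ⟨5, 4285, 4285, (-1), 0, (-1), 0, 46, 0, 4285, [25423, 25458,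 25422]⟩))) (.node (.node (.leaf ⟨4, 595, 595, (-1), 0, (-1), 0, 30, 5, 595, [3239, 3235, 4978, 3234, 3238]⟩) (.leaf ⟨7, 3611, 3612, 0, 0, 0, 0, 93, 0, 0, []⟩)) (.node (.leaf ⟨4, 2289, 2290, 0, 0, 0, 0, 38, 0, 2290, [13169, 6430, 6423, 13171, 13164]⟩) (.leaf ⟨9, 4933, 4928, 0, 0, 0, 0, 63, 2, 2602, [29554, 15543, 29544]⟩)))) (.node (.node (.node (.leaf ⟨10, 544, 544, 1, 0, (-1), 0, 36, 3, 544, [2903, 2930, 2902]⟩) (.leaf ⟨9, 3173, 3160, 0, 0, 0, 0, 53, 3, 3173, [19285, 19314, 19250]⟩)) (.node (.leaf ⟨2, 1876, 1877, 0, 0, 0, 0, 93, 0, 0, []⟩) (.leaf ⟨3, 4634, 4635, 0, 0, 0, 0, 33, 0, 4635, [27507, 18549, 27502]⟩))) (.node (.node (.leaf ⟨2, 1113, 1126, 0, 0, 0, 0, 22, 0, 1126, [7005, 7027, 6930]⟩) (.leaf ⟨1, 3913, 3604, 0, 0, 0, 0, 14, 0, 3604, [21339, 23409, 23410]⟩))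 (.node (.leaf ⟨5, 2545, 2546, 0, 0, 0, 0, 93, 0, 0, []⟩) (.leaf ⟨0, 0, 0, 0, 0, 0, 0, 0, 0, 0, []⟩))))) (.node (.node (.node (.node (.leaf ⟨2, 340, 348, 0, 0, 0, 0, 25, 0, 348, [1891, 1907, 1874]⟩) (.leaf ⟨9, 3016, 3012, 0, 0, 0, 0, 48, 3, 3016, [18287, 18290, 18278]⟩)) (.node (.leaf ⟨10, 1716, 1717, 0, 0, 0, 0, 93, 0, 0, []⟩) (.leaf ⟨3, 4468, 4466, 0, 0, 0, 0, 33, 2, 940, [26480, 6019, 26472]⟩))) (.node (.node (.leaf ⟨4, 936, 934, 0, 0, 0, 0, 22, 3, 936, [6003, 5938, 5980]⟩) (.leaf ⟨3, 3759, 3759, 1, 0, (-1), 0, 34, 0, 3759, [22377, 22002, 22376]⟩)) (.node (.leaf ⟨2, 592, 592, 1, 0, (-1), 0, 22, 2, 434, [3230, 14194, 3230]⟩) (.leaf ⟨6, 4226, 4405, 120, 0, (-2), 0, 52, 2, 2625, [25186, 16327, 30578]⟩)))) (.node (.node (.node (.leaf ⟨3, 649, 649, (-1), 0, (-1), 0, 37,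 2, 650, [3613, 3642, 3613]⟩) (.leaf ⟨11, 3359, 3360, 0, 0, 0, 0, 93, 0, 0, []⟩)) (.node (.leaf ⟨9, 2074, 2076, 0, 0, 0, 0, 42, 3, 2074, [12139, 12144, 12146]⟩) (.leaf ⟨3, 4758, 2552, 0, 0, 0, 0, 33, 0, 2552, [15275, 28531, 28204]⟩))) (.node (.node (.leaf ⟨4, 1369, 1376, 0, 0, 0, 0, 93, 0, 0, []⟩) (.leaf ⟨8, 4071, 4084, 0, 0, 0, 0, 47, 3, 4071, [24375, 24359, 24410]⟩)) (.node (.leaf ⟨3, 2702, 2702, 1, 0, 1, 0, 30, 0, 2702, [16229, 16231, 16242, 16230, 16228]⟩) (.leaf ⟨0, 0, 0, 0, 0, 0, 0, 0, 0, 0, []⟩))))))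

def factsPart187 : ATree TFact :=
  .node (.node (.node (.node (.node (.node (.leaf ⟨5, 84, 76, 0, 0, 0, 0, 46, 2, 83, [370, 369, 288]⟩) (.leaf ⟨6, 2515, 2766, 0, 0, 0, 0, 52, 2, 120, [15072, 503, 16756]⟩)) (.node (.leaf ⟨8, 1501, 1502, 0, 0, 0, 0, 93, 0, 0, []⟩) (.leaf ⟨5, 3346, 3346, (-1), 0, (-1), 0, 45, 0, 3346, [20241, 24942, 24948, 24943, 20240]⟩))) (.node (.node (.leaf ⟨11, 558, 558, 1, 0, (-1), 0, 44, 3, 558, [3007, 4468, 3006]⟩) (.leaf ⟨5, 3471, 3477, 0, 0, 0, 0, 38, 5, 3471, [20835, 20831, 20848, 20850, 20852]⟩)) (.node (.leaf ⟨9, 2183, 2179, 0, 0, 0, 0, 53, 3, 2183, [12657, 12660, 12642]⟩) (.leaf ⟨6, 4889, 4889, (-1), 0, (-1), 0, 55, 0, 4889, [29039, 1068, 29038]⟩)))) (.node (.node (.node (.leaf ⟨3, 460, 461, 0, 0, 0, 0, 93, 0, 0, []⟩) (.leaf ⟨7, 3105, 3106,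 0, 0, 0, 0, 93, 0, 0, []⟩)) (.node (.leaf ⟨4, 1605, 1776, 0, 0, 0, 0, 93, 0, 0, []⟩) (.leaf ⟨9, 4211, 1971, 0, 0, 0, 0, 53, 3, 4211, [25065, 11492, 11652]⟩))) (.node (.node (.leaf ⟨3, 1027, 1030, 0, 0, 0, 0, 33, 2, 283, [6504, 1727, 6516]⟩) (.leaf ⟨2, 3836, 3826, 0, 0, 0, 0, 26, 0, 3826, [22853, 22899, 22900]⟩)) (.node (.leaf ⟨11, 563, 563, 1, 0, 1, 0, 44, 3, 563, [3027, 11572, 3026]⟩) (.leaf ⟨7, 5172, 5173, 0, 0, 0, 0, 93, 0, 0, []⟩))))) (.node (.node (.node (.node (.leaf ⟨7, 85, 85, (-1), 0, 1, 0, 56, 4, 84, [372, 371, 1396, 370, 372]⟩) (.leaf ⟨11, 2911, 2912, 0, 0, 0, 0, 93, 0, 0, []⟩)) (.node (.leaf ⟨11, 1544, 1649, 0, 0, 0, 0, 93, 0, 0, []⟩) (.leaf ⟨6, 600, 600, 1, 0, (-1), 0, 32, 3, 600, [3255, 16170, 3254]⟩))) (.node (.node (.leaf ⟨7, 861, 862, 0, 0, 0, 0, 93,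 0, 0, []⟩) (.leaf ⟨3, 3723, 3722, 0, 0, 0, 0, 34, 0, 3722, [21871, 21875, 21876]⟩)) (.node (.leaf ⟨3, 682, 478, 21, 0, 11, 0, 37, 2, 484, [4090, 5067, 4591]⟩) (.leaf ⟨5, 5001, 5002, 0, 0, 0, 0, 93, 0, 0, []⟩)))) (.node (.node (.node (.leaf ⟨2, 620, 620, 1, 0, 1, 0, 25, 0, 620, [3399, 3444, 3398]⟩) (.leaf ⟨2, 3281, 3281, 1, 0, 1, 0, 25, 0, 3281, [19811, 19828, 19810]⟩)) (.node (.leaf ⟨8, 1970, 1966, (-59), 0, 31, 0, 56, 3, 740, [11536, 11538, 11637, 2444, 11516]⟩) (.leaf ⟨5, 4713, 4714, 0, 0, 0, 0, 93, 0, 0, []⟩))) (.node (.node (.leaf ⟨10, 1252, 1253, 0, 0, 0, 0, 93, 0, 0, []⟩) (.leaf ⟨11, 3856, 3856, 1, 0, 1, 0, 62, 3, 3856, [23035, 23924, 23034]⟩)) (.node (.leaf ⟨7, 2427, 2427, (-1), 0, (-1), 0, 59, 0, 2427, [14335, 15732, 14334]⟩) (.leaf ⟨0, 0, 0, 0, 0, 0, 0, 0, 0,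 0, []⟩)))))) (.node (.node (.node (.node (.node (.leaf ⟨8, 100, 100, (-1), 0, (-1), 0, 41, 3, 100, [429, 836, 428]⟩) (.leaf ⟨3, 2754, 2798, 0, 0, 0, 0, 32, 0, 2798, [17023, 16735, 16684]⟩)) (.node (.leaf ⟨10, 1159, 1603, 0, 0, 0, 0, 93, 0, 0, []⟩) (.leaf ⟨6, 4287, 4287, (-1), 0, (-1), 0, 45, 5, 4287, [25429, 25425, 25460, 25424, 25428]⟩))) (.node (.node (.leaf ⟨4, 596, 596, (-1), 0, 1, 0, 22, 3, 596, [3243, 4980, 3242]⟩) (.leaf ⟨6, 3612, 3613, 0, 0, 0, 0, 93, 0, 0, []⟩)) (.node (.leaf ⟨11, 2290, 1010, (-1), 0, 5, 0, 44, 1, 1011, [13166, 13172, 6381]⟩) (.leaf ⟨5, 4933, 4934, 0, 0, 0, 0, 93, 0, 0, []⟩)))) (.node (.node (.node (.leaf ⟨10, 545, 545, 1, 0, 1, 0, 28, 3, 545, [2905, 2932, 2904]⟩) (.leaf ⟨7, 3168, 3160, (-27), 0, 1, 0, 57, 2, 3164, [19274, 19307, 19316]⟩)) (.node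 (.leaf ⟨1, 1877, 1878, 0, 0, 0, 0, 93, 0, 0, []⟩) (.leaf ⟨4, 4635, 4614, 0, 0, 0, 0, 40, 0, 4614, [27351, 18537, 27506]⟩))) (.node (.node (.leaf ⟨2, 1114, 1127, 0, 0, 0, 0, 28, 0, 1127, [7007, 7029, 6934]⟩) (.leaf ⟨4, 3913, 3914, 0, 0, 0, 0, 93, 0, 0, []⟩)) (.node (.leaf ⟨6, 2546, 2547, 0, 0, 0, 0, 93, 0, 0, []⟩) (.leaf ⟨0, 0, 0, 0, 0, 0, 0, 0, 0, 0, []⟩))))) (.node (.node (.node (.node (.leaf ⟨11, 98, 349, 0, 0, 0, 0, 93, 0, 0, []⟩) (.leaf ⟨7, 879, 3017, 0, 0, 0, 0, 93, 0, 0, []⟩)) (.node (.leaf ⟨5, 1717, 1718, 0, 0, 0, 0, 93, 0, 0, []⟩) (.leaf ⟨3, 4467, 4469, 0, 0, 0, 0, 32, 0, 4469, [26483, 26484, 26474]⟩))) (.node (.node (.leaf ⟨9, 936, 937, 0, 0, 0, 0, 93, 0, 0, []⟩) (.leaf ⟨3, 3760, 3760, (-1), 0, 1, 0, 33, 0, 3760, [22381, 22388, 22380]⟩)) (.node (.leaf ⟨2, 591,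 591, 1, 0, 1, 0, 24, 2, 592, [3227, 14196, 3227]⟩) (.leaf ⟨11, 748, 5095, 0, 0, 0, 0, 93, 0, 0, []⟩)))) (.node (.node (.node (.leaf ⟨3, 488, 488, (-1), 0, 1, 0, 36, 2, 649, [3609, 3956, 3609]⟩) (.leaf ⟨0, 3360, 3225, 0, 0, 0, 0, 10, 0, 3225, [19579, 20339, 20340]⟩)) (.node (.leaf ⟨8, 2070, 2075, 0, 0, 0, 0, 47, 3, 2070, [12115, 12113, 12142]⟩) (.leaf ⟨3, 4759, 2553, 0, 0, 0, 0, 32, 0, 2553, [15279, 28533, 28206]⟩))) (.node (.node (.leaf ⟨10, 1366, 1377, 0, 0, 0, 0, 93, 0, 0, []⟩) (.leaf ⟨8, 4085, 4072, 0, 0, 0, 0, 41, 3, 4085, [24413, 24437, 24376]⟩)) (.node (.leaf ⟨7, 1701, 1701, (-1), 0, (-1), 0, 58, 0, 1701, [9997, 10470, 9996]⟩) (.leaf ⟨0, 0, 0, 0, 0, 0, 0, 0, 0, 0, []⟩))))))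

def factsPart188 : ATree TFact :=
  .node (.node (.node (.node (.node (.node (.leaf ⟨5, 77, 85, 0, 0, 0, 0, 47, 0, 85, [373, 374, 292]⟩) (.leaf ⟨5, 2766, 2766, 1, 0, 1, 0, 47, 0, 2766, [16757, 984, 16756]⟩)) (.node (.leaf ⟨5, 1502, 1503, 0, 0, 0, 0, 93, 0, 0, []⟩) (.leaf ⟨4, 4193, 4193, 1, 0, (-1), 0, 38, 0, 4193, [24933, 24939, 24950, 24938, 24932]⟩))) (.node (.node (.leaf ⟨10, 736, 736, 1, 0, (-1), 0, 65, 4, 686, [4456, 4157, 4470, 4156, 4456]⟩) (.leaf ⟨11, 3473, 3478, 0, 0, 0, 0, 93, 0, 0, []⟩)) (.node (.leaf ⟨10, 1220, 2184, 0, 0, 0, 0, 93, 0, 0, []⟩) (.leaf ⟨5, 4889, 4889, (-1), 0, (-1), 0, 50, 0, 4889, [29039, 1072, 29038]⟩)))) (.node (.node (.node (.leaf ⟨2, 461, 462, 0, 0, 0, 0, 93, 0, 0, []⟩) (.leaf ⟨6, 3106, 3107, 0, 0, 0, 0, 93, 0, 0, []⟩)) (.node (.leaf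 ⟨3, 1776, 1776, 1, 0, (-1), 0, 30, 0, 1776, [10615, 9089, 9076, 9088, 10614]⟩) (.leaf ⟨9, 4212, 4511, 0, 0, 0, 0, 48, 3, 4212, [25071, 26998, 26826]⟩))) (.node (.node (.leaf ⟨6, 1030, 1031, 0, 0, 0, 0, 93, 0, 0, []⟩) (.leaf ⟨5, 3836, 3837, 0, 0, 0, 0, 93, 0, 0, []⟩)) (.node (.leaf ⟨11, 564, 564, 1, 0, (-1), 0, 37, 3, 564, [3029, 14710, 3028]⟩) (.leaf ⟨0, 5166, 5171, 0, 0, 0, 0, 7, 0, 5171, [31091, 21981, 31062]⟩))))) (.node (.node (.node (.node (.leaf ⟨6, 197, 197, 1, 0, 1, 0, 51, 0, 197, [1395, 382, 1398, 383, 1394]⟩) (.leaf ⟨3, 2908, 2912, (-1), 0, (-5), 0, 37, 2, 1893, [17769, 17781, 17782]⟩)) (.node (.leaf ⟨11, 205, 205, 1, 0, (-1), 0, 65, 5, 205, [1493, 2113, 1034, 2112, 1492]⟩) (.leaf ⟨6, 683, 683, (-1), 0, 1, 0, 54, 0, 683, [4119, 25974, 4118]⟩))) (.node (.node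 (.leaf ⟨4, 861, 829, 0, 0, 0, 0, 42, 2, 860, [5492, 5491, 5294]⟩) (.leaf ⟨8, 812, 3724, 0, 0, 0, 0, 93, 0, 0, []⟩)) (.node (.leaf ⟨2, 734, 682, 0, 0, 0, 0, 29, 0, 682, [4091, 4597, 4438]⟩) (.leaf ⟨5, 4997, 5000, 0, 0, 0, 0, 46, 2, 4972, [30056, 29757, 30066]⟩)))) (.node (.node (.node (.leaf ⟨2, 621, 621, (-1), 0, (-1), 0, 24, 0, 621, [3401, 3446, 3400]⟩) (.leaf ⟨2, 3282, 3282, (-1), 0, (-1), 0, 24, 0, 3282, [19815, 19830, 19814]⟩)) (.node (.leaf ⟨9, 1961, 1967, 0, 0, 0, 0, 63, 2, 360, [11498, 1933, 11520]⟩) (.leaf ⟨1, 4714, 4700, 0, 0, 0, 0, 14, 0, 4700, [27937, 28021, 28022]⟩))) (.node (.node (.leaf ⟨5, 1253, 1254, 0, 0, 0, 0, 93, 0, 0, []⟩) (.leaf ⟨11, 3857, 3857, 1, 0, (-1), 0, 50, 3, 3857, [23037, 23926, 23036]⟩)) (.node (.leaf ⟨6, 2427, 2190, 0, 0, 0, 0, 55, 0,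 2190, [12679, 10569, 14334]⟩) (.leaf ⟨0, 0, 0, 0, 0, 0, 0, 0, 0, 0, []⟩)))))) (.node (.node (.node (.node (.node (.leaf ⟨8, 105, 105, (-1), 0, 1, 0, 34, 3, 105, [449, 886, 448]⟩) (.leaf ⟨3, 2755, 2799, 0, 0, 0, 0, 31, 0, 2799, [17025, 17271, 16686]⟩)) (.node (.leaf ⟨11, 1603, 1604, 0, 0, 0, 0, 93, 0, 0, []⟩) (.leaf ⟨6, 4288, 4288, (-1), 0, 1, 0, 39, 3, 4288, [25433, 25462, 25432]⟩))) (.node (.node (.leaf ⟨2, 585, 585, 1, 0, (-1), 0, 22, 2, 501, [3199, 2754, 3199]⟩) (.leaf ⟨4, 3611, 3605, 0, 0, 0, 0, 43, 2, 3610, [21362, 21361, 21342]⟩)) (.node (.leaf ⟨9, 1003, 2291, 0, 0, 0, 0, 93, 0, 0, []⟩) (.leaf ⟨9, 4929, 4934, 0, 0, 0, 0, 48, 3, 4929, [29547, 29557, 29558]⟩)))) (.node (.node (.node (.leaf ⟨3, 536, 550, 0, 0, 0, 0, 93, 0, 0, []⟩) (.leaf ⟨7, 3165, 3175, 0, 0, 0, 0,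 93, 0, 0, []⟩)) (.node (.leaf ⟨10, 1878, 1879, 0, 0, 0, 0, 93, 0, 0, []⟩) (.leaf ⟨7, 4611, 797, 21, 0, (-1), 0, 51, 3, 3065, [27326, 27330, 18525, 5108, 5110]⟩))) (.node (.node (.leaf ⟨2, 1115, 1128, 0, 0, 0, 0, 23, 0, 1128, [7009, 7031, 6938]⟩) (.leaf ⟨1, 3914, 3610, 0, 0, 0, 0, 13, 0, 3610, [21361, 23413, 23414]⟩)) (.node (.leaf ⟨7, 2547, 2548, 0, 0, 0, 0, 93, 0, 0, []⟩) (.leaf ⟨0, 0, 0, 0, 0, 0, 0, 0, 0, 0, []⟩))))) (.node (.node (.node (.node (.leaf ⟨5, 349, 350, 0, 0, 0, 0, 93, 0, 0, []⟩) (.leaf ⟨6, 3017, 3018, 0, 0, 0, 0, 93, 0, 0, []⟩)) (.node (.leaf ⟨3, 1717, 1712, 0, 0, 0, 0, 36, 2, 1716, [10100, 10099, 10048]⟩) (.leaf ⟨7, 941, 4470, 0, 0, 0, 0, 93, 0, 0, []⟩))) (.node (.node (.leaf ⟨4, 937, 935, 0, 0, 0, 0, 42, 0, 935, [5983, 6005, 6006]⟩) (.leaf ⟨8, 3733,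 3761, 0, 0, 0, 0, 93, 0, 0, []⟩)) (.node (.leaf ⟨10, 590, 590, (-1), 0, 1, 0, 43, 3, 590, [3223, 2834, 3222]⟩) (.leaf ⟨5, 5095, 5096, 0, 0, 0, 0, 93, 0, 0, []⟩)))) (.node (.node (.node (.leaf ⟨11, 479, 479, 1, 0, (-1), 0, 65, 5, 479, [2471, 3946, 3718, 3947, 2470]⟩) (.leaf ⟨5, 3360, 3361, 0, 0, 0, 0, 93, 0, 0, []⟩)) (.node (.leaf ⟨8, 2076, 2071, 0, 0, 0, 0, 41, 3, 2076, [12147, 12151, 12116]⟩) (.leaf ⟨3, 4760, 2554, 0, 0, 0, 0, 31, 0, 2554, [15283, 28535, 28208]⟩))) (.node (.node (.leaf ⟨3, 1368, 1377, 0, 0, 0, 0, 36, 2, 1367, [8034, 8033, 8054]⟩) (.leaf ⟨8, 4086, 4073, 0, 0, 0, 0, 34, 3, 4086, [24415, 24438, 24380]⟩)) (.node (.leaf ⟨4, 570, 570, 1, 0, (-1), 0, 39, 0, 570, [3057, 14240, 3056]⟩) (.leaf ⟨0, 0, 0, 0, 0, 0, 0, 0, 0, 0, []⟩))))))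

def factsPart189 : ATree TFact :=
  .node (.node (.node (.node (.node (.node (.leaf ⟨6, 84, 86, 0, 0, 0, 0, 93, 0, 0, []⟩) (.leaf ⟨6, 2516, 2516, 1, 0, 1, 0, 45, 5, 2516, [15075, 16758, 16760, 16759, 15074]⟩)) (.node (.leaf ⟨4, 1503, 1504, 0, 0, 0, 0, 93, 0, 0, []⟩) (.leaf ⟨3, 4190, 4190, (-1), 0, (-1), 0, 30, 0, 4190, [24921, 24935, 24952, 24934, 24920]⟩))) (.node (.node (.leaf ⟨2, 736, 681, 0, 0, 0, 0, 29, 0, 681, [4079, 4159, 4456]⟩) (.leaf ⟨7, 3478, 3479, 0, 0, 0, 0, 93, 0, 0, []⟩)) (.node (.leaf ⟨11, 2184, 2185, 0, 0, 0, 0, 93, 0, 0, []⟩) (.leaf ⟨4, 4889, 4889, 1, 0, (-1), 0, 44, 0, 4889, [29039, 1074, 29038]⟩)))) (.node (.node (.node (.leaf ⟨10, 462, 463, 0, 0, 0, 0, 93, 0, 0, []⟩) (.leaf ⟨5, 3107, 3108, 0, 0, 0, 0, 93, 0, 0, []⟩)) (.node (.leaf ⟨5, 1738, 1777,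 0, 0, 0, 0, 93, 0, 0, []⟩) (.leaf ⟨9, 4529, 4512, 0, 0, 0, 0, 63, 0, 4512, [26829, 27001, 26886]⟩))) (.node (.node (.leaf ⟨3, 1031, 1028, 0, 0, 0, 0, 32, 0, 1028, [6509, 6518, 6520]⟩) (.leaf ⟨2, 3837, 3827, 0, 0, 0, 0, 23, 0, 3827, [22855, 22903, 22904]⟩)) (.node (.leaf ⟨10, 787, 787, 1, 0, (-1), 0, 65, 4, 568, [4934, 3047, 14712, 3046, 4934]⟩) (.leaf ⟨0, 5169, 5172, 0, 0, 0, 0, 4, 0, 5172, [31093, 31097, 31084]⟩))))) (.node (.node (.node (.node (.leaf ⟨5, 86, 86, (-1), 0, 1, 0, 45, 0, 86, [379, 374, 364, 375, 378]⟩) (.leaf ⟨1, 213, 2913, 0, 0, 0, 0, 93, 0, 0, []⟩)) (.node (.leaf ⟨11, 206, 206, 1, 0, 1, 0, 50, 3, 206, [1495, 9592, 1494]⟩) (.leaf ⟨5, 2412, 2412, (-1), 0, 1, 0, 45, 4, 743, [13938, 4623, 25976, 4622, 13938]⟩))) (.node (.node (.leaf ⟨4, 830, 862, 0, 0, 0,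 0, 40, 0, 862, [5495, 5496, 5296]⟩) (.leaf ⟨2, 3708, 812, 0, 0, 0, 0, 25, 0, 812, [5201, 5153, 21786]⟩)) (.node (.leaf ⟨2, 746, 794, (-21), 0, 11, 0, 21, 4, 745, [4666, 4660, 13687, 13689, 5032]⟩) (.leaf ⟨6, 5002, 4999, 0, 0, 0, 0, 45, 5, 5002, [30071, 30069, 30073, 30060, 30064]⟩)))) (.node (.node (.node (.leaf ⟨2, 622, 622, 1, 0, 1, 0, 23, 0, 622, [3403, 3448, 3402]⟩) (.leaf ⟨7, 2136, 3283, 0, 0, 0, 0, 93, 0, 0, []⟩)) (.node (.leaf ⟨9, 1968, 1962, 0, 0, 0, 0, 48, 3, 1968, [11531, 11641, 11500]⟩) (.leaf ⟨6, 4714, 4715, 0, 0, 0, 0, 93, 0, 0, []⟩))) (.node (.node (.leaf ⟨6, 1254, 1255, 0, 0, 0, 0, 93, 0, 0, []⟩) (.leaf ⟨11, 3858, 3858, 1, 0, 1, 0, 44, 3, 3858, [23039, 23928, 23038]⟩)) (.node (.leaf ⟨5, 2190, 2626, 0, 0, 0, 0, 93, 0, 0, []⟩) (.leaf ⟨0, 0, 0, 0, 0, 0, 0,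 0, 0, 0, []⟩)))))) (.node (.node (.node (.node (.node (.leaf ⟨7, 153, 153, (-1), 0, 1, 0, 56, 4, 106, [882, 451, 888, 450, 882]⟩) (.leaf ⟨4, 2754, 2754, (-1), 0, 1, 0, 39, 0, 2754, [16685, 16722, 16684]⟩)) (.node (.leaf ⟨5, 1604, 1605, 0, 0, 0, 0, 93, 0, 0, []⟩) (.leaf ⟨6, 4289, 4289, (-1), 0, (-1), 0, 32, 3, 4289, [25437, 25464, 25436]⟩))) (.node (.node (.leaf ⟨3, 463, 463, 1, 0, (-1), 0, 21, 3, 585, [3213, 3219, 4984, 3213, 3219]⟩) (.leaf ⟨4, 3606, 3612, 0, 0, 0, 0, 40, 0, 3612, [21365, 21368, 21346]⟩)) (.node (.leaf ⟨10, 2291, 2292, 0, 0, 0, 0, 93, 0, 0, []⟩) (.leaf ⟨4, 4934, 4935, 0, 0, 0, 0, 93, 0, 0, []⟩)))) (.node (.node (.node (.leaf ⟨5, 550, 81, 0, 0, 0, 0, 31, 3, 550, [2937, 2864, 328]⟩) (.leaf ⟨6, 3175, 3176, 0, 0, 0, 0, 93, 0, 0, []⟩)) (.node (.leaf ⟨8, 1868,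 1876, 0, 0, 0, 0, 34, 3, 1868, [11107, 1582, 11122]⟩) (.leaf ⟨6, 3048, 4636, 0, 0, 0, 0, 93, 0, 0, []⟩))) (.node (.node (.leaf ⟨2, 1116, 1129, 0, 0, 0, 0, 25, 0, 1129, [7011, 7033, 6942]⟩) (.leaf ⟨7, 3914, 3915, 0, 0, 0, 0, 93, 0, 0, []⟩)) (.node (.leaf ⟨0, 1554, 1579, 0, 0, 0, 0, 6, 0, 1579, [8919, 1651, 8768]⟩) (.leaf ⟨0, 0, 0, 0, 0, 0, 0, 0, 0, 0, []⟩))))) (.node (.node (.node (.node (.leaf ⟨4, 350, 351, 0, 0, 0, 0, 93, 0, 0, []⟩) (.leaf ⟨5, 3018, 3019, 0, 0, 0, 0, 93, 0, 0, []⟩)) (.node (.leaf ⟨3, 1715, 1718, 0, 0, 0, 0, 31, 0, 1718, [10103, 10104, 10082]⟩) (.leaf ⟨6, 4470, 4471, 0, 0, 0, 0, 93, 0, 0, []⟩))) (.node (.node (.leaf ⟨2, 900, 938, 0, 0, 0, 0, 93, 0, 0, []⟩) (.leaf ⟨4, 3761, 3759, 0, 0, 0, 0, 41, 0, 3759, [22377, 22011, 22392]⟩)) (.node (.leaf ⟨10, 591,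 591, (-1), 0, (-1), 0, 58, 3, 591, [3225, 14200, 3224]⟩) (.leaf ⟨10, 5096, 5097, 0, 0, 0, 0, 93, 0, 0, []⟩)))) (.node (.node (.node (.leaf ⟨11, 491, 491, 1, 0, 1, 0, 59, 3, 491, [2551, 3960, 2550]⟩) (.leaf ⟨0, 3361, 3226, 0, 0, 0, 0, 4, 0, 3226, [19581, 20343, 20344]⟩)) (.node (.leaf ⟨6, 1966, 2077, 0, 0, 0, 0, 93, 0, 0, []⟩) (.leaf ⟨3, 4761, 4799, 0, 0, 0, 0, 36, 0, 4799, [28525, 28537, 28210]⟩))) (.node (.node (.leaf ⟨5, 1377, 1378, 0, 0, 0, 0, 93, 0, 0, []⟩) (.leaf ⟨6, 4083, 4073, (-21), 0, (-1), 0, 52, 2, 4079, [24408, 24435, 24440]⟩)) (.node (.leaf ⟨5, 572, 572, 1, 0, (-1), 0, 38, 5, 572, [3065, 3061, 16248, 3060, 3064]⟩) (.leaf ⟨0, 0, 0, 0, 0, 0, 0, 0, 0, 0, []⟩))))))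

def factsPart190 : ATree TFact :=
  .node (.node (.node (.node (.node (.node (.leaf ⟨8, 86, 87, 0, 0, 0, 0, 93, 0, 0, []⟩) (.leaf ⟨6, 2764, 2764, (-1), 0, (-1), 0, 53, 0, 2764, [16749, 16762, 16748]⟩)) (.node (.leaf ⟨3, 1504, 1505, 0, 0, 0, 0, 93, 0, 0, []⟩) (.leaf ⟨2, 4157, 4157, 1, 0, (-1), 0, 21, 0, 4157, [24741, 24923, 24954, 24922, 24740]⟩))) (.node (.node (.leaf ⟨10, 480, 480, (-1), 0, 1, 0, 58, 3, 480, [2511, 3954, 2510]⟩) (.leaf ⟨11, 3479, 3474, 0, 0, 0, 0, 59, 3, 3479, [20859, 20857, 20840]⟩)) (.node (.leaf ⟨7, 2185, 2186, 0, 0, 0, 0, 93, 0, 0, []⟩) (.leaf ⟨3, 4889, 618, 0, 0, 0, 0, 37, 0, 618, [3359, 1079, 29038]⟩)))) (.node (.node (.node (.leaf ⟨11, 463, 464, 0, 0, 0, 0, 93, 0, 0, []⟩) (.leaf ⟨3, 3105, 881, 0, 0, 0, 0, 35, 2, 3020, [18804, 18305, 5580]⟩))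 (.node (.leaf ⟨10, 1744, 1778, 0, 0, 0, 0, 93, 0, 0, []⟩) (.leaf ⟨7, 4519, 4512, (-6), 0, 0, 0, 57, 2, 4515, [26852, 26997, 27002]⟩))) (.node (.node (.leaf ⟨5, 1031, 1032, 0, 0, 0, 0, 93, 0, 0, []⟩) (.leaf ⟨7, 3837, 3838, 0, 0, 0, 0, 93, 0, 0, []⟩)) (.node (.leaf ⟨1, 766, 786, 0, 0, 0, 0, 20, 0, 786, [4929, 3071, 4772]⟩) (.leaf ⟨0, 5170, 5173, 0, 0, 0, 0, 6, 0, 5173, [31095, 31099, 31086]⟩))))) (.node (.node (.node (.node (.leaf ⟨5, 87, 87, 1, 0, (-1), 0, 47, 0, 87, [381, 1402, 380]⟩) (.leaf ⟨4, 213, 37, 0, 0, 0, 0, 22, 3, 213, [1509, 15140, 72]⟩)) (.node (.leaf ⟨11, 1533, 1533, 1, 0, (-1), 0, 55, 3, 1533, [8645, 9594, 8644]⟩) (.leaf ⟨6, 2458, 2418, (-18), 0, (-12), 0, 66, 33, 789, [4993, 9389, 3557, 25882, 25884, 3515, 25886, 3510, 25888, 5084, 4864, 16316, 16314, 25890,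 4185, 3271, 4396, 14121, 25894, 25902, 14145, 25906, 16216, 16214, 14690, 25914, 25928, 25917, 16219, 25913, 25942, 14685, 25944, 25946, 3248, 4188, 4620, 25956, 14693, 16213, 16208, 16193, 25960, 25964, 16318, 25900, 14138, 25966, 16174, 4393, 4624, 14653, 25890, 25968, 25973, 25978, 13939, 4625, 5020, 14752, 14680, 15662, 14184]⟩))) (.node (.node (.leaf ⟨4, 836, 863, 0, 0, 0, 0, 93, 0, 0, []⟩) (.leaf ⟨2, 3723, 3724, 0, 0, 0, 0, 26, 0, 3724, [21881, 21883, 21876]⟩)) (.node (.leaf ⟨1, 1718, 746, 0, 0, 0, 0, 14, 0, 746, [4663, 10651, 10102]⟩) (.leaf ⟨6, 4969, 4969, (-1), 0, 1, 0, 53, 0, 4969, [29747, 28724, 29746]⟩)))) (.node (.node (.node (.leaf ⟨10, 622, 626, 0, 0, 0, 0, 93, 0, 0, []⟩) (.leaf ⟨10, 3283, 3281, 0, 0, 0, 0, 58, 3, 3283, [19835, 12365, 19810]⟩)) (.node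 (.leaf ⟨9, 1969, 1963, 0, 0, 0, 0, 42, 3, 1969, [11535, 11642, 11502]⟩) (.leaf ⟨1, 4715, 4701, 0, 0, 0, 0, 15, 0, 4701, [27941, 28025, 28026]⟩))) (.node (.node (.leaf ⟨4, 1255, 1256, 0, 0, 0, 0, 93, 0, 0, []⟩) (.leaf ⟨4, 2724, 2724, 1, 0, 1, 0, 30, 5, 2724, [16489, 16487, 19086, 16486, 16488]⟩)) (.node (.leaf ⟨5, 2432, 2369, (-21), 0, 11, 0, 14, 1, 2173, [12615, 14401, 13695]⟩) (.leaf ⟨0, 0, 0, 0, 0, 0, 0, 0, 0, 0, []⟩)))))) (.node (.node (.node (.node (.node (.leaf ⟨6, 152, 152, 1, 0, 1, 0, 51, 0, 152, [881, 884, 890, 885, 880]⟩) (.leaf ⟨5, 2756, 2756, (-1), 0, 1, 0, 38, 5, 2756, [16689, 16687, 17274, 16686, 16688]⟩)) (.node (.leaf ⟨3, 1603, 1598, 0, 0, 0, 0, 36, 2, 1159, [9078, 7141, 9032]⟩) (.leaf ⟨7, 4283, 4292, 0, 0, 0, 0, 93, 0, 0, []⟩))) (.node (.node (.leaf ⟨3,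 462, 462, 1, 0, 1, 0, 36, 2, 463, [2427, 4986, 2427]⟩) (.leaf ⟨4, 3607, 3613, 0, 0, 0, 0, 39, 0, 3613, [21367, 21371, 21350]⟩)) (.node (.leaf ⟨9, 2292, 1022, 0, 0, 0, 0, 63, 2, 2291, [13178, 13177, 6426]⟩) (.leaf ⟨9, 4930, 4935, 0, 0, 0, 0, 42, 3, 4930, [29549, 29560, 29562]⟩)))) (.node (.node (.node (.leaf ⟨10, 550, 550, 1, 0, 1, 0, 36, 3, 550, [2937, 2866, 2936]⟩) (.leaf ⟨10, 3167, 3175, 0, 0, 0, 0, 58, 3, 3167, [19269, 19265, 19320]⟩)) (.node (.leaf ⟨8, 1869, 1877, 0, 0, 0, 0, 26, 3, 1869, [11109, 11130, 11124]⟩) (.leaf ⟨9, 4208, 4636, 0, 0, 0, 0, 53, 3, 4208, [25043, 18468, 27514]⟩))) (.node (.node (.leaf ⟨2, 1117, 1130, 0, 0, 0, 0, 24, 0, 1130, [7013, 7035, 6946]⟩) (.leaf ⟨1, 3915, 3863, 0, 0, 0, 0, 16, 0, 3863, [23049, 23417, 23418]⟩)) (.node (.leaf ⟨0, 1555, 1580,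 0, 0, 0, 0, 5, 0, 1580, [8921, 15227, 8770]⟩) (.leaf ⟨0, 0, 0, 0, 0, 0, 0, 0, 0, 0, []⟩))))) (.node (.node (.node (.node (.leaf ⟨10, 351, 352, 0, 0, 0, 0, 93, 0, 0, []⟩) (.leaf ⟨5, 3014, 3017, 0, 0, 0, 0, 46, 2, 906, [18282, 5741, 18294]⟩)) (.node (.leaf ⟨5, 1462, 1462, (-1), 0, 1, 0, 45, 4, 246, [8448, 1605, 9736, 1604, 8448]⟩) (.leaf ⟨2, 4470, 4468, 0, 0, 0, 0, 25, 2, 941, [26488, 6021, 26480]⟩))) (.node (.node (.leaf ⟨9, 938, 939, 0, 0, 0, 0, 93, 0, 0, []⟩) (.leaf ⟨7, 3761, 3762, 0, 0, 0, 0, 93, 0, 0, []⟩)) (.node (.leaf ⟨6, 653, 653, (-1), 0, (-1), 0, 54, 0, 653, [3621, 4038, 3620]⟩) (.leaf ⟨9, 4224, 5095, 0, 0, 0, 0, 64, 0, 5095, [30583, 4716, 25136]⟩)))) (.node (.node (.node (.leaf ⟨11, 492, 492, 1, 0, (-1), 0, 55, 3, 492, [2553, 3962, 2552]⟩) (.leaf ⟨10, 3361,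 3362, 0, 0, 0, 0, 93, 0, 0, []⟩)) (.node (.leaf ⟨5, 2077, 2078, 0, 0, 0, 0, 93, 0, 0, []⟩) (.leaf ⟨10, 2543, 4800, 0, 0, 0, 0, 93, 0, 0, []⟩))) (.node (.node (.leaf ⟨3, 1378, 1369, 0, 0, 0, 0, 31, 0, 1369, [8037, 8056, 8058]⟩) (.leaf ⟨7, 4083, 4088, 0, 0, 0, 0, 93, 0, 0, []⟩)) (.node (.leaf ⟨10, 722, 722, 1, 0, (-1), 0, 49, 5, 722, [4329, 3069, 16250, 3068, 4328]⟩) (.leaf ⟨0, 0, 0, 0, 0, 0, 0, 0, 0, 0, []⟩))))))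

def factsPart191 : ATree TFact :=
  .node (.node (.node (.node (.node (.node (.leaf ⟨6, 87, 85, 0, 0, 0, 0, 52, 2, 86, [380, 379, 372]⟩) (.leaf ⟨9, 2515, 2767, 0, 0, 0, 0, 93, 0, 0, []⟩)) (.node (.leaf ⟨2, 1505, 1506, 0, 0, 0, 0, 93, 0, 0, []⟩) (.leaf ⟨7, 427, 4195, 0, 0, 0, 0, 93, 0, 0, []⟩))) (.node (.node (.leaf ⟨10, 481, 481, (-1), 0, (-1), 0, 54, 3, 481, [2513, 4476, 2512]⟩) (.leaf ⟨6, 3479, 3480, 0, 0, 0, 0, 93, 0, 0, []⟩)) (.node (.leaf ⟨6, 2186, 2187, 0, 0, 0, 0, 93, 0, 0, []⟩) (.leaf ⟨7, 384, 384, (-1), 0, (-1), 0, 51, 5, 384, [2079, 2077, 3464, 2076, 2078]⟩)))) (.node (.node (.node (.leaf ⟨10, 439, 465, 0, 0, 0, 0, 93, 0, 0, []⟩) (.leaf ⟨3, 896, 3106, 0, 0, 0, 0, 33, 0, 3106, [18807, 18812, 5692]⟩)) (.node (.leaf ⟨2, 1778, 1738, 0, 0, 0, 0, 28, 0, 1738, [10213,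 10273, 10620]⟩) (.leaf ⟨7, 2658, 4554, 0, 0, 0, 0, 93, 0, 0, []⟩))) (.node (.node (.leaf ⟨3, 1032, 1029, 0, 0, 0, 0, 31, 0, 1029, [6513, 6523, 6524]⟩) (.leaf ⟨2, 3838, 3828, 0, 0, 0, 0, 25, 0, 3828, [22857, 22907, 22908]⟩)) (.node (.leaf ⟨1, 2366, 2366, 1, 0, 1, 0, 14, 0, 2366, [13613, 4374, 13612]⟩) (.leaf ⟨5, 3764, 5174, 0, 0, 0, 0, 93, 0, 0, []⟩))))) (.node (.node (.node (.node (.leaf ⟨5, 197, 197, (-1), 0, 1, 0, 46, 0, 197, [1395, 1404, 1394]⟩) (.leaf ⟨4, 2913, 2909, 0, 0, 0, 0, 13, 3, 2913, [17787, 17788, 17770]⟩)) (.node (.leaf ⟨11, 1534, 1534, 1, 0, 1, 0, 59, 3, 1534, [8647, 9596, 8646]⟩) (.leaf ⟨8, 2457, 4362, 0, 0, 0, 0, 62, 0, 4362, [25849, 25765, 14686]⟩))) (.node (.node (.leaf ⟨9, 863, 864, 0, 0, 0, 0, 93, 0, 0, []⟩) (.leaf ⟨8, 814, 3725, 0, 0, 0, 0, 93,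 0, 0, []⟩)) (.node (.leaf ⟨1, 2369, 2173, 21, 0, 11, 0, 11, 4, 1706, [13682, 13684, 13691, 13693, 13674]⟩) (.leaf ⟨6, 4970, 4970, 1, 0, (-1), 0, 54, 0, 4970, [29749, 30076, 29748]⟩)))) (.node (.node (.node (.leaf ⟨11, 143, 627, 0, 0, 0, 0, 93, 0, 0, []⟩) (.leaf ⟨6, 3283, 3284, 0, 0, 0, 0, 93, 0, 0, []⟩)) (.node (.leaf ⟨9, 1970, 1964, 0, 0, 0, 0, 57, 3, 1970, [11539, 11644, 11508]⟩) (.leaf ⟨7, 4715, 4716, 0, 0, 0, 0, 93, 0, 0, []⟩))) (.node (.node (.leaf ⟨5, 1256, 1257, 0, 0, 0, 0, 93, 0, 0, []⟩) (.leaf ⟨4, 3853, 3853, (-1), 0, (-1), 0, 42, 0, 3853, [23029, 23932, 23028]⟩)) (.node (.leaf ⟨4, 2431, 1748, 0, 0, 0, 0, 13, 3, 2431, [14397, 10482, 10308]⟩) (.leaf ⟨0, 0, 0, 0, 0, 0, 0, 0, 0, 0, []⟩)))))) (.node (.node (.node (.node (.node (.leaf ⟨7, 109, 154, 0, 0, 0, 0, 93,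 0, 0, []⟩) (.leaf ⟨6, 2755, 2755, 1, 0, (-1), 0, 45, 5, 2755, [16687, 16685, 16708, 16684, 16686]⟩)) (.node (.leaf ⟨3, 1599, 1604, 0, 0, 0, 0, 37, 0, 1604, [9081, 9084, 9034]⟩) (.leaf ⟨6, 4292, 4293, 0, 0, 0, 0, 93, 0, 0, []⟩))) (.node (.node (.leaf ⟨3, 596, 596, 1, 0, (-1), 0, 31, 2, 462, [3244, 4988, 3244]⟩) (.leaf ⟨5, 3613, 3614, 0, 0, 0, 0, 93, 0, 0, []⟩)) (.node (.leaf ⟨5, 2292, 2293, 0, 0, 0, 0, 93, 0, 0, []⟩) (.leaf ⟨7, 4935, 4936, 0, 0, 0, 0, 93, 0, 0, []⟩)))) (.node (.node (.node (.leaf ⟨5, 82, 82, (-1), 0, 1, 0, 49, 0, 82, [339, 2939, 2940, 2938, 338]⟩) (.leaf ⟨10, 3176, 3168, 0, 0, 0, 0, 54, 3, 3176, [19323, 19325, 19272]⟩)) (.node (.leaf ⟨8, 1870, 1878, 0, 0, 0, 0, 17, 3, 1870, [11111, 11132, 11126]⟩) (.leaf ⟨9, 4205, 797, 0, 0, 0, 0, 53, 3, 4205, [25031,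 18432, 5110]⟩))) (.node (.node (.leaf ⟨3, 1126, 1131, 0, 0, 0, 0, 93, 0, 0, []⟩) (.leaf ⟨6, 3915, 3916, 0, 0, 0, 0, 93, 0, 0, []⟩)) (.node (.leaf ⟨0, 2242, 2533, 0, 0, 0, 0, 7, 0, 2533, [15195, 15229, 13022]⟩) (.leaf ⟨0, 0, 0, 0, 0, 0, 0, 0, 0, 0, []⟩))))) (.node (.node (.node (.node (.leaf ⟨5, 352, 353, 0, 0, 0, 0, 93, 0, 0, []⟩) (.leaf ⟨6, 3019, 3016, 0, 0, 0, 0, 45, 5, 3019, [18299, 18297, 18301, 18284, 18286]⟩)) (.node (.leaf ⟨5, 1463, 1463, 1, 0, (-1), 0, 46, 0, 1463, [8451, 10108, 8450]⟩) (.leaf ⟨2, 4469, 4471, 0, 0, 0, 0, 24, 0, 4471, [26491, 26492, 26482]⟩))) (.node (.node (.leaf ⟨5, 936, 938, 0, 0, 0, 0, 23, 3, 936, [6003, 5762, 6010]⟩) (.leaf ⟨4, 3762, 3760, 0, 0, 0, 0, 40, 0, 3760, [22381, 22395, 22396]⟩)) (.node (.leaf ⟨6, 654, 654, 1, 0, 1, 0, 55, 0, 654,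 [3627, 14204, 3626]⟩) (.leaf ⟨9, 4225, 5096, 0, 0, 0, 0, 48, 3, 4225, [25139, 30588, 30584]⟩)))) (.node (.node (.node (.leaf ⟨11, 493, 493, 1, 0, 1, 0, 50, 3, 493, [2555, 3964, 2554]⟩) (.leaf ⟨0, 3362, 3356, 0, 0, 0, 0, 9, 0, 3356, [20325, 20347, 20348]⟩)) (.node (.leaf ⟨4, 2078, 2079, 0, 0, 0, 0, 93, 0, 0, []⟩) (.leaf ⟨2, 4799, 4800, 0, 0, 0, 0, 28, 0, 4800, [28541, 15285, 28524]⟩))) (.node (.node (.leaf ⟨10, 1251, 1379, 0, 0, 0, 0, 93, 0, 0, []⟩) (.leaf ⟨4, 3289, 3289, 1, 0, (-1), 0, 22, 3, 3289, [19867, 21228, 19866]⟩)) (.node (.leaf ⟨10, 1594, 1594, 1, 0, 1, 0, 54, 3, 1594, [8997, 16252, 8996]⟩) (.leaf ⟨0, 0, 0, 0, 0, 0, 0, 0, 0, 0, []⟩))))))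

end CfsgLib.Fi24Mult
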