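import Cfsg.Agent.Lib.Presented.Fi24Mult.Twist

/-! Generated enumeration facts (data). -/
set_option autoImplicit false
set_option maxRecDepth 20000

namespace CfsgLib.Fi24Mult

open CfsgLib.Presented

def factsPart192 : ATree TFact :=
  .node (.node (.node (.node (.node (.node (.leaf ⟨10, 71, 88, 0, 0, 0, 0, 93, 0, 0, []⟩) (.leaf ⟨5, 2764, 2767, 0, 0, 0, 0, 48, 2, 2516, [16748, 15075, 16766]⟩)) (.node (.leaf ⟨7, 1506, 1507, 0, 0, 0, 0, 93, 0, 0, []⟩) (.leaf ⟨6, 4195, 4196, 0, 0, 0, 0, 93, 0, 0, []⟩))) (.node (.node (.leaf ⟨5, 500, 500, (-1), 0, (-1), 0, 49, 4, 482, [2600, 2515, 4478, 2514, 2600]⟩) (.leaf ⟨11, 3475, 3480, 0, 0, 0, 0, 55, 3, 3475, [20843, 20861, 20862]⟩)) (.node (.leaf ⟨4, 2172, 2188, 0, 0, 0, 0, 93, 0, 0, []⟩) (.leaf ⟨7, 517, 517, (-1), 0, 1, 0, 46,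 3, 517, [2699, 29054, 2698]⟩)))) (.node (.node (.node (.leaf ⟨11, 465, 466, 0, 0, 0, 0, 93, 0, 0, []⟩) (.leaf ⟨3, 3102, 3107, 0, 0, 0, 0, 32, 0, 3107, [18809, 18815, 18788]⟩)) (.node (.leaf ⟨5, 1778, 1779, 0, 0, 0, 0, 93, 0, 0, []⟩) (.leaf ⟨6, 4554, 4555, 0, 0, 0, 0, 93, 0, 0, []⟩))) (.node (.node (.leaf ⟨7, 281, 1033, 0, 0, 0, 0, 93, 0, 0, []⟩) (.leaf ⟨6, 3838, 3839, 0, 0, 0, 0, 93, 0, 0, []⟩)) (.node (.leaf ⟨2, 786, 786, 1, 0, (-1), 0, 11, 3, 2366, [14333, 14716, 14718, 14333, 14716]⟩) (.leaf ⟨7, 5174, 5175, 0, 0, 0, 0, 93, 0, 0, []⟩))))) (.node (.node (.node (.node (.leaf ⟨4, 197, 197, 1, 0, (-1), 0, 40, 2, 87, [1394, 810, 1394]⟩) (.leaf ⟨9, 2913, 2914, 0, 0, 0, 0, 93, 0, 0, []⟩)) (.node (.leaf ⟨11, 1535, 1535, 1, 0, (-1), 0, 55, 3, 1535, [8649, 9598, 8648]⟩) (.leaf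 ⟨8, 2458, 4363, 0, 0, 0, 0, 47, 3, 2458, [14691, 25982, 25850]⟩))) (.node (.node (.leaf ⟨7, 864, 865, 0, 0, 0, 0, 93, 0, 0, []⟩) (.leaf ⟨10, 3725, 3724, 0, 0, 0, 0, 61, 3, 3725, [21887, 5213, 21880]⟩)) (.node (.leaf ⟨4, 1837, 1423, 0, 0, 0, 0, 43, 0, 1423, [8261, 9141, 10940]⟩) (.leaf ⟨6, 4971, 4971, (-1), 0, 1, 0, 55, 0, 4971, [29751, 30078, 29750]⟩)))) (.node (.node (.node (.leaf ⟨6, 627, 8, 0, 0, 0, 0, 55, 0, 8, [15, 752, 3454]⟩) (.leaf ⟨10, 3282, 3284, 0, 0, 0, 0, 54, 3, 3282, [19815, 19837, 19838]⟩)) (.node (.leaf ⟨9, 1949, 1965, 59, 0, 31, 0, 60, 3, 1966, [11518, 11452, 11639, 11646, 11512]⟩) (.leaf ⟨1, 4716, 4702, 0, 0, 0, 0, 16, 0, 4702, [27945, 28029, 28030]⟩))) (.node (.node (.leaf ⟨7, 1257, 1258, 0, 0, 0, 0, 93, 0, 0, []⟩) (.leaf ⟨4, 3854, 3854, 1, 0, 1,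 0, 40, 0, 3854, [23031, 23934, 23030]⟩)) (.node (.leaf ⟨4, 2432, 2344, 0, 0, 0, 0, 43, 0, 2344, [13409, 15743, 14398]⟩) (.leaf ⟨0, 0, 0, 0, 0, 0, 0, 0, 0, 0, []⟩)))))) (.node (.node (.node (.node (.node (.leaf ⟨5, 154, 152, 0, 0, 0, 0, 46, 2, 109, [894, 457, 880]⟩) (.leaf ⟨6, 2756, 2756, 1, 0, 1, 0, 39, 3, 2756, [16689, 17278, 16688]⟩)) (.node (.leaf ⟨3, 1600, 1605, 0, 0, 0, 0, 31, 0, 1605, [9083, 9087, 9054]⟩) (.leaf ⟨5, 4293, 4294, 0, 0, 0, 0, 93, 0, 0, []⟩))) (.node (.node (.leaf ⟨10, 595, 789, 0, 0, 0, 0, 93, 0, 0, []⟩) (.leaf ⟨4, 3614, 3615, 0, 0, 0, 0, 93, 0, 0, []⟩)) (.node (.leaf ⟨9, 2290, 2293, 0, 0, 0, 0, 48, 3, 2290, [13169, 13181, 13182]⟩) (.leaf ⟨9, 4931, 4936, 0, 0, 0, 0, 57, 3, 4931, [29551, 29564, 29566]⟩)))) (.node (.node (.node (.leaf ⟨5, 549, 549,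 1, 0, (-1), 0, 50, 0, 549, [2919, 2942, 2918]⟩) (.leaf ⟨1, 941, 3177, 0, 0, 0, 0, 93, 0, 0, []⟩)) (.node (.leaf ⟨8, 1871, 1879, 0, 0, 0, 0, 61, 0, 1879, [11129, 11135, 11112]⟩) (.leaf ⟨10, 4636, 797, (-47), 0, 11, 0, 63, 3, 4636, [27517, 25047, 27518]⟩))) (.node (.node (.leaf ⟨10, 1131, 1132, 0, 0, 0, 0, 93, 0, 0, []⟩) (.leaf ⟨1, 3916, 3864, 0, 0, 0, 0, 15, 0, 3864, [23051, 23421, 23422]⟩)) (.node (.leaf ⟨0, 2243, 2534, 0, 0, 0, 0, 4, 0, 2534, [15197, 15231, 13024]⟩) (.leaf ⟨0, 0, 0, 0, 0, 0, 0, 0, 0, 0, []⟩))))) (.node (.node (.node (.node (.leaf ⟨7, 353, 354, 0, 0, 0, 0, 93, 0, 0, []⟩) (.leaf ⟨3, 878, 3020, 0, 0, 0, 0, 93, 0, 0, []⟩)) (.node (.leaf ⟨6, 1688, 1688, 1, 0, (-1), 0, 45, 5, 1688, [9909, 8453, 10110, 8452, 9908]⟩) (.leaf ⟨10, 941, 4472, 0, 0, 0, 0, 93,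 0, 0, []⟩))) (.node (.node (.leaf ⟨5, 937, 939, 0, 0, 0, 0, 48, 0, 939, [6013, 6015, 6006]⟩) (.leaf ⟨5, 3761, 3761, (-1), 0, 1, 0, 47, 0, 3761, [22393, 22028, 22392]⟩)) (.node (.leaf ⟨7, 653, 653, (-1), 0, (-1), 0, 58, 0, 653, [3621, 4042, 3620]⟩) (.leaf ⟨9, 4226, 5097, 0, 0, 0, 0, 63, 0, 5097, [30587, 30591, 25140]⟩)))) (.node (.node (.node (.leaf ⟨11, 494, 494, 1, 0, (-1), 0, 44, 3, 494, [2557, 3966, 2556]⟩) (.leaf ⟨7, 3362, 3363, 0, 0, 0, 0, 93, 0, 0, []⟩)) (.node (.leaf ⟨8, 2077, 2072, 59, 0, (-31), 0, 52, 3, 2077, [12155, 11639, 12134]⟩) (.leaf ⟨6, 2538, 254, 0, 0, 0, 0, 53, 0, 254, [1621, 18013, 15204]⟩))) (.node (.node (.leaf ⟨5, 1379, 1380, 0, 0, 0, 0, 93, 0, 0, []⟩) (.leaf ⟨4, 3499, 3499, (-1), 0, 1, 0, 42, 0, 3499, [20939, 24446, 20938]⟩)) (.node (.leaf ⟨11,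 1723, 763, (-1), 0, (-5), 0, 50, 3, 1723, [10153, 9012, 4752]⟩) (.leaf ⟨0, 0, 0, 0, 0, 0, 0, 0, 0, 0, []⟩))))))

def factsPart193 : ATree TFact :=
  .node (.node (.node (.node (.node (.node (.leaf ⟨5, 88, 89, 0, 0, 0, 0, 93, 0, 0, []⟩) (.leaf ⟨4, 2515, 2515, (-1), 0, (-1), 0, 41, 0, 2515, [15073, 1134, 15072]⟩)) (.node (.leaf ⟨7, 1505, 1508, 0, 0, 0, 0, 93, 0, 0, []⟩) (.leaf ⟨5, 4196, 4197, 0, 0, 0, 0, 93, 0, 0, []⟩))) (.node (.node (.leaf ⟨5, 472, 472, (-1), 0, 1, 0, 45, 4, 471, [2456, 2455, 3970, 2454, 2456]⟩) (.leaf ⟨5, 3480, 3481, 0, 0, 0, 0, 93, 0, 0, []⟩)) (.node (.leaf ⟨8, 2188, 2181, 0, 0, 0, 0, 41, 3, 2188, [12673, 12612, 12652]⟩) (.leaf ⟨7, 518, 518, (-1), 0, (-1), 0, 40, 3, 518, [2701, 29056, 2700]⟩)))) (.node (.node (.node (.leaf ⟨8, 436, 459, 0, 0, 0,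 0, 47, 3, 436, [2345, 2343, 2418]⟩) (.leaf ⟨3, 3103, 3108, 0, 0, 0, 0, 31, 0, 3108, [18811, 18817, 18794]⟩)) (.node (.leaf ⟨2, 1779, 1777, 0, 0, 0, 0, 23, 0, 1777, [10619, 10623, 10624]⟩) (.leaf ⟨5, 4555, 4556, 0, 0, 0, 0, 93, 0, 0, []⟩))) (.node (.node (.leaf ⟨4, 1030, 1033, 0, 0, 0, 0, 40, 2, 282, [6516, 1725, 6528]⟩) (.leaf ⟨2, 3839, 3829, 0, 0, 0, 0, 24, 0, 3829, [22859, 22911, 22912]⟩)) (.node (.leaf ⟨3, 1615, 1615, 1, 0, (-1), 0, 21, 5, 1615, [9209, 4937, 14720, 4936, 9208]⟩) (.leaf ⟨1, 5171, 3764, 0, 0, 0, 0, 17, 0, 3764, [22423, 22197, 31090]⟩))))) (.node (.node (.node (.node (.leaf ⟨7, 96, 198, 0, 0, 0, 0, 93, 0, 0, []⟩) (.leaf ⟨4, 2914, 2910, 0, 0, 0, 0, 42, 0, 2910, [17775, 17791, 17792]⟩)) (.node (.leaf ⟨11, 1536, 1536, 1, 0, 1, 0, 50, 3, 1536, [8651, 9600,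 8650]⟩) (.leaf ⟨6, 4368, 4363, 18, 0, 12, 0, 52, 2, 2418, [25880, 25981, 25984]⟩))) (.node (.node (.leaf ⟨5, 860, 863, 0, 0, 0, 0, 38, 5, 860, [5491, 5293, 5324, 5328, 5500]⟩) (.leaf ⟨9, 71, 71, 1, 0, (-1), 0, 27, 3, 71, [279, 21750, 278]⟩)) (.node (.leaf ⟨4, 2369, 2190, 0, 0, 0, 0, 44, 0, 2190, [12679, 13697, 13680]⟩) (.leaf ⟨7, 5001, 5001, (-1), 0, 1, 0, 51, 5, 5001, [30069, 30067, 30080, 30066, 30068]⟩)))) (.node (.node (.node (.leaf ⟨5, 627, 627, (-1), 0, (-1), 0, 50, 0, 627, [3455, 754, 3454]⟩) (.leaf ⟨8, 620, 3285, 0, 0, 0, 0, 93, 0, 0, []⟩)) (.node (.leaf ⟨5, 1960, 1949, (-59), 0, 31, 0, 48, 2, 1953, [11496, 11515, 11649]⟩) (.leaf ⟨8, 4716, 4717, 0, 0, 0, 0, 93, 0, 0, []⟩))) (.node (.node (.leaf ⟨8, 1258, 1259, 0, 0, 0, 0, 93, 0, 0, []⟩) (.leaf ⟨4, 3855, 3855,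 (-1), 0, (-1), 0, 39, 0, 3855, [23033, 23936, 23032]⟩)) (.node (.leaf ⟨4, 2626, 2345, 21, 0, 11, 0, 38, 4, 2190, [15738, 13699, 15741, 15744, 13414]⟩) (.leaf ⟨0, 0, 0, 0, 0, 0, 0, 0, 0, 0, []⟩)))))) (.node (.node (.node (.node (.node (.leaf ⟨4, 109, 155, 0, 0, 0, 0, 93, 0, 0, []⟩) (.leaf ⟨7, 2755, 2755, 1, 0, (-1), 0, 46, 3, 2755, [16687, 16706, 16686]⟩)) (.node (.leaf ⟨11, 1161, 1606, 0, 0, 0, 0, 93, 0, 0, []⟩) (.leaf ⟨4, 4294, 4295, 0, 0, 0, 0, 93, 0, 0, []⟩))) (.node (.node (.leaf ⟨0, 732, 732, 1, 0, 1, 0, 9, 0, 732, [4425, 4402, 4424]⟩) (.leaf ⟨5, 3609, 3615, 0, 0, 0, 0, 38, 5, 3609, [21359, 21355, 21372, 21374, 21376]⟩)) (.node (.leaf ⟨9, 2286, 1010, 0, 0, 0, 0, 63, 2, 2285, [13150, 13149, 6376]⟩) (.leaf ⟨6, 4936, 4937, 0, 0, 0, 0, 93, 0, 0, []⟩)))) (.node (.node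 (.node (.leaf ⟨6, 538, 538, 1, 0, (-1), 0, 45, 5, 538, [2883, 2921, 2944, 2920, 2882]⟩) (.leaf ⟨9, 3177, 3178, 0, 0, 0, 0, 93, 0, 0, []⟩)) (.node (.leaf ⟨5, 1879, 1880, 0, 0, 0, 0, 93, 0, 0, []⟩) (.leaf ⟨2, 4636, 4636, 1, 0, (-1), 0, 24, 2, 3048, [27514, 18428, 27514]⟩))) (.node (.node (.leaf ⟨5, 1132, 1133, 0, 0, 0, 0, 93, 0, 0, []⟩) (.leaf ⟨7, 2292, 3917, 0, 0, 0, 0, 93, 0, 0, []⟩)) (.node (.leaf ⟨0, 2244, 2535, 0, 0, 0, 0, 3, 0, 2535, [15199, 15233, 13026]⟩) (.leaf ⟨0, 0, 0, 0, 0, 0, 0, 0, 0, 0, []⟩))))) (.node (.node (.node (.node (.leaf ⟨6, 354, 355, 0, 0, 0, 0, 93, 0, 0, []⟩) (.leaf ⟨10, 3020, 3021, 0, 0, 0, 0, 93, 0, 0, []⟩)) (.node (.leaf ⟨6, 1711, 1711, 1, 0, 1, 0, 39, 3, 1711, [10047, 10112, 10046]⟩) (.leaf ⟨7, 4472, 4473, 0, 0, 0, 0, 93, 0, 0, []⟩))) (.node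 (.node (.leaf ⟨3, 870, 940, 0, 0, 0, 0, 93, 0, 0, []⟩) (.leaf ⟨5, 3762, 3762, 1, 0, (-1), 0, 46, 0, 3762, [22397, 22400, 22396]⟩)) (.node (.leaf ⟨7, 654, 654, 1, 0, 1, 0, 59, 0, 654, [3627, 14208, 3626]⟩) (.leaf ⟨6, 4263, 5097, (-120), 0, 2, 0, 53, 2, 4405, [26678, 30581, 30592]⟩)))) (.node (.node (.node (.leaf ⟨6, 470, 470, (-1), 0, 1, 0, 54, 0, 470, [2453, 2874, 2452]⟩) (.leaf ⟨0, 3363, 3357, 0, 0, 0, 0, 6, 0, 3357, [20327, 20351, 20352]⟩)) (.node (.leaf ⟨8, 2073, 2078, (-59), 0, 31, 0, 47, 3, 2073, [12137, 12161, 12156]⟩) (.leaf ⟨6, 2539, 255, 0, 0, 0, 0, 54, 0, 255, [1623, 28545, 15206]⟩))) (.node (.node (.leaf ⟨10, 1250, 1381, 0, 0, 0, 0, 93, 0, 0, []⟩) (.leaf ⟨4, 4074, 4074, 1, 0, (-1), 0, 43, 0, 4074, [24385, 24448, 24384]⟩)) (.node (.leaf ⟨11, 1697, 2704, 0,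 0, 0, 0, 93, 0, 0, []⟩) (.leaf ⟨0, 0, 0, 0, 0, 0, 0, 0, 0, 0, []⟩))))))

def factsPart194 : ATree TFact :=
  .node (.node (.node (.node (.node (.node (.leaf ⟨4, 89, 90, 0, 0, 0, 0, 93, 0, 0, []⟩) (.leaf ⟨4, 2767, 2767, 1, 0, 1, 0, 42, 0, 2767, [16767, 16770, 16766]⟩)) (.node (.leaf ⟨2, 1507, 1508, 0, 0, 0, 0, 25, 2, 1506, [8576, 8575, 8578]⟩) (.leaf ⟨4, 4197, 4198, 0, 0, 0, 0, 93, 0, 0, []⟩))) (.node (.node (.leaf ⟨5, 473, 473, 1, 0, (-1), 0, 46, 0, 473, [2459, 4482, 2458]⟩) (.leaf ⟨11, 3476, 3481, 0, 0, 0, 0, 50, 3, 3476, [20851, 20864, 20866]⟩)) (.node (.leaf ⟨11, 1426, 2189, 0, 0, 0, 0, 93, 0, 0, []⟩) (.leaf ⟨7, 519, 519, 1, 0, 1, 0, 58, 0, 519, [2703, 29058, 2702]⟩)))) (.node (.node (.node (.leaf ⟨8, 460, 437, 0, 0, 0, 0, 41, 3, 460, [2421, 2435, 2346]⟩) (.leaf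 ⟨5, 3020, 3020, (-1), 0, 1, 0, 31, 3, 3020, [18305, 5698, 18304]⟩)) (.node (.leaf ⟨10, 1745, 1780, 0, 0, 0, 0, 93, 0, 0, []⟩) (.leaf ⟨5, 4516, 4554, 0, 0, 0, 0, 46, 2, 2659, [26836, 15935, 27006]⟩))) (.node (.node (.leaf ⟨6, 1033, 1034, 0, 0, 0, 0, 93, 0, 0, []⟩) (.leaf ⟨7, 3539, 3840, 0, 0, 0, 0, 93, 0, 0, []⟩)) (.node (.leaf ⟨5, 1614, 1614, 1, 0, (-1), 0, 50, 0, 1614, [9201, 14166, 9200]⟩) (.leaf ⟨1, 5172, 5174, 0, 0, 0, 0, 14, 0, 5174, [31103, 31107, 31092]⟩))))) (.node (.node (.node (.node (.leaf ⟨3, 198, 197, 0, 0, 0, 0, 33, 0, 197, [1395, 417, 1410]⟩) (.leaf ⟨10, 2914, 2915, 0, 0, 0, 0, 93, 0, 0, []⟩)) (.node (.leaf ⟨10, 1649, 1649, 1, 0, 1, 0, 65, 4, 1544, [9590, 8695, 9602, 8694, 9590]⟩) (.leaf ⟨10, 4355, 4371, 0, 0, 0, 0, 93, 0, 0, []⟩))) (.node (.node (.leaf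 ⟨5, 861, 864, 0, 0, 0, 0, 48, 0, 864, [5503, 5507, 5492]⟩) (.leaf ⟨9, 88, 88, (-1), 0, 1, 0, 63, 0, 88, [385, 21890, 384]⟩)) (.node (.leaf ⟨4, 2173, 2191, (-21), 0, 11, 0, 13, 3, 2173, [13695, 13698, 12686]⟩) (.leaf ⟨7, 5002, 5002, (-1), 0, (-1), 0, 46, 3, 5002, [30071, 30082, 30070]⟩)))) (.node (.node (.node (.leaf ⟨6, 9, 9, (-1), 0, (-1), 0, 45, 5, 9, [17, 3457, 3458, 3456, 16]⟩) (.leaf ⟨6, 2134, 3285, 0, 0, 0, 0, 52, 2, 621, [12360, 3401, 19842]⟩)) (.node (.leaf ⟨6, 1959, 1971, 0, 0, 0, 0, 93, 0, 0, []⟩) (.leaf ⟨1, 4717, 4703, 0, 0, 0, 0, 17, 0, 4703, [27949, 28033, 28034]⟩))) (.node (.node (.leaf ⟨2, 1252, 1260, 0, 0, 0, 0, 93, 0, 0, []⟩) (.leaf ⟨4, 3856, 3856, 1, 0, 1, 0, 41, 0, 3856, [23035, 23938, 23034]⟩)) (.node (.leaf ⟨10, 1754, 2627, 0, 0, 0, 0, 93, 0, 0,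 []⟩) (.leaf ⟨0, 0, 0, 0, 0, 0, 0, 0, 0, 0, []⟩)))))) (.node (.node (.node (.node (.node (.leaf ⟨7, 155, 156, 0, 0, 0, 0, 93, 0, 0, []⟩) (.leaf ⟨7, 2756, 2756, 1, 0, 1, 0, 40, 3, 2756, [16689, 17282, 16688]⟩)) (.node (.leaf ⟨5, 1606, 1607, 0, 0, 0, 0, 93, 0, 0, []⟩) (.leaf ⟨3, 4295, 4296, 0, 0, 0, 0, 93, 0, 0, []⟩))) (.node (.node (.leaf ⟨5, 682, 678, 27, 0, 1, 0, 46, 2, 655, [4095, 4097, 3994]⟩) (.leaf ⟨11, 3611, 3616, 0, 0, 0, 0, 93, 0, 0, []⟩)) (.node (.leaf ⟨11, 2293, 2286, (-1), 0, (-5), 0, 64, 1, 1010, [13175, 13184, 13187]⟩) (.leaf ⟨9, 4932, 4937, 0, 0, 0, 0, 53, 3, 4932, [29553, 29568, 29570]⟩)))) (.node (.node (.node (.leaf ⟨6, 539, 539, (-1), 0, 1, 0, 54, 0, 539, [2893, 2946, 2892]⟩) (.leaf ⟨6, 3161, 3177, 0, 0, 0, 0, 15, 3, 3161, [19255, 6026, 19328]⟩)) (.node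 (.leaf ⟨8, 1872, 1880, 0, 0, 0, 0, 47, 3, 1872, [11115, 11136, 11138]⟩) (.leaf ⟨6, 3047, 4637, 0, 0, 0, 0, 93, 0, 0, []⟩))) (.node (.node (.leaf ⟨7, 1133, 1134, 0, 0, 0, 0, 93, 0, 0, []⟩) (.leaf ⟨6, 3917, 3918, 0, 0, 0, 0, 93, 0, 0, []⟩)) (.node (.leaf ⟨0, 2245, 2536, 0, 0, 0, 0, 2, 0, 2536, [15201, 15235, 13028]⟩) (.leaf ⟨0, 0, 0, 0, 0, 0, 0, 0, 0, 0, []⟩))))) (.node (.node (.node (.node (.leaf ⟨8, 355, 356, 0, 0, 0, 0, 93, 0, 0, []⟩) (.leaf ⟨7, 3021, 3022, 0, 0, 0, 0, 93, 0, 0, []⟩)) (.node (.leaf ⟨6, 1716, 1716, 1, 0, (-1), 0, 32, 3, 1716, [10099, 10114, 10098]⟩) (.leaf ⟨10, 4473, 4470, 0, 0, 0, 0, 58, 3, 4473, [26499, 26497, 26488]⟩))) (.node (.node (.leaf ⟨2, 940, 941, 0, 0, 0, 0, 93, 0, 0, []⟩) (.leaf ⟨8, 3732, 3763, 0, 0, 0, 0, 93, 0, 0, []⟩)) (.node (.leaf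 ⟨11, 667, 652, 0, 0, 0, 0, 50, 3, 667, [3775, 4504, 3618]⟩) (.leaf ⟨11, 747, 747, 1, 0, 1, 0, 64, 3, 747, [4701, 25998, 4700]⟩)))) (.node (.node (.node (.leaf ⟨7, 487, 487, (-1), 0, 1, 0, 51, 5, 487, [2535, 2533, 3970, 2532, 2534]⟩) (.leaf ⟨6, 3363, 3364, 0, 0, 0, 0, 93, 0, 0, []⟩)) (.node (.leaf ⟨8, 2079, 2074, 59, 0, (-31), 0, 41, 3, 2079, [12159, 12163, 12138]⟩) (.leaf ⟨6, 2540, 2888, 0, 0, 0, 0, 55, 0, 2888, [17639, 28547, 15208]⟩))) (.node (.node (.leaf ⟨4, 1379, 1381, 0, 0, 0, 0, 43, 2, 1251, [8062, 7539, 8066]⟩) (.leaf ⟨4, 4075, 4075, (-1), 0, 1, 0, 40, 0, 4075, [24387, 24450, 24386]⟩)) (.node (.leaf ⟨5, 2704, 2705, 0, 0, 0, 0, 93, 0, 0, []⟩) (.leaf ⟨0, 0, 0, 0, 0, 0, 0, 0, 0, 0, []⟩))))))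

def factsPart195 : ATree TFact :=
  .node (.node (.node (.node (.node (.node (.leaf ⟨7, 90, 91, 0, 0, 0, 0, 93, 0, 0, []⟩) (.leaf ⟨3, 2515, 2515, (-1), 0, (-1), 0, 34, 0, 2515, [15073, 1132, 15072]⟩)) (.node (.leaf ⟨7, 1492, 1509, 0, 0, 0, 0, 93, 0, 0, []⟩) (.leaf ⟨3, 4198, 4199, 0, 0, 0, 0, 93, 0, 0, []⟩))) (.node (.node (.leaf ⟨6, 475, 475, 1, 0, (-1), 0, 45, 5, 475, [2463, 2461, 4484, 2460, 2462]⟩) (.leaf ⟨4, 3481, 3482, 0, 0, 0, 0, 93, 0, 0, []⟩)) (.node (.leaf ⟨11, 1423, 2190, 0, 0, 0, 0, 93, 0, 0, []⟩) (.leaf ⟨5, 383, 383, 1, 0, 1, 0, 46, 0, 383, [2077, 3480, 2076]⟩)))) (.node (.node (.node (.leaf ⟨8, 461, 438, 0, 0, 0, 0, 34, 3, 461, [2423, 2436, 2348]⟩) (.leaf ⟨5, 3105, 3105, 1, 0, (-1), 0, 48, 0, 3105, [18805, 18820, 18804]⟩)) (.node (.leaf ⟨5, 1780, 1781,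 0, 0, 0, 0, 93, 0, 0, []⟩) (.leaf ⟨6, 4556, 4518, 0, 0, 0, 0, 45, 5, 4556, [27011, 27009, 27013, 26838, 26840]⟩))) (.node (.node (.leaf ⟨4, 1034, 1031, 0, 0, 0, 0, 39, 0, 1031, [6521, 6530, 6532]⟩) (.leaf ⟨6, 3840, 3841, 0, 0, 0, 0, 93, 0, 0, []⟩)) (.node (.leaf ⟨6, 1614, 746, 21, 0, 11, 0, 55, 2, 561, [9200, 14028, 4675]⟩) (.leaf ⟨1, 5173, 5175, 0, 0, 0, 0, 16, 0, 5175, [31105, 31109, 31094]⟩))))) (.node (.node (.node (.node (.leaf ⟨2, 148, 95, 0, 0, 0, 0, 24, 0, 95, [401, 821, 840]⟩) (.leaf ⟨4, 2915, 2911, 0, 0, 0, 0, 43, 0, 2911, [17779, 17795, 17796]⟩)) (.node (.leaf ⟨10, 1529, 1650, 0, 0, 0, 0, 93, 0, 0, []⟩) (.leaf ⟨9, 4368, 4371, 0, 0, 0, 0, 63, 0, 4371, [25989, 25809, 25878]⟩))) (.node (.node (.leaf ⟨5, 862, 865, 0, 0, 0, 0, 46, 0, 865, [5505, 5509, 5494]⟩)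 (.leaf ⟨9, 89, 89, (-1), 0, (-1), 0, 48, 3, 89, [387, 21892, 386]⟩)) (.node (.leaf ⟨4, 1427, 2370, 0, 0, 0, 0, 93, 0, 0, []⟩) (.leaf ⟨10, 5002, 5003, 0, 0, 0, 0, 93, 0, 0, []⟩)))) (.node (.node (.node (.leaf ⟨6, 10, 10, (-1), 0, 1, 0, 39, 3, 10, [19, 3460, 18]⟩) (.leaf ⟨5, 3285, 3285, (-1), 0, (-1), 0, 47, 0, 3285, [19843, 3486, 19842]⟩)) (.node (.leaf ⟨8, 1971, 1972, 0, 0, 0, 0, 93, 0, 0, []⟩) (.leaf ⟨1, 3289, 4718, 0, 0, 0, 0, 93, 0, 0, []⟩))) (.node (.node (.leaf ⟨10, 1260, 1261, 0, 0, 0, 0, 93, 0, 0, []⟩) (.leaf ⟨5, 3858, 3858, 1, 0, 1, 0, 38, 5, 3858, [23039, 23037, 23940, 23036, 23038]⟩)) (.node (.leaf ⟨5, 2627, 2628, 0, 0, 0, 0, 93, 0, 0, []⟩) (.leaf ⟨0, 0, 0, 0, 0, 0, 0, 0, 0, 0, []⟩)))))) (.node (.node (.node (.node (.node (.leaf ⟨4, 156, 154, 0, 0, 0, 0,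 40, 2, 155, [900, 899, 894]⟩) (.leaf ⟨5, 2818, 2757, 0, 0, 0, 0, 46, 0, 2757, [16699, 16624, 17236]⟩)) (.node (.leaf ⟨2, 1161, 1603, 0, 0, 0, 0, 28, 2, 1160, [7144, 7143, 9078]⟩) (.leaf ⟨4, 4285, 4292, 0, 0, 0, 0, 40, 2, 4284, [25422, 25419, 25468]⟩))) (.node (.node (.leaf ⟨7, 490, 490, 1, 0, (-1), 0, 58, 0, 490, [2547, 3976, 2546]⟩) (.leaf ⟨7, 3616, 3617, 0, 0, 0, 0, 93, 0, 0, []⟩)) (.node (.leaf ⟨2, 2258, 993, 0, 0, 0, 0, 26, 0, 993, [6323, 4355, 13054]⟩) (.leaf ⟨10, 2937, 4938, 0, 0, 0, 0, 93, 0, 0, []⟩)))) (.node (.node (.node (.leaf ⟨7, 541, 541, (-1), 0, 1, 0, 51, 5, 541, [2897, 2895, 2948, 2894, 2896]⟩) (.leaf ⟨6, 3165, 3178, 0, 0, 0, 0, 53, 0, 3178, [19331, 19333, 19262]⟩)) (.node (.leaf ⟨6, 1880, 1881, 0, 0, 0, 0, 93, 0, 0, []⟩) (.leaf ⟨3, 4636, 4637, 0, 0,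 0, 0, 32, 0, 4637, [27525, 18427, 27514]⟩))) (.node (.node (.leaf ⟨6, 1134, 1135, 0, 0, 0, 0, 93, 0, 0, []⟩) (.leaf ⟨8, 3918, 3919, 0, 0, 0, 0, 93, 0, 0, []⟩)) (.node (.leaf ⟨0, 2246, 2537, 0, 0, 0, 0, 1, 0, 2537, [15203, 15237, 13030]⟩) (.leaf ⟨0, 0, 0, 0, 0, 0, 0, 0, 0, 0, []⟩))))) (.node (.node (.node (.node (.leaf ⟨5, 356, 357, 0, 0, 0, 0, 93, 0, 0, []⟩) (.leaf ⟨6, 3022, 3023, 0, 0, 0, 0, 93, 0, 0, []⟩)) (.node (.leaf ⟨6, 1717, 1717, (-1), 0, 1, 0, 54, 0, 1717, [10101, 10116, 10100]⟩) (.leaf ⟨6, 4473, 4474, 0, 0, 0, 0, 93, 0, 0, []⟩))) (.node (.node (.leaf ⟨9, 941, 942, 0, 0, 0, 0, 93, 0, 0, []⟩) (.leaf ⟨6, 3761, 3763, 0, 0, 0, 0, 52, 2, 3733, [22392, 22009, 22404]⟩)) (.node (.leaf ⟨10, 809, 654, 0, 0, 0, 0, 65, 4, 671, [5174, 3833, 14212, 3620, 3626]⟩) (.leaf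 ⟨10, 5095, 5095, 1, 0, 1, 0, 65, 4, 748, [30582, 4705, 30596, 4704, 30582]⟩)))) (.node (.node (.node (.leaf ⟨7, 488, 488, (-1), 0, (-1), 0, 46, 3, 488, [2537, 3972, 2536]⟩) (.leaf ⟨0, 3364, 3358, 0, 0, 0, 0, 5, 0, 3358, [20331, 20355, 20356]⟩)) (.node (.leaf ⟨9, 2077, 1946, 0, 0, 0, 0, 53, 3, 2077, [12155, 11518, 11432]⟩) (.leaf ⟨7, 2542, 2890, 0, 0, 0, 0, 51, 5, 2542, [15213, 15211, 28548, 17640, 17642]⟩))) (.node (.node (.leaf ⟨10, 1365, 1382, 0, 0, 0, 0, 93, 0, 0, []⟩) (.leaf ⟨4, 4076, 4076, 1, 0, (-1), 0, 39, 0, 4076, [24389, 24452, 24388]⟩)) (.node (.leaf ⟨11, 2705, 1698, 0, 0, 0, 0, 50, 3, 2705, [16261, 16259, 9988]⟩) (.leaf ⟨0, 0, 0, 0, 0, 0, 0, 0, 0, 0, []⟩))))))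

def factsPart196 : ATree TFact :=
  .node (.node (.node (.node (.node (.node (.leaf ⟨6, 91, 92, 0, 0, 0, 0, 93, 0, 0, []⟩) (.leaf ⟨3, 2767, 2767, 1, 0, 1, 0, 35, 0, 2767, [16767, 16774, 16766]⟩)) (.node (.leaf ⟨7, 1491, 1510, 0, 0, 0, 0, 93, 0, 0, []⟩) (.leaf ⟨7, 4196, 4154, 0, 0, 0, 0, 51, 5, 4196, [24961, 24959, 2376, 24732, 24734]⟩))) (.node (.node (.leaf ⟨6, 646, 646, (-1), 0, 1, 0, 54, 0, 646, [3587, 4486, 3586]⟩) (.leaf ⟨11, 3477, 3482, 0, 0, 0, 0, 44, 3, 3477, [20853, 20868, 20870]⟩)) (.node (.leaf ⟨7, 2190, 2189, 0, 0, 0, 0, 59, 0, 2189, [12677, 8277, 12678]⟩) (.leaf ⟨6, 517, 517, 1, 0, 1, 0, 45, 5, 517, [2699, 2079, 29062, 2078, 2698]⟩)))) (.node (.node (.node (.leaf ⟨8, 462, 439, 0, 0, 0, 0, 26, 3, 462, [2425, 2438, 2350]⟩) (.leaf ⟨10, 3105, 3109, 0, 0,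 0, 0, 93, 0, 0, []⟩)) (.node (.leaf ⟨0, 1780, 1778, 0, 0, 0, 0, 9, 2, 1745, [10628, 10269, 10620]⟩) (.leaf ⟨10, 4556, 4557, 0, 0, 0, 0, 93, 0, 0, []⟩))) (.node (.node (.leaf ⟨7, 280, 1035, 0, 0, 0, 0, 93, 0, 0, []⟩) (.leaf ⟨3, 3834, 3536, 0, 0, 0, 0, 33, 0, 3536, [21061, 18611, 22892]⟩)) (.node (.leaf ⟨7, 739, 746, 0, 0, 0, 0, 46, 3, 739, [4603, 5058, 4662]⟩) (.leaf ⟨5, 3749, 5176, 0, 0, 0, 0, 93, 0, 0, []⟩))))) (.node (.node (.node (.node (.leaf ⟨2, 149, 96, 0, 0, 0, 0, 26, 0, 96, [405, 1415, 842]⟩) (.leaf ⟨11, 2915, 2916, 0, 0, 0, 0, 93, 0, 0, []⟩)) (.node (.leaf ⟨7, 1650, 1544, 0, 0, 0, 0, 58, 0, 1544, [8695, 8661, 9606]⟩) (.leaf ⟨6, 4366, 4371, (-18), 0, (-12), 0, 53, 2, 4363, [25870, 25987, 25990]⟩))) (.node (.node (.leaf ⟨11, 834, 834, 1, 0, (-1), 0, 62, 3, 834,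 [5321, 4046, 5320]⟩) (.leaf ⟨9, 90, 90, (-1), 0, 1, 0, 42, 3, 90, [389, 21894, 388]⟩)) (.node (.leaf ⟨5, 2191, 2370, 21, 0, 11, 0, 38, 5, 2191, [13701, 12615, 12710, 8278, 13702]⟩) (.leaf ⟨9, 2479, 5004, 0, 0, 0, 0, 93, 0, 0, []⟩)))) (.node (.node (.node (.leaf ⟨6, 11, 11, (-1), 0, (-1), 0, 32, 3, 11, [21, 3462, 20]⟩) (.leaf ⟨6, 2135, 2135, (-1), 0, (-1), 0, 45, 5, 2135, [12363, 19844, 19846, 19845, 12362]⟩)) (.node (.leaf ⟨6, 1972, 1960, 0, 0, 0, 0, 52, 2, 1971, [11654, 11653, 11494]⟩) (.leaf ⟨9, 4718, 4719, 0, 0, 0, 0, 93, 0, 0, []⟩))) (.node (.node (.leaf ⟨5, 1261, 1262, 0, 0, 0, 0, 93, 0, 0, []⟩) (.leaf ⟨8, 2722, 578, 0, 0, 0, 0, 47, 3, 2722, [16485, 16483, 3104]⟩)) (.node (.leaf ⟨1, 1683, 2629, 0, 0, 0, 0, 93, 0, 0, []⟩) (.leaf ⟨0, 0, 0, 0, 0, 0, 0, 0, 0, 0, []⟩))))))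 (.node (.node (.node (.node (.node (.leaf ⟨4, 104, 104, (-1), 0, (-1), 0, 38, 0, 104, [445, 867, 860, 866, 444]⟩) (.leaf ⟨7, 2752, 2752, (-1), 0, 1, 0, 56, 4, 166, [16642, 951, 16802, 950, 16642]⟩)) (.node (.leaf ⟨2, 1604, 1606, 0, 0, 0, 0, 29, 0, 1606, [9091, 9094, 9080]⟩) (.leaf ⟨4, 4293, 4286, 0, 0, 0, 0, 39, 0, 4286, [25425, 25478, 25470]⟩))) (.node (.node (.leaf ⟨7, 681, 681, (-1), 0, 1, 0, 59, 0, 681, [4079, 4998, 4078]⟩) (.leaf ⟨11, 3617, 3612, 0, 0, 0, 0, 59, 3, 3617, [21383, 21381, 21364]⟩)) (.node (.leaf ⟨2, 2259, 994, 0, 0, 0, 0, 23, 0, 994, [6325, 13191, 13056]⟩) (.leaf ⟨5, 4938, 4939, 0, 0, 0, 0, 93, 0, 0, []⟩)))) (.node (.node (.node (.leaf ⟨7, 542, 542, (-1), 0, (-1), 0, 46, 3, 542, [2899, 2950, 2898]⟩) (.leaf ⟨7, 3178, 3179, 0, 0, 0, 0, 93, 0, 0, []⟩))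 (.node (.leaf ⟨8, 1873, 1881, 0, 0, 0, 0, 52, 3, 1873, [11117, 11140, 11142]⟩) (.leaf ⟨4, 4637, 1971, 0, 0, 0, 0, 39, 0, 1971, [11653, 18422, 27524]⟩))) (.node (.node (.leaf ⟨3, 1132, 1127, 0, 0, 0, 0, 36, 2, 1131, [7040, 7039, 7006]⟩) (.leaf ⟨5, 3919, 3920, 0, 0, 0, 0, 93, 0, 0, []⟩)) (.node (.leaf ⟨0, 2247, 2538, 0, 0, 0, 0, 8, 0, 2538, [15205, 15239, 13032]⟩) (.leaf ⟨0, 0, 0, 0, 0, 0, 0, 0, 0, 0, []⟩))))) (.node (.node (.node (.node (.leaf ⟨4, 357, 358, 0, 0, 0, 0, 93, 0, 0, []⟩) (.leaf ⟨5, 3023, 3024, 0, 0, 0, 0, 93, 0, 0, []⟩)) (.node (.leaf ⟨7, 1611, 1716, 0, 0, 0, 0, 33, 3, 1611, [9107, 10056, 10098]⟩) (.leaf ⟨10, 4471, 4474, 0, 0, 0, 0, 54, 3, 4471, [26491, 26501, 26502]⟩))) (.node (.node (.leaf ⟨6, 900, 940, 0, 0, 0, 0, 32, 3, 900, [5725, 5562, 6018]⟩) (.leaf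 ⟨9, 105, 105, (-1), 0, 1, 0, 35, 3, 105, [449, 21756, 448]⟩)) (.node (.leaf ⟨6, 590, 639, 21, 0, (-17), 0, 66, 26, 533, [2821, 2825, 3191, 3025, 4106, 3035, 3012, 3623, 4040, 3617, 4036, 4026, 9346, 14186, 2911, 2895, 2948, 2964, 14190, 2989, 3113, 2797, 3124, 3126, 3140, 3328, 3344, 14192, 2246, 3180, 2225, 2365, 3229, 4974, 14198, 14202, 3225, 9306, 2828, 4001, 5045, 4658, 9192, 14174, 14172, 11617, 4081, 4085, 3629, 14206, 14210, 14215, 5181, 5182, 3427, 3403, 3401, 3399, 3492, 14004, 9368, 13958, 3538]⟩) (.leaf ⟨5, 5097, 5097, 1, 0, 1, 0, 49, 4, 5096, [30586, 30585, 30598, 30584, 30586]⟩)))) (.node (.node (.node (.leaf ⟨7, 489, 489, (-1), 0, 1, 0, 40, 3, 489, [2539, 3974, 2538]⟩) (.leaf ⟨1, 207, 207, (-1), 0, (-1), 0, 16, 0, 207, [1497, 17894, 1496]⟩)) (.node (.leaf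 ⟨5, 1946, 2080, 0, 0, 0, 0, 93, 0, 0, []⟩) (.leaf ⟨7, 2543, 2891, 0, 0, 0, 0, 46, 3, 2543, [15215, 28550, 17644]⟩))) (.node (.node (.leaf ⟨4, 268, 1383, 0, 0, 0, 0, 93, 0, 0, []⟩) (.leaf ⟨4, 4080, 4080, (-1), 0, 1, 0, 41, 0, 4080, [24397, 24454, 24396]⟩)) (.node (.leaf ⟨7, 1723, 2705, (-8), 0, 4, 0, 59, 2, 763, [16257, 10137, 16263]⟩) (.leaf ⟨0, 0, 0, 0, 0, 0, 0, 0, 0, 0, []⟩))))))

def factsPart197 : ATree TFact :=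
  .node (.node (.node (.node (.node (.node (.leaf ⟨8, 92, 93, 0, 0, 0, 0, 93, 0, 0, []⟩) (.leaf ⟨2, 175, 2515, 0, 0, 0, 0, 26, 0, 2515, [15073, 509, 1180]⟩)) (.node (.leaf ⟨3, 1509, 1510, 0, 0, 0, 0, 33, 2, 1492, [8582, 8547, 8584]⟩) (.leaf ⟨7, 4197, 4155, 0, 0, 0, 0, 46, 3, 4197, [24963, 24968, 24736]⟩))) (.node (.node (.leaf ⟨10, 472, 472, (-1), 0, 1, 0, 54, 3, 472, [2457, 3954, 2456]⟩) (.leaf ⟨10, 3482, 3483, 0, 0, 0, 0, 93, 0, 0, []⟩)) (.node (.leaf ⟨11, 1778, 2191, 0, 0, 0, 0, 93, 0, 0, []⟩) (.leaf ⟨6, 518, 518, 1, 0, (-1), 0, 39, 3, 518, [2701, 29064, 2700]⟩)))) (.node (.node (.node (.leaf ⟨8, 463, 465, 0, 0, 0, 0, 61, 0, 465, [2431, 2441, 2426]⟩) (.leaf ⟨9, 3109, 3021, 0, 0, 0, 0, 63, 2, 3105, [18824, 18805, 18306]⟩)) (.node (.leaf ⟨0, 1779, 1781, 0, 0, 0, 0,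 4, 0, 1781, [10631, 10632, 10624]⟩) (.leaf ⟨6, 4557, 4519, 0, 0, 0, 0, 54, 0, 4519, [26843, 27015, 27016]⟩))) (.node (.node (.leaf ⟨5, 1033, 1035, 0, 0, 0, 0, 46, 2, 281, [6528, 1723, 6536]⟩) (.leaf ⟨3, 3835, 3537, 0, 0, 0, 0, 32, 0, 3537, [21063, 22921, 22896]⟩)) (.node (.leaf ⟨5, 605, 605, 1, 0, 1, 0, 50, 0, 605, [3275, 5052, 3274]⟩) (.leaf ⟨8, 5174, 5176, 0, 0, 0, 0, 47, 3, 5174, [31103, 22423, 31112]⟩))))) (.node (.node (.node (.node (.leaf ⟨7, 149, 199, 0, 0, 0, 0, 93, 0, 0, []⟩) (.leaf ⟨4, 2916, 2912, 0, 0, 0, 0, 44, 0, 2912, [17783, 17799, 17800]⟩)) (.node (.leaf ⟨11, 1650, 1651, 0, 0, 0, 0, 93, 0, 0, []⟩) (.leaf ⟨11, 448, 448, 1, 0, (-1), 0, 62, 3, 448, [2391, 9260, 2390]⟩))) (.node (.node (.leaf ⟨11, 836, 836, 1, 0, 1, 0, 50, 3, 836, [5329, 5512, 5328]⟩) (.leaf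 ⟨9, 91, 91, (-1), 0, (-1), 0, 57, 3, 91, [391, 21896, 390]⟩)) (.node (.leaf ⟨6, 2347, 2370, (-2), 0, 26, 0, 66, 5, 1540, [13426, 13431, 13432, 13429, 10176, 10162, 4808, 4751, 13434, 9162, 9143, 4779, 9137, 9130, 13436, 13438, 13440, 10094, 10085, 10105, 12691, 10945, 10947, 9757, 10579, 13452, 13464, 10577, 8984, 13474, 13482, 8960, 8934, 8905, 3082, 3074, 13484, 13486, 13488, 13502, 13508, 13516, 13567, 7161, 13568, 13589, 13596, 13642, 13641, 13654, 13656, 13666, 10638, 10661, 13672, 10627, 13406, 13425, 10684, 13674, 13678, 13700, 13704]⟩) (.leaf ⟨2, 4969, 5004, 0, 0, 0, 0, 27, 2, 4820, [29746, 28633, 30088]⟩)))) (.node (.node (.node (.leaf ⟨6, 305, 305, (-1), 0, 1, 0, 24, 3, 305, [1789, 3464, 1788]⟩) (.leaf ⟨6, 2136, 2136, 1, 0, 1, 0, 54, 0, 2136, [12365, 19848,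 12364]⟩)) (.node (.leaf ⟨5, 1972, 1973, 0, 0, 0, 0, 93, 0, 0, []⟩) (.leaf ⟨0, 4719, 4720, 0, 0, 0, 0, 93, 0, 0, []⟩))) (.node (.node (.leaf ⟨6, 1262, 1263, 0, 0, 0, 0, 93, 0, 0, []⟩) (.leaf ⟨8, 579, 2723, 0, 0, 0, 0, 41, 3, 579, [3107, 23945, 16486]⟩)) (.node (.leaf ⟨5, 1754, 2629, 0, 0, 0, 0, 14, 3, 1754, [10351, 9898, 15752]⟩) (.leaf ⟨0, 0, 0, 0, 0, 0, 0, 0, 0, 0, []⟩)))))) (.node (.node (.node (.node (.node (.leaf ⟨3, 155, 155, 1, 0, (-1), 0, 30, 0, 155, [899, 465, 904, 464, 898]⟩) (.leaf ⟨7, 2817, 2817, 1, 0, (-1), 0, 57, 0, 2817, [17227, 17288, 17226]⟩)) (.node (.leaf ⟨2, 1605, 1607, 0, 0, 0, 0, 23, 0, 1607, [9093, 9097, 9082]⟩) (.leaf ⟨5, 4295, 4288, 0, 0, 0, 0, 38, 5, 4295, [25475, 25473, 25480, 25428, 25432]⟩))) (.node (.node (.leaf ⟨11, 488, 488, 1, 0, (-1),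 0, 50, 3, 488, [2537, 4046, 2536]⟩) (.leaf ⟨6, 3617, 3618, 0, 0, 0, 0, 93, 0, 0, []⟩)) (.node (.leaf ⟨2, 2260, 995, 0, 0, 0, 0, 22, 0, 995, [6327, 13193, 13058]⟩) (.leaf ⟨7, 4939, 4940, 0, 0, 0, 0, 93, 0, 0, []⟩)))) (.node (.node (.node (.leaf ⟨7, 543, 543, (-1), 0, 1, 0, 40, 3, 543, [2901, 2952, 2900]⟩) (.leaf ⟨6, 3179, 3180, 0, 0, 0, 0, 93, 0, 0, []⟩)) (.node (.leaf ⟨7, 1881, 1882, 0, 0, 0, 0, 93, 0, 0, []⟩) (.leaf ⟨6, 2080, 4511, 59, 0, (-31), 0, 53, 2, 2078, [12170, 25073, 27000]⟩))) (.node (.node (.leaf ⟨3, 1128, 1133, 0, 0, 0, 0, 31, 0, 1133, [7043, 7048, 7008]⟩) (.leaf ⟨4, 3920, 3921, 0, 0, 0, 0, 93, 0, 0, []⟩)) (.node (.leaf ⟨0, 2248, 2539, 0, 0, 0, 0, 9, 0, 2539, [15207, 15241, 13034]⟩) (.leaf ⟨0, 0, 0, 0, 0, 0, 0, 0, 0, 0, []⟩))))) (.node (.node (.node (.node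 (.leaf ⟨3, 358, 359, 0, 0, 0, 0, 93, 0, 0, []⟩) (.leaf ⟨3, 3021, 879, 0, 0, 0, 0, 36, 2, 3020, [18306, 18305, 5576]⟩)) (.node (.leaf ⟨7, 1705, 1717, 0, 0, 0, 0, 58, 0, 1717, [10101, 10121, 10016]⟩) (.leaf ⟨10, 938, 4475, 0, 0, 0, 0, 93, 0, 0, []⟩))) (.node (.node (.leaf ⟨6, 938, 941, 0, 0, 0, 0, 24, 3, 938, [6011, 6024, 6020]⟩) (.leaf ⟨9, 106, 106, (-1), 0, (-1), 0, 57, 3, 106, [451, 22408, 450]⟩)) (.node (.leaf ⟨5, 1620, 1620, 1, 0, (-1), 0, 50, 0, 1620, [9259, 4128, 9258]⟩) (.leaf ⟨0, 5095, 5095, 1, 0, 1, 0, 10, 0, 5095, [30583, 28366, 30582]⟩)))) (.node (.node (.node (.leaf ⟨4, 480, 480, 1, 0, 1, 0, 40, 0, 480, [2511, 2498, 2510]⟩) (.leaf ⟨1, 208, 208, 1, 0, 1, 0, 15, 0, 208, [1499, 20360, 1498]⟩)) (.node (.leaf ⟨9, 2078, 2080, 0, 0, 0, 0, 48, 3, 2078, [12157, 12166,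 12168]⟩) (.leaf ⟨1, 1469, 4801, 0, 0, 0, 0, 93, 0, 0, []⟩))) (.node (.node (.leaf ⟨7, 1383, 1384, 0, 0, 0, 0, 93, 0, 0, []⟩) (.leaf ⟨5, 4082, 4082, (-1), 0, 1, 0, 38, 5, 4082, [24403, 24399, 24456, 24398, 24402]⟩)) (.node (.leaf ⟨10, 1695, 2706, 0, 0, 0, 0, 93, 0, 0, []⟩) (.leaf ⟨0, 0, 0, 0, 0, 0, 0, 0, 0, 0, []⟩))))))

def factsPart198 : ATree TFact :=
  .node (.node (.node (.node (.node (.node (.leaf ⟨7, 89, 94, 0, 0, 0, 0, 93, 0, 0, []⟩) (.leaf ⟨9, 175, 2768, 0, 0, 0, 0, 93, 0, 0, []⟩)) (.node (.leaf ⟨7, 1502, 1511, 0, 0, 0, 0, 93, 0, 0, []⟩) (.leaf ⟨7, 4198, 4156, 0, 0, 0, 0, 40, 3, 4198, [24965, 24970, 24738]⟩))) (.node (.node (.leaf ⟨10, 473, 473, (-1), 0, (-1), 0, 58, 3, 473, [2459, 4490, 2458]⟩) (.leaf ⟨8, 976, 3484, 0, 0, 0, 0, 93, 0, 0, []⟩)) (.node (.leaf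 ⟨1, 1778, 1423, 0, 0, 0, 0, 19, 2, 1744, [10620, 10267, 8260]⟩) (.leaf ⟨6, 519, 519, (-1), 0, 1, 0, 54, 0, 519, [2703, 29066, 2702]⟩)))) (.node (.node (.node (.leaf ⟨8, 464, 466, 0, 0, 0, 0, 62, 0, 466, [2433, 2443, 2428]⟩) (.leaf ⟨11, 678, 485, 21, 0, (-11), 0, 59, 3, 678, [3995, 4591, 2531]⟩)) (.node (.leaf ⟨11, 1071, 1782, 0, 0, 0, 0, 93, 0, 0, []⟩) (.leaf ⟨10, 3520, 4558, 0, 0, 0, 0, 93, 0, 0, []⟩))) (.node (.node (.leaf ⟨8, 278, 1036, 0, 0, 0, 0, 93, 0, 0, []⟩) (.leaf ⟨3, 3836, 3538, 0, 0, 0, 0, 34, 0, 3538, [21065, 22923, 22900]⟩)) (.node (.leaf ⟨6, 604, 604, (-1), 0, (-1), 0, 54, 0, 604, [3273, 2794, 3272]⟩) (.leaf ⟨2, 5176, 5176, 1, 0, (-3), 0, 23, 2, 3749, [31112, 22202, 31112]⟩))))) (.node (.node (.node (.node (.leaf ⟨2, 199, 198, 0, 0, 0, 0, 25, 0, 198,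 [1411, 1417, 1418]⟩) (.leaf ⟨10, 2913, 2917, 0, 0, 0, 0, 93, 0, 0, []⟩)) (.node (.leaf ⟨7, 1651, 1649, 0, 0, 0, 0, 59, 0, 1649, [9591, 9609, 9610]⟩) (.leaf ⟨11, 449, 449, 1, 0, 1, 0, 50, 3, 449, [2393, 25994, 2392]⟩))) (.node (.node (.leaf ⟨11, 863, 863, 1, 0, (-1), 0, 44, 3, 863, [5501, 5514, 5500]⟩) (.leaf ⟨9, 92, 92, (-1), 0, 1, 0, 53, 3, 92, [393, 21898, 392]⟩)) (.node (.leaf ⟨4, 1424, 2371, 0, 0, 0, 0, 93, 0, 0, []⟩) (.leaf ⟨10, 5004, 5005, 0, 0, 0, 0, 93, 0, 0, []⟩)))) (.node (.node (.node (.leaf ⟨6, 619, 619, (-1), 0, (-1), 0, 15, 3, 619, [3397, 3466, 3396]⟩) (.leaf ⟨7, 3284, 3284, 1, 0, 1, 0, 51, 5, 3284, [19839, 19835, 19850, 19834, 19838]⟩)) (.node (.leaf ⟨6, 1948, 1973, 59, 0, 31, 0, 45, 3, 1949, [11455, 11436, 11651, 11657, 11658]⟩) (.leaf ⟨7, 4720, 4721,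 0, 0, 0, 0, 93, 0, 0, []⟩))) (.node (.node (.leaf ⟨4, 1263, 1264, 0, 0, 0, 0, 93, 0, 0, []⟩) (.leaf ⟨9, 531, 531, (-1), 0, 1, 0, 63, 0, 531, [2797, 22646, 2796]⟩)) (.node (.leaf ⟨10, 2629, 2630, 0, 0, 0, 0, 93, 0, 0, []⟩) (.leaf ⟨0, 0, 0, 0, 0, 0, 0, 0, 0, 0, []⟩)))))) (.node (.node (.node (.node (.node (.leaf ⟨3, 156, 156, (-1), 0, 1, 0, 33, 0, 156, [901, 906, 900]⟩) (.leaf ⟨6, 2818, 2818, (-1), 0, (-1), 0, 51, 0, 2818, [17237, 17235, 17290, 17234, 17236]⟩)) (.node (.leaf ⟨10, 1607, 1608, 0, 0, 0, 0, 93, 0, 0, []⟩) (.leaf ⟨5, 4296, 4289, 0, 0, 0, 0, 31, 3, 4296, [25477, 25482, 25436]⟩))) (.node (.node (.leaf ⟨11, 489, 489, 1, 0, 1, 0, 44, 3, 489, [2539, 5002, 2538]⟩) (.leaf ⟨11, 3613, 3618, 0, 0, 0, 0, 55, 3, 3613, [21367, 21385, 21386]⟩)) (.node (.leaf ⟨2, 2282,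 2285, 0, 0, 0, 0, 27, 0, 2285, [13149, 13195, 13136]⟩) (.leaf ⟨6, 4940, 4941, 0, 0, 0, 0, 93, 0, 0, []⟩)))) (.node (.node (.node (.leaf ⟨7, 544, 544, (-1), 0, (-1), 0, 33, 3, 544, [2903, 2954, 2902]⟩) (.leaf ⟨7, 3176, 3180, 0, 0, 0, 0, 51, 5, 3176, [19323, 19321, 19334, 19336, 19338]⟩)) (.node (.leaf ⟨8, 1882, 1883, 0, 0, 0, 0, 93, 0, 0, []⟩) (.leaf ⟨7, 4084, 2080, 0, 0, 0, 0, 46, 3, 4084, [24411, 18408, 12168]⟩))) (.node (.node (.leaf ⟨3, 1129, 1134, 0, 0, 0, 0, 33, 0, 1134, [7045, 7051, 7010]⟩) (.leaf ⟨7, 3921, 3922, 0, 0, 0, 0, 93, 0, 0, []⟩)) (.node (.leaf ⟨0, 2249, 2540, 0, 0, 0, 0, 10, 0, 2540, [15209, 15243, 13036]⟩) (.leaf ⟨0, 0, 0, 0, 0, 0, 0, 0, 0, 0, []⟩))))) (.node (.node (.node (.node (.leaf ⟨9, 359, 360, 0, 0, 0, 0, 93, 0, 0, []⟩) (.leaf ⟨3, 3017, 3022,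 0, 0, 0, 0, 33, 0, 3022, [18309, 18314, 18294]⟩)) (.node (.leaf ⟨5, 1705, 1719, 0, 0, 0, 0, 93, 0, 0, []⟩) (.leaf ⟨7, 4475, 4476, 0, 0, 0, 0, 93, 0, 0, []⟩))) (.node (.node (.leaf ⟨6, 939, 942, 0, 0, 0, 0, 53, 0, 942, [6023, 6027, 6012]⟩) (.leaf ⟨9, 107, 107, (-1), 0, 1, 0, 53, 3, 107, [453, 22410, 452]⟩)) (.node (.leaf ⟨7, 2418, 2412, (-138), 0, 18, 0, 68, 32, 639, [13948, 13950, 3539, 3494, 3498, 3502, 13956, 3508, 13964, 13972, 3510, 4940, 13974, 5086, 4732, 13976, 13983, 3269, 14093, 14094, 4614, 4628, 4630, 4183, 14108, 14116, 4182, 14151, 4400, 14154, 4620, 4618, 4615, 14158, 4607, 4603, 5028, 14160, 5080, 4413, 14029, 14166, 3022, 3094, 9196, 9186, 14172, 9198, 14174, 9193, 4659, 4665, 9252, 4622, 14177, 14178, 14184, 3539, 13958, 9368, 3538, 14217, 3224, 9380,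 14202, 4908, 9380, 3228, 2611, 3296, 3002, 4150, 3004, 3300, 3304, 3325, 3334, 3350, 4926, 9272, 9268, 14218, 9264, 9259, 4128, 4127, 4125, 4622, 13938]⟩) (.leaf ⟨0, 5096, 5096, (-1), 0, (-1), 0, 4, 0, 5096, [30585, 30602, 30584]⟩)))) (.node (.node (.node (.leaf ⟨4, 481, 481, (-1), 0, (-1), 0, 39, 0, 481, [2513, 3978, 2512]⟩) (.leaf ⟨1, 209, 209, (-1), 0, (-1), 0, 17, 0, 209, [1501, 20362, 1500]⟩)) (.node (.leaf ⟨4, 2080, 2081, 0, 0, 0, 0, 93, 0, 0, []⟩) (.leaf ⟨10, 4801, 4802, 0, 0, 0, 0, 93, 0, 0, []⟩))) (.node (.node (.leaf ⟨6, 1384, 1385, 0, 0, 0, 0, 93, 0, 0, []⟩) (.leaf ⟨5, 4083, 4083, (-1), 0, (-1), 0, 31, 3, 4083, [24407, 24458, 24406]⟩)) (.node (.leaf ⟨1, 1693, 684, 0, 0, 0, 0, 19, 0, 684, [4123, 8891, 9948]⟩) (.leaf ⟨0, 0, 0, 0, 0, 0, 0, 0, 0, 0, []⟩))))))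

def factsPart199 : ATree TFact :=
  .node (.node (.node (.node (.node (.node (.leaf ⟨4, 91, 94, 0, 0, 0, 0, 40, 2, 90, [390, 389, 396]⟩) (.leaf ⟨2, 2768, 2767, 0, 0, 0, 0, 27, 0, 2767, [16767, 16779, 16780]⟩)) (.node (.leaf ⟨7, 1503, 1512, 0, 0, 0, 0, 93, 0, 0, []⟩) (.leaf ⟨7, 4199, 4157, 0, 0, 0, 0, 33, 3, 4199, [24967, 24972, 24740]⟩))) (.node (.node (.leaf ⟨10, 474, 474, (-1), 0, 1, 0, 54, 3, 474, [2461, 4492, 2460]⟩) (.leaf ⟨5, 3484, 3485, 0, 0, 0, 0, 93, 0, 0, []⟩)) (.node (.leaf ⟨1, 2190, 2191, 0, 0, 0, 0, 20, 0, 2191, [12683, 12684, 12678]⟩) (.leaf ⟨5, 1768, 1768, 1, 0, (-1), 0, 31, 3, 1768, [10545, 14618, 10544]⟩)))) (.node (.node (.node (.leaf ⟨11, 88, 467, 0, 0, 0, 0, 93, 0, 0, []⟩) (.leaf ⟨11, 885, 3021, (-21), 0, 11, 0, 62, 3, 885, [5601, 18829, 18328]⟩))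 (.node (.leaf ⟨5, 1782, 1783, 0, 0, 0, 0, 93, 0, 0, []⟩) (.leaf ⟨10, 4554, 3518, 0, 0, 0, 0, 58, 3, 4554, [27007, 15933, 20990]⟩))) (.node (.node (.leaf ⟨6, 280, 1036, 0, 0, 0, 0, 52, 2, 279, [1720, 1719, 6540]⟩) (.leaf ⟨3, 3837, 3539, 0, 0, 0, 0, 31, 0, 3539, [21067, 22925, 22904]⟩)) (.node (.leaf ⟨6, 605, 605, 1, 0, 1, 0, 55, 0, 605, [3275, 14732, 3274]⟩) (.leaf ⟨2, 5174, 5174, 1, 0, 3, 0, 26, 2, 5176, [31115, 31116, 31115]⟩))))) (.node (.node (.node (.node (.leaf ⟨10, 148, 148, 1, 0, 1, 0, 54, 3, 148, [841, 830, 840]⟩) (.leaf ⟨11, 2917, 2918, 0, 0, 0, 0, 93, 0, 0, []⟩)) (.node (.leaf ⟨10, 1556, 1652, 0, 0, 0, 0, 93, 0, 0, []⟩) (.leaf ⟨11, 450, 450, 1, 0, (-1), 0, 44, 3, 450, [2395, 25996, 2394]⟩))) (.node (.node (.leaf ⟨11, 864, 864, 1, 0, 1, 0, 64, 3, 864, [5503,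 5516, 5502]⟩) (.leaf ⟨9, 667, 667, (-1), 0, (-1), 0, 48, 3, 667, [3775, 21900, 3774]⟩)) (.node (.leaf ⟨7, 2371, 2370, 0, 0, 0, 0, 40, 3, 2371, [13709, 8280, 13702]⟩) (.leaf ⟨2, 5005, 4970, 0, 0, 0, 0, 28, 0, 4970, [29749, 30090, 30092]⟩)))) (.node (.node (.node (.leaf ⟨7, 621, 621, (-1), 0, (-1), 0, 51, 5, 621, [3401, 3399, 3468, 3398, 3400]⟩) (.leaf ⟨7, 2133, 3286, 0, 0, 0, 0, 93, 0, 0, []⟩)) (.node (.leaf ⟨2, 1973, 1938, (-59), 0, 31, 0, 24, 0, 1938, [11429, 11450, 11660]⟩) (.leaf ⟨6, 4721, 4722, 0, 0, 0, 0, 93, 0, 0, []⟩))) (.node (.node (.leaf ⟨5, 1264, 1265, 0, 0, 0, 0, 93, 0, 0, []⟩) (.leaf ⟨9, 576, 576, (-1), 0, (-1), 0, 57, 3, 576, [3101, 23948, 3100]⟩)) (.node (.leaf ⟨5, 2630, 2631, 0, 0, 0, 0, 93, 0, 0, []⟩) (.leaf ⟨0, 0, 0, 0, 0, 0, 0, 0, 0, 0, []⟩))))))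 (.node (.node (.node (.node (.node (.leaf ⟨8, 126, 157, 0, 0, 0, 0, 93, 0, 0, []⟩) (.leaf ⟨5, 2758, 2758, 1, 0, (-1), 0, 45, 0, 2758, [16701, 17287, 17292, 17286, 16700]⟩)) (.node (.leaf ⟨5, 248, 1609, 0, 0, 0, 0, 93, 0, 0, []⟩) (.leaf ⟨5, 974, 4297, 0, 0, 0, 0, 93, 0, 0, []⟩))) (.node (.node (.leaf ⟨10, 681, 681, 1, 0, 1, 0, 65, 4, 490, [4078, 2547, 5004, 2546, 4078]⟩) (.leaf ⟨5, 3618, 3619, 0, 0, 0, 0, 93, 0, 0, []⟩)) (.node (.leaf ⟨2, 2283, 2286, 0, 0, 0, 0, 28, 0, 2286, [13151, 13197, 13140]⟩) (.leaf ⟨10, 1746, 4942, 0, 0, 0, 0, 93, 0, 0, []⟩)))) (.node (.node (.node (.leaf ⟨7, 545, 545, (-1), 0, 1, 0, 25, 3, 545, [2905, 2956, 2904]⟩) (.leaf ⟨10, 3160, 3180, 27, 0, 1, 0, 58, 3, 3160, [19319, 19327, 19340]⟩)) (.node (.leaf ⟨7, 1875, 1883, 0, 0, 0, 0, 56, 4, 1874,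 [11120, 11119, 11144, 11146, 11148]⟩) (.leaf ⟨10, 4084, 4638, 0, 0, 0, 0, 93, 0, 0, []⟩))) (.node (.node (.leaf ⟨3, 1130, 1135, 0, 0, 0, 0, 32, 0, 1135, [7047, 7053, 7012]⟩) (.leaf ⟨6, 3922, 3923, 0, 0, 0, 0, 93, 0, 0, []⟩)) (.node (.leaf ⟨0, 2250, 2541, 0, 0, 0, 0, 6, 0, 2541, [15211, 15245, 13038]⟩) (.leaf ⟨0, 0, 0, 0, 0, 0, 0, 0, 0, 0, []⟩))))) (.node (.node (.node (.node (.leaf ⟨7, 360, 361, 0, 0, 0, 0, 93, 0, 0, []⟩) (.leaf ⟨3, 3018, 3023, 0, 0, 0, 0, 32, 0, 3023, [18311, 18317, 18296]⟩)) (.node (.leaf ⟨10, 1719, 1719, (-1), 0, 1, 0, 49, 5, 1719, [10125, 10017, 9770, 10016, 10124]⟩) (.leaf ⟨6, 4476, 4477, 0, 0, 0, 0, 93, 0, 0, []⟩))) (.node (.node (.leaf ⟨7, 942, 943, 0, 0, 0, 0, 93, 0, 0, []⟩) (.leaf ⟨9, 110, 110, (-1), 0, (-1), 0, 48, 3, 110, [467, 22412, 466]⟩))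 (.node (.leaf ⟨1, 1782, 1618, 0, 0, 0, 0, 20, 0, 1618, [9249, 13941, 10636]⟩) (.leaf ⟨0, 5097, 5097, 1, 0, 1, 0, 9, 0, 5097, [30587, 30604, 30586]⟩)))) (.node (.node (.node (.leaf ⟨5, 483, 483, (-1), 0, (-1), 0, 38, 5, 483, [2517, 2515, 3980, 2514, 2516]⟩) (.leaf ⟨1, 210, 210, 1, 0, 1, 0, 14, 0, 210, [1503, 20364, 1502]⟩)) (.node (.leaf ⟨9, 2079, 2081, 0, 0, 0, 0, 42, 3, 2079, [12159, 12170, 12172]⟩) (.leaf ⟨7, 4802, 4803, 0, 0, 0, 0, 93, 0, 0, []⟩))) (.node (.node (.leaf ⟨8, 1385, 1386, 0, 0, 0, 0, 93, 0, 0, []⟩) (.leaf ⟨5, 4088, 4088, 1, 0, 1, 0, 46, 0, 4088, [24445, 24460, 24444]⟩)) (.node (.leaf ⟨1, 1694, 2413, 0, 0, 0, 0, 20, 0, 2413, [13995, 16269, 9950]⟩) (.leaf ⟨0, 0, 0, 0, 0, 0, 0, 0, 0, 0, []⟩))))))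

def factsPart200 : ATree TFact :=
  .node (.node (.node (.node (.node (.node (.leaf ⟨6, 94, 95, 0, 0, 0, 0, 93, 0, 0, []⟩) (.leaf ⟨10, 175, 175, 1, 0, 1, 0, 61, 3, 175, [1181, 930, 1180]⟩)) (.node (.leaf ⟨5, 1512, 1511, 0, 0, 0, 0, 46, 2, 1503, [8590, 8569, 8588]⟩) (.leaf ⟨10, 4199, 4200, 0, 0, 0, 0, 93, 0, 0, []⟩))) (.node (.node (.leaf ⟨5, 646, 646, (-1), 0, 1, 0, 49, 4, 475, [3586, 2463, 4494, 2462, 3586]⟩) (.leaf ⟨4, 3485, 3486, 0, 0, 0, 0, 93, 0, 0, []⟩)) (.node (.leaf ⟨11, 1838, 2192, 0, 0, 0, 0, 93, 0, 0, []⟩) (.leaf ⟨5, 2359, 2359, 1, 0, 1, 0, 23, 3, 2359, [13571, 29070, 13570]⟩)))) (.node (.node (.node (.leaf ⟨5, 467, 468, 0, 0, 0, 0, 93, 0, 0, []⟩) (.leaf ⟨11, 3109, 875, 21, 0, (-11), 0, 64, 3, 3109, [18826, 18831, 5614]⟩)) (.node (.leaf ⟨0, 1603, 1071,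 0, 0, 0, 0, 9, 0, 1071, [6699, 10335, 9078]⟩) (.leaf ⟨10, 3519, 4555, 0, 0, 0, 0, 54, 3, 3519, [20993, 27023, 27008]⟩))) (.node (.node (.leaf ⟨3, 767, 1037, 0, 0, 0, 0, 93, 0, 0, []⟩) (.leaf ⟨3, 3838, 3840, 0, 0, 0, 0, 33, 0, 3840, [22917, 22927, 22908]⟩)) (.node (.leaf ⟨10, 606, 606, 1, 0, (-1), 0, 65, 4, 503, [3292, 2619, 9180, 2618, 3292]⟩) (.leaf ⟨2, 5175, 5175, 1, 0, (-3), 0, 25, 2, 5174, [31104, 31118, 31104]⟩))))) (.node (.node (.node (.node (.leaf ⟨10, 149, 149, 1, 0, (-1), 0, 61, 3, 149, [843, 1422, 842]⟩) (.leaf ⟨9, 2915, 2917, 0, 0, 0, 0, 63, 2, 2914, [17796, 17793, 17804]⟩)) (.node (.leaf ⟨6, 1652, 1650, 0, 0, 0, 0, 54, 0, 1650, [9607, 8783, 9614]⟩) (.leaf ⟨11, 451, 451, 1, 0, 1, 0, 37, 3, 451, [2397, 25998, 2396]⟩))) (.node (.node (.leaf ⟨11, 865, 865,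 1, 0, (-1), 0, 59, 3, 865, [5505, 5518, 5504]⟩) (.leaf ⟨8, 801, 801, 1, 0, (-1), 0, 60, 0, 801, [5137, 5170, 21902, 5171, 5136]⟩)) (.node (.leaf ⟨6, 2340, 2371, 0, 0, 0, 0, 39, 3, 2340, [13395, 10557, 13708]⟩) (.leaf ⟨11, 5005, 5006, 0, 0, 0, 0, 93, 0, 0, []⟩)))) (.node (.node (.node (.leaf ⟨7, 622, 622, (-1), 0, 1, 0, 46, 3, 622, [3403, 3470, 3402]⟩) (.leaf ⟨5, 3283, 3286, 0, 0, 0, 0, 46, 0, 3286, [19855, 12369, 19834]⟩)) (.node (.leaf ⟨1, 1052, 448, 0, 0, 0, 0, 17, 0, 448, [2391, 8887, 6652]⟩) (.leaf ⟨8, 4722, 4723, 0, 0, 0, 0, 93, 0, 0, []⟩))) (.node (.node (.leaf ⟨7, 1265, 1266, 0, 0, 0, 0, 93, 0, 0, []⟩) (.leaf ⟨9, 577, 577, (-1), 0, 1, 0, 53, 3, 577, [3103, 23950, 3102]⟩)) (.node (.leaf ⟨10, 2628, 2631, 0, 0, 0, 0, 49, 5, 2628, [15751, 15749, 15754, 15756, 15758]⟩)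 (.leaf ⟨0, 0, 0, 0, 0, 0, 0, 0, 0, 0, []⟩)))))) (.node (.node (.node (.node (.node (.leaf ⟨5, 157, 158, 0, 0, 0, 0, 93, 0, 0, []⟩) (.leaf ⟨10, 2755, 2755, 1, 0, (-1), 0, 49, 5, 2755, [16687, 16705, 17294, 16704, 16686]⟩)) (.node (.leaf ⟨4, 1609, 1610, 0, 0, 0, 0, 93, 0, 0, []⟩) (.leaf ⟨6, 4297, 4298, 0, 0, 0, 0, 93, 0, 0, []⟩))) (.node (.node (.leaf ⟨11, 701, 790, 0, 0, 0, 0, 93, 0, 0, []⟩) (.leaf ⟨11, 3614, 3619, 0, 0, 0, 0, 50, 3, 3614, [21375, 21388, 21390]⟩)) (.node (.leaf ⟨2, 2293, 2284, (-1), 0, (-5), 0, 29, 2, 2286, [13189, 13199, 13144]⟩) (.leaf ⟨5, 4942, 4943, 0, 0, 0, 0, 93, 0, 0, []⟩)))) (.node (.node (.node (.leaf ⟨11, 72, 72, 1, 0, 1, 0, 37, 3, 72, [281, 2492, 280]⟩) (.leaf ⟨9, 2534, 3181, 0, 0, 0, 0, 93, 0, 0, []⟩)) (.node (.leaf ⟨10, 1869, 1884, 0, 0,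 0, 0, 93, 0, 0, []⟩) (.leaf ⟨2, 3595, 4084, 0, 0, 0, 0, 23, 0, 4084, [24411, 18405, 21290]⟩))) (.node (.node (.leaf ⟨4, 1133, 1136, 0, 0, 0, 0, 93, 0, 0, []⟩) (.leaf ⟨8, 3917, 3924, 0, 0, 0, 0, 93, 0, 0, []⟩)) (.node (.leaf ⟨0, 2251, 2542, 0, 0, 0, 0, 5, 0, 2542, [15213, 15247, 13040]⟩) (.leaf ⟨0, 0, 0, 0, 0, 0, 0, 0, 0, 0, []⟩))))) (.node (.node (.node (.node (.leaf ⟨6, 361, 362, 0, 0, 0, 0, 93, 0, 0, []⟩) (.leaf ⟨3, 3019, 3024, 0, 0, 0, 0, 31, 0, 3024, [18313, 18319, 18298]⟩)) (.node (.leaf ⟨5, 1706, 1720, 0, 0, 0, 0, 93, 0, 0, []⟩) (.leaf ⟨6, 4475, 4472, 0, 0, 0, 0, 54, 0, 4472, [26497, 6027, 26506]⟩))) (.node (.node (.leaf ⟨10, 942, 944, 0, 0, 0, 0, 93, 0, 0, []⟩) (.leaf ⟨8, 378, 378, 1, 0, (-1), 0, 60, 0, 378, [2057, 468, 22414, 469, 2056]⟩)) (.node (.leaf ⟨1,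 1783, 1619, 0, 0, 0, 0, 14, 0, 1619, [9251, 14223, 10638]⟩) (.leaf ⟨9, 1054, 5098, 0, 0, 0, 0, 93, 0, 0, []⟩)))) (.node (.node (.node (.leaf ⟨3, 483, 675, 0, 0, 0, 0, 93, 0, 0, []⟩) (.leaf ⟨1, 211, 211, (-1), 0, (-1), 0, 13, 0, 211, [1505, 20366, 1504]⟩)) (.node (.leaf ⟨8, 1948, 2080, 0, 0, 0, 0, 47, 3, 1948, [11437, 11435, 12168]⟩) (.leaf ⟨6, 4803, 4804, 0, 0, 0, 0, 93, 0, 0, []⟩))) (.node (.node (.leaf ⟨5, 1386, 1387, 0, 0, 0, 0, 93, 0, 0, []⟩) (.leaf ⟨10, 4083, 4089, 0, 0, 0, 0, 93, 0, 0, []⟩)) (.node (.leaf ⟨1, 1695, 2624, 0, 0, 0, 0, 14, 0, 2624, [15665, 16271, 9956]⟩) (.leaf ⟨0, 0, 0, 0, 0, 0, 0, 0, 0, 0, []⟩))))))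

def factsPart201 : ATree TFact :=
  .node (.node (.node (.node (.node (.node (.leaf ⟨4, 95, 92, 0, 0, 0, 0, 39, 0, 92, [393, 398, 400]⟩) (.leaf ⟨10, 2768, 2768, 1, 0, (-1), 0, 63, 3, 2768, [16781, 16784, 16780]⟩)) (.node (.leaf ⟨7, 1504, 1513, 0, 0, 0, 0, 93, 0, 0, []⟩) (.leaf ⟨7, 4200, 4158, 0, 0, 0, 0, 58, 0, 4158, [24743, 24975, 24976]⟩))) (.node (.node (.leaf ⟨3, 482, 482, 1, 0, (-1), 0, 36, 2, 500, [2601, 2756, 2601]⟩) (.leaf ⟨10, 3486, 3487, 0, 0, 0, 0, 93, 0, 0, []⟩)) (.node (.leaf ⟨2, 1838, 1717, 0, 0, 0, 0, 28, 2, 1767, [10944, 10479, 10100]⟩) (.leaf ⟨10, 2361, 2361, 1, 0, 1, 0, 49, 5, 2361, [13575, 13573, 29072, 13572, 13574]⟩)))) (.node (.node (.node (.leaf ⟨4, 468, 469, 0, 0, 0, 0, 93, 0, 0, []⟩) (.leaf ⟨10, 869, 3110, 0, 0, 0, 0, 93, 0, 0, []⟩)) (.node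 (.leaf ⟨0, 1604, 1782, 0, 0, 0, 0, 10, 0, 1782, [10637, 10641, 9080]⟩) (.leaf ⟨5, 4558, 4557, 0, 0, 0, 0, 49, 4, 3520, [27020, 20995, 27024, 27010, 27016]⟩))) (.node (.node (.leaf ⟨8, 272, 504, 0, 0, 0, 0, 47, 3, 272, [1705, 1703, 2650]⟩) (.leaf ⟨3, 3839, 3841, 0, 0, 0, 0, 32, 0, 3841, [22919, 22929, 22912]⟩)) (.node (.leaf ⟨4, 648, 682, 0, 0, 0, 0, 44, 0, 682, [4091, 2602, 3604]⟩) (.leaf ⟨3, 3711, 5174, 0, 0, 0, 0, 31, 0, 5174, [31103, 22429, 21792]⟩))))) (.node (.node (.node (.node (.leaf ⟨10, 199, 199, 1, 0, 1, 0, 58, 3, 199, [1419, 1424, 1418]⟩) (.leaf ⟨9, 2918, 2916, 0, 0, 0, 0, 64, 0, 2916, [17801, 17808, 17806]⟩)) (.node (.leaf ⟨11, 1652, 1653, 0, 0, 0, 0, 93, 0, 0, []⟩) (.leaf ⟨11, 455, 455, 1, 0, (-1), 0, 64, 3, 455, [2405, 26000, 2404]⟩))) (.node (.node (.leaf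 ⟨10, 864, 866, 0, 0, 0, 0, 93, 0, 0, []⟩) (.leaf ⟨7, 3725, 3725, 1, 0, (-1), 0, 56, 4, 814, [21886, 5209, 21904, 5208, 21886]⟩)) (.node (.leaf ⟨7, 2343, 2340, (-5), 0, 23, 0, 51, 5, 2343, [13405, 13425, 13706, 13711, 13713]⟩) (.leaf ⟨2, 5006, 4971, 0, 0, 0, 0, 29, 0, 4971, [29751, 30095, 30096]⟩)))) (.node (.node (.node (.leaf ⟨7, 626, 626, 1, 0, (-1), 0, 58, 0, 626, [3453, 3472, 3452]⟩) (.leaf ⟨7, 2132, 3287, 0, 0, 0, 0, 93, 0, 0, []⟩)) (.node (.leaf ⟨1, 1053, 449, 0, 0, 0, 0, 14, 0, 449, [2393, 11665, 6654]⟩) (.leaf ⟨5, 4723, 4724, 0, 0, 0, 0, 93, 0, 0, []⟩))) (.node (.node (.leaf ⟨2, 1261, 1253, 0, 0, 0, 0, 28, 2, 1260, [7558, 7557, 7542]⟩) (.leaf ⟨9, 578, 578, (-1), 0, (-1), 0, 48, 3, 578, [3105, 23952, 3104]⟩)) (.node (.leaf ⟨3, 2627, 2346, 0, 0, 0, 0, 36, 0,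 2346, [13419, 10369, 15748]⟩) (.leaf ⟨0, 0, 0, 0, 0, 0, 0, 0, 0, 0, []⟩)))))) (.node (.node (.node (.node (.node (.leaf ⟨10, 158, 159, 0, 0, 0, 0, 93, 0, 0, []⟩) (.leaf ⟨10, 2756, 2756, 1, 0, 1, 0, 43, 3, 2756, [16689, 17296, 16688]⟩)) (.node (.leaf ⟨3, 1610, 1611, 0, 0, 0, 0, 93, 0, 0, []⟩) (.leaf ⟨7, 4298, 4299, 0, 0, 0, 0, 93, 0, 0, []⟩))) (.node (.node (.leaf ⟨3, 701, 686, 0, 0, 0, 0, 36, 2, 559, [4260, 3009, 4156]⟩) (.leaf ⟨4, 3619, 3620, 0, 0, 0, 0, 93, 0, 0, []⟩)) (.node (.leaf ⟨5, 1008, 2294, 0, 0, 0, 0, 93, 0, 0, []⟩) (.leaf ⟨4, 4943, 4944, 0, 0, 0, 0, 93, 0, 0, []⟩)))) (.node (.node (.node (.leaf ⟨10, 537, 537, 1, 0, 1, 0, 65, 4, 75, [2880, 287, 2960, 286, 2880]⟩) (.leaf ⟨10, 3181, 3182, 0, 0, 0, 0, 93, 0, 0, []⟩)) (.node (.leaf ⟨5, 1884, 1885, 0, 0, 0, 0,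 93, 0, 0, []⟩) (.leaf ⟨10, 3595, 4639, 0, 0, 0, 0, 93, 0, 0, []⟩))) (.node (.node (.leaf ⟨7, 1136, 1137, 0, 0, 0, 0, 93, 0, 0, []⟩) (.leaf ⟨6, 3919, 3924, 0, 0, 0, 0, 52, 2, 3918, [23430, 23429, 23440]⟩)) (.node (.leaf ⟨0, 2252, 2543, 0, 0, 0, 0, 4, 0, 2543, [15215, 15249, 13042]⟩) (.leaf ⟨0, 0, 0, 0, 0, 0, 0, 0, 0, 0, []⟩))))) (.node (.node (.node (.node (.leaf ⟨5, 362, 363, 0, 0, 0, 0, 93, 0, 0, []⟩) (.leaf ⟨11, 884, 3025, 0, 0, 0, 0, 93, 0, 0, []⟩)) (.node (.leaf ⟨11, 1720, 1719, 0, 0, 0, 0, 50, 3, 1720, [10129, 10021, 10124]⟩) (.leaf ⟨7, 4477, 4474, 0, 0, 0, 0, 51, 5, 4477, [26511, 26509, 26512, 26498, 26502]⟩))) (.node (.node (.leaf ⟨7, 944, 945, 0, 0, 0, 0, 93, 0, 0, []⟩) (.leaf ⟨7, 3763, 3763, 1, 0, (-1), 0, 56, 4, 3732, [22404, 22005, 22416, 22004, 22404]⟩))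 (.node (.leaf ⟨1, 2410, 2418, 0, 0, 0, 0, 19, 0, 2418, [14179, 14225, 13934]⟩) (.leaf ⟨1, 5098, 747, 0, 0, 0, 0, 18, 0, 747, [4701, 11669, 30608]⟩)))) (.node (.node (.node (.leaf ⟨10, 675, 676, 0, 0, 0, 0, 93, 0, 0, []⟩) (.leaf ⟨1, 3359, 3359, 1, 0, 1, 0, 19, 0, 3359, [20337, 20368, 20336]⟩)) (.node (.leaf ⟨4, 1948, 2082, 0, 0, 0, 0, 93, 0, 0, []⟩) (.leaf ⟨5, 4804, 4805, 0, 0, 0, 0, 93, 0, 0, []⟩))) (.node (.node (.leaf ⟨4, 1387, 1388, 0, 0, 0, 0, 93, 0, 0, []⟩) (.leaf ⟨7, 4089, 4090, 0, 0, 0, 0, 93, 0, 0, []⟩)) (.node (.leaf ⟨1, 2706, 2625, 0, 0, 0, 0, 19, 0, 2625, [15669, 16273, 16266]⟩) (.leaf ⟨0, 0, 0, 0, 0, 0, 0, 0, 0, 0, []⟩))))))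

def factsPart202 : ATree TFact :=
  .node (.node (.node (.node (.node (.node (.leaf ⟨8, 95, 96, 0, 0, 0, 0, 93, 0, 0, []⟩) (.leaf ⟨7, 2768, 2769, 0, 0, 0, 0, 93, 0, 0, []⟩)) (.node (.leaf ⟨4, 1513, 1512, 0, 0, 0, 0, 40, 2, 1504, [8594, 8571, 8590]⟩) (.leaf ⟨5, 4195, 4195, 1, 0, 1, 0, 46, 0, 4195, [24959, 17726, 24958]⟩))) (.node (.node (.leaf ⟨3, 481, 481, 1, 0, 1, 0, 31, 2, 482, [2515, 4498, 2515]⟩) (.leaf ⟨11, 3487, 3488, 0, 0, 0, 0, 93, 0, 0, []⟩)) (.node (.leaf ⟨2, 1784, 2192, 0, 0, 0, 0, 29, 0, 2192, [12689, 12690, 10646]⟩) (.leaf ⟨7, 705, 705, 1, 0, (-1), 0, 46, 3, 705, [4277, 10510, 4276]⟩)))) (.node (.node (.node (.leaf ⟨10, 469, 470, 0, 0, 0, 0, 93, 0, 0, []⟩) (.leaf ⟨9, 951, 3110, 0, 0, 0, 0, 63, 2, 950, [6062, 6059, 18834]⟩)) (.node (.leaf ⟨0, 1605, 1783,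 0, 0, 0, 0, 4, 0, 1783, [10639, 10643, 9082]⟩) (.leaf ⟨10, 3521, 4559, 0, 0, 0, 0, 93, 0, 0, []⟩))) (.node (.node (.leaf ⟨8, 767, 273, 0, 0, 0, 0, 41, 3, 767, [4779, 6547, 1706]⟩) (.leaf ⟨7, 3540, 3842, 0, 0, 0, 0, 93, 0, 0, []⟩)) (.node (.leaf ⟨6, 678, 678, (-1), 0, 1, 0, 54, 0, 678, [3991, 4588, 3990]⟩) (.leaf ⟨3, 3741, 5175, 0, 0, 0, 0, 33, 0, 5175, [31105, 31123, 22092]⟩))))) (.node (.node (.node (.node (.leaf ⟨8, 150, 200, 0, 0, 0, 0, 93, 0, 0, []⟩) (.leaf ⟨1, 1545, 2919, 0, 0, 0, 0, 93, 0, 0, []⟩)) (.node (.leaf ⟨6, 1653, 1651, 0, 0, 0, 0, 55, 0, 1651, [9611, 9617, 9618]⟩) (.leaf ⟨10, 4354, 4354, 1, 0, (-1), 0, 65, 4, 456, [25802, 2407, 26002, 2406, 25802]⟩))) (.node (.node (.leaf ⟨7, 866, 867, 0, 0, 0, 0, 93, 0, 0, []⟩) (.leaf ⟨8, 815, 3726, 0, 0, 0, 0, 93,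 0, 0, []⟩)) (.node (.leaf ⟨8, 2341, 2327, 0, 0, 0, 0, 61, 0, 2327, [13359, 10693, 13400]⟩) (.leaf ⟨7, 5006, 5007, 0, 0, 0, 0, 93, 0, 0, []⟩)))) (.node (.node (.node (.leaf ⟨4, 8, 8, (-1), 0, 1, 0, 44, 0, 8, [15, 742, 14]⟩) (.leaf ⟨4, 3286, 3287, 0, 0, 0, 0, 40, 0, 3287, [19859, 12358, 19854]⟩)) (.node (.leaf ⟨1, 1054, 450, 0, 0, 0, 0, 13, 0, 450, [2395, 11667, 6656]⟩) (.leaf ⟨4, 4724, 4725, 0, 0, 0, 0, 93, 0, 0, []⟩))) (.node (.node (.leaf ⟨2, 1254, 1262, 0, 0, 0, 0, 23, 0, 1262, [7561, 7570, 7544]⟩) (.leaf ⟨9, 579, 579, (-1), 0, 1, 0, 42, 3, 579, [3107, 23954, 3106]⟩)) (.node (.leaf ⟨3, 2628, 2347, 0, 0, 0, 0, 31, 0, 2347, [13421, 15763, 15750]⟩) (.leaf ⟨0, 0, 0, 0, 0, 0, 0, 0, 0, 0, []⟩)))))) (.node (.node (.node (.node (.node (.leaf ⟨2, 124, 160, 0, 0, 0, 0, 93,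 0, 0, []⟩) (.leaf ⟨2, 2753, 2753, (-1), 0, (-1), 0, 25, 0, 2753, [16683, 16670, 16682]⟩)) (.node (.leaf ⟨0, 1529, 1609, 0, 0, 0, 0, 4, 0, 1609, [9103, 1657, 8636]⟩) (.leaf ⟨6, 4299, 4300, 0, 0, 0, 0, 93, 0, 0, []⟩))) (.node (.node (.leaf ⟨3, 736, 790, 0, 0, 0, 0, 37, 0, 790, [5009, 5010, 4456]⟩) (.leaf ⟨11, 3615, 3620, 0, 0, 0, 0, 44, 3, 3615, [21377, 21392, 21394]⟩)) (.node (.leaf ⟨3, 1007, 2291, 0, 0, 0, 0, 35, 2, 1004, [6366, 6361, 13176]⟩) (.leaf ⟨8, 4942, 4928, 0, 0, 0, 0, 61, 0, 4928, [29545, 15593, 29582]⟩)))) (.node (.node (.node (.leaf ⟨5, 539, 539, 1, 0, 1, 0, 49, 4, 538, [2892, 2883, 2962, 2882, 2892]⟩) (.leaf ⟨11, 3182, 3183, 0, 0, 0, 0, 93, 0, 0, []⟩)) (.node (.leaf ⟨6, 1885, 1886, 0, 0, 0, 0, 93, 0, 0, []⟩) (.leaf ⟨2, 4639, 4638, 0, 0, 0, 0, 28, 0, 4638,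 [27535, 27537, 27538]⟩))) (.node (.node (.leaf ⟨6, 1137, 1138, 0, 0, 0, 0, 93, 0, 0, []⟩) (.leaf ⟨8, 3910, 3925, 0, 0, 0, 0, 93, 0, 0, []⟩)) (.node (.leaf ⟨0, 2253, 2544, 0, 0, 0, 0, 3, 0, 2544, [15217, 15251, 13044]⟩) (.leaf ⟨0, 0, 0, 0, 0, 0, 0, 0, 0, 0, []⟩))))) (.node (.node (.node (.node (.leaf ⟨4, 363, 364, 0, 0, 0, 0, 93, 0, 0, []⟩) (.leaf ⟨7, 3025, 3026, 0, 0, 0, 0, 93, 0, 0, []⟩)) (.node (.leaf ⟨3, 1067, 768, 0, 0, 0, 0, 36, 2, 1037, [6688, 6545, 4780]⟩) (.leaf ⟨5, 4475, 4475, 1, 0, 1, 0, 49, 0, 4475, [26507, 6015, 18998, 6014, 26506]⟩))) (.node (.node (.leaf ⟨10, 945, 943, 0, 0, 0, 0, 58, 3, 945, [6035, 6033, 6030]⟩) (.leaf ⟨6, 3762, 3762, (-1), 0, (-1), 0, 51, 0, 3762, [22397, 22406, 22418, 22407, 22396]⟩)) (.node (.leaf ⟨7, 2411, 2410, 138, 0, (-18), 0,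 16, 3, 2411, [13944, 14221, 14227]⟩) (.leaf ⟨10, 5098, 5099, 0, 0, 0, 0, 93, 0, 0, []⟩)))) (.node (.node (.node (.leaf ⟨3, 476, 677, 0, 0, 0, 0, 93, 0, 0, []⟩) (.leaf ⟨1, 3360, 3360, (-1), 0, (-1), 0, 20, 0, 3360, [20341, 20370, 20340]⟩)) (.node (.leaf ⟨8, 2081, 2082, 0, 0, 0, 0, 41, 3, 2081, [12173, 12177, 12178]⟩) (.leaf ⟨9, 4801, 4806, 0, 0, 0, 0, 93, 0, 0, []⟩))) (.node (.node (.leaf ⟨3, 1388, 1389, 0, 0, 0, 0, 93, 0, 0, []⟩) (.leaf ⟨10, 4090, 4088, 0, 0, 0, 0, 58, 3, 4090, [24467, 24465, 24444]⟩)) (.node (.leaf ⟨11, 595, 595, 1, 0, (-1), 0, 37, 3, 595, [3239, 4914, 3238]⟩) (.leaf ⟨0, 0, 0, 0, 0, 0, 0, 0, 0, 0, []⟩))))))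

def factsPart203 : ATree TFact :=
  .node (.node (.node (.node (.node (.node (.leaf ⟨4, 96, 93, 0, 0, 0, 0, 41, 0, 93, [395, 403, 404]⟩) (.leaf ⟨8, 115, 2770, 0, 0, 0, 0, 93, 0, 0, []⟩)) (.node (.leaf ⟨6, 1121, 1514, 0, 0, 0, 0, 93, 0, 0, []⟩) (.leaf ⟨6, 4197, 4197, 1, 0, 1, 0, 45, 5, 4197, [24963, 24961, 24980, 24960, 24962]⟩))) (.node (.node (.leaf ⟨11, 91, 535, 0, 0, 0, 0, 59, 3, 91, [391, 3948, 2858]⟩) (.leaf ⟨7, 3488, 3489, 0, 0, 0, 0, 93, 0, 0, []⟩)) (.node (.leaf ⟨1, 1609, 502, 0, 0, 0, 0, 14, 0, 502, [2615, 1963, 9102]⟩) (.leaf ⟨7, 706, 706, 1, 0, 1, 0, 40, 3, 706, [4279, 29076, 4278]⟩)))) (.node (.node (.node (.leaf ⟨5, 470, 471, 0, 0, 0, 0, 93, 0, 0, []⟩) (.leaf ⟨10, 357, 3111, 0, 0, 0, 0, 93, 0, 0, []⟩)) (.node (.leaf ⟨11, 1717, 1784, 0, 0, 0, 0, 93, 0,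 0, []⟩) (.leaf ⟨4, 4559, 4558, 0, 0, 0, 0, 43, 2, 3521, [27028, 20997, 27020]⟩))) (.node (.node (.leaf ⟨8, 1037, 274, 0, 0, 0, 0, 34, 3, 1037, [6545, 6548, 1708]⟩) (.leaf ⟨6, 3842, 3843, 0, 0, 0, 0, 93, 0, 0, []⟩)) (.node (.leaf ⟨10, 640, 640, (-1), 0, 1, 0, 58, 3, 640, [3541, 13950, 3540]⟩) (.leaf ⟨5, 3712, 3712, 1, 0, 1, 0, 38, 5, 3712, [21795, 21793, 22430, 21792, 21794]⟩))))) (.node (.node (.node (.node (.leaf ⟨5, 200, 147, 0, 0, 0, 0, 47, 0, 147, [823, 848, 1428]⟩) (.leaf ⟨0, 2919, 2920, 0, 0, 0, 0, 93, 0, 0, []⟩)) (.node (.leaf ⟨7, 10, 1654, 0, 0, 0, 0, 93, 0, 0, []⟩) (.leaf ⟨5, 4371, 4371, 1, 0, (-1), 0, 49, 4, 4355, [25988, 25807, 26004, 25806, 25988]⟩))) (.node (.node (.leaf ⟨10, 867, 865, 0, 0, 0, 0, 58, 3, 867, [5525, 5523, 5504]⟩) (.leaf ⟨6, 3726, 3725,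 0, 0, 0, 0, 52, 2, 815, [21908, 5211, 21886]⟩)) (.node (.leaf ⟨8, 2342, 2336, 0, 0, 0, 0, 47, 3, 2342, [13403, 13716, 13386]⟩) (.leaf ⟨2, 5007, 5000, 0, 0, 0, 0, 25, 0, 5000, [30067, 30099, 30100]⟩)))) (.node (.node (.node (.leaf ⟨5, 10, 10, (-1), 0, 1, 0, 38, 5, 10, [19, 17, 3476, 16, 18]⟩) (.leaf ⟨7, 2143, 3288, 0, 0, 0, 0, 93, 0, 0, []⟩)) (.node (.leaf ⟨1, 1055, 451, 0, 0, 0, 0, 12, 0, 451, [2397, 11669, 6658]⟩) (.leaf ⟨3, 4725, 4726, 0, 0, 0, 0, 93, 0, 0, []⟩))) (.node (.node (.leaf ⟨2, 1255, 1263, 0, 0, 0, 0, 24, 0, 1263, [7563, 7573, 7546]⟩) (.leaf ⟨8, 3136, 3136, 1, 0, 1, 0, 60, 0, 3136, [19095, 23947, 23956, 23946, 19094]⟩)) (.node (.leaf ⟨3, 2631, 2345, 3, 0, 3, 0, 36, 2, 2628, [15760, 15764, 13423]⟩) (.leaf ⟨0, 0, 0, 0, 0, 0, 0, 0, 0, 0, []⟩)))))) (.node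 (.node (.node (.node (.node (.leaf ⟨7, 160, 161, 0, 0, 0, 0, 93, 0, 0, []⟩) (.leaf ⟨2, 2754, 2754, 1, 0, 1, 0, 24, 0, 2754, [16685, 17300, 16684]⟩)) (.node (.leaf ⟨0, 1530, 1610, 0, 0, 0, 0, 3, 0, 1610, [9105, 9109, 8638]⟩) (.leaf ⟨5, 4300, 4301, 0, 0, 0, 0, 93, 0, 0, []⟩))) (.node (.node (.leaf ⟨4, 790, 787, 0, 0, 0, 0, 44, 0, 787, [4935, 4263, 5008]⟩) (.leaf ⟨10, 3620, 3621, 0, 0, 0, 0, 93, 0, 0, []⟩)) (.node (.leaf ⟨3, 2292, 1008, 0, 0, 0, 0, 36, 0, 1008, [6369, 13204, 13178]⟩) (.leaf ⟨8, 4943, 4929, 0, 0, 0, 0, 47, 3, 4943, [29585, 29588, 29546]⟩)))) (.node (.node (.node (.leaf ⟨5, 540, 540, (-1), 0, (-1), 0, 46, 0, 540, [2895, 2964, 2894]⟩) (.leaf ⟨7, 3183, 3184, 0, 0, 0, 0, 93, 0, 0, []⟩)) (.node (.leaf ⟨7, 1886, 1887, 0, 0, 0, 0, 93, 0, 0, []⟩) (.leaf ⟨3, 3571,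 3595, 0, 0, 0, 0, 31, 0, 3595, [21291, 18401, 21186]⟩))) (.node (.node (.leaf ⟨4, 1137, 1134, 0, 0, 0, 0, 40, 2, 1136, [7058, 7057, 7044]⟩) (.leaf ⟨5, 3910, 3917, 0, 0, 0, 0, 46, 2, 2293, [23398, 13183, 23426]⟩)) (.node (.leaf ⟨0, 2254, 2545, 0, 0, 0, 0, 9, 0, 2545, [15219, 15253, 13046]⟩) (.leaf ⟨0, 0, 0, 0, 0, 0, 0, 0, 0, 0, []⟩))))) (.node (.node (.node (.node (.leaf ⟨10, 364, 365, 0, 0, 0, 0, 93, 0, 0, []⟩) (.leaf ⟨8, 677, 3020, 0, 0, 0, 0, 34, 3, 677, [3989, 5604, 18304]⟩)) (.node (.leaf ⟨3, 769, 1703, 0, 0, 0, 0, 37, 0, 1703, [10011, 10132, 4782]⟩) (.leaf ⟨5, 4476, 4476, (-1), 0, (-1), 0, 46, 0, 4476, [26509, 26516, 26508]⟩))) (.node (.node (.leaf ⟨9, 940, 946, 0, 0, 0, 0, 93, 0, 0, []⟩) (.leaf ⟨8, 3749, 3764, 0, 0, 0, 0, 93, 0, 0, []⟩)) (.node (.leaf ⟨2, 1712,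 1712, (-1), 0, (-1), 0, 28, 0, 1712, [10049, 10484, 10048]⟩) (.leaf ⟨1, 5099, 748, 0, 0, 0, 0, 19, 0, 748, [4705, 30611, 30612]⟩)))) (.node (.node (.node (.leaf ⟨10, 677, 678, 0, 0, 0, 0, 93, 0, 0, []⟩) (.leaf ⟨1, 3361, 3361, 1, 0, 1, 0, 14, 0, 3361, [20345, 20372, 20344]⟩)) (.node (.leaf ⟨9, 2071, 2082, (-59), 0, (-31), 0, 60, 3, 2074, [12148, 12152, 12165, 12174, 12180]⟩) (.leaf ⟨10, 4806, 4807, 0, 0, 0, 0, 93, 0, 0, []⟩))) (.node (.node (.leaf ⟨2, 1389, 1390, 0, 0, 0, 0, 93, 0, 0, []⟩) (.leaf ⟨11, 4089, 4091, 0, 0, 0, 0, 93, 0, 0, []⟩)) (.node (.leaf ⟨11, 596, 596, 1, 0, 1, 0, 29, 3, 596, [3243, 16276, 3242]⟩) (.leaf ⟨0, 0, 0, 0, 0, 0, 0, 0, 0, 0, []⟩))))))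

def factsPart204 : ATree TFact :=
  .node (.node (.node (.node (.node (.node (.leaf ⟨3, 75, 88, 0, 0, 0, 0, 36, 2, 72, [286, 281, 384]⟩) (.leaf ⟨6, 175, 2770, 0, 0, 0, 0, 52, 2, 116, [1180, 491, 16790]⟩)) (.node (.leaf ⟨7, 1514, 1515, 0, 0, 0, 0, 93, 0, 0, []⟩) (.leaf ⟨6, 4198, 4198, 1, 0, (-1), 0, 39, 3, 4198, [24965, 24982, 24964]⟩))) (.node (.node (.leaf ⟨11, 92, 651, 0, 0, 0, 0, 55, 3, 92, [393, 4502, 3616]⟩) (.leaf ⟨6, 3489, 3490, 0, 0, 0, 0, 93, 0, 0, []⟩)) (.node (.leaf ⟨1, 1610, 685, 0, 0, 0, 0, 13, 0, 685, [4141, 12695, 9104]⟩) (.leaf ⟨7, 1768, 1768, 1, 0, (-1), 0, 33, 3, 1768, [10545, 29078, 10544]⟩)))) (.node (.node (.node (.leaf ⟨6, 471, 472, 0, 0, 0, 0, 93, 0, 0, []⟩) (.leaf ⟨2, 3111, 3110, 0, 0, 0, 0, 28, 0, 3110, [18835, 18259, 18838]⟩)) (.node (.leaf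 ⟨1, 1716, 689, 0, 0, 0, 0, 12, 0, 689, [4167, 10241, 10098]⟩) (.leaf ⟨3, 3523, 4559, 0, 0, 0, 0, 36, 2, 3522, [21000, 20999, 27028]⟩))) (.node (.node (.leaf ⟨9, 0, 0, 1, 0, 1, 0, 89, 0, 0, []⟩) (.leaf ⟨4, 3842, 3840, 0, 0, 0, 0, 40, 2, 3540, [22932, 21069, 22916]⟩)) (.node (.leaf ⟨10, 641, 641, (-1), 0, (-1), 0, 54, 3, 641, [3545, 14742, 3544]⟩) (.leaf ⟨5, 3713, 3713, (-1), 0, (-1), 0, 46, 0, 3713, [21797, 31126, 21796]⟩))))) (.node (.node (.node (.node (.leaf ⟨4, 98, 98, 1, 0, (-1), 0, 43, 0, 98, [421, 1354, 420]⟩) (.leaf ⟨10, 2920, 2921, 0, 0, 0, 0, 93, 0, 0, []⟩)) (.node (.leaf ⟨6, 1654, 1655, 0, 0, 0, 0, 93, 0, 0, []⟩) (.leaf ⟨5, 465, 4372, 0, 0, 0, 0, 93, 0, 0, []⟩))) (.node (.node (.leaf ⟨5, 822, 822, (-1), 0, (-1), 0, 47, 0, 822, [5269, 2590, 5268]⟩) (.leaf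 ⟨5, 3726, 3726, (-1), 0, 1, 0, 47, 0, 3726, [21909, 5240, 21908]⟩)) (.node (.leaf ⟨8, 2343, 2337, 0, 0, 0, 0, 52, 3, 2343, [13405, 13718, 13388]⟩) (.leaf ⟨6, 5007, 5008, 0, 0, 0, 0, 93, 0, 0, []⟩)))) (.node (.node (.node (.leaf ⟨5, 11, 11, (-1), 0, (-1), 0, 31, 3, 11, [21, 3478, 20]⟩) (.leaf ⟨3, 3287, 3288, 0, 0, 0, 0, 33, 0, 3288, [19863, 12408, 19858]⟩)) (.node (.leaf ⟨1, 1056, 455, 0, 0, 0, 0, 18, 0, 455, [2405, 11671, 6660]⟩) (.leaf ⟨10, 4726, 4727, 0, 0, 0, 0, 93, 0, 0, []⟩))) (.node (.node (.leaf ⟨2, 1256, 1264, 0, 0, 0, 0, 22, 0, 1264, [7565, 7575, 7548]⟩) (.leaf ⟨7, 3794, 3794, 1, 0, 1, 0, 56, 4, 3137, [22602, 19097, 23958, 19096, 22602]⟩)) (.node (.leaf ⟨1, 1671, 1671, 1, 0, 1, 0, 13, 0, 1671, [9787, 226, 9786]⟩) (.leaf ⟨0, 0, 0, 0, 0, 0, 0, 0, 0, 0, []⟩))))))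 (.node (.node (.node (.node (.node (.leaf ⟨6, 161, 162, 0, 0, 0, 0, 93, 0, 0, []⟩) (.leaf ⟨2, 2755, 2755, (-1), 0, (-1), 0, 23, 0, 2755, [16687, 17302, 16686]⟩)) (.node (.leaf ⟨0, 1531, 1611, 0, 0, 0, 0, 2, 0, 1611, [9107, 9111, 8640]⟩) (.leaf ⟨4, 4301, 4302, 0, 0, 0, 0, 93, 0, 0, []⟩))) (.node (.node (.leaf ⟨7, 789, 788, 17, 0, 9, 0, 66, 13, 732, [4425, 4195, 4149, 3171, 3107, 4206, 3118, 2592, 4060, 4050, 2555, 2560, 4576, 3013, 3319, 4948, 3311, 4950, 3326, 4952, 4954, 2569, 2551, 4056, 2496, 2473, 4958, 2629, 1917, 3308, 3310, 3312, 3330, 3346, 4030, 3338, 4962, 4966, 4924, 4931, 3049, 3051, 3033, 4970, 4116, 3244, 4982, 4990, 3243, 4992, 4994, 4428, 3997, 4004, 4997, 4093, 5000, 5006, 4475, 5012, 5014, 4942, 4946]⟩) (.leaf ⟨5, 3621, 3622, 0, 0, 0, 0, 93, 0, 0,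 []⟩)) (.node (.leaf ⟨3, 2293, 2294, 0, 0, 0, 0, 31, 0, 2294, [13203, 13207, 13182]⟩) (.leaf ⟨8, 4944, 4930, 0, 0, 0, 0, 41, 3, 4944, [29587, 29590, 29548]⟩)))) (.node (.node (.node (.leaf ⟨6, 542, 542, (-1), 0, (-1), 0, 45, 5, 542, [2899, 2897, 2966, 2896, 2898]⟩) (.leaf ⟨6, 3184, 3185, 0, 0, 0, 0, 93, 0, 0, []⟩)) (.node (.leaf ⟨1, 1871, 1884, 0, 0, 0, 0, 19, 2, 1870, [11112, 11111, 11152]⟩) (.leaf ⟨10, 3571, 4640, 0, 0, 0, 0, 93, 0, 0, []⟩))) (.node (.node (.leaf ⟨4, 1135, 1138, 0, 0, 0, 0, 39, 0, 1138, [7061, 7062, 7046]⟩) (.leaf ⟨5, 3924, 3925, 0, 0, 0, 0, 47, 0, 3925, [23445, 23446, 23440]⟩)) (.node (.leaf ⟨0, 2255, 2546, 0, 0, 0, 0, 4, 0, 2546, [15221, 15255, 13048]⟩) (.leaf ⟨0, 0, 0, 0, 0, 0, 0, 0, 0, 0, []⟩))))) (.node (.node (.node (.node (.leaf ⟨5, 365, 366,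 0, 0, 0, 0, 93, 0, 0, []⟩) (.leaf ⟨8, 678, 3021, 0, 0, 0, 0, 61, 0, 3021, [18307, 18327, 3990]⟩)) (.node (.leaf ⟨7, 1698, 763, 7, 0, (-9), 0, 68, 32, 764, [4763, 4335, 4301, 9660, 4299, 9672, 9686, 9966, 8972, 9968, 636, 9970, 635, 330, 556, 682, 640, 680, 4880, 674, 680, 676, 678, 680, 644, 670, 668, 4894, 662, 668, 664, 666, 668, 645, 641, 557, 4506, 550, 570, 696, 552, 474, 944, 478, 938, 2712, 1602, 1604, 1606, 1608, 9102, 9136, 4778, 9142, 9984, 9986, 9988, 4770, 4774, 9992, 10000, 10004, 8184, 10006, 10009, 10015, 10013, 10023, 10031, 10032, 10044, 10064, 10063, 10080, 10051, 10082, 10096, 10106, 10103, 10118, 10123, 10124, 10126, 10131, 10129, 10022, 10135, 4794, 4797]⟩) (.leaf ⟨8, 555, 4475, 0, 0, 0, 0, 61, 0, 4475, [26507, 19289, 3000]⟩))) (.node (.node (.leaf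 ⟨2, 942, 946, 0, 0, 0, 0, 27, 2, 941, [6022, 6021, 6038]⟩) (.leaf ⟨10, 3761, 3764, 0, 0, 0, 0, 61, 3, 3761, [22393, 22192, 22422]⟩)) (.node (.leaf ⟨4, 506, 506, (-1), 0, (-1), 0, 22, 3, 506, [2659, 9152, 2658]⟩) (.leaf ⟨11, 5099, 5100, 0, 0, 0, 0, 93, 0, 0, []⟩)))) (.node (.node (.node (.leaf ⟨7, 675, 677, 0, 0, 0, 0, 33, 3, 675, [3985, 2526, 3988]⟩) (.leaf ⟨1, 3362, 3362, (-1), 0, (-1), 0, 19, 0, 3362, [20349, 20374, 20348]⟩)) (.node (.leaf ⟨1, 2082, 2037, 59, 0, (-31), 0, 18, 0, 2037, [12109, 12132, 12182]⟩) (.leaf ⟨9, 4807, 4802, 0, 0, 0, 0, 63, 2, 4806, [28566, 28565, 28556]⟩))) (.node (.node (.leaf ⟨10, 1390, 1391, 0, 0, 0, 0, 93, 0, 0, []⟩) (.leaf ⟨7, 4091, 4092, 0, 0, 0, 0, 93, 0, 0, []⟩)) (.node (.leaf ⟨10, 2455, 2455, 1, 0, 1, 0, 65, 4, 597, [14670, 3247,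 16278, 3246, 14670]⟩) (.leaf ⟨0, 0, 0, 0, 0, 0, 0, 0, 0, 0, []⟩))))))

def factsPart205 : ATree TFact :=
  .node (.node (.node (.node (.node (.node (.leaf ⟨3, 89, 83, 0, 0, 0, 0, 31, 0, 83, [369, 408, 386]⟩) (.leaf ⟨9, 2770, 2771, 0, 0, 0, 0, 93, 0, 0, []⟩)) (.node (.leaf ⟨6, 1515, 1516, 0, 0, 0, 0, 93, 0, 0, []⟩) (.leaf ⟨6, 4199, 4199, 1, 0, 1, 0, 32, 3, 4199, [24967, 24984, 24966]⟩))) (.node (.node (.leaf ⟨11, 78, 78, 1, 0, 1, 0, 10, 3, 78, [323, 2484, 322]⟩) (.leaf ⟨5, 3490, 3491, 0, 0, 0, 0, 93, 0, 0, []⟩)) (.node (.leaf ⟨1, 1611, 695, 0, 0, 0, 0, 12, 0, 695, [4193, 12697, 9106]⟩) (.leaf ⟨7, 2359, 2359, 1, 0, 1, 0, 25, 3, 2359, [13571, 29080, 13570]⟩)))) (.node (.node (.node (.leaf ⟨7, 472, 473, 0, 0, 0, 0, 93, 0, 0, []⟩) (.leaf ⟨3, 3111, 980, 0, 0, 0, 0, 36, 0,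 980, [6193, 6249, 18838]⟩)) (.node (.leaf ⟨1, 1717, 694, 0, 0, 0, 0, 19, 0, 694, [4191, 10649, 10100]⟩) (.leaf ⟨2, 2657, 2112, 0, 0, 0, 0, 27, 2, 2656, [15922, 15921, 12294]⟩))) (.node (.node (.leaf ⟨9, 1, 1, 1, 0, (-1), 0, 18, 3, 1, [1, 6552, 0]⟩) (.leaf ⟨4, 3841, 3843, 0, 0, 0, 0, 39, 0, 3843, [22935, 22936, 22918]⟩)) (.node (.leaf ⟨5, 2415, 2415, (-1), 0, (-1), 0, 49, 4, 642, [14122, 3547, 14744, 3546, 14122]⟩) (.leaf ⟨10, 3705, 5177, 0, 0, 0, 0, 93, 0, 0, []⟩))))) (.node (.node (.node (.node (.leaf ⟨4, 150, 150, (-1), 0, 1, 0, 40, 0, 150, [847, 1432, 846]⟩) (.leaf ⟨1, 1998, 2922, 0, 0, 0, 0, 93, 0, 0, []⟩)) (.node (.leaf ⟨5, 1655, 1656, 0, 0, 0, 0, 93, 0, 0, []⟩) (.leaf ⟨8, 589, 4372, 0, 0, 0, 0, 47, 3, 589, [3217, 2442, 26008]⟩))) (.node (.node (.leaf ⟨10, 828,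 828, (-1), 0, (-1), 0, 49, 5, 828, [5293, 5283, 5528, 5282, 5292]⟩) (.leaf ⟨4, 814, 814, (-1), 0, 1, 0, 40, 0, 814, [5209, 18954, 5208]⟩)) (.node (.leaf ⟨8, 2334, 2338, 5, 0, 23, 0, 56, 3, 2340, [13398, 13382, 13715, 13720, 13390]⟩) (.leaf ⟨2, 5008, 5001, 0, 0, 0, 0, 24, 0, 5001, [30069, 30103, 30104]⟩)))) (.node (.node (.node (.leaf ⟨5, 305, 305, (-1), 0, 1, 0, 23, 3, 305, [1789, 3480, 1788]⟩) (.leaf ⟨2, 2125, 3289, 0, 0, 0, 0, 93, 0, 0, []⟩)) (.node (.leaf ⟨1, 1057, 456, 0, 0, 0, 0, 19, 0, 456, [2407, 11673, 6662]⟩) (.leaf ⟨7, 4727, 4728, 0, 0, 0, 0, 93, 0, 0, []⟩))) (.node (.node (.leaf ⟨2, 1257, 1265, 0, 0, 0, 0, 23, 0, 1265, [7567, 7577, 7550]⟩) (.leaf ⟨10, 3141, 4006, 0, 0, 0, 0, 93, 0, 0, []⟩)) (.node (.leaf ⟨1, 1672, 1672, (-1), 0, (-1), 0, 16, 0, 1672, [9789,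 15768, 9788]⟩) (.leaf ⟨0, 0, 0, 0, 0, 0, 0, 0, 0, 0, []⟩)))))) (.node (.node (.node (.node (.node (.leaf ⟨8, 162, 163, 0, 0, 0, 0, 93, 0, 0, []⟩) (.leaf ⟨2, 2756, 2756, 1, 0, 1, 0, 22, 0, 2756, [16689, 17304, 16688]⟩)) (.node (.leaf ⟨2, 1611, 1612, 0, 0, 0, 0, 93, 0, 0, []⟩) (.leaf ⟨3, 4302, 4303, 0, 0, 0, 0, 93, 0, 0, []⟩))) (.node (.node (.leaf ⟨5, 789, 791, 0, 0, 0, 0, 93, 0, 0, []⟩) (.leaf ⟨10, 3561, 3623, 0, 0, 0, 0, 93, 0, 0, []⟩)) (.node (.leaf ⟨2, 1990, 1007, 0, 0, 0, 0, 27, 2, 1987, [11748, 11743, 6366]⟩) (.leaf ⟨0, 2629, 4945, 0, 0, 0, 0, 93, 0, 0, []⟩)))) (.node (.node (.node (.leaf ⟨6, 543, 543, (-1), 0, 1, 0, 39, 3, 543, [2901, 2968, 2900]⟩) (.leaf ⟨5, 3185, 3186, 0, 0, 0, 0, 93, 0, 0, []⟩)) (.node (.leaf ⟨1, 1885, 1872, 0, 0, 0, 0, 14, 0, 1872, [11115,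 11160, 11154]⟩) (.leaf ⟨3, 4640, 4639, 0, 0, 0, 0, 36, 0, 4639, [27539, 27543, 27544]⟩))) (.node (.node (.leaf ⟨5, 1138, 1139, 0, 0, 0, 0, 93, 0, 0, []⟩) (.leaf ⟨6, 3912, 3925, 0, 0, 0, 0, 52, 2, 3911, [23406, 23403, 23444]⟩)) (.node (.leaf ⟨0, 2256, 2547, 0, 0, 0, 0, 5, 0, 2547, [15223, 15257, 13050]⟩) (.leaf ⟨0, 0, 0, 0, 0, 0, 0, 0, 0, 0, []⟩))))) (.node (.node (.node (.node (.leaf ⟨6, 366, 367, 0, 0, 0, 0, 93, 0, 0, []⟩) (.leaf ⟨8, 682, 3025, 0, 0, 0, 0, 62, 0, 3025, [18323, 5597, 4090]⟩)) (.node (.leaf ⟨6, 1698, 1721, 0, 0, 0, 0, 93, 0, 0, []⟩) (.leaf ⟨4, 4475, 4475, 1, 0, (-1), 0, 41, 0, 4475, [26521, 3094, 26520]⟩))) (.node (.node (.leaf ⟨10, 946, 947, 0, 0, 0, 0, 93, 0, 0, []⟩) (.leaf ⟨2, 3764, 3764, 1, 0, (-3), 0, 26, 2, 3749, [22422, 22202, 22422]⟩)) (.node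 (.leaf ⟨4, 521, 521, 1, 0, 1, 0, 40, 0, 521, [2719, 14232, 2718]⟩) (.leaf ⟨1, 5100, 5095, 0, 0, 0, 0, 20, 0, 5095, [30583, 30615, 30616]⟩)))) (.node (.node (.node (.leaf ⟨7, 676, 678, 0, 0, 0, 0, 58, 0, 678, [3991, 3993, 3986]⟩) (.leaf ⟨1, 3363, 3363, 1, 0, 1, 0, 16, 0, 3363, [20353, 20376, 20352]⟩)) (.node (.leaf ⟨4, 1942, 2083, 0, 0, 0, 0, 93, 0, 0, []⟩) (.leaf ⟨7, 4807, 4808, 0, 0, 0, 0, 93, 0, 0, []⟩))) (.node (.node (.leaf ⟨5, 1391, 1392, 0, 0, 0, 0, 93, 0, 0, []⟩) (.leaf ⟨11, 4092, 4090, 0, 0, 0, 0, 59, 3, 4092, [24473, 24471, 24466]⟩)) (.node (.leaf ⟨11, 576, 576, 1, 0, (-1), 0, 59, 3, 576, [3101, 9172, 3100]⟩) (.leaf ⟨0, 0, 0, 0, 0, 0, 0, 0, 0, 0, []⟩))))))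

def factsPart206 : ATree TFact :=
  .node (.node (.node (.node (.node (.node (.leaf ⟨3, 94, 84, 0, 0, 0, 0, 33, 0, 84, [371, 411, 396]⟩) (.leaf ⟨6, 2771, 2768, 0, 0, 0, 0, 53, 0, 2768, [16781, 16792, 16794]⟩)) (.node (.leaf ⟨8, 1516, 1517, 0, 0, 0, 0, 93, 0, 0, []⟩) (.leaf ⟨6, 4200, 4200, (-1), 0, (-1), 0, 54, 0, 4200, [24977, 24986, 24976]⟩))) (.node (.node (.leaf ⟨11, 79, 79, 1, 0, (-1), 0, 20, 3, 79, [325, 4506, 324]⟩) (.leaf ⟨4, 3491, 3492, 0, 0, 0, 0, 93, 0, 0, []⟩)) (.node (.leaf ⟨1, 1705, 697, 0, 0, 0, 0, 19, 0, 697, [4225, 12699, 10016]⟩) (.leaf ⟨7, 2360, 2360, (-1), 0, (-1), 0, 58, 0, 2360, [13573, 29082, 13572]⟩)))) (.node (.node (.node (.leaf ⟨6, 473, 474, 0, 0, 0, 0, 93, 0, 0, []⟩) (.leaf ⟨3, 3110, 3110, (-1), 0, (-1), 0, 21, 5, 3110, [18841, 18842, 6198,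 18843, 18840]⟩)) (.node (.leaf ⟨1, 1784, 795, 0, 0, 0, 0, 20, 0, 795, [5065, 10651, 10646]⟩) (.leaf ⟨7, 2112, 4560, 0, 0, 0, 0, 93, 0, 0, []⟩))) (.node (.node (.leaf ⟨9, 2, 2, 1, 0, 1, 0, 27, 3, 2, [3, 6554, 2]⟩) (.leaf ⟨5, 3843, 3844, 0, 0, 0, 0, 93, 0, 0, []⟩)) (.node (.leaf ⟨7, 632, 632, (-1), 0, 1, 0, 58, 0, 632, [3505, 3530, 3504]⟩) (.leaf ⟨7, 5177, 5178, 0, 0, 0, 0, 93, 0, 0, []⟩))))) (.node (.node (.node (.node (.leaf ⟨4, 200, 200, 1, 0, (-1), 0, 41, 0, 200, [1429, 1434, 1428]⟩) (.leaf ⟨0, 2922, 2923, 0, 0, 0, 0, 93, 0, 0, []⟩)) (.node (.leaf ⟨10, 1656, 1657, 0, 0, 0, 0, 93, 0, 0, []⟩) (.leaf ⟨4, 4372, 4347, (-27), 0, 1, 0, 41, 2, 589, [26010, 9257, 25756]⟩))) (.node (.node (.leaf ⟨10, 860, 860, (-1), 0, 1, 0, 43, 3, 860, [5491, 5530, 5490]⟩) (.leaf ⟨4, 815,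 815, 1, 0, (-1), 0, 39, 0, 815, [5211, 21914, 5210]⟩)) (.node (.leaf ⟨8, 2339, 2335, (-5), 0, (-23), 0, 52, 3, 2339, [13393, 13723, 13384]⟩) (.leaf ⟨5, 5008, 5009, 0, 0, 0, 0, 93, 0, 0, []⟩)))) (.node (.node (.node (.leaf ⟨5, 619, 619, (-1), 0, (-1), 0, 14, 3, 619, [3397, 3482, 3396]⟩) (.leaf ⟨10, 3289, 3290, 0, 0, 0, 0, 93, 0, 0, []⟩)) (.node (.leaf ⟨1, 1083, 457, 0, 0, 0, 0, 14, 0, 457, [2411, 11675, 6814]⟩) (.leaf ⟨11, 4727, 4729, 0, 0, 0, 0, 93, 0, 0, []⟩))) (.node (.node (.leaf ⟨2, 1258, 1266, 0, 0, 0, 0, 25, 0, 1266, [7569, 7579, 7552]⟩) (.leaf ⟨7, 4006, 4007, 0, 0, 0, 0, 93, 0, 0, []⟩)) (.node (.leaf ⟨1, 1673, 1673, 1, 0, 1, 0, 15, 0, 1673, [9791, 15770, 9790]⟩) (.leaf ⟨0, 0, 0, 0, 0, 0, 0, 0, 0, 0, []⟩)))))) (.node (.node (.node (.node (.node (.leaf ⟨5, 163,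 164, 0, 0, 0, 0, 93, 0, 0, []⟩) (.leaf ⟨3, 2756, 2756, 17, 0, 9, 0, 66, 16, 2758, [16704, 16706, 16685, 16708, 16722, 16734, 16738, 16754, 16751, 16764, 16768, 16772, 16776, 16783, 16786, 16788, 16810, 16816, 16824, 16830, 16843, 16846, 16845, 16856, 16860, 16864, 16873, 16876, 16880, 16882, 16896, 16906, 16918, 16924, 16932, 16957, 16821, 16964, 16970, 16822, 16731, 16668, 16546, 16682, 16684, 16686, 16688, 16983, 16990, 16994, 17002, 17004, 17012, 17020, 17268, 17263, 17273, 16688, 17276, 17280, 17284, 17298, 17306]⟩)) (.node (.leaf ⟨2, 242, 242, (-1), 0, (-1), 0, 29, 0, 242, [1597, 630, 1596]⟩) (.leaf ⟨3, 974, 1932, 0, 0, 0, 0, 36, 0, 1932, [11371, 6224, 6172]⟩))) (.node (.node (.leaf ⟨10, 588, 791, 0, 0, 0, 0, 49, 5, 588, [3211, 3209, 3240, 4992, 5018]⟩) (.leaf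 ⟨11, 3623, 3624, 0, 0, 0, 0, 93, 0, 0, []⟩)) (.node (.leaf ⟨2, 1008, 1991, 0, 0, 0, 0, 28, 0, 1991, [11751, 13210, 6368]⟩) (.leaf ⟨10, 4945, 4946, 0, 0, 0, 0, 93, 0, 0, []⟩)))) (.node (.node (.node (.leaf ⟨6, 544, 544, (-1), 0, (-1), 0, 32, 3, 544, [2903, 2970, 2902]⟩) (.leaf ⟨4, 3186, 3187, 0, 0, 0, 0, 93, 0, 0, []⟩)) (.node (.leaf ⟨1, 1886, 1873, 0, 0, 0, 0, 15, 0, 1873, [11117, 11163, 11156]⟩) (.leaf ⟨4, 4619, 4640, 0, 0, 0, 0, 43, 2, 4618, [27372, 27365, 27544]⟩))) (.node (.node (.leaf ⟨11, 1132, 1140, 0, 0, 0, 0, 93, 0, 0, []⟩) (.leaf ⟨6, 3920, 3913, 0, 0, 0, 0, 45, 5, 3920, [23433, 23442, 23448, 23451, 23410]⟩)) (.node (.leaf ⟨0, 2257, 2548, 0, 0, 0, 0, 6, 0, 2548, [15225, 15259, 13052]⟩) (.leaf ⟨0, 0, 0, 0, 0, 0, 0, 0, 0, 0, []⟩))))) (.node (.node (.node (.node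 (.leaf ⟨7, 367, 368, 0, 0, 0, 0, 93, 0, 0, []⟩) (.leaf ⟨5, 3021, 3025, (-27), 0, (-1), 0, 47, 2, 678, [18328, 4997, 18330]⟩)) (.node (.leaf ⟨7, 1696, 1721, 14, 0, 10, 0, 51, 3, 770, [9964, 9958, 4797, 10137, 10138]⟩) (.leaf ⟨4, 4476, 4476, 1, 0, 1, 0, 40, 2, 4475, [26508, 26522, 26508]⟩))) (.node (.node (.leaf ⟨2, 947, 944, 0, 0, 0, 0, 28, 0, 944, [6033, 6040, 6042]⟩) (.leaf ⟨3, 3710, 3764, 0, 0, 0, 0, 34, 0, 3764, [22423, 22205, 21790]⟩)) (.node (.leaf ⟨3, 521, 521, 1, 0, 1, 0, 33, 0, 521, [2719, 10284, 2718]⟩) (.leaf ⟨5, 5100, 5101, 0, 0, 0, 0, 93, 0, 0, []⟩)))) (.node (.node (.node (.leaf ⟨3, 678, 477, 0, 0, 0, 0, 36, 2, 677, [3990, 3989, 2466]⟩) (.leaf ⟨1, 3364, 3364, (-1), 0, (-1), 0, 15, 0, 3364, [20357, 20378, 20356]⟩)) (.node (.leaf ⟨2, 2083, 2082, 0, 0, 0,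 0, 22, 0, 2082, [12179, 11451, 12186]⟩) (.leaf ⟨9, 4803, 4808, 0, 0, 0, 0, 57, 3, 4803, [28559, 28569, 28570]⟩))) (.node (.node (.leaf ⟨7, 1392, 1393, 0, 0, 0, 0, 93, 0, 0, []⟩) (.leaf ⟨5, 4091, 4093, 0, 0, 0, 0, 93, 0, 0, []⟩)) (.node (.leaf ⟨11, 577, 577, 1, 0, 1, 0, 55, 3, 577, [3103, 16282, 3102]⟩) (.leaf ⟨0, 0, 0, 0, 0, 0, 0, 0, 0, 0, []⟩))))))

def factsPart207 : ATree TFact :=
  .node (.node (.node (.node (.node (.node (.leaf ⟨3, 95, 86, 0, 0, 0, 0, 32, 0, 86, [379, 413, 400]⟩) (.leaf ⟨8, 111, 111, (-1), 0, 1, 0, 61, 0, 111, [471, 310, 470]⟩)) (.node (.leaf ⟨7, 1517, 1518, 0, 0, 0, 0, 93, 0, 0, []⟩) (.leaf ⟨0, 480, 480, 1, 0, 1, 0, 6, 0, 480, [2511, 4642, 2510]⟩))) (.node (.node (.leaf ⟨11, 80, 80, 1, 0, 1, 0, 29, 3, 80, [327, 4508, 326]⟩) (.leaf ⟨7, 979, 3493,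 0, 0, 0, 0, 93, 0, 0, []⟩)) (.node (.leaf ⟨1, 1719, 739, 0, 0, 0, 0, 14, 0, 739, [4603, 12701, 10124]⟩) (.leaf ⟨7, 2361, 2361, (-1), 0, 1, 0, 46, 3, 2361, [13575, 29084, 13574]⟩)))) (.node (.node (.node (.leaf ⟨5, 474, 475, 0, 0, 0, 0, 93, 0, 0, []⟩) (.leaf ⟨3, 951, 951, (-1), 0, 1, 0, 35, 2, 3110, [18837, 18844, 18837]⟩)) (.node (.leaf ⟨5, 1784, 1743, 27, 0, 1, 0, 14, 3, 1784, [10652, 5079, 10253]⟩) (.leaf ⟨2, 4560, 3518, 0, 0, 0, 0, 25, 0, 3518, [20991, 27034, 27036]⟩))) (.node (.node (.leaf ⟨9, 3, 3, 1, 0, (-1), 0, 35, 3, 3, [5, 6556, 4]⟩) (.leaf ⟨5, 3842, 3692, 0, 0, 0, 0, 46, 0, 3692, [21693, 21631, 22932]⟩)) (.node (.leaf ⟨7, 594, 643, 9, 0, 25, 0, 33, 3, 594, [3238, 9389, 3555]⟩) (.leaf ⟨10, 5178, 3706, 0, 0, 0, 0, 58, 3, 5178, [31133, 31131, 21778]⟩))))) (.node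 (.node (.node (.node (.leaf ⟨3, 98, 98, (-1), 0, (-1), 0, 36, 0, 98, [421, 1368, 420]⟩) (.leaf ⟨10, 2923, 2924, 0, 0, 0, 0, 93, 0, 0, []⟩)) (.node (.leaf ⟨10, 1554, 1654, 0, 0, 0, 0, 58, 3, 1554, [8769, 1493, 9622]⟩) (.leaf ⟨9, 4372, 2660, 0, 0, 0, 0, 48, 3, 4372, [26009, 4695, 15938]⟩))) (.node (.node (.leaf ⟨10, 861, 861, (-1), 0, (-1), 0, 63, 3, 861, [5493, 5532, 5492]⟩) (.leaf ⟨4, 3726, 3726, (-1), 0, 1, 0, 41, 0, 3726, [21909, 21916, 21908]⟩)) (.node (.leaf ⟨5, 2184, 2372, 0, 0, 0, 0, 93, 0, 0, []⟩) (.leaf ⟨2, 5009, 5002, 0, 0, 0, 0, 23, 0, 5002, [30071, 30107, 30108]⟩)))) (.node (.node (.node (.leaf ⟨5, 620, 620, 1, 0, 1, 0, 46, 0, 620, [3399, 3484, 3398]⟩) (.leaf ⟨7, 3290, 3291, 0, 0, 0, 0, 93, 0, 0, []⟩)) (.node (.leaf ⟨4, 1083, 1974, 0, 0, 0, 0, 93, 0, 0,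 []⟩) (.leaf ⟨7, 4729, 4730, 0, 0, 0, 0, 93, 0, 0, []⟩))) (.node (.node (.leaf ⟨5, 1226, 1267, 0, 0, 0, 0, 93, 0, 0, []⟩) (.leaf ⟨10, 4007, 3142, 0, 0, 0, 0, 58, 3, 4007, [23965, 23963, 19112]⟩)) (.node (.leaf ⟨1, 1674, 1674, (-1), 0, (-1), 0, 14, 0, 1674, [9793, 15772, 9792]⟩) (.leaf ⟨0, 0, 0, 0, 0, 0, 0, 0, 0, 0, []⟩)))))) (.node (.node (.node (.node (.node (.leaf ⟨5, 162, 165, 0, 0, 0, 0, 93, 0, 0, []⟩) (.leaf ⟨3, 2742, 2742, 17, 0, (-9), 0, 37, 2, 2756, [16696, 17308, 16696]⟩)) (.node (.leaf ⟨2, 243, 243, 1, 0, 1, 0, 23, 0, 243, [1599, 9116, 1598]⟩) (.leaf ⟨3, 4297, 1950, 0, 0, 0, 0, 31, 0, 1950, [11457, 25501, 25486]⟩))) (.node (.node (.leaf ⟨11, 587, 792, 0, 0, 0, 0, 93, 0, 0, []⟩) (.leaf ⟨7, 3624, 3625, 0, 0, 0, 0, 93, 0, 0, []⟩)) (.node (.leaf ⟨2, 2294, 2275,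 0, 0, 0, 0, 23, 0, 2275, [13117, 13213, 13202]⟩) (.leaf ⟨5, 4946, 4947, 0, 0, 0, 0, 93, 0, 0, []⟩)))) (.node (.node (.node (.leaf ⟨6, 545, 545, (-1), 0, 1, 0, 24, 3, 545, [2905, 2972, 2904]⟩) (.leaf ⟨10, 3187, 3188, 0, 0, 0, 0, 93, 0, 0, []⟩)) (.node (.leaf ⟨1, 1887, 1874, 0, 0, 0, 0, 16, 0, 1874, [11119, 11165, 11158]⟩) (.leaf ⟨5, 4627, 4619, 61, 0, 55, 0, 66, 18, 3073, [27408, 18567, 27411, 5795, 27412, 27416, 18645, 24101, 1996, 1998, 2000, 16562, 27422, 16590, 5972, 27428, 27430, 5967, 22561, 18751, 22583, 22596, 27434, 19099, 19120, 22613, 6132, 27436, 22623, 21087, 27440, 25720, 18532, 25500, 11440, 2355, 27442, 27444, 27446, 27448, 27450, 27468, 27470, 27481, 27492, 27500, 27505, 27508, 27510, 27359, 27330, 27512, 27521, 27522, 27526, 27528, 26826, 27531, 27533,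 27534, 27541, 27547, 27549]⟩))) (.node (.node (.leaf ⟨5, 1140, 1141, 0, 0, 0, 0, 93, 0, 0, []⟩) (.leaf ⟨6, 3921, 3914, 0, 0, 0, 0, 39, 3, 3921, [23435, 23452, 23414]⟩)) (.node (.leaf ⟨9, 2536, 2549, 0, 0, 0, 0, 93, 0, 0, []⟩) (.leaf ⟨0, 0, 0, 0, 0, 0, 0, 0, 0, 0, []⟩))))) (.node (.node (.node (.node (.leaf ⟨1, 242, 349, 0, 0, 0, 0, 20, 0, 349, [1911, 472, 1596]⟩) (.leaf ⟨5, 3026, 3022, 27, 0, 1, 0, 46, 2, 3025, [18324, 18333, 18308]⟩)) (.node (.leaf ⟨5, 768, 1722, 0, 0, 0, 0, 93, 0, 0, []⟩) (.leaf ⟨10, 4049, 4478, 0, 0, 0, 0, 93, 0, 0, []⟩))) (.node (.node (.leaf ⟨7, 947, 948, 0, 0, 0, 0, 93, 0, 0, []⟩) (.leaf ⟨4, 3710, 3710, 1, 0, 1, 0, 41, 0, 3710, [21791, 22206, 21790]⟩)) (.node (.leaf ⟨3, 1383, 1383, 1, 0, (-1), 0, 30, 0, 1383, [8073, 7861, 9762, 7860, 8072]⟩)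 (.leaf ⟨1, 5101, 5096, 0, 0, 0, 0, 14, 0, 5096, [30585, 30619, 30620]⟩)))) (.node (.node (.node (.leaf ⟨3, 528, 532, 0, 0, 0, 0, 31, 0, 532, [2819, 2817, 2766]⟩) (.leaf ⟨2, 3359, 3359, (-1), 0, 1, 0, 28, 0, 3359, [20337, 15170, 20336]⟩)) (.node (.leaf ⟨1, 278, 1939, 0, 0, 0, 0, 16, 0, 1939, [11409, 11397, 1716]⟩) (.leaf ⟨6, 4808, 4809, 0, 0, 0, 0, 93, 0, 0, []⟩))) (.node (.node (.leaf ⟨6, 1393, 1394, 0, 0, 0, 0, 93, 0, 0, []⟩) (.leaf ⟨7, 4093, 4094, 0, 0, 0, 0, 93, 0, 0, []⟩)) (.node (.leaf ⟨7, 583, 583, 1, 0, (-1), 0, 51, 5, 583, [3127, 3125, 2784, 3124, 3126]⟩) (.leaf ⟨0, 0, 0, 0, 0, 0, 0, 0, 0, 0, []⟩))))))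

def factsPart208 : ATree TFact :=
  .node (.node (.node (.node (.node (.node (.leaf ⟨3, 96, 87, 0, 0, 0, 0, 34, 0, 87, [381, 415, 404]⟩) (.leaf ⟨8, 112, 112, (-1), 0, (-1), 0, 47, 3, 112, [475, 16798, 474]⟩)) (.node (.leaf ⟨7, 1489, 1519, 0, 0, 0, 0, 93, 0, 0, []⟩) (.leaf ⟨0, 481, 481, (-1), 0, (-1), 0, 5, 0, 481, [2513, 24990, 2512]⟩))) (.node (.node (.leaf ⟨11, 81, 81, 1, 0, (-1), 0, 37, 3, 81, [329, 4510, 328]⟩) (.leaf ⟨6, 3493, 3494, 0, 0, 0, 0, 93, 0, 0, []⟩)) (.node (.leaf ⟨2, 1837, 1705, 0, 0, 0, 0, 28, 2, 1612, [10940, 9115, 10016]⟩) (.leaf ⟨4, 2358, 4890, 0, 0, 0, 0, 93, 0, 0, []⟩)))) (.node (.node (.node (.leaf ⟨4, 475, 476, 0, 0, 0, 0, 93, 0, 0, []⟩) (.leaf ⟨10, 3092, 915, 0, 0, 0, 0, 58, 3, 3092, [18689, 5351, 5812]⟩)) (.node (.leaf ⟨4, 1717, 1071, 0,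 0, 0, 0, 43, 0, 1071, [6699, 10481, 10100]⟩) (.leaf ⟨6, 4560, 4561, 0, 0, 0, 0, 93, 0, 0, []⟩))) (.node (.node (.leaf ⟨9, 4, 4, 1, 0, 1, 0, 42, 3, 4, [7, 6558, 6]⟩) (.leaf ⟨6, 3844, 3694, 0, 0, 0, 0, 45, 5, 3844, [22941, 22935, 22942, 21694, 21696]⟩)) (.node (.leaf ⟨2, 791, 598, 0, 0, 0, 0, 23, 0, 598, [3249, 14684, 5018]⟩) (.leaf ⟨10, 3770, 3781, (-50), 0, (-6), 0, 36, 3, 3770, [22525, 22494, 22510]⟩))))) (.node (.node (.node (.node (.leaf ⟨3, 150, 150, 1, 0, 1, 0, 33, 0, 150, [847, 1438, 846]⟩) (.leaf ⟨8, 2919, 2922, 0, 0, 0, 0, 17, 3, 2919, [17813, 12840, 17818]⟩)) (.node (.leaf ⟨10, 1655, 1555, 0, 0, 0, 0, 54, 3, 1655, [9625, 9631, 8770]⟩) (.leaf ⟨4, 4355, 2660, 27, 0, (-1), 0, 42, 2, 4347, [25808, 26013, 26014]⟩))) (.node (.node (.leaf ⟨5, 866, 866, 1, 0, (-1),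 0, 49, 0, 866, [5523, 5509, 5534, 5508, 5522]⟩) (.leaf ⟨10, 186, 186, 1, 0, 1, 0, 61, 3, 186, [1251, 1288, 1250]⟩)) (.node (.leaf ⟨6, 2372, 2373, 0, 0, 0, 0, 93, 0, 0, []⟩) (.leaf ⟨10, 5009, 5010, 0, 0, 0, 0, 93, 0, 0, []⟩)))) (.node (.node (.node (.leaf ⟨6, 622, 622, 1, 0, 1, 0, 45, 5, 622, [3403, 3401, 3486, 3400, 3402]⟩) (.leaf ⟨2, 3290, 2143, 0, 0, 0, 0, 28, 2, 3289, [19868, 19867, 12406]⟩)) (.node (.leaf ⟨1, 1974, 458, 0, 0, 0, 0, 13, 0, 458, [2415, 11677, 11678]⟩) (.leaf ⟨11, 4730, 4728, 0, 0, 0, 0, 59, 3, 4730, [28063, 28061, 28058]⟩))) (.node (.node (.leaf ⟨4, 1267, 1268, 0, 0, 0, 0, 93, 0, 0, []⟩) (.leaf ⟨8, 4007, 4008, 0, 0, 0, 0, 93, 0, 0, []⟩)) (.node (.leaf ⟨1, 1675, 1675, 1, 0, 1, 0, 13, 0, 1675, [9795, 15774, 9794]⟩) (.leaf ⟨0, 0, 0, 0, 0, 0, 0, 0, 0,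 0, []⟩)))))) (.node (.node (.node (.node (.node (.leaf ⟨10, 115, 115, 1, 0, 1, 0, 58, 3, 115, [487, 700, 486]⟩) (.leaf ⟨8, 1660, 2820, 0, 0, 0, 0, 93, 0, 0, []⟩)) (.node (.leaf ⟨2, 244, 244, (-1), 0, (-1), 0, 22, 0, 244, [1601, 9118, 1600]⟩) (.leaf ⟨3, 4298, 4283, 0, 0, 0, 0, 32, 0, 4283, [25417, 25503, 25488]⟩))) (.node (.node (.leaf ⟨5, 792, 793, 0, 0, 0, 0, 93, 0, 0, []⟩) (.leaf ⟨6, 3625, 3626, 0, 0, 0, 0, 93, 0, 0, []⟩)) (.node (.leaf ⟨3, 2265, 2275, 1, 0, (-5), 0, 21, 5, 2265, [13135, 13147, 13201, 13208, 13214]⟩) (.leaf ⟨5, 1756, 4948, 0, 0, 0, 0, 93, 0, 0, []⟩)))) (.node (.node (.node (.leaf ⟨3, 489, 551, 0, 0, 0, 0, 93, 0, 0, []⟩) (.leaf ⟨9, 250, 3189, 0, 0, 0, 0, 93, 0, 0, []⟩)) (.node (.leaf ⟨2, 1319, 1888, 0, 0, 0, 0, 93, 0, 0, []⟩) (.leaf ⟨3, 4619, 4625,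 (-61), 0, 55, 0, 31, 0, 4625, [27401, 27407, 27550]⟩))) (.node (.node (.leaf ⟨11, 1141, 1133, 0, 0, 0, 0, 50, 3, 1141, [7071, 7069, 7042]⟩) (.leaf ⟨7, 3923, 3916, 0, 0, 0, 0, 51, 5, 3923, [23439, 23437, 23454, 23418, 23422]⟩)) (.node (.leaf ⟨2, 2538, 2549, 0, 0, 0, 0, 27, 2, 2537, [15204, 15203, 15262]⟩) (.leaf ⟨0, 0, 0, 0, 0, 0, 0, 0, 0, 0, []⟩))))) (.node (.node (.node (.node (.leaf ⟨1, 243, 350, 0, 0, 0, 0, 14, 0, 350, [1913, 1951, 1598]⟩) (.leaf ⟨6, 3026, 3027, 0, 0, 0, 0, 93, 0, 0, []⟩)) (.node (.leaf ⟨6, 1722, 1723, 0, 0, 0, 0, 93, 0, 0, []⟩) (.leaf ⟨3, 4478, 4475, 0, 0, 0, 0, 36, 0, 4475, [26507, 24267, 26526]⟩))) (.node (.node (.leaf ⟨2, 948, 945, 0, 0, 0, 0, 25, 0, 945, [6035, 6045, 6046]⟩) (.leaf ⟨5, 3723, 3723, (-1), 0, (-1), 0, 47, 0, 3723, [21877, 22064,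 21876]⟩)) (.node (.leaf ⟨4, 569, 569, (-1), 0, 1, 0, 40, 0, 569, [3053, 9154, 3052]⟩) (.leaf ⟨10, 5101, 5102, 0, 0, 0, 0, 93, 0, 0, []⟩)))) (.node (.node (.node (.leaf ⟨3, 604, 533, 0, 0, 0, 0, 36, 0, 533, [2821, 3999, 3272]⟩) (.leaf ⟨2, 3360, 3360, 1, 0, (-1), 0, 29, 0, 3360, [20341, 20382, 20340]⟩)) (.node (.leaf ⟨1, 279, 1940, 0, 0, 0, 0, 15, 0, 1940, [11411, 12191, 1718]⟩) (.leaf ⟨9, 4804, 4809, 0, 0, 0, 0, 53, 3, 4804, [28561, 28572, 28574]⟩))) (.node (.node (.leaf ⟨9, 1390, 1395, 0, 0, 0, 0, 93, 0, 0, []⟩) (.leaf ⟨5, 4094, 4092, 0, 0, 0, 0, 46, 2, 4093, [24478, 24477, 24472]⟩)) (.node (.leaf ⟨3, 584, 584, (-1), 0, (-1), 0, 33, 0, 584, [3133, 2842, 3132]⟩) (.leaf ⟨0, 0, 0, 0, 0, 0, 0, 0, 0, 0, []⟩))))))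

def factsPart209 : ATree TFact :=
  .node (.node (.node (.node (.node (.node (.leaf ⟨5, 93, 97, 0, 0, 0, 0, 93, 0, 0, []⟩) (.leaf ⟨8, 113, 113, (-1), 0, 1, 0, 41, 3, 113, [479, 16800, 478]⟩)) (.node (.leaf ⟨6, 1164, 1520, 0, 0, 0, 0, 93, 0, 0, []⟩) (.leaf ⟨0, 868, 868, 1, 0, 1, 0, 7, 0, 868, [5541, 24992, 5540]⟩))) (.node (.node (.leaf ⟨10, 549, 549, 1, 0, (-1), 0, 65, 4, 82, [2918, 339, 4512, 338, 2918]⟩) (.leaf ⟨9, 3493, 975, 0, 0, 0, 0, 57, 3, 3493, [20895, 6191, 6174]⟩)) (.node (.leaf ⟨2, 1719, 2172, 0, 0, 0, 0, 23, 0, 2172, [12611, 12704, 10124]⟩) (.leaf ⟨2, 2486, 1156, 0, 0, 0, 0, 23, 0, 1156, [7123, 10590, 14956]⟩)))) (.node (.node (.node (.leaf ⟨10, 476, 477, 0, 0, 0, 0, 93, 0, 0, []⟩) (.leaf ⟨11, 801, 842, 0, 0, 0, 0, 64, 3, 801, [5137, 5822, 5346]⟩)) (.node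 (.leaf ⟨4, 1784, 1782, 0, 0, 0, 0, 44, 0, 1782, [10637, 10657, 10646]⟩) (.leaf ⟨2, 4561, 3519, 0, 0, 0, 0, 24, 0, 3519, [20993, 27039, 27040]⟩))) (.node (.node (.leaf ⟨9, 5, 5, 1, 0, (-1), 0, 48, 3, 5, [9, 6560, 8]⟩) (.leaf ⟨5, 3684, 3845, 0, 0, 0, 0, 93, 0, 0, []⟩)) (.node (.leaf ⟨3, 789, 782, 0, 0, 0, 0, 36, 2, 595, [4992, 3239, 4916]⟩) (.leaf ⟨2, 3781, 5178, 50, 0, (-6), 0, 28, 0, 5178, [31134, 22476, 31136]⟩))))) (.node (.node (.node (.node (.leaf ⟨3, 200, 200, (-1), 0, (-1), 0, 34, 0, 200, [1429, 1440, 1428]⟩) (.leaf ⟨8, 2920, 2923, 0, 0, 0, 0, 7, 3, 2920, [17815, 17824, 17820]⟩)) (.node (.leaf ⟨5, 1657, 1652, 0, 0, 0, 0, 49, 4, 1656, [9628, 9627, 9632, 8772, 9614]⟩) (.leaf ⟨4, 2681, 4371, (-27), 0, 1, 0, 43, 2, 2660, [16040, 26017, 25988]⟩))) (.node (.node (.leaf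 ⟨5, 867, 867, (-1), 0, 1, 0, 46, 0, 867, [5525, 5536, 5524]⟩) (.leaf ⟨10, 3718, 3718, 1, 0, (-1), 0, 63, 3, 3718, [21847, 21920, 21846]⟩)) (.node (.leaf ⟨7, 2373, 2374, 0, 0, 0, 0, 93, 0, 0, []⟩) (.leaf ⟨2, 5010, 5003, 0, 0, 0, 0, 28, 0, 5003, [30087, 30111, 30112]⟩)))) (.node (.node (.node (.leaf ⟨6, 626, 626, (-1), 0, (-1), 0, 54, 0, 626, [3453, 3488, 3452]⟩) (.leaf ⟨2, 3288, 3291, 0, 0, 0, 0, 25, 0, 3291, [19871, 19872, 19862]⟩)) (.node (.leaf ⟨7, 1974, 1975, 0, 0, 0, 0, 93, 0, 0, []⟩) (.leaf ⟨5, 4712, 4731, 0, 0, 0, 0, 93, 0, 0, []⟩))) (.node (.node (.leaf ⟨3, 1268, 1269, 0, 0, 0, 0, 93, 0, 0, []⟩) (.leaf ⟨10, 3795, 4008, 0, 0, 0, 0, 61, 3, 3795, [22607, 23967, 23968]⟩)) (.node (.leaf ⟨1, 1676, 1676, (-1), 0, (-1), 0, 12, 0, 1676, [9797, 15776, 9796]⟩) (.leaf ⟨0,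 0, 0, 0, 0, 0, 0, 0, 0, 0, []⟩)))))) (.node (.node (.node (.node (.node (.leaf ⟨10, 116, 116, 1, 0, (-1), 0, 54, 3, 116, [491, 928, 490]⟩) (.leaf ⟨11, 2734, 2820, 0, 0, 0, 0, 62, 3, 2734, [16541, 14326, 17312]⟩)) (.node (.leaf ⟨2, 245, 245, 1, 0, 1, 0, 28, 0, 245, [1603, 9120, 1602]⟩) (.leaf ⟨3, 4299, 4292, 0, 0, 0, 0, 33, 0, 4292, [25469, 25505, 25490]⟩))) (.node (.node (.leaf ⟨11, 793, 588, 0, 0, 0, 0, 50, 3, 793, [5025, 5023, 3210]⟩) (.leaf ⟨5, 3626, 3627, 0, 0, 0, 0, 93, 0, 0, []⟩)) (.node (.leaf ⟨3, 2276, 2266, (-1), 0, 5, 0, 33, 2, 2275, [13118, 13217, 13070]⟩) (.leaf ⟨5, 1755, 4945, 0, 0, 0, 0, 4, 3, 1755, [10353, 15754, 29594]⟩)))) (.node (.node (.node (.leaf ⟨2, 551, 552, 0, 0, 0, 0, 93, 0, 0, []⟩) (.leaf ⟨10, 3189, 3190, 0, 0, 0, 0, 93, 0, 0, []⟩)) (.node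 (.leaf ⟨10, 1888, 1889, 0, 0, 0, 0, 93, 0, 0, []⟩) (.leaf ⟨4, 4332, 4641, 0, 0, 0, 0, 93, 0, 0, []⟩))) (.node (.node (.leaf ⟨4, 1141, 1142, 0, 0, 0, 0, 93, 0, 0, []⟩) (.leaf ⟨9, 2498, 3926, 0, 0, 0, 0, 93, 0, 0, []⟩)) (.node (.leaf ⟨10, 2549, 2550, 0, 0, 0, 0, 93, 0, 0, []⟩) (.leaf ⟨0, 0, 0, 0, 0, 0, 0, 0, 0, 0, []⟩))))) (.node (.node (.node (.node (.leaf ⟨1, 244, 351, 0, 0, 0, 0, 13, 0, 351, [1915, 1953, 1600]⟩) (.leaf ⟨5, 3027, 3028, 0, 0, 0, 0, 93, 0, 0, []⟩)) (.node (.leaf ⟨10, 1722, 1698, 0, 0, 0, 0, 49, 5, 1722, [10143, 4781, 9142, 9986, 9988]⟩) (.leaf ⟨7, 4478, 4479, 0, 0, 0, 0, 93, 0, 0, []⟩))) (.node (.node (.leaf ⟨3, 946, 871, 0, 0, 0, 0, 35, 2, 940, [6038, 6019, 5546]⟩) (.leaf ⟨6, 3711, 3711, (-1), 0, (-1), 0, 45, 5, 3711, [21793, 22086, 22432, 22087, 21792]⟩))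 (.node (.leaf ⟨5, 1690, 1690, 1, 0, (-1), 0, 50, 0, 1690, [9913, 10094, 9912]⟩) (.leaf ⟨1, 5102, 5097, 0, 0, 0, 0, 19, 0, 5097, [30587, 30623, 30624]⟩)))) (.node (.node (.node (.leaf ⟨3, 646, 646, (-1), 0, (-1), 0, 21, 5, 646, [3599, 4000, 2828, 4001, 3598]⟩) (.leaf ⟨2, 3361, 3361, (-1), 0, 1, 0, 23, 0, 3361, [20345, 20384, 20344]⟩)) (.node (.leaf ⟨1, 280, 1941, 0, 0, 0, 0, 17, 0, 1941, [11413, 12193, 1720]⟩) (.leaf ⟨5, 4809, 4810, 0, 0, 0, 0, 93, 0, 0, []⟩))) (.node (.node (.leaf ⟨10, 1395, 1396, 0, 0, 0, 0, 93, 0, 0, []⟩) (.leaf ⟨4, 4093, 4095, 0, 0, 0, 0, 93, 0, 0, []⟩)) (.node (.leaf ⟨4, 584, 584, 1, 0, (-1), 0, 40, 0, 584, [3133, 2200, 3132]⟩) (.leaf ⟨0, 0, 0, 0, 0, 0, 0, 0, 0, 0, []⟩))))))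

def factsPart210 : ATree TFact :=
  .node (.node (.node (.node (.node (.node (.leaf ⟨10, 70, 98, 0, 0, 0, 0, 93, 0, 0, []⟩) (.leaf ⟨8, 114, 114, (-1), 0, (-1), 0, 34, 3, 114, [483, 16802, 482]⟩)) (.node (.leaf ⟨7, 1520, 1521, 0, 0, 0, 0, 93, 0, 0, []⟩) (.leaf ⟨0, 869, 869, (-1), 0, (-1), 0, 4, 0, 869, [5543, 24994, 5542]⟩))) (.node (.node (.leaf ⟨5, 672, 737, 0, 0, 0, 0, 93, 0, 0, []⟩) (.leaf ⟨9, 3494, 976, 0, 0, 0, 0, 53, 3, 3494, [20897, 20898, 6176]⟩)) (.node (.leaf ⟨1, 2192, 2172, 27, 0, (-1), 0, 11, 4, 1784, [12692, 10652, 5073, 12703, 12706]⟩) (.leaf ⟨6, 2486, 4891, 0, 0, 0, 0, 93, 0, 0, []⟩)))) (.node (.node (.node (.leaf ⟨5, 477, 478, 0, 0, 0, 0, 93, 0, 0, []⟩) (.leaf ⟨11, 814, 915, 0, 0, 0, 0, 59, 3, 814, [5209, 18850, 5812]⟩)) (.node (.leaf ⟨4, 1777, 1783,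 (-27), 0, 1, 0, 38, 4, 1738, [10618, 10261, 10655, 10658, 10638]⟩) (.leaf ⟨5, 4561, 4562, 0, 0, 0, 0, 93, 0, 0, []⟩))) (.node (.node (.leaf ⟨9, 6, 6, 1, 0, 1, 0, 53, 3, 6, [11, 6562, 10]⟩) (.leaf ⟨4, 3845, 3846, 0, 0, 0, 0, 93, 0, 0, []⟩)) (.node (.leaf ⟨3, 783, 791, 0, 0, 0, 0, 31, 0, 791, [5019, 14754, 4918]⟩) (.leaf ⟨8, 2748, 5179, 0, 0, 0, 0, 93, 0, 0, []⟩))))) (.node (.node (.node (.node (.leaf ⟨7, 88, 201, 0, 0, 0, 0, 93, 0, 0, []⟩) (.leaf ⟨8, 2921, 2924, 0, 0, 0, 0, 61, 0, 2924, [17823, 17827, 17816]⟩)) (.node (.leaf ⟨11, 1657, 1658, 0, 0, 0, 0, 93, 0, 0, []⟩) (.leaf ⟨2, 1950, 2660, 0, 0, 0, 0, 23, 0, 2660, [15939, 11441, 11456]⟩))) (.node (.node (.leaf ⟨8, 481, 868, 0, 0, 0, 0, 93, 0, 0, []⟩) (.leaf ⟨0, 179, 179, (-17), 0, 3, 0, 66, 0, 179, [1288, 1219, 3836,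 1254, 1262, 1270, 1278, 1286, 1218, 1220, 1228, 1323, 3705, 3834, 3833, 3830, 3828, 3775, 403, 414, 1378, 1390, 3788, 379, 374, 3790, 3792, 3794, 3674, 3673, 3747, 3818, 3745, 329, 327, 850, 854, 852, 424, 428, 448, 3848, 872, 450, 452, 466, 1236, 3846, 3844, 1241, 3842, 3840, 1229, 1266, 1274, 1282, 1290, 3838, 1221, 1256, 1264, 1272, 1280]⟩)) (.node (.leaf ⟨6, 2374, 2375, 0, 0, 0, 0, 93, 0, 0, []⟩) (.leaf ⟨3, 5004, 4735, 0, 0, 0, 0, 35, 2, 2479, [30088, 14909, 28080]⟩)))) (.node (.node (.node (.leaf ⟨10, 619, 628, 0, 0, 0, 0, 93, 0, 0, []⟩) (.leaf ⟨7, 3289, 3292, 0, 0, 0, 0, 93, 0, 0, []⟩)) (.node (.leaf ⟨1, 1975, 1959, 0, 0, 0, 0, 16, 0, 1959, [11491, 11681, 11682]⟩) (.leaf ⟨6, 4731, 4732, 0, 0, 0, 0, 93, 0, 0, []⟩))) (.node (.node (.leaf ⟨10, 1269, 1270, 0, 0,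 0, 0, 93, 0, 0, []⟩) (.leaf ⟨11, 4006, 4009, 0, 0, 0, 0, 93, 0, 0, []⟩)) (.node (.leaf ⟨2, 2629, 2629, (-1), 0, (-1), 0, 11, 5, 2629, [15753, 9877, 15778, 9876, 15752]⟩) (.leaf ⟨0, 0, 0, 0, 0, 0, 0, 0, 0, 0, []⟩)))))) (.node (.node (.node (.node (.node (.leaf ⟨6, 113, 113, (-1), 0, 1, 0, 39, 3, 113, [479, 572, 478]⟩) (.leaf ⟨5, 2820, 2821, 0, 0, 0, 0, 93, 0, 0, []⟩)) (.node (.leaf ⟨2, 246, 246, (-1), 0, (-1), 0, 23, 0, 246, [1605, 9122, 1604]⟩) (.leaf ⟨3, 4300, 4293, 0, 0, 0, 0, 32, 0, 4293, [25471, 25507, 25492]⟩))) (.node (.node (.leaf ⟨11, 697, 794, 0, 0, 0, 0, 93, 0, 0, []⟩) (.leaf ⟨4, 3627, 3628, 0, 0, 0, 0, 93, 0, 0, []⟩)) (.node (.leaf ⟨3, 2267, 2277, 1, 0, (-5), 0, 32, 2, 2266, [13072, 13219, 13120]⟩) (.leaf ⟨10, 4948, 4947, 0, 0, 0, 0, 49, 5, 4948, [29601,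 10359, 29602, 29596, 29598]⟩)))) (.node (.node (.node (.leaf ⟨3, 494, 553, 0, 0, 0, 0, 93, 0, 0, []⟩) (.leaf ⟨11, 3190, 3191, 0, 0, 0, 0, 93, 0, 0, []⟩)) (.node (.leaf ⟨5, 1889, 1890, 0, 0, 0, 0, 93, 0, 0, []⟩) (.leaf ⟨10, 4641, 4642, 0, 0, 0, 0, 93, 0, 0, []⟩))) (.node (.node (.leaf ⟨11, 1136, 1142, 0, 0, 0, 0, 44, 3, 1136, [7057, 7073, 7074]⟩) (.leaf ⟨10, 3926, 3927, 0, 0, 0, 0, 93, 0, 0, []⟩)) (.node (.leaf ⟨2, 2550, 2539, 0, 0, 0, 0, 28, 0, 2539, [15207, 15264, 15266]⟩) (.leaf ⟨0, 0, 0, 0, 0, 0, 0, 0, 0, 0, []⟩))))) (.node (.node (.node (.node (.leaf ⟨1, 245, 352, 0, 0, 0, 0, 19, 0, 352, [1917, 1955, 1602]⟩) (.leaf ⟨6, 3024, 3028, (-27), 0, 1, 0, 45, 3, 3022, [18310, 18312, 18335, 18336, 18338]⟩)) (.node (.leaf ⟨10, 1723, 1721, 0, 0, 0, 0, 54, 3, 1723, [10145,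 10146, 10138]⟩) (.leaf ⟨3, 4479, 4476, 0, 0, 0, 0, 33, 0, 4476, [26509, 26529, 26530]⟩))) (.node (.node (.leaf ⟨3, 872, 947, 0, 0, 0, 0, 36, 0, 947, [6043, 6050, 5548]⟩) (.leaf ⟨10, 3741, 3741, (-1), 0, 1, 0, 58, 3, 3741, [22093, 22312, 22092]⟩)) (.node (.leaf ⟨4, 1690, 1713, 0, 0, 0, 0, 44, 0, 1713, [10051, 10084, 9912]⟩) (.leaf ⟨10, 1054, 5103, 0, 0, 0, 0, 93, 0, 0, []⟩)))) (.node (.node (.node (.leaf ⟨4, 678, 678, (-1), 0, (-1), 0, 30, 3, 646, [3651, 3997, 4002, 3651, 3997]⟩) (.leaf ⟨2, 3362, 3362, 1, 0, (-1), 0, 28, 0, 3362, [20349, 20386, 20348]⟩)) (.node (.leaf ⟨1, 281, 1942, 0, 0, 0, 0, 14, 0, 1942, [11415, 12195, 1722]⟩) (.leaf ⟨9, 4805, 4810, 0, 0, 0, 0, 48, 3, 4805, [28563, 28576, 28578]⟩))) (.node (.node (.leaf ⟨9, 1396, 1391, 0, 0, 0, 0, 63, 2, 1395, [8098,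 8097, 8088]⟩) (.leaf ⟨7, 4095, 4096, 0, 0, 0, 0, 93, 0, 0, []⟩)) (.node (.leaf ⟨11, 146, 582, 0, 0, 0, 0, 59, 3, 146, [819, 2155, 3124]⟩) (.leaf ⟨0, 0, 0, 0, 0, 0, 0, 0, 0, 0, []⟩))))))

def factsPart211 : ATree TFact :=
  .node (.node (.node (.node (.node (.node (.leaf ⟨2, 88, 98, 0, 0, 0, 0, 28, 2, 71, [384, 279, 420]⟩) (.leaf ⟨7, 2770, 2770, (-1), 0, (-1), 0, 56, 4, 115, [16790, 487, 16804, 486, 16790]⟩)) (.node (.leaf ⟨6, 1521, 1522, 0, 0, 0, 0, 93, 0, 0, []⟩) (.leaf ⟨0, 3110, 3110, 1, 0, 1, 0, 9, 0, 3110, [18835, 24996, 18834]⟩))) (.node (.node (.leaf ⟨3, 92, 92, 1, 0, (-1), 0, 31, 2, 667, [3775, 3778, 3775]⟩) (.leaf ⟨7, 750, 3495, 0, 0, 0, 0, 93, 0, 0, []⟩)) (.node (.leaf ⟨4, 1838, 1426, 0, 0, 0, 0, 43, 0, 1426, [8273, 10483, 10944]⟩) (.leaf ⟨2, 4891, 2358, 0,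 0, 0, 0, 24, 0, 2358, [13569, 29091, 29092]⟩)))) (.node (.node (.node (.leaf ⟨10, 468, 479, 0, 0, 0, 0, 93, 0, 0, []⟩) (.leaf ⟨9, 87, 3112, 0, 0, 0, 0, 93, 0, 0, []⟩)) (.node (.leaf ⟨0, 1776, 1777, 27, 0, 1, 0, 3, 2, 1605, [10614, 10644, 10661]⟩) (.leaf ⟨2, 4562, 3520, 0, 0, 0, 0, 23, 0, 3520, [20995, 27043, 27044]⟩))) (.node (.node (.leaf ⟨9, 69, 69, 1, 0, (-1), 0, 8, 3, 69, [275, 6564, 274]⟩) (.leaf ⟨8, 3686, 3845, 0, 0, 0, 0, 47, 3, 3686, [21681, 21679, 22946]⟩)) (.node (.leaf ⟨2, 783, 783, (-1), 0, (-1), 0, 21, 2, 598, [14680, 14753, 14757, 14753, 14757]⟩) (.leaf ⟨7, 5179, 5180, 0, 0, 0, 0, 93, 0, 0, []⟩))))) (.node (.node (.node (.node (.leaf ⟨8, 201, 202, 0, 0, 0, 0, 93, 0, 0, []⟩) (.leaf ⟨1, 1550, 2925, 0, 0, 0, 0, 93, 0, 0, []⟩)) (.node (.leaf ⟨5, 1658, 1653,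 0, 0, 0, 0, 50, 0, 1653, [9619, 9635, 9636]⟩) (.leaf ⟨9, 3053, 4297, 0, 0, 0, 0, 48, 3, 3053, [18441, 6191, 25486]⟩))) (.node (.node (.leaf ⟨5, 868, 869, 0, 0, 0, 0, 93, 0, 0, []⟩) (.leaf ⟨0, 186, 186, (-17), 0, (-3), 0, 7, 2, 179, [1250, 21924, 1250]⟩)) (.node (.leaf ⟨5, 1220, 1495, 0, 0, 0, 0, 14, 3, 1220, [7433, 8230, 8552]⟩) (.leaf ⟨3, 4736, 5005, 0, 0, 0, 0, 36, 0, 5005, [30093, 30116, 28084]⟩)))) (.node (.node (.node (.leaf ⟨7, 628, 629, 0, 0, 0, 0, 93, 0, 0, []⟩) (.leaf ⟨10, 3291, 3292, 0, 0, 0, 0, 58, 3, 3291, [19871, 19869, 19876]⟩)) (.node (.leaf ⟨6, 1975, 1976, 0, 0, 0, 0, 93, 0, 0, []⟩) (.leaf ⟨7, 4732, 4733, 0, 0, 0, 0, 93, 0, 0, []⟩))) (.node (.node (.leaf ⟨5, 1270, 1271, 0, 0, 0, 0, 93, 0, 0, []⟩) (.leaf ⟨7, 4009, 4010, 0, 0, 0, 0, 93, 0, 0, []⟩)) (.node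 (.leaf ⟨2, 2630, 2630, 1, 0, 1, 0, 28, 0, 2630, [15757, 15780, 15756]⟩) (.leaf ⟨0, 0, 0, 0, 0, 0, 0, 0, 0, 0, []⟩)))))) (.node (.node (.node (.node (.node (.leaf ⟨6, 114, 114, (-1), 0, (-1), 0, 32, 3, 114, [483, 932, 482]⟩) (.leaf ⟨11, 2735, 2821, 0, 0, 0, 0, 50, 3, 2735, [16543, 17314, 17316]⟩)) (.node (.leaf ⟨2, 247, 247, 1, 0, 1, 0, 25, 0, 247, [1607, 9124, 1606]⟩) (.leaf ⟨3, 4301, 4294, 0, 0, 0, 0, 31, 0, 4294, [25473, 25509, 25494]⟩))) (.node (.node (.leaf ⟨4, 794, 792, 0, 0, 0, 0, 44, 0, 792, [5023, 4611, 5028]⟩) (.leaf ⟨10, 3628, 3629, 0, 0, 0, 0, 93, 0, 0, []⟩)) (.node (.leaf ⟨3, 2278, 2268, (-1), 0, 5, 0, 31, 2, 2277, [13122, 13221, 13092]⟩) (.leaf ⟨10, 1753, 4949, 0, 0, 0, 0, 93, 0, 0, []⟩)))) (.node (.node (.node (.leaf ⟨2, 553, 554, 0, 0, 0, 0, 93, 0, 0,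 []⟩) (.leaf ⟨7, 3191, 3192, 0, 0, 0, 0, 93, 0, 0, []⟩)) (.node (.leaf ⟨6, 1890, 1891, 0, 0, 0, 0, 93, 0, 0, []⟩) (.leaf ⟨5, 4642, 4643, 0, 0, 0, 0, 93, 0, 0, []⟩))) (.node (.node (.leaf ⟨7, 1142, 1143, 0, 0, 0, 0, 93, 0, 0, []⟩) (.leaf ⟨7, 3927, 3928, 0, 0, 0, 0, 93, 0, 0, []⟩)) (.node (.leaf ⟨11, 2550, 2551, 0, 0, 0, 0, 93, 0, 0, []⟩) (.leaf ⟨0, 0, 0, 0, 0, 0, 0, 0, 0, 0, []⟩))))) (.node (.node (.node (.node (.leaf ⟨1, 246, 353, 0, 0, 0, 0, 14, 0, 353, [1919, 1957, 1604]⟩) (.leaf ⟨3, 3028, 3016, 27, 0, 1, 0, 32, 0, 3016, [18303, 18320, 18340]⟩)) (.node (.leaf ⟨5, 1597, 1724, 0, 0, 0, 0, 93, 0, 0, []⟩) (.leaf ⟨10, 3983, 4480, 0, 0, 0, 0, 93, 0, 0, []⟩))) (.node (.node (.leaf ⟨7, 872, 949, 0, 0, 0, 0, 93, 0, 0, []⟩) (.leaf ⟨7, 3752, 3765, 0, 0, 0, 0, 93, 0, 0, []⟩))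 (.node (.leaf ⟨3, 1713, 1784, 0, 0, 0, 0, 37, 0, 1784, [10647, 10104, 10050]⟩) (.leaf ⟨11, 5103, 5104, 0, 0, 0, 0, 93, 0, 0, []⟩)))) (.node (.node (.node (.leaf ⟨4, 676, 676, (-1), 0, 1, 0, 40, 2, 678, [3995, 4004, 3995]⟩) (.leaf ⟨2, 3363, 3363, (-1), 0, 1, 0, 25, 0, 3363, [20353, 20388, 20352]⟩)) (.node (.leaf ⟨1, 282, 2083, 0, 0, 0, 0, 13, 0, 2083, [12187, 12197, 1724]⟩) (.leaf ⟨11, 1834, 4811, 0, 0, 0, 0, 93, 0, 0, []⟩))) (.node (.node (.leaf ⟨5, 1396, 1397, 0, 0, 0, 0, 93, 0, 0, []⟩) (.leaf ⟨4, 4096, 4094, 0, 0, 0, 0, 40, 2, 4095, [24484, 24483, 24478]⟩)) (.node (.leaf ⟨10, 529, 529, 1, 0, (-1), 0, 65, 4, 151, [2770, 851, 4508, 850, 2770]⟩) (.leaf ⟨0, 0, 0, 0, 0, 0, 0, 0, 0, 0, []⟩))))))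

def factsPart212 : ATree TFact :=
  .node (.node (.node (.node (.node (.node (.leaf ⟨5, 98, 99, 0, 0, 0, 0, 93, 0, 0, []⟩) (.leaf ⟨7, 2771, 2771, 1, 0, 1, 0, 57, 0, 2771, [16795, 16806, 16794]⟩)) (.node (.leaf ⟨9, 1520, 1514, 0, 0, 0, 0, 53, 3, 1520, [8611, 7188, 8598]⟩) (.leaf ⟨0, 4176, 4176, (-1), 0, (-1), 0, 10, 0, 4176, [24801, 24998, 24800]⟩))) (.node (.node (.leaf ⟨6, 73, 73, (-1), 0, (-1), 0, 51, 0, 73, [283, 337, 360, 336, 282]⟩) (.leaf ⟨8, 3493, 3495, 0, 0, 0, 0, 56, 5, 3493, [20895, 18449, 4726, 4722, 20902]⟩)) (.node (.leaf ⟨4, 2192, 2189, 0, 0, 0, 0, 44, 0, 2189, [12677, 12711, 12688]⟩) (.leaf ⟨3, 758, 2486, 0, 0, 0, 0, 31, 0, 2486, [14957, 10162, 4742]⟩)))) (.node (.node (.node (.leaf ⟨4, 470, 479, 0, 0, 0, 0, 43, 2, 469, [2452, 2451, 2470]⟩) (.leaf ⟨7,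 3112, 3113, 0, 0, 0, 0, 93, 0, 0, []⟩)) (.node (.leaf ⟨2, 1781, 1776, (-27), 0, 1, 0, 1, 1, 1777, [10627, 10634, 10663]⟩) (.leaf ⟨4, 4562, 4563, 0, 0, 0, 0, 93, 0, 0, []⟩))) (.node (.node (.leaf ⟨9, 111, 111, (-1), 0, 1, 0, 63, 0, 111, [471, 6566, 470]⟩) (.leaf ⟨8, 3846, 3687, 0, 0, 0, 0, 41, 3, 3846, [22949, 22951, 21682]⟩)) (.node (.leaf ⟨2, 782, 782, (-1), 0, 1, 0, 23, 2, 783, [4919, 14758, 4919]⟩) (.leaf ⟨2, 3779, 5179, 0, 0, 0, 0, 26, 0, 5179, [31141, 16601, 22498]⟩))))) (.node (.node (.node (.node (.leaf ⟨2, 150, 201, 0, 0, 0, 0, 25, 0, 201, [1445, 422, 846]⟩) (.leaf ⟨10, 2925, 2926, 0, 0, 0, 0, 93, 0, 0, []⟩)) (.node (.leaf ⟨4, 1654, 1567, 0, 0, 0, 0, 40, 2, 10, [9622, 19, 8816]⟩) (.leaf ⟨2, 3053, 3053, 1, 0, (-1), 0, 26, 0, 3053, [18451, 4834, 18450]⟩))) (.node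 (.node (.leaf ⟨4, 869, 870, 0, 0, 0, 0, 93, 0, 0, []⟩) (.leaf ⟨0, 3718, 3718, (-17), 0, 3, 0, 8, 2, 186, [21846, 21926, 21846]⟩)) (.node (.leaf ⟨10, 2372, 2336, 0, 0, 0, 0, 49, 5, 2372, [13727, 12665, 13734, 13358, 13386]⟩) (.leaf ⟨3, 4737, 5006, 0, 0, 0, 0, 37, 0, 5006, [30097, 30119, 28088]⟩)))) (.node (.node (.node (.leaf ⟨10, 629, 620, 0, 0, 0, 0, 58, 3, 629, [3495, 3493, 3398]⟩) (.leaf ⟨6, 3289, 2656, 0, 0, 0, 0, 24, 3, 3289, [19867, 12336, 15920]⟩)) (.node (.leaf ⟨1, 1976, 1971, 0, 0, 0, 0, 15, 0, 1971, [11653, 11685, 11686]⟩) (.leaf ⟨8, 4733, 4734, 0, 0, 0, 0, 93, 0, 0, []⟩))) (.node (.node (.leaf ⟨6, 1271, 1272, 0, 0, 0, 0, 93, 0, 0, []⟩) (.leaf ⟨11, 4010, 4007, 0, 0, 0, 0, 59, 3, 4010, [23975, 23973, 23964]⟩)) (.node (.leaf ⟨2, 2631, 2631, (-1), 0, (-1), 0,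 23, 0, 2631, [15759, 15782, 15758]⟩) (.leaf ⟨0, 0, 0, 0, 0, 0, 0, 0, 0, 0, []⟩)))))) (.node (.node (.node (.node (.node (.leaf ⟨7, 116, 116, (-1), 0, (-1), 0, 51, 5, 116, [491, 487, 934, 486, 490]⟩) (.leaf ⟨9, 2821, 2822, 0, 0, 0, 0, 93, 0, 0, []⟩)) (.node (.leaf ⟨2, 248, 248, (-1), 0, (-1), 0, 24, 0, 248, [1609, 9126, 1608]⟩) (.leaf ⟨4, 4303, 4296, 0, 0, 0, 0, 30, 5, 4303, [25499, 25497, 25510, 25474, 25476]⟩))) (.node (.node (.leaf ⟨3, 734, 794, 0, 0, 0, 0, 37, 0, 794, [5029, 4226, 4438]⟩) (.leaf ⟨5, 3629, 3630, 0, 0, 0, 0, 93, 0, 0, []⟩)) (.node (.leaf ⟨10, 2278, 2295, 0, 0, 0, 0, 93, 0, 0, []⟩) (.leaf ⟨7, 1756, 4949, 0, 0, 0, 0, 58, 0, 4949, [29607, 10357, 10358]⟩)))) (.node (.node (.node (.leaf ⟨5, 553, 551, 0, 0, 0, 0, 31, 3, 553, [2981, 2562, 2976]⟩) (.leaf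 ⟨6, 3192, 3193, 0, 0, 0, 0, 93, 0, 0, []⟩)) (.node (.leaf ⟨7, 1891, 1892, 0, 0, 0, 0, 93, 0, 0, []⟩) (.leaf ⟨10, 4332, 4644, 0, 0, 0, 0, 93, 0, 0, []⟩))) (.node (.node (.leaf ⟨11, 1137, 1143, 0, 0, 0, 0, 59, 3, 1137, [7059, 7076, 7078]⟩) (.leaf ⟨6, 3928, 3929, 0, 0, 0, 0, 93, 0, 0, []⟩)) (.node (.leaf ⟨2, 2551, 2540, 0, 0, 0, 0, 29, 0, 2540, [15209, 15269, 15270]⟩) (.leaf ⟨0, 0, 0, 0, 0, 0, 0, 0, 0, 0, []⟩))))) (.node (.node (.node (.node (.leaf ⟨1, 247, 354, 0, 0, 0, 0, 16, 0, 354, [1921, 1959, 1606]⟩) (.leaf ⟨11, 872, 3029, 0, 0, 0, 0, 93, 0, 0, []⟩)) (.node (.leaf ⟨5, 1594, 1723, 0, 0, 0, 0, 45, 4, 722, [8996, 4329, 4790, 10142, 10144]⟩) (.leaf ⟨2, 4478, 4480, 0, 0, 0, 0, 28, 2, 4049, [26526, 24263, 26534]⟩))) (.node (.node (.leaf ⟨3, 949, 948, 0, 0, 0, 0, 33, 0,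 948, [6047, 6053, 6054]⟩) (.leaf ⟨2, 3741, 3765, 0, 0, 0, 0, 25, 0, 3765, [22439, 22281, 22092]⟩)) (.node (.leaf ⟨1, 560, 2419, 0, 0, 0, 0, 93, 0, 0, []⟩) (.leaf ⟨5, 5104, 5105, 0, 0, 0, 0, 93, 0, 0, []⟩)))) (.node (.node (.node (.leaf ⟨4, 675, 675, (-1), 0, (-1), 0, 43, 2, 676, [3987, 4006, 3987]⟩) (.leaf ⟨2, 3364, 3364, 1, 0, (-1), 0, 24, 0, 3364, [20357, 20390, 20356]⟩)) (.node (.leaf ⟨7, 1922, 2084, 0, 0, 0, 0, 93, 0, 0, []⟩) (.leaf ⟨7, 4811, 4812, 0, 0, 0, 0, 93, 0, 0, []⟩))) (.node (.node (.leaf ⟨9, 1392, 1397, 0, 0, 0, 0, 48, 3, 1392, [8091, 8101, 8102]⟩) (.leaf ⟨10, 4082, 4097, 0, 0, 0, 0, 93, 0, 0, []⟩)) (.node (.leaf ⟨7, 849, 849, 1, 0, (-1), 0, 40, 3, 849, [5383, 4960, 5382]⟩) (.leaf ⟨0, 0, 0, 0, 0, 0, 0, 0, 0, 0, []⟩))))))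

def factsPart213 : ATree TFact :=
  .node (.node (.node (.node (.node (.node (.leaf ⟨2, 99, 89, 0, 0, 0, 0, 23, 0, 89, [387, 422, 424]⟩) (.leaf ⟨6, 2769, 2769, (-1), 0, 1, 0, 51, 0, 2769, [16789, 16797, 16808, 16796, 16788]⟩)) (.node (.leaf ⟨9, 1521, 1515, 0, 0, 0, 0, 57, 3, 1521, [8613, 8616, 8600]⟩) (.leaf ⟨0, 4177, 4177, 1, 0, 1, 0, 6, 0, 4177, [24803, 25000, 24802]⟩))) (.node (.node (.leaf ⟨5, 73, 73, (-1), 0, (-1), 0, 46, 0, 73, [283, 1384, 282]⟩) (.leaf ⟨6, 3495, 3496, 0, 0, 0, 0, 93, 0, 0, []⟩)) (.node (.leaf ⟨1, 2188, 2189, (-27), 0, 1, 0, 13, 2, 2172, [12672, 12709, 12712]⟩) (.leaf ⟨3, 759, 4891, 0, 0, 0, 0, 32, 0, 4891, [29093, 29097, 4744]⟩)))) (.node (.node (.node (.leaf ⟨11, 0, 0, 1, 0, 1, 0, 91, 0, 0, []⟩) (.leaf ⟨3, 820, 3112, 0, 0, 0, 0, 35, 0, 3112,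 [18855, 417, 5254]⟩)) (.node (.leaf ⟨1, 1408, 1785, 0, 0, 0, 0, 93, 0, 0, []⟩) (.leaf ⟨2, 4563, 3521, 0, 0, 0, 0, 22, 0, 3521, [20997, 27047, 27048]⟩))) (.node (.node (.leaf ⟨9, 242, 242, 1, 0, (-1), 0, 64, 0, 242, [1597, 6568, 1596]⟩) (.leaf ⟨9, 2259, 3847, 0, 0, 0, 0, 93, 0, 0, []⟩)) (.node (.leaf ⟨4, 789, 789, 1, 0, 1, 0, 43, 0, 789, [4993, 4980, 4992]⟩) (.leaf ⟨2, 3787, 5180, 0, 0, 0, 0, 25, 0, 5180, [31143, 31145, 22556]⟩))))) (.node (.node (.node (.node (.leaf ⟨2, 200, 202, 0, 0, 0, 0, 26, 0, 202, [1447, 1449, 1428]⟩) (.leaf ⟨11, 2926, 2927, 0, 0, 0, 0, 93, 0, 0, []⟩)) (.node (.leaf ⟨4, 1568, 1655, 0, 0, 0, 0, 39, 0, 1655, [9625, 9640, 8818]⟩) (.leaf ⟨2, 4297, 4297, (-1), 0, 1, 0, 27, 0, 4297, [26023, 26024, 26022]⟩))) (.node (.node (.leaf ⟨9, 870, 871, 0, 0,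 0, 0, 93, 0, 0, []⟩) (.leaf ⟨2, 186, 186, 1, 0, 1, 0, 26, 0, 186, [1251, 1280, 1250]⟩)) (.node (.leaf ⟨10, 2373, 2337, 0, 0, 0, 0, 54, 3, 2373, [13729, 13736, 13388]⟩) (.leaf ⟨3, 4738, 5007, 0, 0, 0, 0, 33, 0, 5007, [30101, 30121, 28092]⟩)))) (.node (.node (.node (.leaf ⟨6, 629, 630, 0, 0, 0, 0, 93, 0, 0, []⟩) (.leaf ⟨2, 3247, 3293, 0, 0, 0, 0, 93, 0, 0, []⟩)) (.node (.leaf ⟨8, 1976, 1977, 0, 0, 0, 0, 93, 0, 0, []⟩) (.leaf ⟨0, 2476, 1386, 0, 0, 0, 0, 7, 0, 1386, [8079, 9805, 14902]⟩))) (.node (.node (.leaf ⟨4, 1272, 1273, 0, 0, 0, 0, 93, 0, 0, []⟩) (.leaf ⟨8, 4010, 4011, 0, 0, 0, 0, 93, 0, 0, []⟩)) (.node (.leaf ⟨10, 1752, 2632, 0, 0, 0, 0, 93, 0, 0, []⟩) (.leaf ⟨0, 0, 0, 0, 0, 0, 0, 0, 0, 0, []⟩)))))) (.node (.node (.node (.node (.node (.leaf ⟨5, 113, 113, 1, 0, 1,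 0, 38, 5, 113, [479, 475, 594, 474, 478]⟩) (.leaf ⟨11, 2736, 2822, 0, 0, 0, 0, 64, 3, 2736, [16545, 17318, 17320]⟩)) (.node (.leaf ⟨2, 1609, 1609, 1, 0, 1, 0, 23, 0, 1609, [9103, 9128, 9102]⟩) (.leaf ⟨6, 3600, 4304, 0, 0, 0, 0, 93, 0, 0, []⟩))) (.node (.node (.leaf ⟨5, 686, 686, (-1), 0, 1, 0, 49, 0, 686, [4157, 3171, 3144, 3170, 4156]⟩) (.leaf ⟨8, 3557, 3631, 0, 0, 0, 0, 93, 0, 0, []⟩)) (.node (.leaf ⟨3, 2274, 2295, 1, 0, (-5), 0, 36, 2, 2268, [13112, 13223, 13224]⟩) (.leaf ⟨5, 4949, 4950, 0, 0, 0, 0, 93, 0, 0, []⟩)))) (.node (.node (.node (.leaf ⟨5, 554, 552, 0, 0, 0, 0, 23, 3, 554, [2983, 2984, 2978]⟩) (.leaf ⟨5, 3193, 3194, 0, 0, 0, 0, 93, 0, 0, []⟩)) (.node (.leaf ⟨0, 230, 288, 0, 0, 0, 0, 4, 0, 288, [1737, 1675, 1550]⟩) (.leaf ⟨4, 4642, 4644, 0, 0, 0, 0, 43,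 2, 4641, [27556, 27555, 27560]⟩))) (.node (.node (.leaf ⟨6, 1143, 1144, 0, 0, 0, 0, 93, 0, 0, []⟩) (.leaf ⟨8, 3929, 3930, 0, 0, 0, 0, 93, 0, 0, []⟩)) (.node (.leaf ⟨7, 2551, 2552, 0, 0, 0, 0, 93, 0, 0, []⟩) (.leaf ⟨0, 0, 0, 0, 0, 0, 0, 0, 0, 0, []⟩))))) (.node (.node (.node (.node (.leaf ⟨1, 248, 355, 0, 0, 0, 0, 15, 0, 355, [1923, 1961, 1608]⟩) (.leaf ⟨9, 3025, 3029, 0, 0, 0, 0, 64, 0, 3029, [18345, 5612, 18322]⟩)) (.node (.leaf ⟨2, 1723, 1724, (-1), 0, (-5), 0, 23, 0, 1724, [10151, 9017, 10152]⟩) (.leaf ⟨7, 4480, 4481, 0, 0, 0, 0, 93, 0, 0, []⟩))) (.node (.node (.leaf ⟨9, 869, 950, 0, 0, 0, 0, 93, 0, 0, []⟩) (.leaf ⟨3, 3765, 3765, (-1), 0, 1, 0, 33, 2, 3752, [22438, 22308, 22438]⟩)) (.node (.leaf ⟨6, 2419, 1742, 0, 0, 0, 0, 15, 3, 2419, [14249, 14026, 10248]⟩) (.leaf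 ⟨10, 5105, 5106, 0, 0, 0, 0, 93, 0, 0, []⟩)))) (.node (.node (.node (.leaf ⟨5, 675, 675, (-1), 0, 1, 0, 31, 3, 675, [3985, 3982, 3984]⟩) (.leaf ⟨10, 212, 3365, 0, 0, 0, 0, 93, 0, 0, []⟩)) (.node (.leaf ⟨6, 2084, 2085, 0, 0, 0, 0, 93, 0, 0, []⟩) (.leaf ⟨6, 4812, 4813, 0, 0, 0, 0, 93, 0, 0, []⟩))) (.node (.node (.leaf ⟨7, 1397, 1398, 0, 0, 0, 0, 93, 0, 0, []⟩) (.leaf ⟨3, 4089, 4097, 0, 0, 0, 0, 36, 2, 4083, [24464, 24407, 24488]⟩)) (.node (.leaf ⟨7, 850, 850, (-1), 0, 1, 0, 58, 0, 850, [5385, 16296, 5384]⟩) (.leaf ⟨0, 0, 0, 0, 0, 0, 0, 0, 0, 0, []⟩))))))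

def factsPart214 : ATree TFact :=
  .node (.node (.node (.node (.node (.node (.leaf ⟨4, 99, 100, 0, 0, 0, 0, 93, 0, 0, []⟩) (.leaf ⟨7, 389, 2772, 0, 0, 0, 0, 93, 0, 0, []⟩)) (.node (.leaf ⟨9, 1522, 1516, 0, 0, 0, 0, 53, 3, 1522, [8615, 8618, 8602]⟩) (.leaf ⟨11, 3111, 4201, 0, 0, 0, 0, 93, 0, 0, []⟩))) (.node (.node (.leaf ⟨4, 661, 73, 0, 0, 0, 0, 40, 2, 656, [3672, 3655, 282]⟩) (.leaf ⟨8, 3494, 3496, 0, 0, 0, 0, 52, 3, 3494, [20897, 20904, 20906]⟩)) (.node (.leaf ⟨7, 2191, 2188, 27, 0, 1, 0, 16, 1, 2189, [12681, 12686, 12715]⟩) (.leaf ⟨2, 1704, 2626, 0, 0, 0, 0, 23, 0, 2626, [15739, 13641, 10012]⟩)))) (.node (.node (.node (.leaf ⟨11, 1, 1, 1, 0, (-1), 0, 20, 3, 1, [1, 2474, 0]⟩) (.leaf ⟨3, 821, 3113, 0, 0, 0, 0, 33, 0, 3113, [18857, 18859, 5258]⟩)) (.node (.leaf ⟨5,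 1744, 1785, 0, 0, 0, 0, 14, 3, 1744, [10267, 9146, 10666]⟩) (.leaf ⟨7, 774, 4564, 0, 0, 0, 0, 93, 0, 0, []⟩))) (.node (.node (.leaf ⟨9, 243, 243, 1, 0, 1, 0, 48, 3, 243, [1599, 6570, 1598]⟩) (.leaf ⟨10, 3847, 3848, 0, 0, 0, 0, 93, 0, 0, []⟩)) (.node (.leaf ⟨10, 2458, 2452, (-28), 0, (-16), 0, 66, 56, 743, [14653, 14654, 14656, 14660, 14678, 14682, 14693, 14698, 14700, 14704, 13982, 5025, 14663, 14708, 14714, 9208, 14722, 9207, 14724, 14726, 14729, 5062, 5072, 5071, 9335, 14730, 14734, 3295, 14736, 11628, 3644, 14738, 4996, 14740, 3995, 3987, 4414, 4421, 4668, 3244, 14088, 14090, 4180, 14146, 14140, 14132, 14746, 14125, 14748, 3505, 14010, 13956, 3508, 13964, 3552, 14751, 4916, 14760, 14755, 14762, 5018, 14656, 14666]⟩) (.leaf ⟨5, 5178, 5180, (-50), 0, (-6), 0, 23,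 3, 5178, [31139, 22558, 31146]⟩))))) (.node (.node (.node (.node (.leaf ⟨7, 71, 203, 0, 0, 0, 0, 93, 0, 0, []⟩) (.leaf ⟨10, 2919, 2928, 0, 0, 0, 0, 93, 0, 0, []⟩)) (.node (.leaf ⟨4, 1656, 1656, (-1), 0, (-1), 0, 38, 0, 1656, [9627, 9643, 8832, 9642, 9626]⟩) (.leaf ⟨3, 2660, 2660, (-1), 0, 1, 0, 21, 5, 2660, [26021, 25503, 26026, 25502, 26020]⟩))) (.node (.node (.leaf ⟨10, 871, 872, 0, 0, 0, 0, 93, 0, 0, []⟩) (.leaf ⟨2, 3718, 3718, (-1), 0, (-1), 0, 27, 0, 3718, [21847, 21930, 21846]⟩)) (.node (.leaf ⟨10, 2374, 2338, 0, 0, 0, 0, 58, 3, 2374, [13731, 13738, 13390]⟩) (.leaf ⟨3, 4739, 5008, 0, 0, 0, 0, 32, 0, 5008, [30105, 30123, 28096]⟩)))) (.node (.node (.node (.leaf ⟨10, 621, 630, 0, 0, 0, 0, 54, 3, 621, [3401, 3497, 3498]⟩) (.leaf ⟨3, 2987, 448, 0, 0, 0, 0, 34, 0,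 448, [2391, 2817, 18184]⟩)) (.node (.leaf ⟨1, 1977, 1972, 0, 0, 0, 0, 17, 0, 1972, [11655, 11689, 11690]⟩) (.leaf ⟨0, 2477, 1387, 0, 0, 0, 0, 4, 0, 1387, [8081, 28075, 14904]⟩))) (.node (.node (.leaf ⟨5, 1273, 1274, 0, 0, 0, 0, 93, 0, 0, []⟩) (.leaf ⟨11, 4008, 4011, 0, 0, 0, 0, 62, 3, 4008, [23969, 23977, 23978]⟩)) (.node (.leaf ⟨7, 2627, 2632, 0, 0, 0, 0, 58, 0, 2632, [15787, 10355, 15748]⟩) (.leaf ⟨0, 0, 0, 0, 0, 0, 0, 0, 0, 0, []⟩)))))) (.node (.node (.node (.node (.node (.leaf ⟨5, 114, 114, 1, 0, (-1), 0, 31, 3, 114, [483, 938, 482]⟩) (.leaf ⟨10, 2822, 2823, 0, 0, 0, 0, 93, 0, 0, []⟩)) (.node (.leaf ⟨2, 1610, 1610, (-1), 0, (-1), 0, 22, 0, 1610, [9105, 9130, 9104]⟩) (.leaf ⟨5, 4304, 4298, 0, 0, 0, 0, 45, 4, 3600, [25514, 21323, 18518, 25486, 25488]⟩))) (.node (.node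 (.leaf ⟨5, 736, 736, 1, 0, (-1), 0, 50, 0, 736, [4457, 5034, 4456]⟩) (.leaf ⟨6, 3559, 3631, 0, 0, 0, 0, 52, 2, 3558, [21122, 21121, 21418]⟩)) (.node (.leaf ⟨7, 2294, 2296, 0, 0, 0, 0, 93, 0, 0, []⟩) (.leaf ⟨7, 4948, 4950, 0, 0, 0, 0, 46, 3, 4948, [29601, 29608, 29610]⟩)))) (.node (.node (.node (.leaf ⟨3, 479, 539, 0, 0, 0, 0, 36, 0, 539, [2893, 2887, 2470]⟩) (.leaf ⟨4, 3194, 3195, 0, 0, 0, 0, 93, 0, 0, []⟩)) (.node (.leaf ⟨0, 231, 289, 0, 0, 0, 0, 3, 0, 289, [1739, 11179, 1552]⟩) (.leaf ⟨10, 4622, 4645, 0, 0, 0, 0, 93, 0, 0, []⟩))) (.node (.node (.leaf ⟨11, 1138, 1144, 0, 0, 0, 0, 55, 3, 1138, [7061, 7080, 7082]⟩) (.leaf ⟨5, 3930, 3931, 0, 0, 0, 0, 93, 0, 0, []⟩)) (.node (.leaf ⟨2, 2552, 2541, 0, 0, 0, 0, 25, 0, 2541, [15211, 15273, 15274]⟩) (.leaf ⟨0, 0, 0, 0, 0,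 0, 0, 0, 0, 0, []⟩))))) (.node (.node (.node (.node (.leaf ⟨1, 249, 356, 0, 0, 0, 0, 17, 0, 356, [1925, 1963, 1610]⟩) (.leaf ⟨7, 3029, 3030, 0, 0, 0, 0, 93, 0, 0, []⟩)) (.node (.leaf ⟨10, 1153, 1725, 0, 0, 0, 0, 93, 0, 0, []⟩) (.leaf ⟨2, 4481, 4479, 0, 0, 0, 0, 25, 0, 4479, [26531, 26536, 26538]⟩))) (.node (.node (.leaf ⟨4, 871, 950, 0, 0, 0, 0, 42, 2, 870, [5546, 5545, 6058]⟩) (.leaf ⟨4, 3754, 3765, 0, 0, 0, 0, 40, 2, 3753, [22276, 22275, 22438]⟩)) (.node (.leaf ⟨10, 2419, 2420, 0, 0, 0, 0, 93, 0, 0, []⟩) (.leaf ⟨9, 5099, 5103, 0, 0, 0, 0, 63, 2, 5098, [30612, 30609, 30628]⟩)))) (.node (.node (.node (.leaf ⟨11, 480, 480, 1, 0, 1, 0, 59, 3, 480, [2511, 3952, 2510]⟩) (.leaf ⟨11, 3365, 3366, 0, 0, 0, 0, 93, 0, 0, []⟩)) (.node (.leaf ⟨8, 2085, 2086, 0, 0, 0, 0, 93, 0,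 0, []⟩) (.leaf ⟨5, 4813, 4814, 0, 0, 0, 0, 93, 0, 0, []⟩))) (.node (.node (.leaf ⟨9, 1393, 1398, 0, 0, 0, 0, 57, 3, 1393, [8093, 8104, 8106]⟩) (.leaf ⟨11, 4097, 4098, 0, 0, 0, 0, 93, 0, 0, []⟩)) (.node (.leaf ⟨7, 1616, 1616, (-1), 0, (-1), 0, 46, 3, 1616, [9225, 16298, 9224]⟩) (.leaf ⟨0, 0, 0, 0, 0, 0, 0, 0, 0, 0, []⟩))))))

def factsPart215 : ATree TFact :=
  .node (.node (.node (.node (.node (.node (.leaf ⟨2, 100, 90, 0, 0, 0, 0, 22, 0, 90, [389, 427, 428]⟩) (.leaf ⟨5, 389, 2768, 0, 0, 0, 0, 48, 2, 176, [2088, 1183, 16780]⟩)) (.node (.leaf ⟨11, 1163, 1523, 0, 0, 0, 0, 93, 0, 0, []⟩) (.leaf ⟨2, 4201, 4176, 0, 0, 0, 0, 29, 0, 4176, [24801, 18841, 25004]⟩))) (.node (.node (.leaf ⟨3, 661, 661, 1, 0, 1, 0, 33, 0, 661, [3673, 3736, 3672]⟩) (.leaf ⟨9, 3495, 3463, 0, 0,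 0, 0, 57, 3, 3495, [20903, 4717, 20802]⟩)) (.node (.leaf ⟨8, 1744, 1220, 0, 0, 0, 0, 17, 3, 1744, [10267, 8264, 7432]⟩) (.leaf ⟨3, 2358, 2626, (-21), 0, 1, 0, 21, 5, 2358, [29095, 29099, 4813, 14364, 29100]⟩)))) (.node (.node (.node (.leaf ⟨11, 2, 2, 1, 0, 1, 0, 29, 3, 2, [3, 2476, 2]⟩) (.leaf ⟨5, 3112, 3112, (-1), 0, 1, 0, 48, 0, 3112, [18855, 1404, 18854]⟩)) (.node (.leaf ⟨0, 1785, 1786, 0, 0, 0, 0, 93, 0, 0, []⟩) (.leaf ⟨3, 4564, 4560, 0, 0, 0, 0, 33, 0, 4560, [27037, 12456, 27052]⟩))) (.node (.node (.leaf ⟨9, 244, 244, 1, 0, (-1), 0, 42, 3, 244, [1601, 6572, 1600]⟩) (.leaf ⟨11, 3848, 3849, 0, 0, 0, 0, 93, 0, 0, []⟩)) (.node (.leaf ⟨11, 1415, 2459, 0, 0, 0, 0, 93, 0, 0, []⟩) (.leaf ⟨9, 2747, 3337, 0, 0, 0, 0, 57, 3, 2747, [16595, 5983, 20196]⟩))))) (.node (.node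 (.node (.node (.leaf ⟨8, 203, 204, 0, 0, 0, 0, 93, 0, 0, []⟩) (.leaf ⟨5, 2928, 2929, 0, 0, 0, 0, 93, 0, 0, []⟩)) (.node (.leaf ⟨4, 1657, 1657, 1, 0, 1, 0, 43, 0, 1657, [9629, 9644, 9628]⟩) (.leaf ⟨3, 2681, 2681, 1, 0, (-1), 0, 36, 0, 2681, [16041, 26028, 16040]⟩))) (.node (.node (.leaf ⟨8, 486, 873, 0, 0, 0, 0, 93, 0, 0, []⟩) (.leaf ⟨3, 186, 186, 1, 0, 1, 0, 34, 0, 186, [1251, 1272, 1250]⟩)) (.node (.leaf ⟨10, 2375, 2339, 0, 0, 0, 0, 54, 3, 2375, [13733, 13740, 13392]⟩) (.leaf ⟨3, 4747, 5009, 0, 0, 0, 0, 31, 0, 5009, [30109, 30125, 28128]⟩)))) (.node (.node (.node (.leaf ⟨5, 630, 631, 0, 0, 0, 0, 93, 0, 0, []⟩) (.leaf ⟨3, 2988, 449, 0, 0, 0, 0, 31, 0, 449, [2393, 19885, 18186]⟩)) (.node (.leaf ⟨5, 1977, 1978, 0, 0, 0, 0, 93, 0, 0, []⟩) (.leaf ⟨0, 2478, 1388, 0, 0,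 0, 0, 3, 0, 1388, [8083, 28077, 14906]⟩))) (.node (.node (.leaf ⟨8, 1228, 1267, 0, 0, 0, 0, 47, 3, 1228, [7449, 7447, 7582]⟩) (.leaf ⟨5, 4006, 4006, 1, 0, 1, 0, 49, 0, 4006, [23963, 19119, 22592, 19118, 23962]⟩)) (.node (.leaf ⟨5, 2632, 2633, 0, 0, 0, 0, 93, 0, 0, []⟩) (.leaf ⟨0, 0, 0, 0, 0, 0, 0, 0, 0, 0, []⟩)))))) (.node (.node (.node (.node (.node (.leaf ⟨5, 115, 115, (-1), 0, 1, 0, 46, 0, 115, [487, 940, 486]⟩) (.leaf ⟨11, 2823, 2824, 0, 0, 0, 0, 93, 0, 0, []⟩)) (.node (.leaf ⟨3, 1612, 1612, (-1), 0, (-1), 0, 21, 5, 1612, [9115, 9107, 9132, 9106, 9114]⟩) (.leaf ⟨11, 1325, 4305, 0, 0, 0, 0, 93, 0, 0, []⟩))) (.node (.node (.leaf ⟨6, 735, 735, 1, 0, (-1), 0, 45, 5, 735, [4443, 4459, 5036, 4458, 4442]⟩) (.leaf ⟨8, 3601, 3632, 0, 0, 0, 0, 93, 0, 0, []⟩)) (.node (.leaf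 ⟨2, 2296, 2276, 0, 0, 0, 0, 25, 0, 2276, [13119, 13215, 13228]⟩) (.leaf ⟨0, 4946, 2630, 0, 0, 0, 0, 9, 2, 4945, [29596, 29595, 15756]⟩)))) (.node (.node (.node (.leaf ⟨3, 491, 540, 0, 0, 0, 0, 33, 0, 540, [2895, 2989, 2550]⟩) (.leaf ⟨10, 3195, 3196, 0, 0, 0, 0, 93, 0, 0, []⟩)) (.node (.leaf ⟨0, 1868, 1319, 0, 0, 0, 0, 2, 0, 1319, [7765, 11181, 11106]⟩) (.leaf ⟨10, 4330, 4620, 0, 0, 0, 0, 58, 3, 4330, [25659, 2301, 27390]⟩))) (.node (.node (.leaf ⟨5, 1144, 1145, 0, 0, 0, 0, 93, 0, 0, []⟩) (.leaf ⟨4, 3931, 3932, 0, 0, 0, 0, 93, 0, 0, []⟩)) (.node (.leaf ⟨6, 2552, 2553, 0, 0, 0, 0, 93, 0, 0, []⟩) (.leaf ⟨0, 0, 0, 0, 0, 0, 0, 0, 0, 0, []⟩))))) (.node (.node (.node (.node (.leaf ⟨1, 250, 357, 0, 0, 0, 0, 14, 0, 357, [1927, 1965, 1612]⟩) (.leaf ⟨9, 3026, 3030, 0, 0, 0, 0,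 57, 3, 3026, [18325, 18346, 18348]⟩)) (.node (.leaf ⟨11, 1725, 1726, 0, 0, 0, 0, 93, 0, 0, []⟩) (.leaf ⟨7, 3983, 4482, 0, 0, 0, 0, 93, 0, 0, []⟩))) (.node (.node (.leaf ⟨10, 950, 951, 0, 0, 0, 0, 93, 0, 0, []⟩) (.leaf ⟨5, 3754, 3754, (-1), 0, 1, 0, 46, 0, 3754, [22277, 22304, 22276]⟩)) (.node (.leaf ⟨6, 2420, 1743, 0, 0, 0, 0, 54, 0, 1743, [10251, 14251, 14252]⟩) (.leaf ⟨9, 5104, 5100, 0, 0, 0, 0, 64, 0, 5100, [30617, 30636, 30630]⟩)))) (.node (.node (.node (.leaf ⟨11, 481, 481, 1, 0, (-1), 0, 55, 3, 481, [2513, 4012, 2512]⟩) (.leaf ⟨5, 3366, 3367, 0, 0, 0, 0, 93, 0, 0, []⟩)) (.node (.leaf ⟨5, 2086, 2087, 0, 0, 0, 0, 93, 0, 0, []⟩) (.leaf ⟨8, 2369, 4811, 0, 0, 0, 0, 62, 0, 4811, [28583, 10943, 13680]⟩))) (.node (.node (.leaf ⟨6, 1398, 1399, 0, 0, 0, 0, 93, 0, 0, []⟩)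 (.leaf ⟨3, 4098, 4091, 0, 0, 0, 0, 37, 0, 4091, [24471, 24490, 24492]⟩)) (.node (.leaf ⟨3, 849, 849, 1, 0, (-1), 0, 30, 0, 849, [5383, 3347, 3330, 3346, 5382]⟩) (.leaf ⟨0, 0, 0, 0, 0, 0, 0, 0, 0, 0, []⟩))))))

def factsPart216 : ATree TFact :=
  .node (.node (.node (.node (.node (.node (.leaf ⟨7, 100, 101, 0, 0, 0, 0, 93, 0, 0, []⟩) (.leaf ⟨5, 2769, 2772, 0, 0, 0, 0, 46, 0, 2772, [16813, 16814, 16788]⟩)) (.node (.leaf ⟨5, 1523, 1524, 0, 0, 0, 0, 93, 0, 0, []⟩) (.leaf ⟨7, 4201, 4202, 0, 0, 0, 0, 93, 0, 0, []⟩))) (.node (.node (.leaf ⟨2, 661, 661, 1, 0, 1, 0, 25, 0, 661, [3673, 3740, 3672]⟩) (.leaf ⟨9, 3496, 3464, 0, 0, 0, 0, 53, 3, 3496, [20907, 20910, 20806]⟩)) (.node (.leaf ⟨8, 1778, 2184, 0, 0, 0, 0, 61, 0, 2184, [12665, 12719, 10620]⟩) (.leaf ⟨4, 2631, 4892, 0,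 0, 0, 0, 93, 0, 0, []⟩)))) (.node (.node (.node (.leaf ⟨11, 3, 3, 1, 0, (-1), 0, 37, 3, 3, [5, 2478, 4]⟩) (.leaf ⟨5, 3113, 3113, 1, 0, (-1), 0, 46, 0, 3113, [18857, 18862, 18856]⟩)) (.node (.leaf ⟨5, 1745, 1786, 0, 0, 0, 0, 4, 3, 1745, [10269, 10668, 10670]⟩) (.leaf ⟨6, 4564, 4565, 0, 0, 0, 0, 93, 0, 0, []⟩))) (.node (.node (.leaf ⟨9, 266, 266, 1, 0, 1, 0, 35, 3, 266, [1693, 6574, 1692]⟩) (.leaf ⟨9, 2287, 3850, 0, 0, 0, 0, 93, 0, 0, []⟩)) (.node (.leaf ⟨1, 2459, 2457, 0, 0, 0, 0, 20, 0, 2457, [14687, 8183, 14766]⟩) (.leaf ⟨9, 3338, 2748, 0, 0, 0, 0, 53, 3, 3338, [20199, 31151, 16596]⟩))))) (.node (.node (.node (.node (.leaf ⟨10, 201, 203, 0, 0, 0, 0, 58, 3, 201, [1445, 385, 1452]⟩) (.leaf ⟨1, 2928, 1546, 0, 0, 0, 0, 19, 2, 2919, [17836, 17813, 8714]⟩)) (.node (.leaf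 ⟨4, 1658, 1658, (-1), 0, (-1), 0, 44, 0, 1658, [9637, 9646, 9636]⟩) (.leaf ⟨7, 1950, 4373, 0, 0, 0, 0, 93, 0, 0, []⟩))) (.node (.node (.leaf ⟨6, 834, 873, 0, 0, 0, 0, 52, 2, 487, [5320, 2535, 5550]⟩) (.leaf ⟨3, 3718, 3718, (-1), 0, (-1), 0, 35, 0, 3718, [21847, 21934, 21846]⟩)) (.node (.leaf ⟨7, 2336, 2376, 0, 0, 0, 0, 93, 0, 0, []⟩) (.leaf ⟨10, 4747, 5011, 0, 0, 0, 0, 93, 0, 0, []⟩)))) (.node (.node (.node (.leaf ⟨10, 631, 632, 0, 0, 0, 0, 93, 0, 0, []⟩) (.leaf ⟨4, 3247, 451, 0, 0, 0, 0, 30, 5, 3247, [19651, 18189, 19886, 2394, 2396]⟩)) (.node (.leaf ⟨1, 1978, 1973, 0, 0, 0, 0, 14, 0, 1973, [11659, 11693, 11694]⟩) (.leaf ⟨9, 2478, 4735, 0, 0, 0, 0, 93, 0, 0, []⟩))) (.node (.node (.leaf ⟨8, 1268, 1229, 0, 0, 0, 0, 41, 3, 1268, [7585, 7599, 7450]⟩) (.leaf ⟨5, 4009,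 4009, (-1), 0, (-1), 0, 50, 0, 4009, [23973, 23982, 23972]⟩)) (.node (.leaf ⟨7, 2628, 2633, 0, 0, 0, 0, 46, 3, 2628, [15751, 15788, 15790]⟩) (.leaf ⟨0, 0, 0, 0, 0, 0, 0, 0, 0, 0, []⟩)))))) (.node (.node (.node (.node (.node (.leaf ⟨3, 112, 112, 1, 0, (-1), 0, 31, 0, 112, [475, 612, 474]⟩) (.leaf ⟨10, 2738, 2824, 0, 0, 0, 0, 65, 4, 2737, [16548, 16547, 17322, 17324, 17326]⟩)) (.node (.leaf ⟨3, 1609, 504, 0, 0, 0, 0, 31, 0, 504, [2651, 7865, 9102]⟩) (.leaf ⟨6, 2293, 4306, 0, 0, 0, 0, 93, 0, 0, []⟩))) (.node (.node (.leaf ⟨11, 688, 688, 1, 0, (-1), 0, 44, 3, 688, [4165, 3286, 4164]⟩) (.leaf ⟨5, 3601, 3557, 0, 0, 0, 0, 46, 2, 3600, [21326, 21323, 21118]⟩)) (.node (.leaf ⟨6, 2296, 2297, 0, 0, 0, 0, 93, 0, 0, []⟩) (.leaf ⟨0, 2631, 4947, 0, 0, 0, 0, 4, 0, 4947, [29599, 29614,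 15758]⟩)))) (.node (.node (.node (.leaf ⟨3, 492, 541, 0, 0, 0, 0, 32, 0, 541, [2897, 2991, 2552]⟩) (.leaf ⟨6, 3181, 3189, 0, 0, 0, 0, 53, 0, 3189, [19361, 15335, 19344]⟩)) (.node (.leaf ⟨0, 1869, 1888, 0, 0, 0, 0, 1, 0, 1888, [11169, 11183, 11108]⟩) (.leaf ⟨10, 4621, 4331, 0, 0, 0, 0, 54, 3, 4621, [27393, 27567, 25660]⟩))) (.node (.node (.leaf ⟨11, 1139, 1145, 0, 0, 0, 0, 50, 3, 1139, [7067, 7084, 7086]⟩) (.leaf ⟨7, 3932, 3933, 0, 0, 0, 0, 93, 0, 0, []⟩)) (.node (.leaf ⟨2, 2553, 2542, 0, 0, 0, 0, 24, 0, 2542, [15213, 15277, 15278]⟩) (.leaf ⟨0, 0, 0, 0, 0, 0, 0, 0, 0, 0, []⟩))))) (.node (.node (.node (.node (.leaf ⟨1, 251, 358, 0, 0, 0, 0, 13, 0, 358, [1929, 1967, 1614]⟩) (.leaf ⟨6, 3030, 3031, 0, 0, 0, 0, 93, 0, 0, []⟩)) (.node (.leaf ⟨5, 1726, 1727, 0, 0, 0, 0, 93,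 0, 0, []⟩) (.leaf ⟨10, 4481, 4482, 0, 0, 0, 0, 58, 3, 4481, [26539, 26535, 26542]⟩))) (.node (.node (.leaf ⟨4, 951, 872, 0, 0, 0, 0, 43, 0, 872, [5549, 6060, 6062]⟩) (.leaf ⟨6, 3754, 3766, 0, 0, 0, 0, 93, 0, 0, []⟩)) (.node (.leaf ⟨7, 2419, 2419, (-1), 0, 1, 0, 16, 3, 2419, [14249, 14030, 14248]⟩) (.leaf ⟨9, 5105, 5101, 0, 0, 0, 0, 48, 3, 5105, [30633, 30638, 30620]⟩)))) (.node (.node (.node (.leaf ⟨11, 482, 482, 1, 0, 1, 0, 50, 3, 482, [2515, 4014, 2514]⟩) (.leaf ⟨10, 3367, 3368, 0, 0, 0, 0, 93, 0, 0, []⟩)) (.node (.leaf ⟨4, 2087, 2088, 0, 0, 0, 0, 93, 0, 0, []⟩) (.leaf ⟨8, 2431, 4801, 0, 0, 0, 0, 17, 3, 2431, [14397, 10958, 28554]⟩))) (.node (.node (.leaf ⟨9, 1394, 1399, 0, 0, 0, 0, 53, 3, 1394, [8095, 8108, 8110]⟩) (.leaf ⟨5, 4098, 4099, 0, 0, 0, 0, 93, 0, 0, []⟩))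 (.node (.leaf ⟨3, 850, 850, (-1), 0, 1, 0, 36, 0, 850, [5385, 16302, 5384]⟩) (.leaf ⟨0, 0, 0, 0, 0, 0, 0, 0, 0, 0, []⟩))))))

def factsPart217 : ATree TFact :=
  .node (.node (.node (.node (.node (.node (.leaf ⟨2, 101, 91, 0, 0, 0, 0, 25, 0, 91, [391, 431, 432]⟩) (.leaf ⟨9, 177, 2773, 0, 0, 0, 0, 93, 0, 0, []⟩)) (.node (.leaf ⟨10, 1524, 1525, 0, 0, 0, 0, 93, 0, 0, []⟩) (.leaf ⟨2, 4202, 4177, 0, 0, 0, 0, 25, 0, 4177, [24803, 25007, 25008]⟩))) (.node (.node (.leaf ⟨4, 737, 737, 1, 0, 1, 0, 38, 0, 737, [4517, 3882, 2942, 3883, 4516]⟩) (.leaf ⟨9, 3484, 3465, 0, 0, 0, 0, 60, 5, 3484, [20877, 20901, 20908, 20912, 20810]⟩)) (.node (.leaf ⟨8, 2191, 2185, 0, 0, 0, 0, 62, 0, 2185, [12667, 12721, 12682]⟩) (.leaf ⟨3, 4890, 4892, (-3), 0, 7, 0, 30, 2, 2345, [15747, 29103, 29088,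 15767, 29104]⟩)))) (.node (.node (.node (.leaf ⟨11, 4, 4, 1, 0, 1, 0, 44, 3, 4, [7, 2480, 6]⟩) (.leaf ⟨9, 85, 3114, 0, 0, 0, 0, 93, 0, 0, []⟩)) (.node (.leaf ⟨10, 1786, 1787, 0, 0, 0, 0, 93, 0, 0, []⟩) (.leaf ⟨3, 4565, 4561, 0, 0, 0, 0, 32, 0, 4561, [27041, 27055, 27056]⟩))) (.node (.node (.leaf ⟨9, 267, 267, (-1), 0, (-1), 0, 63, 0, 267, [1695, 6576, 1694]⟩) (.leaf ⟨10, 3850, 3851, 0, 0, 0, 0, 93, 0, 0, []⟩)) (.node (.leaf ⟨5, 2459, 2460, 0, 0, 0, 0, 93, 0, 0, []⟩) (.leaf ⟨8, 545, 934, 0, 0, 0, 0, 26, 3, 545, [2905, 22722, 5980]⟩))))) (.node (.node (.node (.node (.leaf ⟨10, 204, 202, 0, 0, 0, 0, 61, 3, 204, [1455, 1457, 1446]⟩) (.leaf ⟨1, 1547, 2929, 0, 0, 0, 0, 14, 0, 2929, [17839, 17840, 8716]⟩)) (.node (.leaf ⟨3, 383, 1654, 0, 0, 0, 0, 33, 2, 11, [2076, 21, 9622]⟩)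 (.leaf ⟨6, 4373, 4374, 0, 0, 0, 0, 93, 0, 0, []⟩))) (.node (.node (.leaf ⟨8, 480, 874, 0, 0, 0, 0, 93, 0, 0, []⟩) (.leaf ⟨4, 186, 186, 1, 0, 1, 0, 41, 0, 186, [1251, 1264, 1250]⟩)) (.node (.leaf ⟨6, 2376, 2377, 0, 0, 0, 0, 93, 0, 0, []⟩) (.leaf ⟨3, 5011, 5010, 0, 0, 0, 0, 36, 0, 5010, [30113, 30127, 30128]⟩)))) (.node (.node (.node (.leaf ⟨5, 626, 632, 0, 0, 0, 0, 49, 4, 622, [3452, 3403, 3500, 3502, 3504]⟩) (.leaf ⟨4, 3293, 2650, 0, 0, 0, 0, 22, 3, 3293, [19883, 19888, 15892]⟩)) (.node (.leaf ⟨2, 1359, 1056, 0, 0, 0, 0, 27, 2, 1358, [8016, 8015, 6660]⟩) (.leaf ⟨0, 4735, 4704, 0, 0, 0, 0, 8, 0, 4704, [27983, 28079, 28080]⟩))) (.node (.node (.leaf ⟨8, 1269, 1230, 0, 0, 0, 0, 34, 3, 1269, [7587, 7600, 7452]⟩) (.leaf ⟨5, 4010, 4010, 1, 0, 1, 0, 46, 0, 4010, [23975, 23984,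 23974]⟩)) (.node (.leaf ⟨6, 2633, 2634, 0, 0, 0, 0, 93, 0, 0, []⟩) (.leaf ⟨0, 0, 0, 0, 0, 0, 0, 0, 0, 0, []⟩)))))) (.node (.node (.node (.node (.node (.leaf ⟨4, 114, 114, 1, 0, (-1), 0, 30, 5, 114, [483, 479, 944, 478, 482]⟩) (.leaf ⟨2, 2820, 2820, 1, 0, 1, 0, 26, 0, 2820, [17313, 9698, 17312]⟩)) (.node (.leaf ⟨4, 1611, 1037, 0, 0, 0, 0, 30, 5, 1611, [9107, 9105, 9136, 4778, 6544]⟩) (.leaf ⟨9, 2390, 4306, 0, 0, 0, 0, 53, 3, 2390, [13807, 13184, 25520]⟩))) (.node (.node (.leaf ⟨10, 733, 733, 1, 0, (-1), 0, 65, 4, 732, [4426, 4425, 5040, 4424, 4426]⟩) (.leaf ⟨5, 3631, 3632, 0, 0, 0, 0, 47, 0, 3632, [21423, 21424, 21418]⟩)) (.node (.leaf ⟨2, 2297, 2277, 0, 0, 0, 0, 24, 0, 2277, [13121, 13231, 13232]⟩) (.leaf ⟨3, 1778, 4942, 0, 0, 0, 0, 36, 0, 4942, [29583, 10279, 10620]⟩))))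 (.node (.node (.node (.leaf ⟨3, 493, 542, 0, 0, 0, 0, 31, 0, 542, [2899, 2993, 2554]⟩) (.leaf ⟨6, 3182, 3190, 0, 0, 0, 0, 54, 0, 3190, [19363, 19377, 19346]⟩)) (.node (.leaf ⟨0, 1884, 1889, 0, 0, 0, 0, 9, 0, 1889, [11171, 11185, 11152]⟩) (.leaf ⟨5, 4645, 4644, 0, 0, 0, 0, 49, 4, 4622, [27564, 27395, 27568, 25662, 27560]⟩))) (.node (.node (.leaf ⟨10, 1142, 1146, 0, 0, 0, 0, 93, 0, 0, []⟩) (.leaf ⟨6, 3933, 3934, 0, 0, 0, 0, 93, 0, 0, []⟩)) (.node (.leaf ⟨5, 2553, 2554, 0, 0, 0, 0, 93, 0, 0, []⟩) (.leaf ⟨0, 0, 0, 0, 0, 0, 0, 0, 0, 0, []⟩))))) (.node (.node (.node (.node (.leaf ⟨1, 252, 359, 0, 0, 0, 0, 12, 0, 359, [1931, 1969, 1616]⟩) (.leaf ⟨9, 3027, 3031, 0, 0, 0, 0, 53, 3, 3027, [18337, 18350, 18352]⟩)) (.node (.leaf ⟨3, 1725, 757, 0, 0, 0, 0, 36, 2, 1153, [10156,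 7117, 4740]⟩) (.leaf ⟨6, 3983, 359, 0, 0, 0, 0, 32, 3, 3983, [23773, 19140, 1930]⟩))) (.node (.node (.leaf ⟨7, 951, 952, 0, 0, 0, 0, 93, 0, 0, []⟩) (.leaf ⟨7, 3766, 3766, (-1), 0, (-1), 0, 51, 5, 3766, [22449, 22277, 22300, 22276, 22448]⟩)) (.node (.leaf ⟨7, 2420, 2420, 1, 0, (-1), 0, 58, 0, 2420, [14253, 14256, 14252]⟩) (.leaf ⟨9, 5106, 5102, 0, 0, 0, 0, 63, 0, 5102, [30625, 30641, 30634]⟩)))) (.node (.node (.node (.leaf ⟨11, 483, 483, 1, 0, (-1), 0, 44, 3, 483, [2517, 4016, 2516]⟩) (.leaf ⟨7, 3368, 3369, 0, 0, 0, 0, 93, 0, 0, []⟩)) (.node (.leaf ⟨2, 278, 2084, 0, 0, 0, 0, 25, 0, 2084, [12201, 11359, 1716]⟩) (.leaf ⟨8, 2432, 4802, 0, 0, 0, 0, 61, 0, 4802, [28557, 28593, 14398]⟩))) (.node (.node (.leaf ⟨8, 1399, 1400, 0, 0, 0, 0, 93, 0, 0, []⟩) (.leaf ⟨3, 4099, 4093,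 0, 0, 0, 0, 31, 0, 4093, [24477, 24495, 24496]⟩)) (.node (.leaf ⟨3, 1616, 1616, 1, 0, (-1), 0, 31, 0, 1616, [9225, 16304, 9224]⟩) (.leaf ⟨0, 0, 0, 0, 0, 0, 0, 0, 0, 0, []⟩))))))

def factsPart218 : ATree TFact :=
  .node (.node (.node (.node (.node (.node (.leaf ⟨6, 101, 102, 0, 0, 0, 0, 93, 0, 0, []⟩) (.leaf ⟨7, 2773, 2774, 0, 0, 0, 0, 93, 0, 0, []⟩)) (.node (.leaf ⟨7, 1525, 1526, 0, 0, 0, 0, 93, 0, 0, []⟩) (.leaf ⟨11, 980, 4203, 0, 0, 0, 0, 93, 0, 0, []⟩))) (.node (.node (.leaf ⟨3, 737, 737, 1, 0, 1, 0, 31, 0, 737, [4517, 3876, 4516]⟩) (.leaf ⟨9, 3485, 3466, 0, 0, 0, 0, 48, 3, 3485, [20879, 20914, 20814]⟩)) (.node (.leaf ⟨8, 2182, 2186, (-27), 0, 1, 0, 56, 3, 2188, [12674, 12654, 12717, 12722, 12668]⟩) (.leaf ⟨2, 4892, 4892, 1, 0, 1, 0, 22, 0, 4892, [29105, 15784,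 29104]⟩)))) (.node (.node (.node (.leaf ⟨11, 5, 5, 1, 0, (-1), 0, 50, 3, 5, [9, 2482, 8]⟩) (.leaf ⟨6, 3114, 3112, 0, 0, 0, 0, 53, 0, 3112, [18855, 382, 18866]⟩)) (.node (.leaf ⟨5, 1787, 1788, 0, 0, 0, 0, 93, 0, 0, []⟩) (.leaf ⟨5, 4565, 4566, 0, 0, 0, 0, 93, 0, 0, []⟩))) (.node (.node (.leaf ⟨9, 268, 268, (-1), 0, 1, 0, 48, 3, 268, [1697, 6578, 1696]⟩) (.leaf ⟨9, 3851, 2288, 0, 0, 0, 0, 63, 2, 3850, [22962, 22961, 13160]⟩)) (.node (.leaf ⟨1, 2460, 2458, 0, 0, 0, 0, 14, 0, 2458, [14691, 14769, 14770]⟩) (.leaf ⟨8, 3337, 3337, (-1), 0, 1, 0, 56, 5, 3337, [20197, 31155, 2958, 31154, 20196]⟩))))) (.node (.node (.node (.node (.leaf ⟨7, 204, 204, 1, 0, (-1), 0, 56, 4, 203, [1454, 1453, 314, 1452, 1454]⟩) (.leaf ⟨0, 1547, 2173, 0, 0, 0, 0, 4, 0, 2173, [12615, 12979, 8716]⟩))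 (.node (.leaf ⟨3, 1655, 384, 0, 0, 0, 0, 32, 0, 384, [2079, 9650, 9624]⟩) (.leaf ⟨5, 4374, 4375, 0, 0, 0, 0, 93, 0, 0, []⟩))) (.node (.node (.leaf ⟨5, 873, 874, 0, 0, 0, 0, 47, 0, 874, [5555, 2540, 5550]⟩) (.leaf ⟨4, 3718, 3718, (-1), 0, (-1), 0, 42, 0, 3718, [21847, 21938, 21846]⟩)) (.node (.leaf ⟨11, 2329, 2336, 0, 0, 0, 0, 50, 3, 2329, [13363, 13361, 13386]⟩) (.leaf ⟨4, 4749, 5011, 0, 0, 0, 0, 43, 2, 4748, [28132, 28131, 30128]⟩)))) (.node (.node (.node (.leaf ⟨4, 631, 633, 0, 0, 0, 0, 93, 0, 0, []⟩) (.leaf ⟨2, 3020, 3294, 0, 0, 0, 0, 93, 0, 0, []⟩)) (.node (.leaf ⟨2, 1057, 1360, 0, 0, 0, 0, 28, 0, 1360, [8019, 11698, 6662]⟩) (.leaf ⟨10, 4735, 4736, 0, 0, 0, 0, 93, 0, 0, []⟩))) (.node (.node (.leaf ⟨8, 1270, 1231, 0, 0, 0, 0, 61, 0, 1231, [7455, 7603, 7588]⟩) (.leaf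 ⟨5, 4011, 4011, (-1), 0, (-1), 0, 47, 0, 4011, [23979, 23986, 23978]⟩)) (.node (.leaf ⟨6, 2632, 2632, 1, 0, 1, 0, 54, 0, 2632, [15787, 10346, 15786]⟩) (.leaf ⟨0, 0, 0, 0, 0, 0, 0, 0, 0, 0, []⟩)))))) (.node (.node (.node (.node (.node (.leaf ⟨4, 115, 115, (-1), 0, 1, 0, 40, 0, 115, [487, 946, 486]⟩) (.leaf ⟨2, 2821, 2821, (-1), 0, (-1), 0, 23, 0, 2821, [17317, 17330, 17316]⟩)) (.node (.leaf ⟨4, 1612, 1422, 0, 0, 0, 0, 22, 3, 1612, [9115, 9138, 8258]⟩) (.leaf ⟨9, 314, 2387, 0, 0, 0, 0, 63, 2, 313, [1806, 1805, 13786]⟩))) (.node (.node (.leaf ⟨4, 732, 604, 0, 0, 0, 0, 43, 2, 688, [4424, 4165, 3272]⟩) (.leaf ⟨6, 3603, 3632, 0, 0, 0, 0, 52, 2, 3602, [21334, 21331, 21422]⟩)) (.node (.leaf ⟨5, 2297, 2298, 0, 0, 0, 0, 93, 0, 0, []⟩) (.leaf ⟨3, 1779, 4943, 0, 0, 0, 0, 31, 0,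 4943, [29585, 29619, 10624]⟩)))) (.node (.node (.node (.leaf ⟨4, 553, 544, 0, 0, 0, 0, 30, 5, 553, [2981, 2557, 2994, 2900, 2902]⟩) (.leaf ⟨6, 3183, 3191, 0, 0, 0, 0, 55, 0, 3191, [19365, 19379, 19348]⟩)) (.node (.leaf ⟨0, 1885, 1890, 0, 0, 0, 0, 4, 0, 1890, [11173, 11187, 11154]⟩) (.leaf ⟨4, 4624, 4645, 0, 0, 0, 0, 43, 2, 4623, [27398, 27397, 27564]⟩))) (.node (.node (.leaf ⟨7, 1146, 1147, 0, 0, 0, 0, 93, 0, 0, []⟩) (.leaf ⟨2, 2291, 3926, 0, 0, 0, 0, 27, 0, 3926, [23459, 15485, 13176]⟩)) (.node (.leaf ⟨2, 2554, 2543, 0, 0, 0, 0, 23, 0, 2543, [15215, 15281, 15282]⟩) (.leaf ⟨0, 0, 0, 0, 0, 0, 0, 0, 0, 0, []⟩))))) (.node (.node (.node (.node (.leaf ⟨1, 332, 360, 0, 0, 0, 0, 18, 0, 360, [1933, 1971, 1858]⟩) (.leaf ⟨5, 3031, 3032, 0, 0, 0, 0, 93, 0, 0, []⟩)) (.node (.leaf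 ⟨3, 1597, 1726, 0, 0, 0, 0, 37, 0, 1726, [10159, 10162, 9014]⟩) (.leaf ⟨4, 356, 356, 1, 0, (-1), 0, 41, 0, 356, [1925, 4144, 1924]⟩))) (.node (.node (.leaf ⟨4, 952, 949, 0, 0, 0, 0, 40, 0, 949, [6055, 6065, 6066]⟩) (.leaf ⟨10, 3766, 3766, (-1), 0, (-1), 0, 54, 3, 3766, [22449, 22292, 22448]⟩)) (.node (.leaf ⟨1, 581, 2421, 0, 0, 0, 0, 93, 0, 0, []⟩) (.leaf ⟨6, 1600, 5107, 0, 0, 0, 0, 93, 0, 0, []⟩)))) (.node (.node (.node (.leaf ⟨11, 675, 675, 1, 0, 1, 0, 37, 3, 675, [3985, 4018, 3984]⟩) (.leaf ⟨6, 3369, 3370, 0, 0, 0, 0, 93, 0, 0, []⟩)) (.node (.leaf ⟨2, 279, 2085, 0, 0, 0, 0, 24, 0, 2085, [12203, 12211, 1718]⟩) (.leaf ⟨5, 4811, 4802, 21, 0, (-11), 0, 47, 2, 2369, [28590, 15741, 28594]⟩))) (.node (.node (.leaf ⟨10, 1243, 1401, 0, 0, 0, 0, 93, 0, 0, []⟩) (.leaf ⟨10,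 4081, 4100, 0, 0, 0, 0, 93, 0, 0, []⟩)) (.node (.leaf ⟨3, 2416, 2416, (-1), 0, 1, 0, 32, 0, 2416, [14127, 16306, 14126]⟩) (.leaf ⟨0, 0, 0, 0, 0, 0, 0, 0, 0, 0, []⟩))))))

def factsPart219 : ATree TFact :=
  .node (.node (.node (.node (.node (.node (.leaf ⟨2, 102, 92, 0, 0, 0, 0, 24, 0, 92, [393, 435, 436]⟩) (.leaf ⟨4, 2773, 389, 0, 0, 0, 0, 42, 2, 177, [16818, 1187, 2088]⟩)) (.node (.leaf ⟨6, 1526, 1527, 0, 0, 0, 0, 93, 0, 0, []⟩) (.leaf ⟨7, 4203, 4204, 0, 0, 0, 0, 93, 0, 0, []⟩))) (.node (.node (.leaf ⟨2, 81, 81, (-1), 0, (-1), 0, 21, 4, 80, [328, 327, 3908, 326, 328]⟩) (.leaf ⟨9, 3486, 3472, 0, 0, 0, 0, 42, 3, 3486, [20881, 20916, 20836]⟩)) (.node (.leaf ⟨8, 2187, 2183, 27, 0, (-1), 0, 52, 3, 2187, [12671, 12725, 12656]⟩) (.leaf ⟨4, 2628, 4893, 0, 0, 0, 0, 93, 0,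 0, []⟩)))) (.node (.node (.node (.leaf ⟨11, 6, 6, 1, 0, 1, 0, 55, 3, 6, [11, 2484, 10]⟩) (.leaf ⟨7, 3114, 3114, 1, 0, (-1), 0, 57, 0, 3114, [18867, 1398, 18866]⟩)) (.node (.leaf ⟨10, 1781, 1788, 0, 0, 0, 0, 49, 5, 1781, [10631, 10629, 10672, 10674, 10676]⟩) (.leaf ⟨3, 4566, 4562, 0, 0, 0, 0, 31, 0, 4562, [27045, 27059, 27060]⟩))) (.node (.node (.leaf ⟨9, 269, 269, (-1), 0, (-1), 0, 57, 3, 269, [1699, 6580, 1698]⟩) (.leaf ⟨5, 3851, 3852, 0, 0, 0, 0, 93, 0, 0, []⟩)) (.node (.leaf ⟨10, 2451, 2460, 28, 0, 16, 0, 19, 3, 2451, [14648, 14765, 14773]⟩) (.leaf ⟨8, 3338, 3338, (-1), 0, (-1), 0, 52, 3, 3338, [20199, 31156, 20198]⟩))))) (.node (.node (.node (.node (.leaf ⟨6, 203, 203, (-1), 0, 1, 0, 51, 0, 203, [1453, 335, 358, 334, 1452]⟩) (.leaf ⟨0, 2429, 2369, 0, 0, 0, 0, 10,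 0, 2369, [13681, 14393, 14384]⟩)) (.node (.leaf ⟨3, 1656, 517, 0, 0, 0, 0, 31, 0, 517, [2699, 9653, 9626]⟩) (.leaf ⟨4, 4375, 4376, 0, 0, 0, 0, 93, 0, 0, []⟩))) (.node (.node (.leaf ⟨6, 868, 874, 0, 0, 0, 0, 52, 2, 481, [5540, 2513, 5554]⟩) (.leaf ⟨5, 3718, 3718, (-1), 0, (-1), 0, 48, 0, 3718, [21847, 1258, 21846]⟩)) (.node (.leaf ⟨11, 2376, 2330, 0, 0, 0, 0, 59, 3, 2376, [13745, 13749, 13364]⟩) (.leaf ⟨7, 4862, 4751, 128, 0, 28, 0, 66, 20, 3433, [20668, 20661, 17711, 17730, 28155, 28158, 28186, 19264, 19268, 19272, 28522, 28216, 28538, 28542, 28541, 28552, 28611, 28579, 28630, 28693, 28710, 28651, 28730, 28641, 28741, 28745, 28752, 28760, 28765, 28763, 28781, 28826, 28838, 28852, 28872, 28855, 28874, 28876, 28878, 28880, 28882, 28884, 28886, 28932, 28964, 28984, 29002,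 29007, 29008, 29522, 29646, 29732, 30055, 30063, 30064, 30075, 30084, 30086, 30115, 30131, 30133, 28134, 28136]⟩)))) (.node (.node (.node (.leaf ⟨10, 633, 634, 0, 0, 0, 0, 93, 0, 0, []⟩) (.leaf ⟨3, 3293, 3294, 0, 0, 0, 0, 21, 5, 3293, [19883, 19651, 19200, 18304, 19892]⟩)) (.node (.leaf ⟨2, 1083, 1361, 0, 0, 0, 0, 23, 0, 1361, [8021, 11701, 6814]⟩) (.leaf ⟨0, 4736, 4705, 0, 0, 0, 0, 9, 0, 4705, [27987, 28083, 28084]⟩))) (.node (.node (.leaf ⟨8, 1271, 1238, 0, 0, 0, 0, 47, 3, 1271, [7591, 7604, 7502]⟩) (.leaf ⟨4, 3874, 4006, 0, 0, 0, 0, 43, 0, 4006, [23963, 22610, 23082]⟩)) (.node (.leaf ⟨5, 2634, 2634, 1, 0, 1, 0, 45, 4, 2633, [15794, 15791, 15796, 15790, 15794]⟩) (.leaf ⟨0, 0, 0, 0, 0, 0, 0, 0, 0, 0, []⟩)))))) (.node (.node (.node (.node (.node (.leaf ⟨7, 113, 166,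 0, 0, 0, 0, 93, 0, 0, []⟩) (.leaf ⟨2, 2822, 2822, 1, 0, 1, 0, 27, 0, 2822, [17321, 17332, 17320]⟩)) (.node (.leaf ⟨5, 767, 1406, 0, 0, 0, 0, 38, 5, 767, [4779, 2651, 8222, 8124, 8126]⟩) (.leaf ⟨11, 4306, 314, (-1), 0, 5, 0, 64, 1, 2387, [13813, 25522, 25525]⟩))) (.node (.node (.leaf ⟨10, 525, 525, (-1), 0, (-1), 0, 54, 3, 525, [2759, 4212, 2758]⟩) (.leaf ⟨6, 3560, 3604, 0, 0, 0, 0, 45, 5, 3560, [21125, 21420, 21426, 21429, 21338]⟩)) (.node (.leaf ⟨2, 2298, 2278, 0, 0, 0, 0, 23, 0, 2278, [13123, 13235, 13236]⟩) (.leaf ⟨4, 4942, 4942, (-1), 0, (-1), 0, 43, 0, 4942, [29583, 10300, 29582]⟩)))) (.node (.node (.node (.leaf ⟨4, 554, 545, 0, 0, 0, 0, 22, 3, 554, [2983, 2996, 2904]⟩) (.leaf ⟨7, 3185, 3193, 0, 0, 0, 0, 51, 5, 3185, [19353, 19351, 19380, 19366, 19368]⟩)) (.node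 (.leaf ⟨0, 1886, 1891, 0, 0, 0, 0, 5, 0, 1891, [11175, 11189, 11156]⟩) (.leaf ⟨4, 4625, 4643, 0, 0, 0, 0, 38, 0, 4643, [27559, 27562, 27571, 27573, 27400]⟩))) (.node (.node (.leaf ⟨6, 1147, 1148, 0, 0, 0, 0, 93, 0, 0, []⟩) (.leaf ⟨2, 2292, 3927, 0, 0, 0, 0, 28, 0, 3927, [23461, 23477, 13178]⟩)) (.node (.leaf ⟨4, 2554, 2555, 0, 0, 0, 0, 93, 0, 0, []⟩) (.leaf ⟨0, 0, 0, 0, 0, 0, 0, 0, 0, 0, []⟩))))) (.node (.node (.node (.node (.leaf ⟨1, 333, 361, 0, 0, 0, 0, 16, 0, 361, [1935, 1973, 1860]⟩) (.leaf ⟨9, 3028, 3032, 0, 0, 0, 0, 48, 3, 3028, [18339, 18354, 18356]⟩)) (.node (.leaf ⟨3, 1724, 1727, 0, 0, 0, 0, 31, 0, 1727, [10161, 10165, 10150]⟩) (.leaf ⟨5, 358, 358, 1, 0, (-1), 0, 38, 5, 358, [1929, 1927, 26548, 1926, 1928]⟩))) (.node (.node (.leaf ⟨9, 868, 953, 0, 0, 0, 0,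 93, 0, 0, []⟩) (.leaf ⟨2, 3714, 3766, 0, 0, 0, 0, 24, 0, 3766, [22449, 22285, 21798]⟩)) (.node (.leaf ⟨5, 2421, 2419, 0, 0, 0, 0, 14, 3, 2421, [14261, 14162, 14248]⟩) (.leaf ⟨10, 1104, 5108, 0, 0, 0, 0, 93, 0, 0, []⟩)))) (.node (.node (.node (.leaf ⟨11, 94, 495, 0, 0, 0, 0, 59, 3, 94, [397, 3947, 2564]⟩) (.leaf ⟨3, 3365, 3359, 0, 0, 0, 0, 36, 2, 212, [20394, 1507, 20336]⟩)) (.node (.leaf ⟨2, 280, 2086, 0, 0, 0, 0, 26, 0, 2086, [12205, 12213, 1720]⟩) (.leaf ⟨5, 4803, 4812, (-21), 0, 11, 0, 46, 2, 4802, [28558, 28597, 28584]⟩))) (.node (.node (.leaf ⟨5, 1401, 1402, 0, 0, 0, 0, 93, 0, 0, []⟩) (.leaf ⟨4, 4097, 4100, 0, 0, 0, 0, 43, 2, 4082, [24488, 24403, 24500]⟩)) (.node (.leaf ⟨11, 726, 780, (-1), 0, 5, 0, 50, 3, 726, [4389, 14134, 4864]⟩) (.leaf ⟨0, 0, 0, 0, 0, 0, 0,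 0, 0, 0, []⟩))))))

def factsPart220 : ATree TFact :=
  .node (.node (.node (.node (.node (.node (.leaf ⟨8, 102, 103, 0, 0, 0, 0, 93, 0, 0, []⟩) (.leaf ⟨4, 2772, 2774, 0, 0, 0, 0, 40, 0, 2774, [16821, 16822, 16812]⟩)) (.node (.leaf ⟨6, 1162, 1528, 0, 0, 0, 0, 93, 0, 0, []⟩) (.leaf ⟨3, 4201, 4203, 0, 0, 0, 0, 37, 0, 4203, [25013, 18843, 25004]⟩))) (.node (.node (.leaf ⟨2, 666, 666, 1, 0, 1, 0, 22, 0, 666, [3745, 4534, 3744]⟩) (.leaf ⟨9, 3487, 3473, 0, 0, 0, 0, 63, 0, 3473, [20839, 20919, 20882]⟩)) (.node (.leaf ⟨9, 1222, 2184, 0, 0, 0, 0, 63, 2, 1221, [7436, 7435, 12664]⟩) (.leaf ⟨10, 4893, 4892, 0, 0, 0, 0, 43, 3, 4893, [29111, 15760, 29104]⟩)))) (.node (.node (.node (.leaf ⟨11, 69, 69, 1, 0, (-1), 0, 10, 3, 69, [275, 2486, 274]⟩) (.leaf ⟨6, 3113, 3113, (-1), 0, (-1),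 0, 51, 0, 3113, [18857, 18869, 18870, 18868, 18856]⟩)) (.node (.leaf ⟨0, 1538, 1716, 0, 0, 0, 0, 2, 0, 1716, [10099, 10225, 8654]⟩) (.leaf ⟨9, 772, 4567, 0, 0, 0, 0, 93, 0, 0, []⟩))) (.node (.node (.leaf ⟨9, 270, 270, (-1), 0, 1, 0, 53, 3, 270, [1701, 6582, 1700]⟩) (.leaf ⟨9, 2289, 3852, 0, 0, 0, 0, 48, 3, 2289, [13165, 22965, 22966]⟩)) (.node (.leaf ⟨2, 2459, 2406, 0, 0, 0, 0, 29, 0, 2406, [13923, 8158, 14766]⟩) (.leaf ⟨9, 5179, 5179, (-1), 0, (-1), 0, 60, 5, 5179, [31141, 31153, 31158, 31152, 31140]⟩))))) (.node (.node (.node (.node (.leaf ⟨6, 204, 204, 1, 0, (-1), 0, 52, 0, 204, [1455, 1462, 1454]⟩) (.leaf ⟨1, 2926, 1551, 0, 0, 0, 0, 19, 2, 2925, [17832, 17831, 8754]⟩)) (.node (.leaf ⟨3, 1657, 851, 0, 0, 0, 0, 36, 0, 851, [5389, 9655, 9628]⟩) (.leaf ⟨3, 4376, 4377,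 0, 0, 0, 0, 93, 0, 0, []⟩))) (.node (.node (.leaf ⟨6, 836, 869, 0, 0, 0, 0, 45, 5, 836, [5329, 5552, 5556, 5559, 5542]⟩) (.leaf ⟨2, 3715, 3715, 1, 0, 1, 0, 27, 0, 3715, [21815, 1284, 21814]⟩)) (.node (.leaf ⟨11, 2377, 2331, 0, 0, 0, 0, 55, 3, 2377, [13747, 13750, 13366]⟩) (.leaf ⟨8, 4857, 5012, 0, 0, 0, 0, 93, 0, 0, []⟩)))) (.node (.node (.node (.leaf ⟨4, 634, 632, 0, 0, 0, 0, 43, 2, 633, [3510, 3509, 3504]⟩) (.leaf ⟨0, 108, 108, (-1), 0, (-1), 0, 7, 0, 108, [455, 9356, 454]⟩)) (.node (.leaf ⟨2, 1974, 1914, 0, 0, 0, 0, 22, 0, 1914, [11319, 11703, 11678]⟩) (.leaf ⟨11, 4736, 4737, 0, 0, 0, 0, 93, 0, 0, []⟩))) (.node (.node (.leaf ⟨8, 1272, 1239, 0, 0, 0, 0, 52, 3, 1272, [7593, 7606, 7504]⟩) (.leaf ⟨11, 3874, 4012, 0, 0, 0, 0, 93, 0, 0, []⟩)) (.node (.leaf ⟨3, 1780, 2614,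 0, 0, 0, 0, 36, 0, 2614, [15583, 10283, 10628]⟩) (.leaf ⟨0, 0, 0, 0, 0, 0, 0, 0, 0, 0, []⟩)))))) (.node (.node (.node (.node (.node (.leaf ⟨3, 115, 166, 0, 0, 0, 0, 33, 2, 114, [486, 483, 950]⟩) (.leaf ⟨2, 2823, 2823, (-1), 0, (-1), 0, 28, 0, 2823, [17325, 17334, 17324]⟩)) (.node (.leaf ⟨5, 1037, 1407, 0, 0, 0, 0, 31, 3, 1037, [6545, 9142, 8128]⟩) (.leaf ⟨2, 4306, 4305, (-1), 0, 5, 0, 29, 2, 314, [25527, 7803, 25518]⟩))) (.node (.node (.leaf ⟨10, 526, 526, (-1), 0, 1, 0, 58, 3, 526, [2761, 5046, 2760]⟩) (.leaf ⟨6, 3561, 3610, 0, 0, 0, 0, 39, 3, 3561, [21127, 21430, 21360]⟩)) (.node (.leaf ⟨10, 2298, 2299, 0, 0, 0, 0, 93, 0, 0, []⟩) (.leaf ⟨5, 4944, 4944, (-1), 0, (-1), 0, 38, 5, 4944, [29587, 29585, 29622, 29584, 29586]⟩)))) (.node (.node (.node (.leaf ⟨10, 552, 555,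 0, 0, 0, 0, 93, 0, 0, []⟩) (.leaf ⟨7, 3186, 3194, 0, 0, 0, 0, 46, 3, 3186, [19355, 19382, 19370]⟩)) (.node (.leaf ⟨0, 1887, 1892, 0, 0, 0, 0, 6, 0, 1892, [11177, 11191, 11158]⟩) (.leaf ⟨4, 4335, 4646, 0, 0, 0, 0, 93, 0, 0, []⟩))) (.node (.node (.leaf ⟨10, 1147, 1143, 0, 0, 0, 0, 58, 3, 1147, [7093, 7091, 7078]⟩) (.leaf ⟨2, 3917, 3928, 0, 0, 0, 0, 25, 0, 3928, [23463, 23479, 23426]⟩)) (.node (.leaf ⟨2, 2555, 2544, 0, 0, 0, 0, 22, 0, 2544, [15217, 15285, 15286]⟩) (.leaf ⟨0, 0, 0, 0, 0, 0, 0, 0, 0, 0, []⟩))))) (.node (.node (.node (.node (.leaf ⟨1, 334, 362, 0, 0, 0, 0, 15, 0, 362, [1937, 1975, 1862]⟩) (.leaf ⟨3, 3012, 3032, (-27), 0, (-1), 0, 35, 2, 3016, [18292, 18343, 18358]⟩)) (.node (.leaf ⟨4, 1727, 1728, 0, 0, 0, 0, 93, 0, 0, []⟩) (.leaf ⟨5, 359, 359, 1, 0, 1, 0,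 31, 3, 359, [1931, 26550, 1930]⟩))) (.node (.node (.leaf ⟨5, 950, 953, 0, 0, 0, 0, 48, 2, 869, [6058, 5543, 6070]⟩) (.leaf ⟨3, 3714, 3714, 26, 0, (-8), 0, 66, 30, 3717, [21824, 21844, 21854, 21864, 21872, 21879, 21884, 21889, 21906, 21911, 21912, 21918, 22076, 22081, 22082, 22084, 22090, 22095, 22097, 22268, 22284, 22292, 22277, 22300, 22304, 22275, 22308, 22281, 22312, 22092, 22314, 22316, 22318, 22362, 22364, 22366, 22368, 21864, 22373, 22374, 22382, 22386, 22390, 22399, 22402, 22420, 22397, 22424, 22426, 22429, 22430, 21792, 22434, 22092, 22436, 22440, 22442, 22445, 22446, 22448, 22450, 22452, 22455]⟩)) (.node (.leaf ⟨10, 2421, 2421, 1, 0, (-1), 0, 19, 3, 2421, [14261, 14164, 14260]⟩) (.leaf ⟨11, 5108, 5109, 0, 0, 0, 0, 93, 0, 0, []⟩)))) (.node (.node (.node (.leaf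 ⟨11, 95, 496, 0, 0, 0, 0, 55, 3, 95, [401, 4022, 2566]⟩) (.leaf ⟨3, 3360, 3366, 0, 0, 0, 0, 37, 0, 3366, [20397, 20406, 20340]⟩)) (.node (.leaf ⟨2, 281, 2087, 0, 0, 0, 0, 23, 0, 2087, [12207, 12215, 1722]⟩) (.leaf ⟨6, 4814, 4805, 21, 0, 11, 0, 45, 3, 4812, [28586, 28588, 28599, 28560, 28562]⟩))) (.node (.node (.leaf ⟨7, 1402, 1403, 0, 0, 0, 0, 93, 0, 0, []⟩) (.leaf ⟨11, 4100, 4101, 0, 0, 0, 0, 93, 0, 0, []⟩)) (.node (.leaf ⟨7, 636, 636, (-1), 0, 1, 0, 58, 0, 636, [3517, 3534, 3516]⟩) (.leaf ⟨0, 0, 0, 0, 0, 0, 0, 0, 0, 0, []⟩))))))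

def factsPart221 : ATree TFact :=
  .node (.node (.node (.node (.node (.node (.leaf ⟨2, 103, 93, 0, 0, 0, 0, 26, 0, 93, [395, 439, 440]⟩) (.leaf ⟨3, 177, 177, 1, 0, 1, 0, 30, 0, 177, [1187, 16729, 16716, 16728, 1186]⟩)) (.node (.leaf ⟨8, 1528, 1520, 0, 0, 0, 0, 52, 3, 1528, [8633, 7176, 8610]⟩) (.leaf ⟨3, 4202, 4204, 0, 0, 0, 0, 33, 0, 4204, [25015, 25017, 25008]⟩))) (.node (.node (.leaf ⟨2, 672, 672, (-1), 0, (-1), 0, 28, 0, 672, [3861, 4536, 3860]⟩) (.leaf ⟨9, 3488, 3478, 0, 0, 0, 0, 64, 0, 3478, [20857, 20921, 20884]⟩)) (.node (.leaf ⟨9, 2185, 2040, 0, 0, 0, 0, 64, 0, 2040, [12011, 12728, 12666]⟩) (.leaf ⟨4, 2633, 4894, 0, 0, 0, 0, 93, 0, 0, []⟩)))) (.node (.node (.node (.leaf ⟨11, 70, 70, 1, 0, 1, 0, 20, 3, 70, [277, 2488, 276]⟩) (.leaf ⟨10, 3112, 3112, 1, 0,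 1, 0, 63, 3, 3112, [18855, 1392, 18854]⟩)) (.node (.leaf ⟨0, 1539, 1717, 0, 0, 0, 0, 9, 0, 1717, [10101, 10681, 8656]⟩) (.leaf ⟨4, 774, 4567, 0, 0, 0, 0, 42, 2, 773, [4848, 4847, 27064]⟩))) (.node (.node (.leaf ⟨9, 504, 504, (-1), 0, (-1), 0, 48, 3, 504, [2651, 6584, 2650]⟩) (.leaf ⟨9, 2831, 1011, 0, 0, 0, 0, 63, 2, 2830, [17372, 17371, 6378]⟩)) (.node (.leaf ⟨2, 2460, 2407, 0, 0, 0, 0, 23, 0, 2407, [13925, 14777, 14770]⟩) (.leaf ⟨9, 5180, 5180, (-1), 0, 1, 0, 57, 3, 5180, [31143, 31160, 31142]⟩))))) (.node (.node (.node (.node (.leaf ⟨5, 203, 203, (-1), 0, 1, 0, 46, 0, 203, [1453, 1382, 1452]⟩) (.leaf ⟨1, 2429, 2927, 0, 0, 0, 0, 20, 0, 2927, [17835, 17848, 14384]⟩)) (.node (.leaf ⟨3, 1658, 852, 0, 0, 0, 0, 37, 0, 852, [5391, 9657, 9636]⟩) (.leaf ⟨2, 4377, 4378, 0,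 0, 0, 0, 93, 0, 0, []⟩))) (.node (.node (.leaf ⟨6, 863, 870, 0, 0, 0, 0, 39, 3, 863, [5501, 5560, 5544]⟩) (.leaf ⟨2, 3716, 3716, (-1), 0, (-1), 0, 25, 0, 3716, [21817, 21944, 21816]⟩)) (.node (.leaf ⟨10, 1630, 2378, 0, 0, 0, 0, 93, 0, 0, []⟩) (.leaf ⟨5, 5012, 5013, 0, 0, 0, 0, 93, 0, 0, []⟩)))) (.node (.node (.node (.leaf ⟨3, 633, 635, 0, 0, 0, 0, 93, 0, 0, []⟩) (.leaf ⟨0, 109, 109, 1, 0, 1, 0, 4, 0, 109, [457, 19896, 456]⟩)) (.node (.leaf ⟨2, 1975, 1915, 0, 0, 0, 0, 25, 0, 1915, [11321, 11705, 11682]⟩) (.leaf ⟨0, 4737, 4706, 0, 0, 0, 0, 10, 0, 4706, [27991, 28087, 28088]⟩))) (.node (.node (.leaf ⟨8, 1273, 1240, 0, 0, 0, 0, 41, 3, 1273, [7595, 7608, 7506]⟩) (.leaf ⟨4, 4012, 4009, 0, 0, 0, 0, 44, 0, 4009, [23973, 23991, 23992]⟩)) (.node (.leaf ⟨3, 1781, 2615, 0, 0,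 0, 0, 31, 0, 2615, [15585, 15801, 10630]⟩) (.leaf ⟨0, 0, 0, 0, 0, 0, 0, 0, 0, 0, []⟩)))))) (.node (.node (.node (.node (.node (.leaf ⟨2, 112, 112, (-1), 0, (-1), 0, 23, 0, 112, [475, 630, 474]⟩) (.leaf ⟨2, 2824, 2824, 1, 0, 1, 0, 29, 0, 2824, [17327, 17336, 17326]⟩)) (.node (.leaf ⟨5, 1422, 1408, 0, 0, 0, 0, 23, 3, 1422, [8259, 9144, 8130]⟩) (.leaf ⟨1, 4306, 4304, 0, 0, 0, 0, 15, 0, 4304, [25515, 23397, 25520]⟩))) (.node (.node (.leaf ⟨10, 527, 527, (-1), 0, (-1), 0, 54, 3, 527, [2763, 5048, 2762]⟩) (.leaf ⟨6, 3623, 3611, 0, 0, 0, 0, 54, 0, 3611, [21363, 21433, 21402]⟩)) (.node (.leaf ⟨2, 2299, 2295, 0, 0, 0, 0, 28, 0, 2295, [13225, 13239, 13240]⟩) (.leaf ⟨6, 4950, 4944, 254, 0, (-28), 0, 66, 61, 4947, [29605, 29612, 29617, 15784, 15766, 15747, 15739, 15737, 15734,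 15730, 14337, 9993, 4775, 4771, 15726, 15722, 4765, 3360, 15718, 2701, 2699, 2079, 2077, 22, 4351, 10374, 15716, 1792, 14328, 8074, 15714, 15711, 9473, 8738, 8672, 8648, 8658, 14598, 10530, 8854, 9892, 9792, 9840, 15707, 2670, 2683, 14313, 14311, 14306, 15630, 15628, 15626, 15624, 10106, 12070, 15622, 15621, 15617, 15611, 10627, 29620, 29586, 29624]⟩)))) (.node (.node (.node (.leaf ⟨6, 534, 556, 0, 0, 0, 0, 93, 0, 0, []⟩) (.leaf ⟨7, 3187, 3195, 0, 0, 0, 0, 40, 3, 3187, [19357, 19384, 19372]⟩)) (.node (.leaf ⟨10, 1636, 1893, 0, 0, 0, 0, 93, 0, 0, []⟩) (.leaf ⟨10, 4646, 4647, 0, 0, 0, 0, 93, 0, 0, []⟩))) (.node (.node (.leaf ⟨10, 1144, 1148, 0, 0, 0, 0, 54, 3, 1144, [7083, 7097, 7094]⟩) (.leaf ⟨2, 3918, 3929, 0, 0, 0, 0, 24, 0, 3929, [23465, 23481, 23428]⟩)) (.node (.leaf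 ⟨10, 2555, 2556, 0, 0, 0, 0, 93, 0, 0, []⟩) (.leaf ⟨0, 0, 0, 0, 0, 0, 0, 0, 0, 0, []⟩))))) (.node (.node (.node (.node (.leaf ⟨1, 335, 363, 0, 0, 0, 0, 14, 0, 363, [1939, 1977, 1864]⟩) (.leaf ⟨7, 946, 3033, 0, 0, 0, 0, 93, 0, 0, []⟩)) (.node (.leaf ⟨11, 1532, 1729, 0, 0, 0, 0, 93, 0, 0, []⟩) (.leaf ⟨2, 437, 437, (-1), 0, (-1), 0, 28, 2, 979, [6189, 6200, 6189]⟩))) (.node (.node (.leaf ⟨10, 868, 868, (-1), 0, 1, 0, 61, 3, 868, [5541, 4478, 5540]⟩) (.leaf ⟨3, 3707, 3707, 26, 0, 8, 0, 37, 2, 3714, [21812, 22456, 21812]⟩)) (.node (.leaf ⟨5, 2420, 2420, (-1), 0, (-1), 0, 49, 0, 2420, [14253, 14263, 14264, 14262, 14252]⟩) (.leaf ⟨8, 1598, 5108, 0, 0, 0, 0, 61, 0, 5108, [30647, 7167, 9032]⟩)))) (.node (.node (.node (.leaf ⟨4, 535, 495, 0, 0, 0, 0, 40, 2, 469, [2858, 2451,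 2564]⟩) (.leaf ⟨3, 3361, 3367, 0, 0, 0, 0, 31, 0, 3367, [20399, 20409, 20344]⟩)) (.node (.leaf ⟨2, 282, 2088, 0, 0, 0, 0, 22, 0, 2088, [12209, 12217, 1724]⟩) (.leaf ⟨9, 4811, 2888, 0, 0, 0, 0, 64, 0, 2888, [17639, 10926, 28582]⟩))) (.node (.node (.leaf ⟨6, 1403, 1404, 0, 0, 0, 0, 93, 0, 0, []⟩) (.leaf ⟨4, 4101, 4098, 0, 0, 0, 0, 44, 0, 4098, [24493, 24502, 24504]⟩)) (.node (.leaf ⟨3, 780, 2453, 0, 0, 0, 0, 31, 0, 2453, [14651, 14140, 4864]⟩) (.leaf ⟨0, 0, 0, 0, 0, 0, 0, 0, 0, 0, []⟩))))))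

def factsPart222 : ATree TFact :=
  .node (.node (.node (.node (.node (.node (.leaf ⟨5, 103, 104, 0, 0, 0, 0, 93, 0, 0, []⟩) (.leaf ⟨3, 2773, 2773, (-1), 0, (-1), 0, 35, 0, 2773, [16819, 16826, 16818]⟩)) (.node (.leaf ⟨5, 208, 1529, 0, 0, 0, 0, 93, 0, 0, []⟩) (.leaf ⟨4, 4203, 4145, 0, 0, 0, 0, 44, 0, 4145, [24717, 6194, 25012]⟩))) (.node (.node (.leaf ⟨2, 737, 737, 1, 0, 1, 0, 23, 0, 737, [4517, 4538, 4516]⟩) (.leaf ⟨9, 3489, 3479, 0, 0, 0, 0, 57, 3, 3489, [20887, 20922, 20858]⟩)) (.node (.leaf ⟨9, 2186, 2041, 0, 0, 0, 0, 57, 3, 2186, [12669, 12730, 12012]⟩) (.leaf ⟨7, 4893, 4894, 0, 0, 0, 0, 40, 3, 4893, [29111, 15792, 29114]⟩)))) (.node (.node (.node (.leaf ⟨11, 71, 71, 1, 0, (-1), 0, 29, 3, 71, [279, 2490, 278]⟩) (.leaf ⟨11, 87, 855, 0, 0, 0, 0, 62, 3, 87, [381,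 9350, 5448]⟩)) (.node (.leaf ⟨0, 1540, 1718, 0, 0, 0, 0, 4, 0, 1718, [10103, 10683, 8682]⟩) (.leaf ⟨7, 4567, 4568, 0, 0, 0, 0, 93, 0, 0, []⟩))) (.node (.node (.leaf ⟨9, 767, 767, (-1), 0, 1, 0, 42, 3, 767, [4779, 6586, 4778]⟩) (.leaf ⟨11, 3852, 2831, (-1), 0, 5, 0, 64, 1, 1011, [13166, 22968, 22971]⟩)) (.node (.leaf ⟨3, 1607, 2407, 27, 0, (-47), 0, 66, 44, 2430, [14408, 14413, 14421, 14429, 14432, 14436, 14454, 14456, 14462, 14468, 14472, 14480, 14494, 14505, 14506, 14514, 14520, 10630, 14528, 14405, 14537, 14533, 14550, 10033, 10039, 14554, 14564, 14576, 14580, 14582, 10000, 10004, 8184, 8157, 8130, 14585, 9481, 8746, 14586, 8761, 8754, 14588, 14592, 14594, 14600, 9617, 14606, 9615, 14612, 9416, 4278, 14618, 13580, 7150, 9032, 14624, 14621, 14634, 10006, 14636, 14645,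 14774, 14778]⟩) (.leaf ⟨6, 934, 934, 1, 0, (-1), 0, 24, 3, 934, [5981, 24842, 5980]⟩))))) (.node (.node (.node (.node (.leaf ⟨5, 204, 204, 1, 0, (-1), 0, 47, 0, 204, [1455, 1466, 1454]⟩) (.leaf ⟨0, 2929, 2927, (-21), 0, 11, 0, 0, 4, 1547, [17842, 17844, 13695, 17847, 17850]⟩)) (.node (.leaf ⟨7, 716, 716, 1, 0, 1, 0, 51, 5, 716, [4299, 4297, 6780, 4296, 4298]⟩) (.leaf ⟨10, 4378, 4379, 0, 0, 0, 0, 93, 0, 0, []⟩))) (.node (.node (.leaf ⟨6, 864, 871, 0, 0, 0, 0, 53, 0, 871, [5547, 5563, 5502]⟩) (.leaf ⟨3, 3715, 3715, 1, 0, 1, 0, 35, 0, 3715, [21815, 1276, 21814]⟩)) (.node (.leaf ⟨5, 2378, 2379, 0, 0, 0, 0, 93, 0, 0, []⟩) (.leaf ⟨4, 5013, 5014, 0, 0, 0, 0, 93, 0, 0, []⟩)))) (.node (.node (.node (.leaf ⟨10, 635, 636, 0, 0, 0, 0, 93, 0, 0, []⟩) (.leaf ⟨0, 189, 189, (-1),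 0, (-1), 0, 9, 0, 189, [1317, 19898, 1316]⟩)) (.node (.leaf ⟨2, 1976, 1916, 0, 0, 0, 0, 24, 0, 1916, [11323, 11707, 11686]⟩) (.leaf ⟨7, 4737, 4738, 0, 0, 0, 0, 93, 0, 0, []⟩))) (.node (.node (.leaf ⟨8, 1274, 1241, 0, 0, 0, 0, 47, 3, 1274, [7597, 7610, 7508]⟩) (.leaf ⟨7, 4012, 4013, 0, 0, 0, 0, 93, 0, 0, []⟩)) (.node (.leaf ⟨4, 2634, 2615, 256, 0, 26, 0, 66, 3, 1777, [15610, 15616, 15620, 15623, 12071, 10107, 15624, 15626, 15629, 15630, 14307, 14310, 14312, 2682, 2671, 15706, 9840, 9793, 9893, 8855, 10530, 14598, 8659, 8649, 8672, 8738, 9472, 15710, 15714, 8075, 14329, 1793, 15716, 10374, 4350, 23, 2076, 2078, 2698, 2700, 15718, 3361, 4764, 15722, 15726, 4770, 4774, 9992, 14336, 15730, 15734, 15736, 15738, 15746, 15767, 15784, 15761, 15792, 15794, 15798, 10663, 10665,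 15802]⟩) (.leaf ⟨0, 0, 0, 0, 0, 0, 0, 0, 0, 0, []⟩)))))) (.node (.node (.node (.node (.node (.leaf ⟨2, 113, 113, 1, 0, 1, 0, 22, 0, 113, [479, 954, 478]⟩) (.leaf ⟨9, 1017, 2825, 0, 0, 0, 0, 93, 0, 0, []⟩)) (.node (.leaf ⟨3, 242, 242, 1, 0, (-1), 0, 37, 0, 242, [1597, 612, 1596]⟩) (.leaf ⟨1, 1324, 1324, (-1), 0, (-1), 0, 18, 0, 1324, [7783, 236, 7782]⟩))) (.node (.node (.leaf ⟨5, 604, 604, (-1), 0, (-1), 0, 49, 4, 528, [3272, 2767, 5050, 2766, 3272]⟩) (.leaf ⟨6, 3624, 3616, 0, 0, 0, 0, 55, 0, 3616, [21381, 21435, 21404]⟩)) (.node (.leaf ⟨6, 2294, 2300, 0, 0, 0, 0, 93, 0, 0, []⟩) (.leaf ⟨8, 4949, 4938, 0, 0, 0, 0, 61, 0, 4938, [29575, 17957, 29606]⟩)))) (.node (.node (.node (.leaf ⟨5, 556, 557, 0, 0, 0, 0, 93, 0, 0, []⟩) (.leaf ⟨7, 3188, 3196, 0, 0, 0, 0, 58, 0, 3196,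 [19375, 19387, 19358]⟩)) (.node (.leaf ⟨5, 1893, 1894, 0, 0, 0, 0, 93, 0, 0, []⟩) (.leaf ⟨6, 4641, 4646, 0, 0, 0, 0, 39, 3, 4641, [27555, 25676, 27576]⟩))) (.node (.node (.leaf ⟨10, 37, 1149, 0, 0, 0, 0, 93, 0, 0, []⟩) (.leaf ⟨2, 3919, 3930, 0, 0, 0, 0, 26, 0, 3930, [23467, 23483, 23430]⟩)) (.node (.leaf ⟨2, 2556, 2545, 0, 0, 0, 0, 28, 0, 2545, [15219, 15289, 15290]⟩) (.leaf ⟨0, 0, 0, 0, 0, 0, 0, 0, 0, 0, []⟩))))) (.node (.node (.node (.node (.leaf ⟨1, 336, 364, 0, 0, 0, 0, 13, 0, 364, [1941, 1979, 1866]⟩) (.leaf ⟨6, 3033, 3034, 0, 0, 0, 0, 93, 0, 0, []⟩)) (.node (.leaf ⟨5, 1729, 1730, 0, 0, 0, 0, 93, 0, 0, []⟩) (.leaf ⟨5, 3494, 4483, 0, 0, 0, 0, 93, 0, 0, []⟩))) (.node (.node (.leaf ⟨10, 953, 953, (-1), 0, (-1), 0, 63, 3, 953, [6071, 6074, 6070]⟩) (.leaf ⟨8, 805,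 3767, 0, 0, 0, 0, 93, 0, 0, []⟩)) (.node (.leaf ⟨11, 560, 560, 1, 0, (-1), 0, 29, 3, 560, [3011, 11540, 3010]⟩) (.leaf ⟨8, 1599, 5109, 0, 0, 0, 0, 62, 0, 5109, [30649, 30651, 9034]⟩)))) (.node (.node (.node (.leaf ⟨4, 496, 651, 0, 0, 0, 0, 39, 0, 651, [3617, 4026, 2566]⟩) (.leaf ⟨3, 3362, 3368, 0, 0, 0, 0, 36, 0, 3368, [20401, 20411, 20348]⟩)) (.node (.leaf ⟨1, 1922, 2040, 0, 0, 0, 0, 20, 0, 2040, [12011, 7471, 11334]⟩) (.leaf ⟨9, 4812, 2889, 0, 0, 0, 0, 57, 3, 4812, [28585, 28602, 17640]⟩))) (.node (.node (.leaf ⟨5, 1385, 1405, 0, 0, 0, 0, 93, 0, 0, []⟩) (.leaf ⟨10, 3503, 4102, 0, 0, 0, 0, 93, 0, 0, []⟩)) (.node (.leaf ⟨4, 780, 780, 1, 0, (-1), 0, 38, 0, 780, [4865, 14132, 14746, 14133, 4864]⟩) (.leaf ⟨0, 0, 0, 0, 0, 0, 0, 0, 0, 0, []⟩))))))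

def factsPart223 : ATree TFact :=
  .node (.node (.node (.node (.node (.node (.leaf ⟨2, 104, 97, 0, 0, 0, 0, 23, 0, 97, [419, 443, 444]⟩) (.leaf ⟨3, 2774, 2774, 1, 0, 1, 0, 33, 0, 2774, [16821, 16828, 16820]⟩)) (.node (.leaf ⟨4, 1529, 1530, 0, 0, 0, 0, 93, 0, 0, []⟩) (.leaf ⟨4, 4204, 4171, 0, 0, 0, 0, 40, 0, 4171, [24779, 25021, 25014]⟩))) (.node (.node (.leaf ⟨10, 737, 737, 0, 0, 0, 0, 49, 5, 737, [4517, 3861, 3818, 3860, 4516]⟩) (.leaf ⟨9, 3490, 3480, 0, 0, 0, 0, 53, 3, 3490, [20889, 20924, 20862]⟩)) (.node (.leaf ⟨9, 2187, 2042, 0, 0, 0, 0, 53, 3, 2187, [12671, 12732, 12014]⟩) (.leaf ⟨0, 2449, 1707, 0, 0, 0, 0, 9, 0, 1707, [10025, 9111, 14590]⟩)))) (.node (.node (.node (.leaf ⟨10, 467, 467, 1, 0, (-1), 0, 65, 4, 88, [2446, 385, 2492, 384, 2446]⟩) (.leaf ⟨9, 855,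 3115, 0, 0, 0, 0, 93, 0, 0, []⟩)) (.node (.leaf ⟨3, 1547, 1547, 1, 0, (-1), 0, 31, 0, 1547, [8717, 9468, 8716]⟩) (.leaf ⟨4, 4568, 4564, 0, 0, 0, 0, 40, 0, 4564, [27053, 27066, 27068]⟩))) (.node (.node (.leaf ⟨9, 1037, 1037, (-1), 0, (-1), 0, 35, 3, 1037, [6545, 6588, 6544]⟩) (.leaf ⟨2, 3847, 2830, 0, 0, 0, 0, 27, 0, 2830, [17371, 13193, 22954]⟩)) (.node (.leaf ⟨4, 2343, 2407, 167, 0, (-69), 0, 66, 3, 1783, [13934, 14229, 13937, 8879, 10657, 10104, 14230, 10049, 10057, 9753, 8959, 8949, 13448, 13460, 8980, 13470, 13478, 8947, 8956, 8930, 3078, 2737, 13532, 2723, 13538, 14234, 14236, 13526, 4337, 3053, 6782, 1696, 8072, 14238, 14330, 9066, 6878, 6882, 7136, 7138, 7140, 7142, 7144, 7157, 13587, 13574, 13594, 14338, 14337, 14350, 14358, 14360, 10012, 14362, 14370, 14377,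 13422, 13424, 13404, 14382, 10645, 9098, 14780]⟩) (.leaf ⟨6, 935, 935, (-1), 0, 1, 0, 53, 0, 935, [5983, 31164, 5982]⟩))))) (.node (.node (.node (.node (.leaf ⟨4, 203, 203, 1, 0, 1, 0, 40, 0, 203, [1453, 1356, 1452]⟩) (.leaf ⟨0, 2921, 2928, 0, 0, 0, 0, 9, 2, 2920, [17816, 17815, 17836]⟩)) (.node (.leaf ⟨7, 717, 717, 1, 0, (-1), 0, 46, 3, 717, [4301, 9660, 4300]⟩) (.leaf ⟨2, 4296, 4380, 0, 0, 0, 0, 93, 0, 0, []⟩))) (.node (.node (.leaf ⟨6, 866, 872, 0, 0, 0, 0, 54, 0, 872, [5549, 5565, 5522]⟩) (.leaf ⟨3, 3716, 3716, (-1), 0, (-1), 0, 33, 0, 3716, [21817, 21948, 21816]⟩)) (.node (.leaf ⟨7, 2379, 2380, 0, 0, 0, 0, 93, 0, 0, []⟩) (.leaf ⟨3, 5014, 5015, 0, 0, 0, 0, 93, 0, 0, []⟩)))) (.node (.node (.node (.leaf ⟨3, 636, 634, 0, 0, 0, 0, 36, 2, 635, [3516, 3515, 3510]⟩) (.leaf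 ⟨0, 2137, 2137, 1, 0, 1, 0, 10, 0, 2137, [12371, 19900, 12370]⟩)) (.node (.leaf ⟨2, 1977, 1917, 0, 0, 0, 0, 26, 0, 1917, [11325, 11709, 11690]⟩) (.leaf ⟨0, 4738, 4707, 0, 0, 0, 0, 6, 0, 4707, [27995, 28091, 28092]⟩))) (.node (.node (.leaf ⟨5, 1248, 1275, 0, 0, 0, 0, 93, 0, 0, []⟩) (.leaf ⟨4, 4013, 4010, 0, 0, 0, 0, 40, 0, 4010, [23975, 23995, 23996]⟩)) (.node (.leaf ⟨8, 1752, 2606, 0, 0, 0, 0, 17, 3, 1752, [10327, 7170, 15560]⟩) (.leaf ⟨0, 0, 0, 0, 0, 0, 0, 0, 0, 0, []⟩)))))) (.node (.node (.node (.node (.node (.leaf ⟨2, 166, 166, (-1), 0, (-1), 0, 25, 0, 166, [951, 956, 950]⟩) (.leaf ⟨10, 2825, 2826, 0, 0, 0, 0, 93, 0, 0, []⟩)) (.node (.leaf ⟨3, 243, 243, (-1), 0, 1, 0, 31, 0, 243, [1599, 9148, 1598]⟩) (.leaf ⟨1, 1325, 1325, 1, 0, 1, 0, 19, 0, 1325, [7785, 25532,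 7784]⟩))) (.node (.node (.leaf ⟨4, 745, 745, 1, 0, (-1), 0, 38, 0, 745, [4659, 5044, 5052, 5045, 4658]⟩) (.leaf ⟨7, 3626, 3618, 0, 0, 0, 0, 51, 5, 3626, [21409, 21407, 21436, 21382, 21386]⟩)) (.node (.leaf ⟨7, 2300, 2301, 0, 0, 0, 0, 93, 0, 0, []⟩) (.leaf ⟨8, 4950, 4939, 0, 0, 0, 0, 47, 3, 4950, [29611, 29628, 29576]⟩)))) (.node (.node (.node (.leaf ⟨4, 557, 558, 0, 0, 0, 0, 93, 0, 0, []⟩) (.leaf ⟨5, 2730, 3161, 0, 0, 0, 0, 14, 3, 2730, [16517, 6014, 19254]⟩)) (.node (.leaf ⟨7, 1894, 1895, 0, 0, 0, 0, 93, 0, 0, []⟩) (.leaf ⟨6, 4642, 4647, 0, 0, 0, 0, 54, 0, 4647, [27579, 27581, 27556]⟩))) (.node (.node (.leaf ⟨5, 1149, 1150, 0, 0, 0, 0, 93, 0, 0, []⟩) (.leaf ⟨2, 3920, 3931, 0, 0, 0, 0, 23, 0, 3931, [23469, 23485, 23432]⟩)) (.node (.leaf ⟨5, 2556, 2557, 0, 0, 0, 0,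 93, 0, 0, []⟩) (.leaf ⟨0, 0, 0, 0, 0, 0, 0, 0, 0, 0, []⟩))))) (.node (.node (.node (.node (.leaf ⟨1, 337, 365, 0, 0, 0, 0, 19, 0, 365, [1943, 1981, 1868]⟩) (.leaf ⟨5, 3034, 3035, 0, 0, 0, 0, 93, 0, 0, []⟩)) (.node (.leaf ⟨4, 1730, 1731, 0, 0, 0, 0, 93, 0, 0, []⟩) (.leaf ⟨4, 4483, 4484, 0, 0, 0, 0, 93, 0, 0, []⟩))) (.node (.node (.leaf ⟨5, 951, 951, 1, 0, (-1), 0, 49, 0, 951, [6063, 6072, 6076, 6073, 6062]⟩) (.leaf ⟨5, 3767, 3768, 0, 0, 0, 0, 93, 0, 0, []⟩)) (.node (.leaf ⟨11, 2419, 2419, 1, 0, 1, 0, 20, 3, 2419, [14249, 14268, 14248]⟩) (.leaf ⟨5, 5109, 5110, 0, 0, 0, 0, 93, 0, 0, []⟩)))) (.node (.node (.node (.leaf ⟨2, 614, 614, (-1), 0, (-1), 0, 29, 0, 614, [3355, 802, 3354]⟩) (.leaf ⟨3, 3363, 3369, 0, 0, 0, 0, 33, 0, 3369, [20403, 20413, 20352]⟩)) (.node (.leaf ⟨1,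 2084, 2041, 0, 0, 0, 0, 16, 0, 2041, [12013, 12221, 12200]⟩) (.leaf ⟨9, 4813, 2890, 0, 0, 0, 0, 53, 3, 4813, [28587, 28604, 17642]⟩))) (.node (.node (.leaf ⟨4, 1405, 1406, 0, 0, 0, 0, 93, 0, 0, []⟩) (.leaf ⟨10, 4075, 3500, 0, 0, 0, 0, 58, 3, 4075, [24387, 24385, 20940]⟩)) (.node (.leaf ⟨10, 725, 725, 1, 0, (-1), 0, 54, 3, 725, [4385, 4380, 4384]⟩) (.leaf ⟨0, 0, 0, 0, 0, 0, 0, 0, 0, 0, []⟩))))))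

def factsPart224 : ATree TFact :=
  .node (.node (.node (.node (.node (.node (.leaf ⟨3, 100, 105, 0, 0, 0, 0, 93, 0, 0, []⟩) (.leaf ⟨9, 158, 2775, 0, 0, 0, 0, 93, 0, 0, []⟩)) (.node (.leaf ⟨3, 1530, 1531, 0, 0, 0, 0, 93, 0, 0, []⟩) (.leaf ⟨5, 4147, 4171, 0, 0, 0, 0, 46, 2, 4146, [24720, 24719, 24778]⟩))) (.node (.node (.leaf ⟨7, 737, 737, (-1), 0, 1, 0, 46, 3, 737, [4517, 3938, 4516]⟩) (.leaf ⟨9, 3491, 3481, 0, 0, 0, 0, 48, 3, 3491, [20891, 20926, 20866]⟩)) (.node (.leaf ⟨9, 2180, 2043, (-27), 0, (-1), 0, 60, 3, 2183, [12662, 12644, 12727, 12734, 12016]⟩) (.leaf ⟨2, 1707, 1707, 1, 0, 1, 0, 28, 0, 1707, [10025, 9132, 10024]⟩)))) (.node (.node (.node (.leaf ⟨5, 479, 479, 1, 0, (-1), 0, 49, 4, 468, [2470, 2449, 2494, 2448, 2470]⟩) (.leaf ⟨11, 3112, 3115, 0, 0, 0, 0,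 64, 3, 3112, [18855, 18876, 18878]⟩)) (.node (.leaf ⟨5, 1548, 1687, 0, 0, 0, 0, 38, 5, 1548, [8719, 8717, 9482, 7158, 9904]⟩) (.leaf ⟨6, 4568, 4569, 0, 0, 0, 0, 93, 0, 0, []⟩))) (.node (.node (.leaf ⟨8, 275, 275, 1, 0, (-1), 0, 60, 0, 275, [1711, 6551, 6590, 6550, 1710]⟩) (.leaf ⟨2, 3848, 2831, 0, 0, 0, 0, 28, 0, 2831, [17373, 22975, 22956]⟩)) (.node (.leaf ⟨4, 2409, 2337, (-167), 0, 69, 0, 41, 2, 2407, [13932, 14783, 13720]⟩) (.leaf ⟨7, 2748, 2748, (-1), 0, 1, 0, 51, 5, 2748, [16597, 16595, 31166, 16594, 16596]⟩))))) (.node (.node (.node (.node (.leaf ⟨4, 204, 204, (-1), 0, (-1), 0, 41, 0, 204, [1455, 1470, 1454]⟩) (.leaf ⟨5, 2927, 2921, 21, 0, 11, 0, 4, 3, 2927, [17853, 17839, 17855]⟩)) (.node (.leaf ⟨7, 718, 718, 1, 0, 1, 0, 40, 3, 718, [4303, 9662, 4302]⟩) (.leaf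 ⟨10, 4380, 4381, 0, 0, 0, 0, 93, 0, 0, []⟩))) (.node (.node (.leaf ⟨5, 872, 875, 0, 0, 0, 0, 93, 0, 0, []⟩) (.leaf ⟨4, 3715, 3715, 1, 0, 1, 0, 42, 0, 3715, [21815, 1268, 21814]⟩)) (.node (.leaf ⟨6, 2380, 2381, 0, 0, 0, 0, 93, 0, 0, []⟩) (.leaf ⟨2, 5015, 5016, 0, 0, 0, 0, 93, 0, 0, []⟩)))) (.node (.node (.node (.leaf ⟨2, 635, 637, 0, 0, 0, 0, 93, 0, 0, []⟩) (.leaf ⟨0, 3277, 3277, (-1), 0, (-1), 0, 6, 0, 3277, [19783, 19902, 19782]⟩)) (.node (.leaf ⟨2, 1978, 1918, 0, 0, 0, 0, 23, 0, 1918, [11327, 11711, 11694]⟩) (.leaf ⟨6, 4738, 4739, 0, 0, 0, 0, 93, 0, 0, []⟩))) (.node (.node (.leaf ⟨4, 1275, 1276, 0, 0, 0, 0, 93, 0, 0, []⟩) (.leaf ⟨8, 4013, 4014, 0, 0, 0, 0, 93, 0, 0, []⟩)) (.node (.leaf ⟨8, 2632, 2607, 0, 0, 0, 0, 61, 0, 2607, [15563, 15807, 15786]⟩) (.leaf ⟨0, 0,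 0, 0, 0, 0, 0, 0, 0, 0, []⟩)))))) (.node (.node (.node (.node (.node (.leaf ⟨10, 166, 166, 1, 0, (-1), 0, 58, 3, 166, [951, 698, 950]⟩) (.leaf ⟨11, 2826, 2827, 0, 0, 0, 0, 93, 0, 0, []⟩)) (.node (.leaf ⟨4, 266, 266, (-1), 0, 1, 0, 30, 5, 266, [1693, 1601, 9150, 1600, 1692]⟩) (.leaf ⟨1, 4305, 4305, (-1), 0, (-1), 0, 20, 0, 4305, [25519, 25534, 25518]⟩))) (.node (.node (.leaf ⟨6, 694, 694, (-1), 0, (-1), 0, 54, 0, 694, [4191, 4238, 4190]⟩) (.leaf ⟨7, 3627, 3619, 0, 0, 0, 0, 46, 3, 3627, [21411, 21438, 21390]⟩)) (.node (.leaf ⟨6, 2301, 2302, 0, 0, 0, 0, 93, 0, 0, []⟩) (.leaf ⟨6, 4930, 4939, (-254), 0, 28, 0, 52, 2, 4944, [29592, 29627, 29630]⟩)))) (.node (.node (.node (.leaf ⟨3, 558, 559, 0, 0, 0, 0, 93, 0, 0, []⟩) (.leaf ⟨5, 2731, 3165, 0, 0, 0, 0, 48, 0, 3165, [19263,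 19391, 16518]⟩)) (.node (.leaf ⟨6, 1895, 1896, 0, 0, 0, 0, 93, 0, 0, []⟩) (.leaf ⟨7, 2663, 4648, 0, 0, 0, 0, 93, 0, 0, []⟩))) (.node (.node (.leaf ⟨7, 1150, 1151, 0, 0, 0, 0, 93, 0, 0, []⟩) (.leaf ⟨2, 3921, 3932, 0, 0, 0, 0, 22, 0, 3932, [23471, 23487, 23434]⟩)) (.node (.leaf ⟨2, 2557, 2546, 0, 0, 0, 0, 23, 0, 2546, [15221, 15293, 15294]⟩) (.leaf ⟨0, 0, 0, 0, 0, 0, 0, 0, 0, 0, []⟩))))) (.node (.node (.node (.node (.leaf ⟨1, 338, 366, 0, 0, 0, 0, 14, 0, 366, [1945, 1983, 1870]⟩) (.leaf ⟨10, 3035, 3036, 0, 0, 0, 0, 93, 0, 0, []⟩)) (.node (.leaf ⟨4, 1532, 1725, 0, 0, 0, 0, 43, 0, 1725, [10157, 8859, 8642]⟩) (.leaf ⟨3, 4484, 4485, 0, 0, 0, 0, 93, 0, 0, []⟩))) (.node (.node (.leaf ⟨5, 952, 952, (-1), 0, 1, 0, 46, 0, 952, [6067, 6078, 6066]⟩) (.leaf ⟨4, 3768, 3769, 0, 0,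 0, 0, 93, 0, 0, []⟩)) (.node (.leaf ⟨4, 581, 581, (-1), 0, 1, 0, 22, 3, 581, [3111, 4208, 3110]⟩) (.leaf ⟨8, 1600, 5110, 0, 0, 0, 0, 47, 3, 1600, [9055, 30652, 30654]⟩)))) (.node (.node (.node (.leaf ⟨3, 652, 652, (-1), 0, (-1), 0, 21, 3, 614, [3347, 3634, 4030, 3347, 3634]⟩) (.leaf ⟨3, 3364, 3370, 0, 0, 0, 0, 32, 0, 3370, [20405, 20415, 20356]⟩)) (.node (.leaf ⟨1, 2085, 2042, 0, 0, 0, 0, 15, 0, 2042, [12015, 12223, 12202]⟩) (.leaf ⟨9, 4814, 2891, 0, 0, 0, 0, 48, 3, 4814, [28589, 28606, 17644]⟩))) (.node (.node (.leaf ⟨3, 1406, 1407, 0, 0, 0, 0, 93, 0, 0, []⟩) (.leaf ⟨10, 3501, 4076, 0, 0, 0, 0, 54, 3, 3501, [20943, 24511, 24388]⟩)) (.node (.leaf ⟨11, 2699, 783, 0, 0, 0, 0, 50, 3, 2699, [16193, 16169, 4918]⟩) (.leaf ⟨0, 0, 0, 0, 0, 0, 0, 0, 0, 0, []⟩))))))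

def factsPart225 : ATree TFact :=
  .node (.node (.node (.node (.node (.node (.leaf ⟨7, 105, 106, 0, 0, 0, 0, 93, 0, 0, []⟩) (.leaf ⟨10, 2775, 2776, 0, 0, 0, 0, 93, 0, 0, []⟩)) (.node (.leaf ⟨10, 1531, 1532, 0, 0, 0, 0, 93, 0, 0, []⟩) (.leaf ⟨6, 2132, 777, 0, 0, 0, 0, 54, 0, 777, [4855, 12335, 12354]⟩))) (.node (.node (.leaf ⟨3, 91, 91, (-17), 0, 5, 0, 33, 2, 90, [390, 3932, 390]⟩) (.leaf ⟨9, 3492, 3482, 0, 0, 0, 0, 42, 3, 3492, [20893, 20928, 20870]⟩)) (.node (.leaf ⟨4, 2043, 2024, 27, 0, (-1), 0, 42, 0, 2024, [12637, 12650, 12736]⟩) (.leaf ⟨11, 1578, 1416, (-1), 0, (-5), 0, 37, 1, 762, [9013, 8998, 9395]⟩)))) (.node (.node (.node (.leaf ⟨4, 471, 471, (-1), 0, (-1), 0, 38, 0, 471, [2455, 2472, 2496, 2473, 2454]⟩) (.leaf ⟨5, 3115, 3115, 1, 0, (-1), 0, 48, 0, 3115,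 [18879, 5452, 18878]⟩)) (.node (.leaf ⟨7, 1788, 1648, 73, 0, (-33), 0, 66, 6, 1718, [10438, 10441, 10444, 10125, 10018, 10132, 10448, 10447, 10527, 9842, 9895, 4739, 8857, 10532, 9606, 9608, 10534, 8706, 8697, 8689, 8721, 8715, 8761, 8789, 8815, 10536, 10538, 8805, 8838, 10540, 10542, 8812, 10546, 10545, 4358, 4292, 10548, 4760, 4752, 10550, 10552, 8876, 10554, 8281, 10556, 10571, 10586, 10601, 10593, 10604, 10608, 10612, 9082, 10614, 10616, 10665, 10678, 10685, 8722, 10686, 8718, 10688, 10394]⟩) (.leaf ⟨4, 4569, 4565, 0, 0, 0, 0, 39, 0, 4565, [27057, 27071, 27072]⟩))) (.node (.node (.leaf ⟨8, 276, 276, (-1), 0, 1, 0, 61, 0, 276, [1713, 6592, 1712]⟩) (.leaf ⟨2, 3852, 3849, (-1), 0, 5, 0, 29, 2, 2831, [22973, 22977, 22958]⟩)) (.node (.leaf ⟨11, 1396, 2461, 0, 0, 0,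 0, 93, 0, 0, []⟩) (.leaf ⟨8, 5180, 5180, (-1), 0, 1, 0, 56, 5, 5180, [31143, 31141, 31168, 31140, 31142]⟩))))) (.node (.node (.node (.node (.leaf ⟨3, 73, 203, 0, 0, 0, 0, 33, 2, 72, [282, 281, 1452]⟩) (.leaf ⟨8, 2925, 2913, 0, 0, 0, 0, 17, 3, 2925, [17831, 12828, 17786]⟩)) (.node (.leaf ⟨4, 242, 242, (-1), 0, (-1), 0, 44, 0, 242, [1597, 594, 1596]⟩) (.leaf ⟨7, 4293, 4374, 0, 0, 0, 0, 51, 3, 4283, [25468, 25470, 25417, 26032, 26034]⟩))) (.node (.node (.leaf ⟨8, 474, 876, 0, 0, 0, 0, 93, 0, 0, []⟩) (.leaf ⟨4, 3716, 3716, (-1), 0, (-1), 0, 40, 0, 3716, [21817, 21952, 21816]⟩)) (.node (.leaf ⟨8, 2346, 2378, 0, 0, 0, 0, 61, 0, 2378, [13755, 9583, 13418]⟩) (.leaf ⟨10, 5016, 5017, 0, 0, 0, 0, 93, 0, 0, []⟩)))) (.node (.node (.node (.leaf ⟨10, 637, 638, 0, 0, 0, 0, 93, 0,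 0, []⟩) (.leaf ⟨0, 3278, 3278, 1, 0, 1, 0, 5, 0, 3278, [19785, 19904, 19784]⟩)) (.node (.leaf ⟨1, 1927, 1918, 59, 0, 31, 0, 11, 4, 1931, [11368, 11406, 11663, 11697, 11712]⟩) (.leaf ⟨0, 4739, 4708, 0, 0, 0, 0, 5, 0, 4708, [27999, 28095, 28096]⟩))) (.node (.node (.leaf ⟨3, 1276, 1277, 0, 0, 0, 0, 93, 0, 0, []⟩) (.leaf ⟨4, 4014, 4011, 0, 0, 0, 0, 41, 0, 4011, [23979, 23999, 24000]⟩)) (.node (.leaf ⟨8, 2633, 2608, 0, 0, 0, 0, 47, 3, 2633, [15791, 15808, 15564]⟩) (.leaf ⟨0, 0, 0, 0, 0, 0, 0, 0, 0, 0, []⟩)))))) (.node (.node (.node (.node (.node (.leaf ⟨6, 133, 133, 1, 0, (-1), 0, 51, 0, 133, [577, 553, 696, 552, 576]⟩) (.leaf ⟨3, 2820, 1016, 0, 0, 0, 0, 34, 0, 1016, [6401, 9691, 17312]⟩)) (.node (.leaf ⟨4, 267, 267, 1, 0, (-1), 0, 43, 0, 267, [1695, 9152, 1694]⟩) (.leaf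 ⟨2, 4304, 4304, (-1), 0, (-11), 0, 11, 3, 4305, [25529, 25530, 25536, 25529, 25530]⟩))) (.node (.node (.leaf ⟨7, 697, 694, 0, 0, 0, 0, 58, 0, 694, [4191, 4197, 4224]⟩) (.leaf ⟨7, 3628, 3620, 0, 0, 0, 0, 40, 3, 3628, [21413, 21440, 21394]⟩)) (.node (.leaf ⟨7, 2302, 2297, 0, 0, 0, 0, 51, 3, 2300, [13246, 13248, 13245, 13228, 13232]⟩) (.leaf ⟨7, 4941, 4932, 254, 0, 28, 0, 51, 3, 4939, [29578, 29580, 29633, 29550, 29552]⟩)))) (.node (.node (.node (.leaf ⟨2, 559, 560, 0, 0, 0, 0, 93, 0, 0, []⟩) (.leaf ⟨5, 2732, 3175, 0, 0, 0, 0, 46, 0, 3175, [19321, 19393, 16520]⟩)) (.node (.leaf ⟨5, 1896, 1897, 0, 0, 0, 0, 93, 0, 0, []⟩) (.leaf ⟨6, 4648, 4649, 0, 0, 0, 0, 93, 0, 0, []⟩))) (.node (.node (.leaf ⟨6, 1151, 1152, 0, 0, 0, 0, 93, 0, 0, []⟩) (.leaf ⟨2, 3922, 3933, 0, 0, 0, 0,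 25, 0, 3933, [23473, 23489, 23436]⟩)) (.node (.leaf ⟨6, 2557, 2558, 0, 0, 0, 0, 93, 0, 0, []⟩) (.leaf ⟨0, 0, 0, 0, 0, 0, 0, 0, 0, 0, []⟩))))) (.node (.node (.node (.node (.leaf ⟨1, 339, 367, 0, 0, 0, 0, 15, 0, 367, [1947, 1985, 1872]⟩) (.leaf ⟨10, 948, 3033, 0, 0, 0, 0, 58, 3, 948, [6047, 6043, 18362]⟩)) (.node (.leaf ⟨4, 1729, 1726, 0, 0, 0, 0, 44, 0, 1726, [10159, 10177, 10170]⟩) (.leaf ⟨2, 4485, 4486, 0, 0, 0, 0, 93, 0, 0, []⟩))) (.node (.node (.leaf ⟨6, 952, 954, 0, 0, 0, 0, 93, 0, 0, []⟩) (.leaf ⟨7, 3769, 3770, 0, 0, 0, 0, 93, 0, 0, []⟩)) (.node (.leaf ⟨4, 2421, 2421, (-1), 0, (-1), 0, 13, 3, 2421, [14261, 14272, 14260]⟩) (.leaf ⟨6, 5110, 5111, 0, 0, 0, 0, 93, 0, 0, []⟩)))) (.node (.node (.node (.leaf ⟨3, 651, 651, (-1), 0, 1, 0, 31, 2, 652, [3619, 4032, 3619]⟩)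 (.leaf ⟨4, 3367, 3371, 0, 0, 0, 0, 93, 0, 0, []⟩)) (.node (.leaf ⟨1, 2086, 2043, 0, 0, 0, 0, 17, 0, 2043, [12017, 12225, 12204]⟩) (.leaf ⟨6, 4810, 2891, (-21), 0, (-11), 0, 53, 2, 4805, [28580, 28601, 28608]⟩))) (.node (.node (.leaf ⟨2, 1407, 1408, 0, 0, 0, 0, 93, 0, 0, []⟩) (.leaf ⟨10, 3502, 4080, 0, 0, 0, 0, 61, 3, 3502, [20945, 24512, 24396]⟩)) (.node (.leaf ⟨7, 726, 2699, 46, 0, (-6), 0, 59, 2, 780, [16311, 5091, 16321]⟩) (.leaf ⟨0, 0, 0, 0, 0, 0, 0, 0, 0, 0, []⟩))))))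

def factsPart226 : ATree TFact :=
  .node (.node (.node (.node (.node (.node (.leaf ⟨6, 106, 107, 0, 0, 0, 0, 93, 0, 0, []⟩) (.leaf ⟨7, 2776, 2777, 0, 0, 0, 0, 93, 0, 0, []⟩)) (.node (.leaf ⟨6, 206, 1533, 0, 0, 0, 0, 93, 0, 0, []⟩) (.leaf ⟨6, 778, 4146, (-21), 0, 1, 0, 45, 5, 778, [4857, 25027, 12400, 24790, 24718]⟩))) (.node (.node (.leaf ⟨2, 498, 151, 0, 0, 0, 0, 28, 2, 80, [2576, 327, 850]⟩) (.leaf ⟨10, 3492, 3497, 0, 0, 0, 0, 93, 0, 0, []⟩)) (.node (.leaf ⟨5, 2026, 2045, (-27), 0, (-1), 0, 38, 3, 2024, [11950, 11952, 12739, 12018, 12020]⟩) (.leaf ⟨11, 1574, 1571, (-1), 0, 5, 0, 50, 3, 1574, [8917, 29122, 8874]⟩)))) (.node (.node (.node (.leaf ⟨4, 472, 472, 1, 0, 1, 0, 39, 0, 472, [2457, 2498, 2456]⟩) (.leaf ⟨3, 822, 855, 0, 0, 0, 0, 34, 0, 855, [5449, 9349, 5268]⟩))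 (.node (.leaf ⟨8, 1785, 1495, 0, 0, 0, 0, 17, 3, 1785, [10667, 8142, 8552]⟩) (.leaf ⟨9, 771, 4570, 0, 0, 0, 0, 93, 0, 0, []⟩))) (.node (.node (.leaf ⟨8, 277, 277, 1, 0, (-1), 0, 62, 0, 277, [1715, 6594, 1714]⟩) (.leaf ⟨1, 2287, 2667, 0, 0, 0, 0, 13, 0, 2667, [15957, 22333, 13156]⟩)) (.node (.leaf ⟨9, 2408, 2461, 0, 0, 0, 0, 64, 0, 2461, [14787, 8100, 13926]⟩) (.leaf ⟨6, 5179, 3802, 0, 0, 0, 0, 52, 2, 2748, [31140, 16597, 22752]⟩))))) (.node (.node (.node (.node (.leaf ⟨3, 204, 74, 0, 0, 0, 0, 34, 0, 74, [285, 1474, 1454]⟩) (.leaf ⟨8, 2926, 2917, 0, 0, 0, 0, 61, 0, 2917, [17805, 17859, 17832]⟩)) (.node (.leaf ⟨5, 244, 244, (-1), 0, (-1), 0, 38, 5, 244, [1601, 1599, 9666, 1598, 1600]⟩) (.leaf ⟨7, 4375, 4294, 0, 0, 0, 0, 46, 3, 4375, [26037, 26051, 25472]⟩))) (.node (.node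 (.leaf ⟨5, 876, 877, 0, 0, 0, 0, 93, 0, 0, []⟩) (.leaf ⟨6, 3719, 3727, 0, 0, 0, 0, 93, 0, 0, []⟩)) (.node (.leaf ⟨8, 2347, 2379, 0, 0, 0, 0, 47, 3, 2347, [13421, 13762, 13756]⟩) (.leaf ⟨8, 5013, 4858, 0, 0, 0, 0, 47, 3, 5013, [30139, 30137, 28878]⟩)))) (.node (.node (.node (.leaf ⟨2, 638, 636, 0, 0, 0, 0, 28, 2, 637, [3522, 3521, 3516]⟩) (.leaf ⟨0, 3279, 3279, (-1), 0, (-1), 0, 4, 0, 3279, [19787, 19906, 19786]⟩)) (.node (.leaf ⟨1, 1919, 1928, (-59), 0, (-31), 0, 13, 2, 1918, [11328, 11715, 11346]⟩) (.leaf ⟨8, 4739, 4740, 0, 0, 0, 0, 93, 0, 0, []⟩))) (.node (.node (.leaf ⟨2, 1277, 1278, 0, 0, 0, 0, 93, 0, 0, []⟩) (.leaf ⟨8, 414, 4015, 0, 0, 0, 0, 93, 0, 0, []⟩)) (.node (.leaf ⟨8, 2634, 2609, 0, 0, 0, 0, 52, 3, 2634, [15795, 15810, 15566]⟩) (.leaf ⟨0, 0, 0, 0, 0, 0,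 0, 0, 0, 0, []⟩)))))) (.node (.node (.node (.node (.node (.leaf ⟨5, 130, 130, (-1), 0, (-1), 0, 45, 0, 130, [529, 578, 962, 579, 528]⟩) (.leaf ⟨3, 2821, 1017, 0, 0, 0, 0, 31, 0, 1017, [6405, 17347, 17316]⟩)) (.node (.leaf ⟨5, 1383, 1383, 1, 0, (-1), 0, 38, 5, 1383, [8073, 1697, 9154, 1696, 8072]⟩) (.leaf ⟨2, 4298, 4298, 1, 0, 11, 0, 23, 0, 4298, [25517, 25538, 25516]⟩))) (.node (.node (.leaf ⟨5, 695, 695, (-1), 0, (-1), 0, 31, 3, 695, [4193, 4146, 4192]⟩) (.leaf ⟨7, 3629, 3621, 0, 0, 0, 0, 58, 0, 3621, [21399, 21443, 21414]⟩)) (.node (.leaf ⟨5, 2302, 2303, 0, 0, 0, 0, 93, 0, 0, []⟩) (.leaf ⟨9, 4938, 4923, 0, 0, 0, 0, 63, 0, 4923, [29525, 17950, 29574]⟩)))) (.node (.node (.node (.leaf ⟨2, 556, 487, 0, 0, 0, 0, 24, 0, 487, [2535, 2857, 3002]⟩) (.leaf ⟨7, 2824, 3197,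 0, 0, 0, 0, 93, 0, 0, []⟩)) (.node (.leaf ⟨4, 1897, 1898, 0, 0, 0, 0, 93, 0, 0, []⟩) (.leaf ⟨5, 4649, 4650, 0, 0, 0, 0, 93, 0, 0, []⟩))) (.node (.node (.leaf ⟨9, 39, 1149, 0, 0, 0, 0, 63, 2, 38, [76, 75, 7100]⟩) (.leaf ⟨2, 3923, 3934, 0, 0, 0, 0, 24, 0, 3934, [23475, 23491, 23438]⟩)) (.node (.leaf ⟨2, 2558, 2547, 0, 0, 0, 0, 24, 0, 2547, [15223, 15297, 15298]⟩) (.leaf ⟨0, 0, 0, 0, 0, 0, 0, 0, 0, 0, []⟩))))) (.node (.node (.node (.node (.leaf ⟨1, 340, 368, 0, 0, 0, 0, 16, 0, 368, [1949, 1987, 1874]⟩) (.leaf ⟨6, 948, 3037, 0, 0, 0, 0, 93, 0, 0, []⟩)) (.node (.leaf ⟨5, 1731, 1728, 0, 0, 0, 0, 38, 5, 1731, [10175, 10173, 10178, 10160, 10168]⟩) (.leaf ⟨10, 4486, 4487, 0, 0, 0, 0, 93, 0, 0, []⟩))) (.node (.node (.leaf ⟨7, 838, 955, 0, 0, 0, 0, 93, 0, 0, []⟩) (.leaf ⟨6, 3770,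 3771, 0, 0, 0, 0, 93, 0, 0, []⟩)) (.node (.leaf ⟨1, 554, 2422, 0, 0, 0, 0, 93, 0, 0, []⟩) (.leaf ⟨8, 5107, 5111, 0, 0, 0, 0, 52, 3, 5107, [30645, 30656, 30658]⟩)))) (.node (.node (.node (.leaf ⟨5, 535, 535, 1, 0, 1, 0, 46, 0, 535, [2859, 2878, 2858]⟩) (.leaf ⟨10, 3371, 3372, 0, 0, 0, 0, 93, 0, 0, []⟩)) (.node (.leaf ⟨1, 2087, 2044, 0, 0, 0, 0, 14, 0, 2044, [12019, 12227, 12206]⟩) (.leaf ⟨1, 1358, 4815, 0, 0, 0, 0, 93, 0, 0, []⟩))) (.node (.node (.leaf ⟨10, 1408, 1409, 0, 0, 0, 0, 93, 0, 0, []⟩) (.leaf ⟨5, 4102, 4100, 0, 0, 0, 0, 49, 4, 3503, [24508, 20947, 24514, 24398, 24500]⟩)) (.node (.leaf ⟨5, 2625, 2625, 1, 0, 1, 0, 49, 4, 2624, [15668, 15665, 13998, 15664, 15668]⟩) (.leaf ⟨0, 0, 0, 0, 0, 0, 0, 0, 0, 0, []⟩))))))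

def factsPart227 : ATree TFact :=
  .node (.node (.node (.node (.node (.node (.leaf ⟨8, 107, 108, 0, 0, 0, 0, 93, 0, 0, []⟩) (.leaf ⟨9, 2776, 159, 0, 0, 0, 0, 63, 2, 2775, [16834, 16833, 914]⟩)) (.node (.leaf ⟨7, 1533, 1534, 0, 0, 0, 0, 93, 0, 0, []⟩) (.leaf ⟨6, 3049, 4205, 0, 0, 0, 0, 93, 0, 0, []⟩))) (.node (.node (.leaf ⟨3, 82, 498, 0, 0, 0, 0, 36, 2, 81, [338, 329, 2576]⟩) (.leaf ⟨9, 3497, 3483, 0, 0, 0, 0, 63, 0, 3483, [20875, 20931, 20932]⟩)) (.node (.leaf ⟨5, 2046, 2027, 27, 0, 1, 0, 31, 3, 2046, [12023, 12741, 11954]⟩) (.leaf ⟨7, 1574, 2460, (-18), 0, (-4), 0, 59, 2, 1571, [29125, 14643, 16117]⟩)))) (.node (.node (.node (.leaf ⟨4, 473, 473, (-1), 0, (-1), 0, 40, 0, 473, [2459, 2500, 2458]⟩) (.leaf ⟨3, 839, 839, (-1), 0, (-1), 0, 31, 2, 841, [5345, 5824, 5345]⟩))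 (.node (.leaf ⟨8, 1786, 1759, 0, 0, 0, 0, 7, 3, 1786, [10671, 10692, 10418]⟩) (.leaf ⟨5, 4567, 4570, 0, 0, 0, 0, 48, 2, 772, [27064, 4845, 27076]⟩))) (.node (.node (.leaf ⟨7, 1036, 1036, 1, 0, (-1), 0, 56, 4, 278, [6540, 1717, 6596, 1716, 6540]⟩) (.leaf ⟨1, 3850, 3638, 0, 0, 0, 0, 18, 0, 3638, [21501, 22981, 22960]⟩)) (.node (.leaf ⟨5, 2461, 2462, 0, 0, 0, 0, 93, 0, 0, []⟩) (.leaf ⟨8, 3810, 5181, 0, 0, 0, 0, 93, 0, 0, []⟩))))) (.node (.node (.node (.node (.leaf ⟨2, 73, 73, (-1), 0, (-1), 0, 25, 0, 73, [283, 1370, 282]⟩) (.leaf ⟨8, 2927, 2918, 0, 0, 0, 0, 62, 0, 2918, [17807, 17861, 17834]⟩)) (.node (.leaf ⟨5, 266, 266, (-1), 0, 1, 0, 31, 3, 266, [1693, 9668, 1692]⟩) (.leaf ⟨7, 4376, 4295, 0, 0, 0, 0, 40, 3, 4376, [26039, 26052, 25474]⟩))) (.node (.node (.leaf ⟨4, 877,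 878, 0, 0, 0, 0, 93, 0, 0, []⟩) (.leaf ⟨6, 2793, 2793, (-1), 0, (-1), 0, 53, 0, 2793, [16937, 1260, 16936]⟩)) (.node (.leaf ⟨8, 2376, 2380, (-3), 0, 3, 0, 56, 3, 2342, [13718, 13744, 13425, 13764, 13758]⟩) (.leaf ⟨8, 4859, 5014, 0, 0, 0, 0, 41, 3, 4859, [28881, 30149, 30140]⟩)))) (.node (.node (.node (.leaf ⟨6, 628, 628, 1, 0, 1, 0, 54, 0, 628, [3493, 3468, 3492]⟩) (.leaf ⟨0, 3280, 3280, 1, 0, 1, 0, 9, 0, 3280, [19789, 19908, 19788]⟩)) (.node (.leaf ⟨1, 1929, 1920, 59, 0, 31, 0, 12, 2, 1928, [11348, 11717, 11330]⟩) (.leaf ⟨0, 4740, 4709, 0, 0, 0, 0, 7, 0, 4709, [28003, 28099, 28100]⟩))) (.node (.node (.leaf ⟨10, 1278, 1279, 0, 0, 0, 0, 93, 0, 0, []⟩) (.leaf ⟨3, 4012, 413, 0, 0, 0, 0, 37, 0, 413, [2235, 23085, 23992]⟩)) (.node (.leaf ⟨4, 2618, 2609, (-256), 0, (-26),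 0, 41, 2, 2615, [15600, 15805, 15812]⟩) (.leaf ⟨0, 0, 0, 0, 0, 0, 0, 0, 0, 0, []⟩)))))) (.node (.node (.node (.node (.node (.leaf ⟨6, 166, 167, 0, 0, 0, 0, 93, 0, 0, []⟩) (.leaf ⟨3, 2822, 2825, 0, 0, 0, 0, 35, 0, 2825, [17341, 17349, 17320]⟩)) (.node (.leaf ⟨5, 1384, 1384, (-1), 0, 1, 0, 46, 0, 1384, [8075, 9156, 8074]⟩) (.leaf ⟨2, 4299, 4299, 1, 0, (-11), 0, 25, 2, 4298, [25490, 25540, 25490]⟩))) (.node (.node (.leaf ⟨10, 739, 739, (-1), 0, (-1), 0, 49, 5, 739, [4603, 4225, 5060, 4224, 4602]⟩) (.leaf ⟨7, 3630, 3622, 0, 0, 0, 0, 46, 3, 3630, [21417, 21444, 21400]⟩)) (.node (.leaf ⟨7, 2298, 2303, 0, 0, 0, 0, 46, 3, 2298, [13237, 13251, 13252]⟩) (.leaf ⟨9, 4939, 4924, 0, 0, 0, 0, 48, 3, 4939, [29577, 29636, 29526]⟩)))) (.node (.node (.node (.leaf ⟨2, 557, 488, 0, 0,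 0, 0, 23, 0, 488, [2537, 3013, 3004]⟩) (.leaf ⟨6, 3197, 3198, 0, 0, 0, 0, 93, 0, 0, []⟩)) (.node (.leaf ⟨3, 1898, 1899, 0, 0, 0, 0, 93, 0, 0, []⟩) (.leaf ⟨4, 4650, 4651, 0, 0, 0, 0, 93, 0, 0, []⟩))) (.node (.node (.leaf ⟨9, 1150, 40, 0, 0, 0, 0, 48, 3, 1150, [7103, 7109, 78]⟩) (.leaf ⟨7, 2284, 3935, 0, 0, 0, 0, 93, 0, 0, []⟩)) (.node (.leaf ⟨7, 2558, 2559, 0, 0, 0, 0, 93, 0, 0, []⟩) (.leaf ⟨0, 0, 0, 0, 0, 0, 0, 0, 0, 0, []⟩))))) (.node (.node (.node (.node (.leaf ⟨9, 104, 369, 0, 0, 0, 0, 93, 0, 0, []⟩) (.leaf ⟨10, 3034, 3037, 0, 0, 0, 0, 54, 3, 3034, [18365, 18371, 18372]⟩)) (.node (.leaf ⟨10, 1558, 1732, 0, 0, 0, 0, 93, 0, 0, []⟩) (.leaf ⟨7, 2141, 4488, 0, 0, 0, 0, 93, 0, 0, []⟩))) (.node (.node (.leaf ⟨6, 955, 956, 0, 0, 0, 0, 93, 0, 0, []⟩) (.leaf ⟨2, 3698, 3767,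 0, 0, 0, 0, 26, 0, 3767, [22461, 5159, 21730]⟩)) (.node (.leaf ⟨3, 2421, 2422, 0, 0, 0, 0, 12, 3, 2421, [14261, 3122, 14276]⟩) (.leaf ⟨6, 2624, 5112, 0, 0, 0, 0, 93, 0, 0, []⟩)))) (.node (.node (.node (.leaf ⟨6, 652, 652, 1, 0, 1, 0, 45, 5, 652, [3619, 3617, 4036, 3616, 3618]⟩) (.leaf ⟨7, 3372, 3373, 0, 0, 0, 0, 93, 0, 0, []⟩)) (.node (.leaf ⟨1, 2088, 2045, 0, 0, 0, 0, 13, 0, 2045, [12021, 12229, 12208]⟩) (.leaf ⟨9, 4815, 4816, 0, 0, 0, 0, 93, 0, 0, []⟩))) (.node (.node (.leaf ⟨5, 1409, 1410, 0, 0, 0, 0, 93, 0, 0, []⟩) (.leaf ⟨11, 4102, 4103, 0, 0, 0, 0, 93, 0, 0, []⟩)) (.node (.leaf ⟨6, 2699, 2625, (-120), 0, 2, 0, 68, 4, 597, [14670, 16280, 14672, 14676, 4397, 3217, 4986, 4671, 5078, 5065, 4191, 4244, 4197, 4199, 3173, 3109, 3107, 3105, 16284, 3131, 3140, 16286,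 3127, 3134, 16288, 16290, 3135, 16293, 830, 848, 847, 853, 2780, 14038, 14042, 2780, 2770, 16294, 2782, 3136, 2772, 1912, 2844, 1914, 2202, 2157, 870, 2008, 432, 436, 3682, 3702, 1236, 3922, 9220, 5384, 9224, 16300, 14126, 16180, 16308, 14130, 4388, 16310, 5094, 4721, 4727, 3195, 4268, 4270, 4266, 4259, 4934, 14714, 4942, 16312, 4946, 14650, 16315, 16316, 4865, 14135, 16318, 4388, 16322, 3248, 15662, 15671, 16324]⟩) (.leaf ⟨0, 0, 0, 0, 0, 0, 0, 0, 0, 0, []⟩))))))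

def factsPart228 : ATree TFact :=
  .node (.node (.node (.node (.node (.node (.leaf ⟨5, 108, 109, 0, 0, 0, 0, 93, 0, 0, []⟩) (.leaf ⟨2, 2773, 2776, (-1), 0, (-5), 0, 27, 2, 177, [16818, 1198, 16839]⟩)) (.node (.leaf ⟨6, 1534, 1535, 0, 0, 0, 0, 93, 0, 0, []⟩) (.leaf ⟨7, 4148, 4205, 21, 0, 1, 0, 51, 3, 4146, [24720, 24722, 25029, 18430, 25030]⟩))) (.node (.node (.leaf ⟨6, 737, 737, (-15), 0, 9, 0, 66, 19, 101, [2030, 433, 3370, 2008, 429, 3710, 426, 3718, 396, 400, 3784, 402, 4518, 439, 2032, 3686, 437, 2010, 862, 3888, 820, 3892, 397, 3726, 387, 1358, 409, 1372, 287, 282, 4520, 4522, 4525, 4526, 4528, 3675, 3659, 3863, 4516, 4530, 4532, 4540, 4542, 4544, 3768, 434, 4546, 398, 3780, 3782, 1445, 385, 279, 1368, 1354, 826, 333, 356, 850, 4549, 4551, 3883, 4516]⟩) (.leaf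 ⟨5, 3497, 3498, 0, 0, 0, 0, 93, 0, 0, []⟩)) (.node (.leaf ⟨5, 2028, 2047, (-27), 0, (-1), 0, 23, 3, 2028, [11957, 12743, 12024]⟩) (.leaf ⟨6, 2404, 4895, 0, 0, 0, 0, 93, 0, 0, []⟩)))) (.node (.node (.node (.leaf ⟨4, 474, 474, 1, 0, 1, 0, 39, 0, 474, [2461, 2502, 2460]⟩) (.leaf ⟨4, 855, 855, (-1), 0, (-1), 0, 30, 3, 839, [5831, 18884, 18886, 5831, 18884]⟩)) (.node (.leaf ⟨8, 1787, 1760, 0, 0, 0, 0, 61, 0, 1760, [10421, 10695, 10674]⟩) (.leaf ⟨7, 4570, 4571, 0, 0, 0, 0, 93, 0, 0, []⟩))) (.node (.node (.leaf ⟨6, 1035, 1035, (-1), 0, (-1), 0, 51, 0, 1035, [6537, 6542, 6598, 6543, 6536]⟩) (.leaf ⟨1, 3851, 3639, 0, 0, 0, 0, 19, 0, 3639, [21503, 22983, 22962]⟩)) (.node (.leaf ⟨9, 2409, 2462, 0, 0, 0, 0, 48, 3, 2409, [13931, 14788, 14790]⟩) (.leaf ⟨10, 3805, 5181, 0, 0, 0,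 0, 61, 3, 3805, [22767, 22785, 31174]⟩))))) (.node (.node (.node (.node (.leaf ⟨2, 74, 74, 1, 0, 1, 0, 26, 0, 74, [285, 1478, 284]⟩) (.leaf ⟨5, 2924, 2918, (-21), 0, (-11), 0, 47, 2, 2921, [17828, 17857, 17862]⟩)) (.node (.leaf ⟨5, 715, 715, 1, 0, (-1), 0, 46, 0, 715, [4297, 9670, 4296]⟩) (.leaf ⟨7, 4377, 4296, 0, 0, 0, 0, 33, 3, 4377, [26041, 26054, 25476]⟩))) (.node (.node (.leaf ⟨10, 878, 879, 0, 0, 0, 0, 93, 0, 0, []⟩) (.leaf ⟨7, 3727, 3727, (-1), 0, (-1), 0, 51, 5, 3727, [21957, 21857, 21958, 21856, 21956]⟩)) (.node (.leaf ⟨8, 2381, 2377, 3, 0, (-3), 0, 52, 3, 2381, [13761, 13767, 13746]⟩) (.leaf ⟨8, 4860, 5015, 0, 0, 0, 0, 34, 3, 4860, [28883, 30150, 30142]⟩)))) (.node (.node (.node (.leaf ⟨7, 630, 630, 1, 0, 1, 0, 51, 5, 630, [3499, 3495, 3526, 3494, 3498]⟩)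 (.leaf ⟨2, 385, 1012, 0, 0, 0, 0, 26, 0, 1012, [6383, 5395, 2080]⟩)) (.node (.leaf ⟨2, 1929, 1979, 0, 0, 0, 0, 93, 0, 0, []⟩) (.leaf ⟨5, 4740, 4741, 0, 0, 0, 0, 93, 0, 0, []⟩))) (.node (.node (.leaf ⟨5, 1279, 1280, 0, 0, 0, 0, 93, 0, 0, []⟩) (.leaf ⟨3, 4013, 414, 0, 0, 0, 0, 33, 0, 414, [2237, 24007, 23996]⟩)) (.node (.leaf ⟨9, 2603, 2616, 0, 0, 0, 0, 8, 3, 2603, [15545, 15543, 15586]⟩) (.leaf ⟨0, 0, 0, 0, 0, 0, 0, 0, 0, 0, []⟩)))))) (.node (.node (.node (.node (.node (.leaf ⟨4, 166, 129, 0, 0, 0, 0, 40, 2, 113, [950, 479, 526]⟩) (.leaf ⟨3, 2823, 2826, 0, 0, 0, 0, 36, 0, 2826, [17343, 17351, 17324]⟩)) (.node (.leaf ⟨6, 1405, 1405, (-1), 0, 1, 0, 45, 5, 1405, [8125, 8077, 9158, 8076, 8124]⟩) (.leaf ⟨2, 4300, 4300, 1, 0, 11, 0, 24, 2, 4299, [25492, 25542, 25492]⟩)))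 (.node (.node (.leaf ⟨11, 694, 795, 0, 0, 0, 0, 93, 0, 0, []⟩) (.leaf ⟨7, 400, 3633, 0, 0, 0, 0, 93, 0, 0, []⟩)) (.node (.leaf ⟨5, 276, 2304, 0, 0, 0, 0, 93, 0, 0, []⟩) (.leaf ⟨9, 4940, 4925, 0, 0, 0, 0, 57, 3, 4940, [29579, 29638, 29528]⟩)))) (.node (.node (.node (.leaf ⟨2, 558, 489, 0, 0, 0, 0, 22, 0, 489, [2539, 3015, 3006]⟩) (.leaf ⟨5, 3198, 3199, 0, 0, 0, 0, 93, 0, 0, []⟩)) (.node (.leaf ⟨1, 1636, 1244, 0, 0, 0, 0, 18, 2, 1630, [9546, 9535, 7524]⟩) (.leaf ⟨10, 4651, 4652, 0, 0, 0, 0, 93, 0, 0, []⟩))) (.node (.node (.leaf ⟨9, 1151, 41, 0, 0, 0, 0, 57, 3, 1151, [7105, 7110, 80]⟩) (.leaf ⟨6, 3935, 3936, 0, 0, 0, 0, 93, 0, 0, []⟩)) (.node (.leaf ⟨2, 2559, 2548, 0, 0, 0, 0, 25, 0, 2548, [15225, 15301, 15302]⟩) (.leaf ⟨0, 0, 0, 0, 0, 0, 0, 0, 0, 0, []⟩))))) (.node (.node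 (.node (.node (.leaf ⟨10, 369, 370, 0, 0, 0, 0, 93, 0, 0, []⟩) (.leaf ⟨5, 3037, 3038, 0, 0, 0, 0, 93, 0, 0, []⟩)) (.node (.leaf ⟨6, 1732, 1532, 0, 0, 0, 0, 54, 0, 1532, [8643, 8787, 10182]⟩) (.leaf ⟨6, 4488, 4489, 0, 0, 0, 0, 93, 0, 0, []⟩))) (.node (.node (.leaf ⟨6, 837, 950, 0, 0, 0, 0, 53, 0, 950, [6059, 5561, 5330]⟩) (.leaf ⟨2, 3699, 3768, 0, 0, 0, 0, 23, 0, 3768, [22463, 22471, 21732]⟩)) (.node (.leaf ⟨1, 552, 2423, 0, 0, 0, 0, 93, 0, 0, []⟩) (.leaf ⟨0, 5112, 5112, 1, 0, 1, 0, 5, 0, 5112, [30663, 25150, 30662]⟩)))) (.node (.node (.node (.leaf ⟨7, 651, 651, 1, 0, (-1), 0, 51, 5, 651, [3617, 2859, 2874, 2858, 3616]⟩) (.leaf ⟨6, 3373, 3374, 0, 0, 0, 0, 93, 0, 0, []⟩)) (.node (.leaf ⟨2, 2037, 2045, (-59), 0, (-31), 0, 11, 5, 2037, [12185, 12189, 12199, 12218, 12230]⟩)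 (.leaf ⟨10, 4816, 4817, 0, 0, 0, 0, 93, 0, 0, []⟩))) (.node (.node (.leaf ⟨8, 1387, 1405, 0, 0, 0, 0, 47, 3, 1387, [8081, 8079, 8124]⟩) (.leaf ⟨5, 4103, 4101, 0, 0, 0, 0, 50, 0, 4101, [24505, 24517, 24518]⟩)) (.node (.leaf ⟨1, 1697, 782, 0, 0, 0, 0, 19, 0, 782, [4917, 8179, 9986]⟩) (.leaf ⟨0, 0, 0, 0, 0, 0, 0, 0, 0, 0, []⟩))))))

def factsPart229 : ATree TFact :=
  .node (.node (.node (.node (.node (.node (.leaf ⟨3, 106, 101, 0, 0, 0, 0, 33, 2, 105, [450, 449, 432]⟩) (.leaf ⟨2, 2777, 2774, 1, 0, 5, 0, 25, 2, 2776, [16836, 16841, 16820]⟩)) (.node (.leaf ⟨5, 1535, 1536, 0, 0, 0, 0, 93, 0, 0, []⟩) (.leaf ⟨6, 3052, 4206, 0, 0, 0, 0, 93, 0, 0, []⟩))) (.node (.node (.leaf ⟨11, 666, 666, 1, 0, 1, 0, 44, 3, 666, [3745, 4512, 3744]⟩) (.leaf ⟨9, 3289, 3499, 0, 0, 0, 0, 93, 0,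 0, []⟩)) (.node (.leaf ⟨1, 1911, 2028, 19, 0, 21, 0, 14, 2, 1912, [11305, 12589, 12745]⟩) (.leaf ⟨2, 2451, 4895, 0, 0, 0, 0, 24, 0, 4895, [29129, 14819, 14638]⟩)))) (.node (.node (.node (.leaf ⟨5, 476, 476, 1, 0, 1, 0, 38, 5, 476, [2465, 2463, 2504, 2462, 2464]⟩) (.leaf ⟨4, 3115, 3115, (-1), 0, 1, 0, 42, 2, 855, [18878, 18888, 18878]⟩)) (.node (.leaf ⟨8, 1788, 1761, 0, 0, 0, 0, 47, 3, 1788, [10677, 10696, 10422]⟩) (.leaf ⟨5, 4571, 4568, 0, 0, 0, 0, 46, 0, 4568, [27069, 27078, 27080]⟩))) (.node (.node (.leaf ⟨5, 1034, 1034, 1, 0, (-1), 0, 45, 0, 1034, [6533, 6538, 6600, 6539, 6532]⟩) (.leaf ⟨1, 3852, 3682, 0, 0, 0, 0, 14, 0, 3682, [21673, 22985, 22966]⟩)) (.node (.leaf ⟨4, 2405, 2462, 167, 0, (-69), 0, 42, 2, 2337, [13920, 14785, 14792]⟩) (.leaf ⟨9, 3809, 4475, 0, 0,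 0, 0, 63, 2, 939, [22780, 6013, 26506]⟩))))) (.node (.node (.node (.node (.leaf ⟨0, 70, 70, 1, 0, 1, 0, 0, 4, 69, [276, 275, 212, 274, 276]⟩) (.leaf ⟨9, 2922, 2930, 0, 0, 0, 0, 93, 0, 0, []⟩)) (.node (.leaf ⟨6, 717, 717, 1, 0, (-1), 0, 45, 5, 717, [4301, 4299, 9672, 4298, 4300]⟩) (.leaf ⟨7, 4378, 4380, 0, 0, 0, 0, 25, 3, 4378, [26043, 26056, 26046]⟩))) (.node (.node (.leaf ⟨11, 879, 880, 0, 0, 0, 0, 93, 0, 0, []⟩) (.leaf ⟨7, 2792, 3728, 0, 0, 0, 0, 93, 0, 0, []⟩)) (.node (.leaf ⟨1, 1987, 2382, 0, 0, 0, 0, 93, 0, 0, []⟩) (.leaf ⟨8, 4861, 5016, 0, 0, 0, 0, 26, 3, 4861, [28885, 30152, 30144]⟩)))) (.node (.node (.node (.leaf ⟨7, 631, 631, 1, 0, (-1), 0, 46, 3, 631, [3503, 3528, 3502]⟩) (.leaf ⟨2, 386, 1013, 0, 0, 0, 0, 23, 0, 1013, [6385, 19913, 2082]⟩)) (.node (.leaf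 ⟨5, 1925, 1980, 0, 0, 0, 0, 93, 0, 0, []⟩) (.leaf ⟨0, 4741, 4710, 0, 0, 0, 0, 4, 0, 4710, [28007, 28103, 28104]⟩))) (.node (.node (.leaf ⟨6, 1280, 1281, 0, 0, 0, 0, 93, 0, 0, []⟩) (.leaf ⟨3, 4014, 4015, 0, 0, 0, 0, 34, 0, 4015, [24005, 24009, 24000]⟩)) (.node (.leaf ⟨9, 2617, 2604, 0, 0, 0, 0, 63, 0, 2604, [15547, 15816, 15588]⟩) (.leaf ⟨0, 0, 0, 0, 0, 0, 0, 0, 0, 0, []⟩)))))) (.node (.node (.node (.node (.node (.leaf ⟨4, 130, 167, 0, 0, 0, 0, 39, 0, 167, [967, 968, 528]⟩) (.leaf ⟨3, 2824, 2827, 0, 0, 0, 0, 37, 0, 2827, [17345, 17353, 17326]⟩)) (.node (.leaf ⟨6, 1406, 1406, (-1), 0, (-1), 0, 39, 3, 1406, [8127, 9160, 8126]⟩) (.leaf ⟨2, 4301, 4301, 1, 0, (-11), 0, 23, 2, 4300, [25494, 25544, 25494]⟩))) (.node (.node (.leaf ⟨3, 676, 484, 0, 0, 0, 0, 36, 2, 675, [3986,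 3985, 2518]⟩) (.leaf ⟨6, 3633, 3634, 0, 0, 0, 0, 93, 0, 0, []⟩)) (.node (.leaf ⟨6, 2304, 2305, 0, 0, 0, 0, 93, 0, 0, []⟩) (.leaf ⟨9, 4941, 4926, 0, 0, 0, 0, 53, 3, 4941, [29581, 29640, 29530]⟩)))) (.node (.node (.node (.leaf ⟨3, 560, 552, 0, 0, 0, 0, 21, 5, 560, [3011, 3009, 3016, 2976, 2978]⟩) (.leaf ⟨4, 3199, 3200, 0, 0, 0, 0, 93, 0, 0, []⟩)) (.node (.leaf ⟨1, 1245, 1893, 0, 0, 0, 0, 19, 0, 1893, [11195, 11208, 7526]⟩) (.leaf ⟨7, 4649, 4334, 0, 0, 0, 0, 51, 3, 2663, [27584, 27586, 15945, 25668, 25672]⟩))) (.node (.node (.leaf ⟨9, 1152, 42, 0, 0, 0, 0, 53, 3, 1152, [7107, 7112, 82]⟩) (.leaf ⟨5, 3936, 3937, 0, 0, 0, 0, 93, 0, 0, []⟩)) (.node (.leaf ⟨11, 2048, 2560, 0, 0, 0, 0, 93, 0, 0, []⟩) (.leaf ⟨0, 0, 0, 0, 0, 0, 0, 0, 0, 0, []⟩))))) (.node (.node (.node (.node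 (.leaf ⟨11, 370, 371, 0, 0, 0, 0, 93, 0, 0, []⟩) (.leaf ⟨10, 3038, 3039, 0, 0, 0, 0, 93, 0, 0, []⟩)) (.node (.leaf ⟨11, 1732, 1733, 0, 0, 0, 0, 93, 0, 0, []⟩) (.leaf ⟨5, 4489, 4490, 0, 0, 0, 0, 93, 0, 0, []⟩))) (.node (.node (.leaf ⟨6, 838, 951, 0, 0, 0, 0, 54, 0, 951, [6063, 6089, 5334]⟩) (.leaf ⟨2, 3705, 3769, 0, 0, 0, 0, 22, 0, 3769, [22465, 22473, 21776]⟩)) (.node (.leaf ⟨5, 2422, 2423, 0, 0, 0, 0, 14, 3, 2422, [14277, 2986, 14280]⟩) (.leaf ⟨2, 5112, 5112, 1, 0, (-1), 0, 24, 2, 2624, [30662, 15674, 30662]⟩)))) (.node (.node (.node (.leaf ⟨7, 652, 652, 1, 0, 1, 0, 46, 3, 652, [3619, 4040, 3618]⟩) (.leaf ⟨4, 3372, 3368, 0, 0, 0, 0, 43, 2, 3371, [20420, 20419, 20400]⟩)) (.node (.leaf ⟨3, 2047, 2039, 59, 0, (-31), 0, 21, 3, 2045, [12022, 12024, 12233, 12006, 12008]⟩)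 (.leaf ⟨7, 4817, 4818, 0, 0, 0, 0, 93, 0, 0, []⟩))) (.node (.node (.leaf ⟨8, 1406, 1388, 0, 0, 0, 0, 41, 3, 1406, [8127, 8137, 8082]⟩) (.leaf ⟨10, 3504, 4104, 0, 0, 0, 0, 93, 0, 0, []⟩)) (.node (.leaf ⟨1, 2704, 2698, 0, 0, 0, 0, 20, 0, 2698, [16169, 16329, 16258]⟩) (.leaf ⟨0, 0, 0, 0, 0, 0, 0, 0, 0, 0, []⟩))))))

def factsPart230 : ATree TFact :=
  .node (.node (.node (.node (.node (.node (.leaf ⟨3, 102, 107, 0, 0, 0, 0, 32, 0, 107, [453, 458, 436]⟩) (.leaf ⟨7, 2775, 2778, 0, 0, 0, 0, 93, 0, 0, []⟩)) (.node (.leaf ⟨4, 1536, 1537, 0, 0, 0, 0, 93, 0, 0, []⟩) (.leaf ⟨8, 4206, 4205, (-47), 0, (-11), 0, 52, 3, 4206, [25035, 18465, 25030]⟩))) (.node (.node (.leaf ⟨6, 536, 536, 1, 0, (-1), 0, 24, 3, 536, [2863, 3906, 2862]⟩) (.leaf ⟨7, 3499, 3500, 0, 0, 0, 0, 93, 0, 0, []⟩))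 (.node (.leaf ⟨0, 2020, 1879, (-19), 0, 21, 0, 0, 4, 2019, [11926, 11986, 12747, 11313, 11295]⟩) (.leaf ⟨4, 1416, 1416, (-1), 0, 1, 0, 43, 0, 1416, [8161, 10384, 8160]⟩)))) (.node (.node (.node (.leaf ⟨10, 478, 478, 1, 0, 1, 0, 49, 5, 478, [2469, 2467, 2506, 2466, 2468]⟩) (.leaf ⟨3, 823, 3115, 0, 0, 0, 0, 35, 0, 3115, [18879, 18885, 5272]⟩)) (.node (.leaf ⟨8, 1634, 1762, (-73), 0, (-33), 0, 56, 3, 1648, [9588, 9542, 10691, 10698, 10424]⟩) (.leaf ⟨9, 2127, 4572, 0, 0, 0, 0, 93, 0, 0, []⟩))) (.node (.node (.leaf ⟨4, 1032, 1032, (-1), 0, (-1), 0, 38, 0, 1032, [6525, 6535, 6602, 6534, 6524]⟩) (.leaf ⟨1, 2258, 2258, (-1), 0, (-1), 0, 17, 0, 2258, [13055, 4368, 13054]⟩)) (.node (.leaf ⟨6, 2400, 2462, 194, 0, (-68), 0, 39, 3, 2400, [13915, 13916, 14794]⟩) (.leaf ⟨4, 3809,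 3809, 1, 0, 1, 0, 42, 2, 4475, [31179, 26522, 31179]⟩))))) (.node (.node (.node (.node (.leaf ⟨0, 71, 71, (-1), 0, (-1), 0, 1, 0, 71, [279, 1482, 278]⟩) (.leaf ⟨0, 2930, 2931, 0, 0, 0, 0, 93, 0, 0, []⟩)) (.node (.leaf ⟨6, 718, 718, 1, 0, 1, 0, 39, 3, 718, [4303, 9674, 4302]⟩) (.leaf ⟨7, 4379, 4381, 0, 0, 0, 0, 58, 0, 4381, [26049, 26059, 26044]⟩))) (.node (.node (.leaf ⟨9, 878, 881, 0, 0, 0, 0, 93, 0, 0, []⟩) (.leaf ⟨10, 3728, 3719, 21, 0, 1, 0, 58, 3, 3728, [21963, 16951, 21856]⟩)) (.node (.leaf ⟨10, 2382, 2383, 0, 0, 0, 0, 93, 0, 0, []⟩) (.leaf ⟨8, 4862, 5017, 0, 0, 0, 0, 61, 0, 5017, [30147, 30155, 28886]⟩)))) (.node (.node (.node (.leaf ⟨7, 633, 633, 1, 0, 1, 0, 40, 3, 633, [3509, 3530, 3508]⟩) (.leaf ⟨2, 1015, 387, 21, 0, 1, 0, 22, 2, 1013, [6399, 19915, 2084]⟩))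 (.node (.leaf ⟨4, 1980, 1981, 0, 0, 0, 0, 93, 0, 0, []⟩) (.leaf ⟨4, 4741, 4742, 0, 0, 0, 0, 93, 0, 0, []⟩))) (.node (.node (.leaf ⟨4, 1281, 1282, 0, 0, 0, 0, 93, 0, 0, []⟩) (.leaf ⟨5, 3907, 4015, 0, 0, 0, 0, 47, 0, 4015, [24005, 2259, 23324]⟩)) (.node (.leaf ⟨9, 2618, 2605, 0, 0, 0, 0, 48, 3, 2618, [15599, 15818, 15558]⟩) (.leaf ⟨0, 0, 0, 0, 0, 0, 0, 0, 0, 0, []⟩)))))) (.node (.node (.node (.node (.node (.leaf ⟨3, 167, 116, 0, 0, 0, 0, 32, 0, 116, [491, 952, 966]⟩) (.leaf ⟨9, 1013, 2828, 0, 0, 0, 0, 93, 0, 0, []⟩)) (.node (.leaf ⟨6, 1407, 1407, (-1), 0, 1, 0, 32, 3, 1407, [8129, 9162, 8128]⟩) (.leaf ⟨2, 4302, 4302, 1, 0, 11, 0, 22, 2, 4301, [25496, 25546, 25496]⟩))) (.node (.node (.leaf ⟨3, 655, 485, 27, 0, (-1), 0, 31, 0, 485, [2521, 5067, 4096]⟩) (.leaf ⟨8, 3634,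 3635, 0, 0, 0, 0, 93, 0, 0, []⟩)) (.node (.leaf ⟨7, 2305, 2306, 0, 0, 0, 0, 93, 0, 0, []⟩) (.leaf ⟨7, 4937, 4926, (-254), 0, (-28), 0, 57, 2, 4932, [29572, 29635, 29642]⟩)))) (.node (.node (.node (.leaf ⟨10, 560, 561, 0, 0, 0, 0, 93, 0, 0, []⟩) (.leaf ⟨10, 3200, 3201, 0, 0, 0, 0, 93, 0, 0, []⟩)) (.node (.leaf ⟨1, 1246, 1894, 0, 0, 0, 0, 14, 0, 1894, [11197, 11211, 7528]⟩) (.leaf ⟨7, 4335, 4650, 0, 0, 0, 0, 46, 3, 4335, [25675, 27595, 27588]⟩))) (.node (.node (.leaf ⟨3, 756, 1153, 0, 0, 0, 0, 93, 0, 0, []⟩) (.leaf ⟨4, 3937, 3938, 0, 0, 0, 0, 93, 0, 0, []⟩)) (.node (.leaf ⟨7, 2560, 2561, 0, 0, 0, 0, 93, 0, 0, []⟩) (.leaf ⟨0, 0, 0, 0, 0, 0, 0, 0, 0, 0, []⟩))))) (.node (.node (.node (.node (.leaf ⟨7, 371, 372, 0, 0, 0, 0, 93, 0, 0, []⟩) (.leaf ⟨5, 3036, 3039, 0, 0, 0,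 0, 49, 4, 3035, [18368, 18367, 18374, 18376, 18378]⟩)) (.node (.leaf ⟨6, 1733, 1729, 0, 0, 0, 0, 55, 0, 1729, [10171, 10185, 10186]⟩) (.leaf ⟨4, 4490, 4491, 0, 0, 0, 0, 93, 0, 0, []⟩))) (.node (.node (.leaf ⟨7, 956, 954, 0, 0, 0, 0, 51, 5, 956, [6087, 6085, 6090, 6066, 6082]⟩) (.leaf ⟨2, 3706, 3770, 0, 0, 0, 0, 25, 0, 3770, [22467, 22475, 21778]⟩)) (.node (.leaf ⟨1, 730, 2424, 0, 0, 0, 0, 93, 0, 0, []⟩) (.leaf ⟨3, 5112, 2452, 0, 0, 0, 0, 32, 0, 2452, [14647, 15667, 30662]⟩)))) (.node (.node (.node (.leaf ⟨11, 486, 486, 1, 0, (-1), 0, 59, 3, 486, [2533, 3950, 2532]⟩) (.leaf ⟨4, 3369, 3373, 0, 0, 0, 0, 40, 0, 3373, [20423, 20426, 20402]⟩)) (.node (.leaf ⟨3, 2082, 2089, 0, 0, 0, 0, 93, 0, 0, []⟩) (.leaf ⟨6, 4818, 4819, 0, 0, 0, 0, 93, 0, 0, []⟩))) (.node (.node (.leaf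 ⟨8, 1407, 1389, 0, 0, 0, 0, 34, 3, 1407, [8129, 8138, 8084]⟩) (.leaf ⟨11, 4104, 4105, 0, 0, 0, 0, 93, 0, 0, []⟩)) (.node (.leaf ⟨1, 2705, 2699, 0, 0, 0, 0, 14, 0, 2699, [16193, 16331, 16260]⟩) (.leaf ⟨0, 0, 0, 0, 0, 0, 0, 0, 0, 0, []⟩))))))

def factsPart231 : ATree TFact :=
  .node (.node (.node (.node (.node (.node (.leaf ⟨3, 103, 108, 0, 0, 0, 0, 34, 0, 108, [455, 461, 440]⟩) (.leaf ⟨10, 2777, 2778, 0, 0, 0, 0, 58, 3, 2777, [16837, 16835, 16844]⟩)) (.node (.leaf ⟨3, 1537, 1538, 0, 0, 0, 0, 93, 0, 0, []⟩) (.leaf ⟨6, 3054, 4207, 0, 0, 0, 0, 93, 0, 0, []⟩))) (.node (.node (.leaf ⟨7, 536, 536, 1, 0, (-1), 0, 25, 3, 536, [2863, 3904, 2862]⟩) (.leaf ⟨6, 3500, 3501, 0, 0, 0, 0, 93, 0, 0, []⟩)) (.node (.leaf ⟨10, 1876, 2193, 0, 0, 0, 0, 93, 0, 0, []⟩) (.leaf ⟨7, 505, 1691,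 0, 0, 0, 0, 58, 0, 1691, [9939, 6703, 2654]⟩)))) (.node (.node (.node (.leaf ⟨7, 471, 480, 0, 0, 0, 0, 93, 0, 0, []⟩) (.leaf ⟨5, 823, 823, 1, 0, 1, 0, 48, 0, 823, [5273, 5528, 5272]⟩)) (.node (.leaf ⟨8, 1763, 1635, 73, 0, 33, 0, 52, 3, 1763, [10427, 10701, 9544]⟩) (.leaf ⟨6, 4572, 4570, 0, 0, 0, 0, 53, 0, 4570, [27077, 12330, 27084]⟩))) (.node (.node (.leaf ⟨7, 276, 1038, 0, 0, 0, 0, 93, 0, 0, []⟩) (.leaf ⟨1, 2259, 2259, 1, 0, 1, 0, 14, 0, 2259, [13057, 22988, 13056]⟩)) (.node (.leaf ⟨1, 1496, 1395, 0, 0, 0, 0, 18, 2, 1495, [8554, 8553, 8096]⟩) (.leaf ⟨4, 3810, 3810, 1, 0, (-1), 0, 40, 2, 3809, [22782, 31180, 22782]⟩))))) (.node (.node (.node (.node (.leaf ⟨0, 72, 72, 1, 0, 1, 0, 2, 0, 72, [281, 1484, 280]⟩) (.leaf ⟨10, 2931, 2932, 0, 0, 0, 0, 93, 0, 0, []⟩)) (.node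 (.leaf ⟨4, 715, 715, 1, 0, (-1), 0, 40, 0, 715, [4297, 9152, 4296]⟩) (.leaf ⟨5, 4338, 4382, 0, 0, 0, 0, 93, 0, 0, []⟩))) (.node (.node (.leaf ⟨10, 881, 882, 0, 0, 0, 0, 93, 0, 0, []⟩) (.leaf ⟨6, 3728, 3729, 0, 0, 0, 0, 93, 0, 0, []⟩)) (.node (.leaf ⟨5, 2383, 2384, 0, 0, 0, 0, 93, 0, 0, []⟩) (.leaf ⟨7, 5017, 5018, 0, 0, 0, 0, 93, 0, 0, []⟩)))) (.node (.node (.node (.leaf ⟨7, 635, 635, 1, 0, (-1), 0, 33, 3, 635, [3515, 3532, 3514]⟩) (.leaf ⟨1, 394, 189, 0, 0, 0, 0, 19, 0, 189, [1317, 1203, 2098]⟩)) (.node (.leaf ⟨3, 1981, 1982, 0, 0, 0, 0, 93, 0, 0, []⟩) (.leaf ⟨0, 4742, 4711, 0, 0, 0, 0, 3, 0, 4711, [28011, 28107, 28108]⟩))) (.node (.node (.leaf ⟨5, 1282, 1283, 0, 0, 0, 0, 93, 0, 0, []⟩) (.leaf ⟨7, 3903, 4016, 0, 0, 0, 0, 93, 0, 0, []⟩)) (.node (.leaf ⟨4, 2613, 2605,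 256, 0, 26, 0, 42, 2, 2609, [15580, 15815, 15820]⟩) (.leaf ⟨0, 0, 0, 0, 0, 0, 0, 0, 0, 0, []⟩)))))) (.node (.node (.node (.node (.node (.leaf ⟨10, 119, 119, 1, 0, (-1), 0, 58, 3, 119, [501, 702, 500]⟩) (.leaf ⟨10, 2828, 2829, 0, 0, 0, 0, 93, 0, 0, []⟩)) (.node (.leaf ⟨6, 1408, 1408, (-1), 0, (-1), 0, 24, 3, 1408, [8131, 9164, 8130]⟩) (.leaf ⟨10, 4302, 4307, 0, 0, 0, 0, 93, 0, 0, []⟩))) (.node (.node (.leaf ⟨3, 733, 795, 0, 0, 0, 0, 37, 0, 795, [5065, 4664, 4426]⟩) (.leaf ⟨10, 3536, 3633, 0, 0, 0, 0, 58, 3, 3536, [21061, 2183, 21448]⟩)) (.node (.leaf ⟨5, 2300, 2305, 0, 0, 0, 0, 45, 4, 2294, [13244, 13203, 6468, 13256, 13258]⟩) (.leaf ⟨10, 4922, 4937, 79, 0, (-19), 0, 58, 1, 4926, [29542, 29522, 29645]⟩)))) (.node (.node (.node (.leaf ⟨3, 561, 555, 0, 0, 0, 0, 36, 0,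 555, [3001, 3019, 3020]⟩) (.leaf ⟨10, 3199, 3202, 0, 0, 0, 0, 93, 0, 0, []⟩)) (.node (.leaf ⟨1, 1247, 1895, 0, 0, 0, 0, 16, 0, 1895, [11199, 11213, 7530]⟩) (.leaf ⟨7, 4646, 4651, 0, 0, 0, 0, 40, 3, 4646, [27577, 27596, 27590]⟩))) (.node (.node (.leaf ⟨2, 1153, 1154, 0, 0, 0, 0, 93, 0, 0, []⟩) (.leaf ⟨8, 3936, 3939, 0, 0, 0, 0, 93, 0, 0, []⟩)) (.node (.leaf ⟨6, 2561, 2562, 0, 0, 0, 0, 93, 0, 0, []⟩) (.leaf ⟨0, 0, 0, 0, 0, 0, 0, 0, 0, 0, []⟩))))) (.node (.node (.node (.node (.leaf ⟨6, 372, 373, 0, 0, 0, 0, 93, 0, 0, []⟩) (.leaf ⟨5, 404, 3040, 0, 0, 0, 0, 93, 0, 0, []⟩)) (.node (.leaf ⟨5, 1732, 1732, (-1), 0, (-1), 0, 49, 0, 1732, [10183, 8813, 8838, 8812, 10182]⟩) (.leaf ⟨3, 4491, 4492, 0, 0, 0, 0, 93, 0, 0, []⟩))) (.node (.node (.leaf ⟨7, 837, 957, 0, 0, 0, 0, 93, 0,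 0, []⟩) (.leaf ⟨2, 3707, 3771, 0, 0, 0, 0, 24, 0, 3771, [22469, 22477, 21780]⟩)) (.node (.leaf ⟨6, 2423, 2424, 0, 0, 0, 0, 15, 3, 2423, [14281, 9188, 14284]⟩) (.leaf ⟨7, 1617, 1617, 1, 0, 1, 0, 46, 3, 1617, [9235, 9242, 9234]⟩)))) (.node (.node (.node (.leaf ⟨11, 487, 487, 1, 0, 1, 0, 55, 3, 487, [2535, 4044, 2534]⟩) (.leaf ⟨4, 3370, 3374, 0, 0, 0, 0, 39, 0, 3374, [20425, 20429, 20404]⟩)) (.node (.leaf ⟨7, 1961, 2090, 0, 0, 0, 0, 93, 0, 0, []⟩) (.leaf ⟨4, 4801, 4815, 0, 0, 0, 0, 13, 3, 4801, [28555, 8504, 28612]⟩))) (.node (.node (.leaf ⟨8, 1408, 1390, 0, 0, 0, 0, 26, 3, 1408, [8131, 8140, 8086]⟩) (.leaf ⟨4, 4104, 4102, 0, 0, 0, 0, 43, 2, 3504, [24522, 20949, 24508]⟩)) (.node (.leaf ⟨6, 2706, 2705, 120, 0, (-2), 0, 15, 3, 2706, [16274, 16327, 16333]⟩) (.leaf ⟨0, 0,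 0, 0, 0, 0, 0, 0, 0, 0, []⟩))))))

def factsPart232 : ATree TFact :=
  .node (.node (.node (.node (.node (.node (.leaf ⟨3, 104, 109, 0, 0, 0, 0, 31, 0, 109, [457, 463, 444]⟩) (.leaf ⟨8, 125, 2779, 0, 0, 0, 0, 93, 0, 0, []⟩)) (.node (.leaf ⟨10, 1538, 1539, 0, 0, 0, 0, 93, 0, 0, []⟩) (.leaf ⟨10, 4207, 4206, 0, 0, 0, 0, 54, 3, 4207, [25039, 18446, 25034]⟩))) (.node (.node (.leaf ⟨4, 498, 498, (-1), 0, (-1), 0, 43, 0, 498, [2577, 3872, 2576]⟩) (.leaf ⟨8, 3501, 3502, 0, 0, 0, 0, 93, 0, 0, []⟩)) (.node (.leaf ⟨2, 1907, 2193, 0, 0, 0, 0, 28, 2, 1877, [11288, 11125, 12750]⟩) (.leaf ⟨6, 1691, 1691, (-1), 0, (-1), 0, 54, 0, 1691, [9939, 13658, 9938]⟩)))) (.node (.node (.node (.leaf ⟨6, 480, 481, 0, 0, 0, 0, 93, 0, 0, []⟩) (.leaf ⟨8, 495, 3116, 0, 0, 0, 0, 93, 0, 0, []⟩)) (.node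 (.leaf ⟨9, 1497, 1759, 0, 0, 0, 0, 8, 3, 1497, [8557, 8555, 10418]⟩) (.leaf ⟨8, 628, 628, (-1), 0, 1, 0, 61, 0, 628, [3493, 24064, 3492]⟩))) (.node (.node (.leaf ⟨6, 1038, 1039, 0, 0, 0, 0, 93, 0, 0, []⟩) (.leaf ⟨1, 3847, 3847, (-1), 0, (-1), 0, 18, 0, 3847, [22955, 22990, 22954]⟩)) (.node (.leaf ⟨1, 1396, 2322, 0, 0, 0, 0, 19, 0, 2322, [13349, 14798, 8098]⟩) (.leaf ⟨4, 5181, 5181, 1, 0, 1, 0, 41, 2, 3810, [31174, 31182, 31174]⟩))))) (.node (.node (.node (.node (.leaf ⟨0, 73, 73, (-1), 0, (-1), 0, 6, 0, 73, [283, 1486, 282]⟩) (.leaf ⟨9, 2931, 2923, 0, 0, 0, 0, 8, 3, 2931, [17869, 17867, 17820]⟩)) (.node (.leaf ⟨4, 716, 716, (-1), 0, 1, 0, 39, 0, 716, [4299, 9678, 4298]⟩) (.leaf ⟨4, 4382, 4383, 0, 0, 0, 0, 93, 0, 0, []⟩))) (.node (.node (.leaf ⟨11, 882, 883, 0, 0, 0,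 0, 93, 0, 0, []⟩) (.leaf ⟨10, 3727, 3729, (-21), 0, (-1), 0, 54, 3, 3727, [21957, 21965, 21966]⟩)) (.node (.leaf ⟨6, 2384, 2385, 0, 0, 0, 0, 93, 0, 0, []⟩) (.leaf ⟨8, 4746, 5018, (-128), 0, 28, 0, 56, 3, 4751, [28146, 28124, 30135, 30156, 30158]⟩)))) (.node (.node (.node (.leaf ⟨7, 637, 637, 1, 0, 1, 0, 25, 3, 637, [3521, 3534, 3520]⟩) (.leaf ⟨1, 1015, 2137, 0, 0, 0, 0, 20, 0, 2137, [12371, 19919, 6392]⟩)) (.node (.leaf ⟨2, 1982, 1983, 0, 0, 0, 0, 93, 0, 0, []⟩) (.leaf ⟨10, 4742, 4743, 0, 0, 0, 0, 93, 0, 0, []⟩))) (.node (.node (.leaf ⟨2, 1171, 1284, 0, 0, 0, 0, 93, 0, 0, []⟩) (.leaf ⟨10, 4016, 3904, 0, 0, 0, 0, 58, 3, 4016, [24015, 23305, 23316]⟩)) (.node (.leaf ⟨3, 2343, 2634, (-89), 0, 5, 0, 30, 4, 2407, [14783, 14781, 14529, 15802, 15805]⟩) (.leaf ⟨0, 0, 0, 0,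 0, 0, 0, 0, 0, 0, []⟩)))))) (.node (.node (.node (.node (.node (.leaf ⟨10, 120, 120, 1, 0, 1, 0, 54, 3, 120, [503, 974, 502]⟩) (.leaf ⟨11, 2790, 2828, 0, 0, 0, 0, 64, 3, 2790, [16927, 13154, 17356]⟩)) (.node (.leaf ⟨11, 445, 445, 1, 0, 1, 0, 55, 3, 445, [2385, 4904, 2384]⟩) (.leaf ⟨7, 4297, 4308, 0, 0, 0, 0, 93, 0, 0, []⟩))) (.node (.node (.leaf ⟨2, 739, 795, (-27), 0, (-1), 0, 21, 4, 738, [4604, 4600, 5069, 4431, 5070]⟩) (.leaf ⟨10, 3634, 3537, 0, 0, 0, 0, 54, 3, 3634, [21451, 21455, 21062]⟩)) (.node (.leaf ⟨5, 2301, 2306, 0, 0, 0, 0, 46, 0, 2306, [13261, 13263, 13246]⟩) (.leaf ⟨7, 4934, 4951, 0, 0, 0, 0, 93, 0, 0, []⟩)))) (.node (.node (.node (.leaf ⟨5, 408, 562, 0, 0, 0, 0, 93, 0, 0, []⟩) (.leaf ⟨4, 3201, 3202, 0, 0, 0, 0, 43, 2, 3200, [19404, 19403, 19406]⟩)) (.node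 (.leaf ⟨1, 1248, 1896, 0, 0, 0, 0, 15, 0, 1896, [11201, 11215, 7532]⟩) (.leaf ⟨7, 4647, 4652, 0, 0, 0, 0, 58, 0, 4652, [27593, 27599, 27578]⟩))) (.node (.node (.leaf ⟨10, 1154, 1155, 0, 0, 0, 0, 93, 0, 0, []⟩) (.leaf ⟨5, 3939, 3940, 0, 0, 0, 0, 93, 0, 0, []⟩)) (.node (.leaf ⟨5, 2562, 2563, 0, 0, 0, 0, 93, 0, 0, []⟩) (.leaf ⟨0, 0, 0, 0, 0, 0, 0, 0, 0, 0, []⟩))))) (.node (.node (.node (.node (.leaf ⟨5, 373, 374, 0, 0, 0, 0, 93, 0, 0, []⟩) (.leaf ⟨10, 3040, 3041, 0, 0, 0, 0, 93, 0, 0, []⟩)) (.node (.leaf ⟨5, 1733, 1733, 1, 0, 1, 0, 50, 0, 1733, [10187, 10190, 10186]⟩) (.leaf ⟨2, 4492, 4493, 0, 0, 0, 0, 93, 0, 0, []⟩))) (.node (.node (.leaf ⟨6, 957, 958, 0, 0, 0, 0, 93, 0, 0, []⟩) (.leaf ⟨8, 923, 3772, 0, 0, 0, 0, 93, 0, 0, []⟩)) (.node (.leaf ⟨10, 1709, 2425, 0, 0, 0,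 0, 93, 0, 0, []⟩) (.leaf ⟨11, 128, 5113, 0, 0, 0, 0, 93, 0, 0, []⟩)))) (.node (.node (.node (.leaf ⟨5, 491, 491, (-1), 0, 1, 0, 46, 0, 491, [2551, 2496, 2550]⟩) (.leaf ⟨5, 3374, 3375, 0, 0, 0, 0, 93, 0, 0, []⟩)) (.node (.leaf ⟨6, 2090, 2091, 0, 0, 0, 0, 93, 0, 0, []⟩) (.leaf ⟨4, 4806, 4816, 0, 0, 0, 0, 42, 0, 4816, [28615, 28623, 28564]⟩))) (.node (.node (.leaf ⟨8, 1409, 1391, 0, 0, 0, 0, 61, 0, 1391, [8089, 8143, 8132]⟩) (.leaf ⟨4, 4103, 4105, 0, 0, 0, 0, 44, 0, 4105, [24525, 24526, 24518]⟩)) (.node (.leaf ⟨11, 1049, 1049, 1, 0, (-1), 0, 55, 3, 1049, [6647, 9974, 6646]⟩) (.leaf ⟨0, 0, 0, 0, 0, 0, 0, 0, 0, 0, []⟩))))))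

def factsPart233 : ATree TFact :=
  .node (.node (.node (.node (.node (.node (.leaf ⟨5, 107, 110, 0, 0, 0, 0, 93, 0, 0, []⟩) (.leaf ⟨6, 157, 2779, 0, 0, 0, 0, 52, 2, 126, [910, 521, 16848]⟩)) (.node (.leaf ⟨7, 1535, 208, 0, 0, 0, 0, 51, 3, 1533, [8646, 8648, 8645, 1496, 1498]⟩) (.leaf ⟨6, 3055, 4208, 0, 0, 0, 0, 93, 0, 0, []⟩))) (.node (.node (.leaf ⟨4, 499, 499, 1, 0, 1, 0, 44, 0, 499, [2581, 4560, 2580]⟩) (.leaf ⟨5, 3502, 3503, 0, 0, 0, 0, 93, 0, 0, []⟩)) (.node (.leaf ⟨3, 2193, 237, 0, 0, 0, 0, 36, 2, 1876, [12750, 11123, 1578]⟩) (.leaf ⟨10, 1051, 1051, (-1), 0, (-1), 0, 54, 3, 1051, [6651, 13520, 6650]⟩)))) (.node (.node (.node (.leaf ⟨5, 481, 482, 0, 0, 0, 0, 93, 0, 0, []⟩) (.leaf ⟨6, 822, 3116, 0, 0, 0, 0, 52, 2, 496, [5268, 2567, 18896]⟩)) (.node (.leaf ⟨9,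 1760, 1498, 0, 0, 0, 0, 63, 0, 1498, [8559, 10704, 10420]⟩) (.leaf ⟨8, 639, 639, (-1), 0, (-1), 0, 47, 3, 639, [3539, 27088, 3538]⟩))) (.node (.node (.leaf ⟨8, 1039, 1040, 0, 0, 0, 0, 93, 0, 0, []⟩) (.leaf ⟨1, 3848, 3848, 1, 0, 1, 0, 19, 0, 3848, [22957, 22992, 22956]⟩)) (.node (.leaf ⟨1, 2461, 2323, 0, 0, 0, 0, 20, 0, 2323, [13351, 14801, 14786]⟩) (.leaf ⟨4, 3805, 3805, 1, 0, (-1), 0, 43, 2, 5181, [31177, 31184, 31177]⟩))))) (.node (.node (.node (.node (.leaf ⟨0, 74, 74, 1, 0, 1, 0, 7, 0, 74, [285, 1488, 284]⟩) (.leaf ⟨9, 2924, 2932, 0, 0, 0, 0, 63, 0, 2932, [17871, 17872, 17822]⟩)) (.node (.leaf ⟨5, 718, 718, (-1), 0, 1, 0, 38, 5, 718, [4303, 4301, 9680, 4300, 4302]⟩) (.leaf ⟨3, 4383, 4384, 0, 0, 0, 0, 93, 0, 0, []⟩))) (.node (.node (.leaf ⟨9, 882, 879, 0, 0, 0,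 0, 63, 2, 881, [5582, 5581, 5576]⟩) (.leaf ⟨6, 2777, 3730, 0, 0, 0, 0, 93, 0, 0, []⟩)) (.node (.leaf ⟨6, 2382, 1220, 0, 0, 0, 0, 15, 3, 2382, [13771, 11772, 7432]⟩) (.leaf ⟨0, 5018, 4734, 128, 0, 28, 0, 7, 0, 4734, [28073, 28127, 30160]⟩)))) (.node (.node (.node (.leaf ⟨5, 628, 639, 0, 0, 0, 0, 93, 0, 0, []⟩) (.leaf ⟨2, 2137, 2137, 1, 0, (-1), 0, 11, 3, 387, [19917, 19920, 2144, 19917, 19920]⟩)) (.node (.leaf ⟨2, 996, 1984, 0, 0, 0, 0, 93, 0, 0, []⟩) (.leaf ⟨0, 4743, 4712, 0, 0, 0, 0, 9, 0, 4712, [28015, 28111, 28112]⟩))) (.node (.node (.leaf ⟨10, 1284, 1285, 0, 0, 0, 0, 93, 0, 0, []⟩) (.leaf ⟨11, 3903, 3903, 1, 0, (-1), 0, 65, 5, 3903, [23305, 21607, 21486, 21606, 23304]⟩)) (.node (.leaf ⟨3, 2609, 2337, 89, 0, (-5), 0, 34, 2, 2634, [15812, 15825, 13720]⟩) (.leaf ⟨0,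 0, 0, 0, 0, 0, 0, 0, 0, 0, []⟩)))))) (.node (.node (.node (.node (.node (.leaf ⟨6, 118, 118, (-1), 0, 1, 0, 24, 3, 118, [499, 934, 498]⟩) (.leaf ⟨4, 2828, 391, (-21), 0, (-1), 0, 44, 0, 391, [2093, 16945, 17360]⟩)) (.node (.leaf ⟨11, 446, 446, 1, 0, (-1), 0, 59, 3, 446, [2387, 9168, 2386]⟩) (.leaf ⟨6, 4308, 4309, 0, 0, 0, 0, 93, 0, 0, []⟩))) (.node (.node (.leaf ⟨11, 729, 739, 27, 0, (-1), 0, 29, 1, 795, [5065, 4411, 5073]⟩) (.leaf ⟨10, 3635, 3538, 0, 0, 0, 0, 61, 3, 3635, [21453, 21456, 21064]⟩)) (.node (.leaf ⟨6, 2306, 2307, 0, 0, 0, 0, 93, 0, 0, []⟩) (.leaf ⟨6, 4951, 4952, 0, 0, 0, 0, 93, 0, 0, []⟩)))) (.node (.node (.node (.leaf ⟨4, 562, 563, 0, 0, 0, 0, 93, 0, 0, []⟩) (.leaf ⟨1, 1659, 609, 0, 0, 0, 0, 16, 0, 609, [3309, 1955, 9684]⟩)) (.node (.leaf ⟨1, 1275, 1897,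 0, 0, 0, 0, 14, 0, 1897, [11203, 11217, 7614]⟩) (.leaf ⟨2, 4290, 2663, 0, 0, 0, 0, 24, 0, 2663, [15945, 25697, 25440]⟩))) (.node (.node (.leaf ⟨5, 1155, 1156, 0, 0, 0, 0, 93, 0, 0, []⟩) (.leaf ⟨8, 3940, 3937, 0, 0, 0, 0, 47, 3, 3940, [23505, 23503, 23498]⟩)) (.node (.leaf ⟨4, 2563, 2564, 0, 0, 0, 0, 93, 0, 0, []⟩) (.leaf ⟨0, 0, 0, 0, 0, 0, 0, 0, 0, 0, []⟩))))) (.node (.node (.node (.node (.leaf ⟨10, 374, 375, 0, 0, 0, 0, 93, 0, 0, []⟩) (.leaf ⟨7, 3040, 3040, 1, 0, (-1), 0, 46, 3, 3040, [18383, 2218, 18382]⟩)) (.node (.leaf ⟨6, 1730, 1730, 1, 0, 1, 0, 45, 5, 1730, [10173, 10189, 10192, 10188, 10172]⟩) (.leaf ⟨7, 4489, 3494, 0, 0, 0, 0, 51, 5, 4489, [26569, 26567, 24788, 20894, 20896]⟩))) (.node (.node (.leaf ⟨10, 955, 957, 0, 0, 0, 0, 58, 3, 955, [6085, 5335, 6094]⟩)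 (.leaf ⟨5, 3772, 3773, 0, 0, 0, 0, 93, 0, 0, []⟩)) (.node (.leaf ⟨10, 1714, 2424, 27, 0, 1, 0, 19, 3, 1714, [10247, 4417, 14284]⟩) (.leaf ⟨2, 5113, 718, 21, 0, 3, 0, 29, 0, 718, [4317, 1153, 30672]⟩)))) (.node (.node (.node (.leaf ⟨6, 493, 493, (-1), 0, 1, 0, 45, 5, 493, [2555, 2553, 4048, 2552, 2554]⟩) (.leaf ⟨5, 3365, 3376, 0, 0, 0, 0, 93, 0, 0, []⟩)) (.node (.leaf ⟨8, 2091, 2092, 0, 0, 0, 0, 93, 0, 0, []⟩) (.leaf ⟨4, 4807, 4817, 0, 0, 0, 0, 43, 0, 4817, [28617, 28625, 28566]⟩))) (.node (.node (.leaf ⟨8, 1410, 1392, 0, 0, 0, 0, 47, 3, 1410, [8135, 8144, 8090]⟩) (.leaf ⟨5, 4105, 4106, 0, 0, 0, 0, 93, 0, 0, []⟩)) (.node (.leaf ⟨11, 1050, 1050, 1, 0, 1, 0, 59, 3, 1050, [6649, 16336, 6648]⟩) (.leaf ⟨0, 0, 0, 0, 0, 0, 0, 0, 0, 0, []⟩))))))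

def factsPart234 : ATree TFact :=
  .node (.node (.node (.node (.node (.node (.leaf ⟨8, 109, 110, 0, 0, 0, 0, 47, 3, 109, [457, 455, 466]⟩) (.leaf ⟨5, 2779, 2779, 1, 0, 1, 0, 47, 0, 2779, [16849, 1014, 16848]⟩)) (.node (.leaf ⟨7, 1529, 1536, 0, 0, 0, 0, 46, 3, 1529, [8637, 8659, 8650]⟩) (.leaf ⟨8, 4207, 4208, 0, 0, 0, 0, 52, 3, 4207, [25039, 18454, 25042]⟩))) (.node (.node (.leaf ⟨3, 499, 549, 0, 0, 0, 0, 37, 0, 549, [2919, 4550, 2580]⟩) (.leaf ⟨4, 3503, 3504, 0, 0, 0, 0, 93, 0, 0, []⟩)) (.node (.leaf ⟨10, 235, 2194, 0, 0, 0, 0, 93, 0, 0, []⟩) (.leaf ⟨5, 1691, 1691, (-1), 0, (-1), 0, 49, 4, 1068, [9938, 6693, 29138, 6692, 9938]⟩)))) (.node (.node (.node (.leaf ⟨4, 482, 483, 0, 0, 0, 0, 93, 0, 0, []⟩) (.leaf ⟨9, 3116, 3117, 0, 0, 0, 0, 93, 0, 0, []⟩)) (.node (.leaf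 ⟨9, 1761, 1499, 0, 0, 0, 0, 48, 3, 1761, [10423, 10706, 8560]⟩) (.leaf ⟨7, 2127, 2127, (-1), 0, (-1), 0, 56, 4, 640, [12326, 3541, 27090, 3540, 12326]⟩))) (.node (.node (.leaf ⟨5, 1040, 1041, 0, 0, 0, 0, 93, 0, 0, []⟩) (.leaf ⟨1, 3849, 3849, (-1), 0, (-1), 0, 20, 0, 3849, [22959, 22994, 22958]⟩)) (.node (.leaf ⟨1, 2462, 2324, 0, 0, 0, 0, 14, 0, 2324, [13353, 14803, 14790]⟩) (.leaf ⟨5, 3802, 3802, 1, 0, (-1), 0, 38, 3, 3805, [22771, 22762, 31186, 22771, 22762]⟩))))) (.node (.node (.node (.node (.leaf ⟨10, 10, 205, 0, 0, 0, 0, 93, 0, 0, []⟩) (.leaf ⟨5, 2916, 2932, 21, 0, 11, 0, 48, 2, 2918, [17810, 17865, 17874]⟩)) (.node (.leaf ⟨7, 244, 1659, 0, 0, 0, 0, 93, 0, 0, []⟩) (.leaf ⟨2, 4384, 4385, 0, 0, 0, 0, 93, 0, 0, []⟩))) (.node (.node (.leaf ⟨9, 880, 883, 0, 0, 0, 0,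 64, 0, 883, [5585, 5586, 5578]⟩) (.leaf ⟨6, 2774, 3731, 0, 0, 0, 0, 93, 0, 0, []⟩)) (.node (.leaf ⟨6, 2383, 2184, 0, 0, 0, 0, 54, 0, 2184, [12665, 13779, 13772]⟩) (.leaf ⟨10, 5015, 5019, 0, 0, 0, 0, 93, 0, 0, []⟩)))) (.node (.node (.node (.leaf ⟨7, 639, 640, 0, 0, 0, 0, 93, 0, 0, []⟩) (.leaf ⟨2, 3277, 3277, 1, 0, 1, 0, 25, 2, 2137, [19782, 19922, 19782]⟩)) (.node (.leaf ⟨6, 1984, 1243, 0, 0, 0, 0, 24, 3, 1984, [11731, 6344, 7522]⟩) (.leaf ⟨5, 4743, 4744, 0, 0, 0, 0, 93, 0, 0, []⟩))) (.node (.node (.leaf ⟨5, 1285, 1286, 0, 0, 0, 0, 93, 0, 0, []⟩) (.leaf ⟨11, 4016, 4016, 1, 0, 1, 0, 59, 3, 4016, [24015, 24018, 24014]⟩)) (.node (.leaf ⟨3, 2405, 2613, (-89), 0, 5, 0, 35, 2, 2337, [13920, 15827, 15580]⟩) (.leaf ⟨0, 0, 0, 0, 0, 0, 0, 0, 0, 0, []⟩)))))) (.node (.node (.node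 (.node (.node (.leaf ⟨7, 120, 120, (-1), 0, 1, 0, 51, 5, 120, [503, 501, 978, 500, 502]⟩) (.leaf ⟨11, 389, 2825, 0, 0, 0, 0, 64, 3, 389, [2089, 6406, 17340]⟩)) (.node (.leaf ⟨11, 531, 531, 1, 0, 1, 0, 65, 5, 531, [2797, 2154, 828, 2155, 2796]⟩) (.leaf ⟨5, 4309, 4310, 0, 0, 0, 0, 93, 0, 0, []⟩))) (.node (.node (.leaf ⟨7, 794, 795, 0, 0, 0, 0, 59, 0, 795, [5065, 5059, 5028]⟩) (.leaf ⟨7, 416, 3636, 0, 0, 0, 0, 93, 0, 0, []⟩)) (.node (.leaf ⟨5, 2307, 2308, 0, 0, 0, 0, 93, 0, 0, []⟩) (.leaf ⟨4, 4936, 4951, 0, 0, 0, 0, 40, 2, 4935, [29566, 29563, 29648]⟩)))) (.node (.node (.node (.leaf ⟨3, 563, 564, 0, 0, 0, 0, 93, 0, 0, []⟩) (.leaf ⟨1, 1660, 610, 0, 0, 0, 0, 15, 0, 610, [3311, 19411, 9688]⟩)) (.node (.leaf ⟨1, 1276, 1898, 0, 0, 0, 0, 13, 0, 1898, [11205, 11219, 7616]⟩)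 (.leaf ⟨2, 4337, 4648, 0, 0, 0, 0, 25, 0, 4648, [27585, 27603, 25710]⟩))) (.node (.node (.leaf ⟨8, 17, 755, 0, 0, 0, 0, 47, 3, 17, [33, 31, 4736]⟩) (.leaf ⟨4, 3940, 3941, 0, 0, 0, 0, 93, 0, 0, []⟩)) (.node (.leaf ⟨10, 2564, 2565, 0, 0, 0, 0, 93, 0, 0, []⟩) (.leaf ⟨0, 0, 0, 0, 0, 0, 0, 0, 0, 0, []⟩))))) (.node (.node (.node (.node (.leaf ⟨8, 101, 376, 0, 0, 0, 0, 93, 0, 0, []⟩) (.leaf ⟨6, 414, 3042, 0, 0, 0, 0, 93, 0, 0, []⟩)) (.node (.leaf ⟨6, 1731, 1731, 1, 0, (-1), 0, 39, 3, 1731, [10175, 10194, 10174]⟩) (.leaf ⟨7, 4490, 4483, 0, 0, 0, 0, 46, 3, 4490, [26571, 26578, 26556]⟩))) (.node (.node (.leaf ⟨10, 958, 956, 0, 0, 0, 0, 54, 3, 958, [6097, 6099, 6086]⟩) (.leaf ⟨10, 3773, 3774, 0, 0, 0, 0, 93, 0, 0, []⟩)) (.node (.leaf ⟨7, 2424, 2425, (-27), 0, 1, 0, 58, 0, 2425,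 [14289, 10064, 14290]⟩) (.leaf ⟨1, 5113, 5113, (-1), 0, (-1), 0, 20, 0, 5113, [30673, 798, 30672]⟩)))) (.node (.node (.node (.leaf ⟨6, 494, 494, (-1), 0, (-1), 0, 39, 3, 494, [2557, 4050, 2556]⟩) (.leaf ⟨4, 3376, 3377, 0, 0, 0, 0, 93, 0, 0, []⟩)) (.node (.leaf ⟨5, 2092, 2093, 0, 0, 0, 0, 93, 0, 0, []⟩) (.leaf ⟨4, 4808, 4818, 0, 0, 0, 0, 40, 0, 4818, [28619, 28627, 28570]⟩))) (.node (.node (.leaf ⟨3, 761, 1411, 0, 0, 0, 0, 93, 0, 0, []⟩) (.leaf ⟨4, 4106, 4099, 0, 0, 0, 0, 38, 0, 4099, [24497, 24507, 24521, 24528, 24530]⟩)) (.node (.leaf ⟨11, 1051, 1051, 1, 0, (-1), 0, 55, 3, 1051, [6651, 16338, 6650]⟩) (.leaf ⟨0, 0, 0, 0, 0, 0, 0, 0, 0, 0, []⟩))))))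

def factsPart235 : ATree TFact :=
  .node (.node (.node (.node (.node (.node (.leaf ⟨10, 69, 111, 0, 0, 0, 0, 93, 0, 0, []⟩) (.leaf ⟨6, 158, 158, 1, 0, 1, 0, 45, 5, 158, [913, 16850, 16852, 16851, 912]⟩)) (.node (.leaf ⟨7, 1530, 1537, 0, 0, 0, 0, 40, 3, 1530, [8639, 8660, 8652]⟩) (.leaf ⟨10, 4205, 4208, 47, 0, (-11), 0, 61, 3, 4205, [25037, 25041, 25044]⟩))) (.node (.node (.leaf ⟨11, 539, 539, 1, 0, 1, 0, 65, 5, 539, [2893, 3942, 1386, 3943, 2892]⟩) (.leaf ⟨3, 3504, 3505, 0, 0, 0, 0, 93, 0, 0, []⟩)) (.node (.leaf ⟨4, 237, 2194, 0, 0, 0, 0, 43, 2, 236, [1578, 1577, 12756]⟩) (.leaf ⟨5, 1575, 1575, 1, 0, 1, 0, 31, 3, 1575, [8905, 16250, 8904]⟩)))) (.node (.node (.node (.leaf ⟨10, 483, 484, 0, 0, 0, 0, 93, 0, 0, []⟩) (.leaf ⟨6, 3117, 823, 0, 0, 0, 0, 53, 0, 823, [5273,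 18898, 18900]⟩)) (.node (.leaf ⟨9, 1762, 1500, 0, 0, 0, 0, 57, 3, 1762, [10425, 10708, 8562]⟩) (.leaf ⟨7, 4572, 4572, 1, 0, 1, 0, 57, 0, 4572, [27085, 27092, 27084]⟩))) (.node (.node (.leaf ⟨4, 1041, 1042, 0, 0, 0, 0, 93, 0, 0, []⟩) (.leaf ⟨2, 3682, 3682, (-1), 0, (-11), 0, 11, 3, 3849, [22979, 22986, 22996, 22979, 22986]⟩)) (.node (.leaf ⟨4, 1205, 2463, 0, 0, 0, 0, 93, 0, 0, []⟩) (.leaf ⟨0, 537, 537, 1, 0, 1, 0, 10, 0, 537, [2881, 3820, 2880]⟩))))) (.node (.node (.node (.node (.leaf ⟨5, 205, 206, 0, 0, 0, 0, 93, 0, 0, []⟩) (.leaf ⟨6, 2922, 2922, 1, 0, (-1), 0, 15, 3, 2922, [17819, 12890, 17818]⟩)) (.node (.leaf ⟨3, 715, 1659, 0, 0, 0, 0, 33, 2, 266, [4296, 1693, 9684]⟩) (.leaf ⟨6, 4382, 4294, 0, 0, 0, 0, 45, 5, 4382, [26063, 25713, 25716, 25470, 25472]⟩))) (.node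 (.node (.leaf ⟨10, 870, 884, 0, 0, 0, 0, 93, 0, 0, []⟩) (.leaf ⟨4, 2819, 3731, 0, 0, 0, 0, 39, 0, 3731, [21973, 16825, 17250]⟩)) (.node (.leaf ⟨5, 2385, 2373, 0, 0, 0, 0, 45, 4, 2384, [13776, 13775, 13780, 13726, 13728]⟩) (.leaf ⟨2, 5017, 5019, 0, 0, 0, 0, 28, 2, 5016, [30146, 30145, 30164]⟩)))) (.node (.node (.node (.leaf ⟨5, 640, 629, 0, 0, 0, 0, 46, 2, 639, [3540, 3539, 3494]⟩) (.leaf ⟨2, 3278, 3278, 1, 0, (-1), 0, 24, 2, 3277, [19784, 19924, 19784]⟩)) (.node (.leaf ⟨9, 1984, 1985, 0, 0, 0, 0, 93, 0, 0, []⟩) (.leaf ⟨0, 4744, 4731, 0, 0, 0, 0, 4, 0, 4731, [28067, 28115, 28116]⟩))) (.node (.node (.leaf ⟨6, 1286, 1287, 0, 0, 0, 0, 93, 0, 0, []⟩) (.leaf ⟨8, 382, 4017, 0, 0, 0, 0, 93, 0, 0, []⟩)) (.node (.leaf ⟨9, 1389, 2635, 0, 0, 0, 0, 93, 0, 0, []⟩) (.leaf ⟨0, 0,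 0, 0, 0, 0, 0, 0, 0, 0, []⟩)))))) (.node (.node (.node (.node (.node (.leaf ⟨5, 118, 118, 1, 0, 1, 0, 23, 3, 118, [499, 940, 498]⟩) (.leaf ⟨10, 391, 2827, 0, 0, 0, 0, 65, 4, 390, [2092, 2091, 17364, 17342, 17344]⟩)) (.node (.leaf ⟨11, 101, 609, 0, 0, 0, 0, 59, 3, 101, [433, 2156, 3308]⟩) (.leaf ⟨4, 4310, 4311, 0, 0, 0, 0, 93, 0, 0, []⟩))) (.node (.node (.leaf ⟨5, 699, 795, (-27), 0, (-1), 0, 31, 3, 699, [4422, 4435, 5070]⟩) (.leaf ⟨5, 3636, 3633, 0, 0, 0, 0, 46, 0, 3633, [21449, 2252, 21460]⟩)) (.node (.leaf ⟨6, 2303, 2308, 0, 0, 0, 0, 45, 5, 2303, [13253, 13249, 13264, 13266, 13268]⟩) (.leaf ⟨4, 4952, 4937, 0, 0, 0, 0, 39, 0, 4937, [29571, 29652, 29650]⟩)))) (.node (.node (.node (.leaf ⟨2, 564, 565, 0, 0, 0, 0, 93, 0, 0, []⟩) (.leaf ⟨1, 2820, 845, 0, 0, 0, 0, 17,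 0, 845, [5359, 19413, 17312]⟩)) (.node (.leaf ⟨1, 1277, 1899, 0, 0, 0, 0, 12, 0, 1899, [11207, 11221, 7618]⟩) (.leaf ⟨2, 4338, 4649, 0, 0, 0, 0, 24, 0, 4649, [27587, 27605, 25712]⟩))) (.node (.node (.leaf ⟨8, 756, 18, 0, 0, 0, 0, 41, 3, 756, [4739, 7125, 34]⟩) (.leaf ⟨8, 3938, 3941, 0, 0, 0, 0, 41, 3, 3938, [23501, 23507, 23508]⟩)) (.node (.leaf ⟨5, 2565, 2566, 0, 0, 0, 0, 93, 0, 0, []⟩) (.leaf ⟨0, 0, 0, 0, 0, 0, 0, 0, 0, 0, []⟩))))) (.node (.node (.node (.node (.leaf ⟨6, 103, 376, 0, 0, 0, 0, 52, 2, 102, [440, 437, 2004]⟩) (.leaf ⟨5, 3042, 3043, 0, 0, 0, 0, 93, 0, 0, []⟩)) (.node (.leaf ⟨11, 1539, 1734, 0, 0, 0, 0, 93, 0, 0, []⟩) (.leaf ⟨7, 4491, 4484, 0, 0, 0, 0, 40, 3, 4491, [26573, 26580, 26558]⟩))) (.node (.node (.leaf ⟨8, 556, 959, 0, 0, 0, 0, 93, 0, 0, []⟩)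 (.leaf ⟨7, 3774, 3775, 0, 0, 0, 0, 93, 0, 0, []⟩)) (.node (.leaf ⟨11, 247, 247, 1, 0, 1, 0, 59, 3, 247, [1607, 10068, 1606]⟩) (.leaf ⟨2, 849, 849, (-1), 0, (-7), 0, 11, 3, 5113, [30674, 5408, 30676, 30674, 5408]⟩)))) (.node (.node (.node (.leaf ⟨6, 553, 553, (-1), 0, 1, 0, 32, 3, 553, [2981, 4052, 2980]⟩) (.leaf ⟨11, 3367, 3376, 0, 0, 0, 0, 50, 3, 3367, [20399, 20397, 20434]⟩)) (.node (.leaf ⟨4, 2093, 2094, 0, 0, 0, 0, 93, 0, 0, []⟩) (.leaf ⟨4, 4809, 4819, 0, 0, 0, 0, 39, 0, 4819, [28621, 28629, 28574]⟩))) (.node (.node (.leaf ⟨2, 1411, 1412, 0, 0, 0, 0, 93, 0, 0, []⟩) (.leaf ⟨3, 3506, 4104, 0, 0, 0, 0, 36, 2, 3505, [20952, 20951, 24522]⟩)) (.node (.leaf ⟨11, 1068, 1068, 1, 0, 1, 0, 50, 3, 1068, [6693, 16340, 6692]⟩) (.leaf ⟨0, 0, 0, 0, 0, 0, 0, 0, 0, 0, []⟩))))))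

def factsPart236 : ATree TFact :=
  .node (.node (.node (.node (.node (.node (.leaf ⟨1, 98, 111, 0, 0, 0, 0, 19, 2, 70, [420, 277, 470]⟩) (.leaf ⟨6, 2775, 2775, (-1), 0, (-1), 0, 53, 0, 2775, [16833, 16854, 16832]⟩)) (.node (.leaf ⟨7, 1531, 1538, 0, 0, 0, 0, 33, 3, 1531, [8641, 8662, 8654]⟩) (.leaf ⟨2, 3055, 3055, (-1), 0, (-1), 0, 25, 2, 751, [18452, 4838, 18452]⟩))) (.node (.node (.leaf ⟨11, 540, 540, 1, 0, (-1), 0, 59, 3, 540, [2895, 4566, 2894]⟩) (.leaf ⟨10, 3505, 3506, 0, 0, 0, 0, 93, 0, 0, []⟩)) (.node (.leaf ⟨7, 226, 2195, 0, 0, 0, 0, 93, 0, 0, []⟩) (.leaf ⟨5, 1770, 1770, 1, 0, (-1), 0, 23, 3, 1770, [10559, 29142, 10558]⟩)))) (.node (.node (.node (.leaf ⟨5, 484, 485, 0, 0, 0, 0, 93, 0, 0, []⟩) (.leaf ⟨7, 3116, 3116, 1, 0, 1, 0, 56, 4, 495, [18896, 2565, 5654,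 2564, 18896]⟩)) (.node (.leaf ⟨9, 1763, 1501, 0, 0, 0, 0, 53, 3, 1763, [10427, 10710, 8564]⟩) (.leaf ⟨6, 4571, 4571, (-1), 0, 1, 0, 51, 0, 4571, [27081, 27087, 27094, 27086, 27080]⟩))) (.node (.node (.leaf ⟨7, 1042, 1043, 0, 0, 0, 0, 93, 0, 0, []⟩) (.leaf ⟨2, 3683, 3683, (-1), 0, 11, 0, 25, 2, 3682, [21674, 22998, 21674]⟩)) (.node (.leaf ⟨10, 2463, 2395, 0, 0, 0, 0, 43, 3, 2463, [14807, 8234, 13868]⟩) (.leaf ⟨0, 538, 538, (-1), 0, (-1), 0, 4, 0, 538, [2883, 31190, 2882]⟩))))) (.node (.node (.node (.node (.leaf ⟨7, 206, 207, 0, 0, 0, 0, 93, 0, 0, []⟩) (.leaf ⟨6, 2930, 2930, (-1), 0, 1, 0, 53, 0, 2930, [17867, 17878, 17866]⟩)) (.node (.leaf ⟨6, 1659, 1660, 0, 0, 0, 0, 93, 0, 0, []⟩) (.leaf ⟨6, 4383, 4295, 0, 0, 0, 0, 39, 3, 4383, [26065, 26070, 25474]⟩))) (.node (.node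 (.leaf ⟨8, 869, 482, 0, 0, 0, 0, 47, 3, 869, [5543, 5541, 2514]⟩) (.leaf ⟨3, 3731, 3731, (-1), 0, (-1), 0, 32, 0, 3731, [21973, 16830, 21972]⟩)) (.node (.leaf ⟨10, 322, 2386, 0, 0, 0, 0, 93, 0, 0, []⟩) (.leaf ⟨7, 5019, 5020, 0, 0, 0, 0, 93, 0, 0, []⟩)))) (.node (.node (.node (.leaf ⟨6, 640, 641, 0, 0, 0, 0, 93, 0, 0, []⟩) (.leaf ⟨2, 3279, 3279, 1, 0, 1, 0, 23, 2, 3278, [19786, 19926, 19786]⟩)) (.node (.leaf ⟨6, 1985, 1244, 0, 0, 0, 0, 53, 0, 1244, [7525, 11733, 11734]⟩) (.leaf ⟨6, 4744, 4745, 0, 0, 0, 0, 93, 0, 0, []⟩))) (.node (.node (.leaf ⟨4, 1287, 1288, 0, 0, 0, 0, 93, 0, 0, []⟩) (.leaf ⟨5, 4017, 4018, 0, 0, 0, 0, 93, 0, 0, []⟩)) (.node (.leaf ⟨10, 2635, 2636, 0, 0, 0, 0, 93, 0, 0, []⟩) (.leaf ⟨0, 0, 0, 0, 0, 0, 0, 0, 0, 0, []⟩)))))) (.node (.node (.node (.node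 (.node (.leaf ⟨5, 119, 119, (-1), 0, (-1), 0, 46, 0, 119, [501, 982, 500]⟩) (.leaf ⟨4, 2827, 2829, 21, 0, 1, 0, 43, 0, 2829, [17359, 17362, 17366]⟩)) (.node (.leaf ⟨11, 354, 354, 1, 0, (-1), 0, 59, 3, 354, [1921, 3278, 1920]⟩) (.leaf ⟨7, 4300, 4309, 0, 0, 0, 0, 51, 3, 4298, [25490, 25492, 25489, 25552, 25554]⟩))) (.node (.node (.leaf ⟨5, 794, 729, 27, 0, 1, 0, 46, 2, 795, [5077, 5079, 4412]⟩) (.leaf ⟨9, 405, 3637, 0, 0, 0, 0, 93, 0, 0, []⟩)) (.node (.leaf ⟨4, 2305, 2309, 0, 0, 0, 0, 93, 0, 0, []⟩) (.leaf ⟨5, 2912, 4953, 0, 0, 0, 0, 93, 0, 0, []⟩)))) (.node (.node (.node (.leaf ⟨10, 565, 566, 0, 0, 0, 0, 93, 0, 0, []⟩) (.leaf ⟨1, 2821, 846, 0, 0, 0, 0, 14, 0, 846, [5363, 19415, 17316]⟩)) (.node (.leaf ⟨2, 1899, 1900, 0, 0, 0, 0, 93, 0, 0, []⟩) (.leaf ⟨2, 4382, 4650,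 0, 0, 0, 0, 23, 0, 4650, [27589, 27607, 26062]⟩))) (.node (.node (.leaf ⟨8, 1153, 19, 0, 0, 0, 0, 34, 3, 1153, [7117, 7126, 36]⟩) (.leaf ⟨5, 3929, 3942, 0, 0, 0, 0, 93, 0, 0, []⟩)) (.node (.leaf ⟨6, 2566, 2567, 0, 0, 0, 0, 93, 0, 0, []⟩) (.leaf ⟨0, 0, 0, 0, 0, 0, 0, 0, 0, 0, []⟩))))) (.node (.node (.node (.node (.leaf ⟨5, 100, 100, 1, 0, (-1), 0, 38, 5, 100, [429, 425, 1432, 424, 428]⟩) (.leaf ⟨6, 3040, 3043, 0, 0, 0, 0, 45, 5, 3040, [18383, 2193, 2258, 18388, 18390]⟩)) (.node (.leaf ⟨7, 1729, 1734, 0, 0, 0, 0, 59, 0, 1734, [10199, 8667, 10170]⟩) (.leaf ⟨7, 4492, 4485, 0, 0, 0, 0, 33, 3, 4492, [26575, 26582, 26560]⟩))) (.node (.node (.leaf ⟨2, 959, 834, 0, 0, 0, 0, 26, 0, 834, [5321, 3013, 6102]⟩) (.leaf ⟨6, 3775, 3776, 0, 0, 0, 0, 93, 0, 0, []⟩)) (.node (.leaf ⟨11,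 248, 248, 1, 0, (-1), 0, 55, 3, 248, [1609, 14294, 1608]⟩) (.leaf ⟨10, 5112, 2699, 94, 0, 8, 0, 66, 63, 5112, [30664, 30666, 30668, 14669, 14121, 14119, 30670, 9240, 9237, 4271, 9229, 9225, 16178, 16298, 5385, 30678, 16302, 5383, 3337, 2167, 2163, 2220, 15648, 2606, 2798, 2802, 3148, 3100, 3128, 4954, 9346, 4572, 2916, 2924, 2915, 2962, 2888, 2885, 2876, 2448, 2872, 2564, 2569, 3115, 4202, 3166, 3297, 1922, 2765, 5050, 3594, 15698, 2504, 2462, 4486, 2525, 2600, 2639, 2620, 3199, 3196, 4386, 16322]⟩)))) (.node (.node (.node (.leaf ⟨6, 479, 479, (-1), 0, (-1), 0, 54, 0, 479, [2471, 2872, 2470]⟩) (.leaf ⟨11, 3377, 3371, 0, 0, 0, 0, 44, 3, 3377, [20437, 20439, 20418]⟩)) (.node (.leaf ⟨3, 2094, 2095, 0, 0, 0, 0, 93, 0, 0, []⟩) (.leaf ⟨2, 2479, 4820, 0, 0, 0, 0, 93, 0, 0,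 []⟩))) (.node (.node (.leaf ⟨10, 1412, 1413, 0, 0, 0, 0, 93, 0, 0, []⟩) (.leaf ⟨3, 4105, 3507, 0, 0, 0, 0, 37, 0, 3507, [20955, 24534, 24524]⟩)) (.node (.leaf ⟨11, 1069, 1069, 1, 0, (-1), 0, 44, 3, 1069, [6695, 16342, 6694]⟩) (.leaf ⟨0, 0, 0, 0, 0, 0, 0, 0, 0, 0, []⟩))))))

def factsPart237 : ATree TFact :=
  .node (.node (.node (.node (.node (.node (.leaf ⟨5, 111, 112, 0, 0, 0, 0, 93, 0, 0, []⟩) (.leaf ⟨9, 157, 2780, 0, 0, 0, 0, 93, 0, 0, []⟩)) (.node (.leaf ⟨7, 1532, 1539, 0, 0, 0, 0, 58, 0, 1539, [8657, 8665, 8642]⟩) (.leaf ⟨2, 4208, 4208, (-1), 0, 1, 0, 24, 2, 3055, [25042, 25048, 25042]⟩))) (.node (.node (.leaf ⟨4, 84, 84, (-17), 0, 5, 0, 40, 2, 83, [370, 3934, 370]⟩) (.leaf ⟨11, 3506, 3507, 0, 0, 0, 0, 93, 0, 0, []⟩)) (.node (.leaf ⟨6, 2195, 2196, 0, 0, 0, 0,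 93, 0, 0, []⟩) (.leaf ⟨3, 1665, 1665, 1, 0, 1, 0, 21, 5, 1665, [9731, 8927, 14572, 8926, 9730]⟩)))) (.node (.node (.node (.leaf ⟨7, 474, 481, 0, 0, 0, 0, 51, 3, 472, [2458, 2460, 2457, 2510, 2512]⟩) (.leaf ⟨7, 3117, 3117, (-1), 0, (-1), 0, 57, 0, 3117, [18901, 18904, 18900]⟩)) (.node (.leaf ⟨9, 1757, 1502, (-73), 0, 33, 0, 60, 3, 1635, [9566, 10410, 10703, 10712, 8566]⟩) (.leaf ⟨5, 4569, 4569, 1, 0, 1, 0, 45, 0, 4569, [27073, 27083, 27096, 27082, 27072]⟩))) (.node (.node (.leaf ⟨6, 1043, 1044, 0, 0, 0, 0, 93, 0, 0, []⟩) (.leaf ⟨2, 3684, 3684, (-1), 0, (-11), 0, 24, 2, 3683, [21676, 23000, 21676]⟩)) (.node (.leaf ⟨4, 1419, 2464, 0, 0, 0, 0, 93, 0, 0, []⟩) (.leaf ⟨0, 539, 539, 1, 0, 1, 0, 9, 0, 539, [2893, 31192, 2892]⟩))))) (.node (.node (.node (.node (.leaf ⟨6, 207,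 208, 0, 0, 0, 0, 93, 0, 0, []⟩) (.leaf ⟨6, 2931, 2931, (-1), 0, (-1), 0, 5, 3, 2931, [17869, 17880, 17868]⟩)) (.node (.leaf ⟨3, 1660, 716, 0, 0, 0, 0, 32, 0, 716, [4299, 9686, 9688]⟩) (.leaf ⟨6, 4384, 4296, 0, 0, 0, 0, 32, 3, 4384, [26067, 26072, 25476]⟩))) (.node (.node (.leaf ⟨8, 483, 870, 0, 0, 0, 0, 41, 3, 483, [2517, 5593, 5544]⟩) (.leaf ⟨0, 2777, 2760, 0, 0, 0, 0, 6, 0, 2760, [16725, 17057, 16836]⟩)) (.node (.leaf ⟨10, 312, 2387, 0, 0, 0, 0, 93, 0, 0, []⟩) (.leaf ⟨2, 5020, 5018, 0, 0, 0, 0, 25, 0, 5018, [30159, 30166, 30168]⟩)))) (.node (.node (.node (.leaf ⟨5, 641, 642, 0, 0, 0, 0, 93, 0, 0, []⟩) (.leaf ⟨2, 3280, 3280, 1, 0, (-1), 0, 28, 2, 3279, [19788, 19928, 19788]⟩)) (.node (.leaf ⟨10, 1985, 1986, 0, 0, 0, 0, 93, 0, 0, []⟩) (.leaf ⟨0, 4745, 4732, 0, 0, 0,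 0, 5, 0, 4732, [28069, 28119, 28120]⟩))) (.node (.node (.leaf ⟨5, 1288, 1289, 0, 0, 0, 0, 93, 0, 0, []⟩) (.leaf ⟨10, 4018, 4019, 0, 0, 0, 0, 93, 0, 0, []⟩)) (.node (.leaf ⟨11, 2636, 2637, 0, 0, 0, 0, 93, 0, 0, []⟩) (.leaf ⟨0, 0, 0, 0, 0, 0, 0, 0, 0, 0, []⟩)))))) (.node (.node (.node (.node (.node (.leaf ⟨4, 118, 118, 1, 0, 1, 0, 22, 3, 118, [499, 946, 498]⟩) (.leaf ⟨9, 994, 2830, 0, 0, 0, 0, 93, 0, 0, []⟩)) (.node (.leaf ⟨11, 355, 355, 1, 0, 1, 0, 55, 3, 355, [1923, 9176, 1922]⟩) (.leaf ⟨7, 4310, 4301, 0, 0, 0, 0, 46, 3, 4310, [25557, 25561, 25494]⟩))) (.node (.node (.leaf ⟨3, 753, 792, 0, 0, 0, 0, 37, 0, 792, [5023, 3212, 4730]⟩) (.leaf ⟨6, 3637, 416, 0, 0, 0, 0, 53, 0, 416, [2243, 2198, 21464]⟩)) (.node (.leaf ⟨7, 2309, 2310, 0, 0, 0, 0, 93, 0, 0, []⟩) (.leaf ⟨7,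 4953, 4954, 0, 0, 0, 0, 93, 0, 0, []⟩)))) (.node (.node (.node (.leaf ⟨3, 556, 408, 0, 0, 0, 0, 32, 0, 408, [2225, 2855, 3002]⟩) (.leaf ⟨1, 2822, 3076, 0, 0, 0, 0, 18, 0, 3076, [18605, 19417, 17320]⟩)) (.node (.leaf ⟨2, 1244, 323, 0, 0, 0, 0, 27, 2, 1243, [7524, 7523, 1824]⟩) (.leaf ⟨2, 4383, 4651, 0, 0, 0, 0, 22, 0, 4651, [27591, 27609, 26064]⟩))) (.node (.node (.leaf ⟨8, 1154, 37, 0, 0, 0, 0, 26, 3, 1154, [7119, 7128, 72]⟩) (.leaf ⟨4, 3942, 3943, 0, 0, 0, 0, 93, 0, 0, []⟩)) (.node (.leaf ⟨7, 2567, 2568, 0, 0, 0, 0, 93, 0, 0, []⟩) (.leaf ⟨0, 0, 0, 0, 0, 0, 0, 0, 0, 0, []⟩))))) (.node (.node (.node (.node (.leaf ⟨5, 101, 101, (-1), 0, 1, 0, 46, 0, 101, [433, 2008, 432]⟩) (.leaf ⟨6, 421, 3044, 0, 0, 0, 0, 93, 0, 0, []⟩)) (.node (.leaf ⟨5, 1734, 1735, 0, 0, 0, 0, 93,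 0, 0, []⟩) (.leaf ⟨7, 4493, 4486, 0, 0, 0, 0, 25, 3, 4493, [26577, 26584, 26562]⟩))) (.node (.node (.leaf ⟨5, 959, 960, 0, 0, 0, 0, 93, 0, 0, []⟩) (.leaf ⟨7, 3773, 3777, 0, 0, 0, 0, 93, 0, 0, []⟩)) (.node (.leaf ⟨11, 1609, 1609, 1, 0, 1, 0, 50, 3, 1609, [9103, 14296, 9102]⟩) (.leaf ⟨1, 1696, 5112, 0, 0, 0, 0, 15, 0, 5112, [30663, 16273, 9958]⟩)))) (.node (.node (.node (.leaf ⟨7, 492, 492, (-1), 0, (-1), 0, 51, 5, 492, [2553, 2551, 4056, 2550, 2552]⟩) (.leaf ⟨5, 212, 212, 1, 0, 1, 0, 31, 3, 212, [1507, 17428, 1506]⟩)) (.node (.leaf ⟨10, 2095, 2096, 0, 0, 0, 0, 93, 0, 0, []⟩) (.leaf ⟨1, 4820, 4821, 0, 0, 0, 0, 93, 0, 0, []⟩))) (.node (.node (.leaf ⟨5, 1413, 1414, 0, 0, 0, 0, 93, 0, 0, []⟩) (.leaf ⟨3, 4106, 3508, 0, 0, 0, 0, 31, 0, 3508, [20957, 24537, 24530]⟩)) (.node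 (.leaf ⟨10, 1694, 1694, 1, 0, (-1), 0, 65, 4, 1693, [9950, 9949, 16344, 9948, 9950]⟩) (.leaf ⟨0, 0, 0, 0, 0, 0, 0, 0, 0, 0, []⟩))))))

def factsPart238 : ATree TFact :=
  .node (.node (.node (.node (.node (.node (.leaf ⟨1, 112, 99, 0, 0, 0, 0, 14, 0, 99, [425, 472, 474]⟩) (.leaf ⟨5, 2775, 2780, 0, 0, 0, 0, 48, 2, 158, [16832, 913, 16858]⟩)) (.node (.leaf ⟨6, 205, 205, 1, 0, (-1), 0, 54, 0, 205, [1493, 3462, 1492]⟩) (.leaf ⟨7, 453, 4209, 0, 0, 0, 0, 93, 0, 0, []⟩))) (.node (.node (.leaf ⟨4, 546, 546, (-17), 0, (-5), 0, 44, 2, 84, [3944, 4570, 3944]⟩) (.leaf ⟨5, 3507, 3508, 0, 0, 0, 0, 93, 0, 0, []⟩)) (.node (.leaf ⟨8, 2196, 2197, 0, 0, 0, 0, 93, 0, 0, []⟩) (.leaf ⟨7, 1584, 1584, 1, 0, 1, 0, 58, 0, 1584, [8937, 9744, 8936]⟩)))) (.node (.node (.node (.leaf ⟨7, 482, 475,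 0, 0, 0, 0, 46, 3, 482, [2515, 2523, 2462]⟩) (.leaf ⟨8, 497, 3118, 0, 0, 0, 0, 93, 0, 0, []⟩)) (.node (.leaf ⟨9, 1511, 1758, 73, 0, (-33), 0, 57, 3, 1511, [8589, 10715, 10412]⟩) (.leaf ⟨4, 4566, 4566, (-1), 0, 1, 0, 38, 0, 4566, [27061, 27075, 27098, 27074, 27060]⟩))) (.node (.node (.leaf ⟨11, 278, 1038, 0, 0, 0, 0, 59, 3, 278, [1717, 1715, 6606]⟩) (.leaf ⟨2, 3845, 3845, (-1), 0, 11, 0, 23, 2, 3684, [22946, 23002, 22946]⟩)) (.node (.leaf ⟨8, 2371, 2464, 0, 0, 0, 0, 41, 3, 2371, [13709, 8268, 14810]⟩) (.leaf ⟨0, 540, 540, (-1), 0, (-1), 0, 6, 0, 540, [2895, 31194, 2894]⟩))))) (.node (.node (.node (.node (.leaf ⟨8, 208, 209, 0, 0, 0, 0, 93, 0, 0, []⟩) (.leaf ⟨6, 2932, 2932, 1, 0, 1, 0, 54, 0, 2932, [17871, 17882, 17870]⟩)) (.node (.leaf ⟨5, 1660, 1661, 0, 0, 0, 0, 93,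 0, 0, []⟩) (.leaf ⟨6, 4385, 4380, 0, 0, 0, 0, 24, 3, 4385, [26069, 26074, 26046]⟩))) (.node (.node (.leaf ⟨8, 484, 884, 0, 0, 0, 0, 61, 0, 884, [5591, 5595, 2518]⟩) (.leaf ⟨0, 3730, 2798, 0, 0, 0, 0, 5, 0, 2798, [17023, 21979, 21970]⟩)) (.node (.leaf ⟨10, 311, 2388, 0, 0, 0, 0, 93, 0, 0, []⟩) (.leaf ⟨0, 4721, 4856, 0, 0, 0, 0, 6, 2, 4720, [28044, 28043, 28874]⟩)))) (.node (.node (.node (.leaf ⟨6, 631, 642, 0, 0, 0, 0, 45, 5, 631, [3503, 3499, 3543, 3544, 3546]⟩) (.leaf ⟨11, 191, 3295, 0, 0, 0, 0, 93, 0, 0, []⟩)) (.node (.leaf ⟨6, 1986, 1245, 0, 0, 0, 0, 54, 0, 1245, [7527, 11737, 11738]⟩) (.leaf ⟨7, 4745, 4746, 0, 0, 0, 0, 93, 0, 0, []⟩))) (.node (.node (.leaf ⟨4, 1286, 1290, 0, 0, 0, 0, 93, 0, 0, []⟩) (.leaf ⟨10, 4017, 3660, 0, 0, 0, 0, 61, 3, 4017, [24023, 2194,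 21544]⟩)) (.node (.leaf ⟨5, 2637, 2638, 0, 0, 0, 0, 93, 0, 0, []⟩) (.leaf ⟨0, 0, 0, 0, 0, 0, 0, 0, 0, 0, []⟩)))))) (.node (.node (.node (.node (.node (.leaf ⟨4, 119, 119, (-1), 0, (-1), 0, 40, 0, 119, [501, 986, 500]⟩) (.leaf ⟨10, 2830, 2831, 0, 0, 0, 0, 93, 0, 0, []⟩)) (.node (.leaf ⟨11, 502, 502, 1, 0, (-1), 0, 50, 3, 502, [2615, 9178, 2614]⟩) (.leaf ⟨7, 4311, 4302, 0, 0, 0, 0, 40, 3, 4311, [25559, 25562, 25496]⟩))) (.node (.node (.leaf ⟨6, 634, 779, 0, 0, 0, 0, 54, 0, 779, [4863, 3553, 3510]⟩) (.leaf ⟨8, 349, 349, 1, 0, 1, 0, 62, 0, 349, [1911, 834, 1910]⟩)) (.node (.leaf ⟨6, 2310, 2311, 0, 0, 0, 0, 93, 0, 0, []⟩) (.leaf ⟨6, 4954, 4955, 0, 0, 0, 0, 93, 0, 0, []⟩)))) (.node (.node (.node (.leaf ⟨3, 557, 562, 0, 0, 0, 0, 31, 0, 562, [3025, 3035, 3004]⟩) (.leaf ⟨1,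 2823, 3077, 0, 0, 0, 0, 19, 0, 3077, [18609, 19419, 17324]⟩)) (.node (.leaf ⟨2, 324, 1245, 0, 0, 0, 0, 28, 0, 1245, [7527, 11226, 1826]⟩) (.leaf ⟨7, 4304, 4653, 0, 0, 0, 0, 93, 0, 0, []⟩))) (.node (.node (.leaf ⟨8, 1155, 1149, 0, 0, 0, 0, 61, 0, 1149, [7101, 7131, 7120]⟩) (.leaf ⟨4, 2282, 3847, 0, 0, 0, 0, 42, 2, 2260, [13136, 13059, 22954]⟩)) (.node (.leaf ⟨8, 1579, 2569, 0, 0, 0, 0, 93, 0, 0, []⟩) (.leaf ⟨0, 0, 0, 0, 0, 0, 0, 0, 0, 0, []⟩))))) (.node (.node (.node (.node (.leaf ⟨5, 376, 376, 1, 0, (-1), 0, 47, 0, 376, [2005, 2010, 2004]⟩) (.leaf ⟨4, 3042, 3044, 0, 0, 0, 0, 39, 0, 3044, [18395, 2277, 18388]⟩)) (.node (.leaf ⟨7, 1730, 1735, 0, 0, 0, 0, 46, 3, 1730, [10173, 10200, 10202]⟩) (.leaf ⟨10, 4493, 4494, 0, 0, 0, 0, 93, 0, 0, []⟩))) (.node (.node (.leaf ⟨2,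 960, 836, 0, 0, 0, 0, 23, 0, 836, [5329, 6105, 6106]⟩) (.leaf ⟨6, 3777, 3778, 0, 0, 0, 0, 93, 0, 0, []⟩)) (.node (.leaf ⟨11, 1610, 1610, 1, 0, (-1), 0, 44, 3, 1610, [9105, 14298, 9104]⟩) (.leaf ⟨10, 2705, 1696, (-94), 0, (-8), 0, 19, 3, 2705, [16332, 30681, 30683]⟩)))) (.node (.node (.node (.leaf ⟨7, 493, 493, (-1), 0, 1, 0, 46, 3, 493, [2555, 4058, 2554]⟩) (.leaf ⟨10, 3376, 3376, 1, 0, 1, 0, 49, 5, 3376, [20435, 20395, 20442, 20394, 20434]⟩)) (.node (.leaf ⟨5, 2096, 2097, 0, 0, 0, 0, 93, 0, 0, []⟩) (.leaf ⟨9, 4821, 4822, 0, 0, 0, 0, 93, 0, 0, []⟩))) (.node (.node (.leaf ⟨10, 1407, 1415, 0, 0, 0, 0, 93, 0, 0, []⟩) (.leaf ⟨3, 3509, 4095, 0, 0, 0, 0, 30, 0, 4095, [24483, 24499, 24533, 24538, 20958]⟩)) (.node (.leaf ⟨5, 2706, 2706, 1, 0, (-1), 0, 49, 4, 1695, [16266,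 9957, 16346, 9956, 16266]⟩) (.leaf ⟨0, 0, 0, 0, 0, 0, 0, 0, 0, 0, []⟩))))))

def factsPart239 : ATree TFact :=
  .node (.node (.node (.node (.node (.node (.leaf ⟨4, 112, 113, 0, 0, 0, 0, 93, 0, 0, []⟩) (.leaf ⟨4, 157, 157, (-1), 0, (-1), 0, 41, 0, 157, [911, 1024, 910]⟩)) (.node (.leaf ⟨5, 1533, 1533, 1, 0, (-1), 0, 45, 4, 206, [8644, 1495, 8668, 1494, 8644]⟩) (.leaf ⟨6, 4209, 4210, 0, 0, 0, 0, 93, 0, 0, []⟩))) (.node (.node (.leaf ⟨4, 540, 540, (-17), 0, 5, 0, 43, 2, 546, [2911, 4572, 2911]⟩) (.leaf ⟨4, 3508, 3509, 0, 0, 0, 0, 93, 0, 0, []⟩)) (.node (.leaf ⟨5, 2197, 2198, 0, 0, 0, 0, 93, 0, 0, []⟩) (.leaf ⟨3, 2426, 1719, 0, 0, 0, 0, 31, 0, 1719, [10125, 10026, 14306]⟩)))) (.node (.node (.node (.leaf ⟨7, 483, 476, 0, 0, 0, 0, 40, 3, 483, [2517, 2524, 2464]⟩) (.leaf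 ⟨5, 3118, 3116, 0, 0, 0, 0, 47, 0, 3116, [18897, 2574, 18908]⟩)) (.node (.leaf ⟨4, 1519, 1511, (-9), 0, 21, 0, 42, 2, 1518, [9509, 10417, 10717]⟩) (.leaf ⟨3, 4563, 4563, 1, 0, 1, 0, 30, 0, 4563, [27049, 27063, 27100, 27062, 27048]⟩))) (.node (.node (.leaf ⟨11, 1039, 279, 0, 0, 0, 0, 55, 3, 1039, [6609, 6621, 1718]⟩) (.leaf ⟨2, 3846, 3846, (-1), 0, (-11), 0, 22, 2, 3845, [22948, 23004, 22948]⟩)) (.node (.leaf ⟨2, 1426, 1071, 0, 0, 0, 0, 28, 2, 1425, [8272, 8271, 6698]⟩) (.leaf ⟨0, 541, 541, 1, 0, 1, 0, 5, 0, 541, [2897, 31196, 2896]⟩))))) (.node (.node (.node (.node (.leaf ⟨5, 209, 210, 0, 0, 0, 0, 93, 0, 0, []⟩) (.leaf ⟨7, 2932, 2933, 0, 0, 0, 0, 93, 0, 0, []⟩)) (.node (.leaf ⟨3, 1661, 717, 0, 0, 0, 0, 31, 0, 717, [4301, 9691, 9692]⟩) (.leaf ⟨10, 4385, 4386, 0, 0,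 0, 0, 93, 0, 0, []⟩))) (.node (.node (.leaf ⟨5, 884, 885, 0, 0, 0, 0, 93, 0, 0, []⟩) (.leaf ⟨2, 3731, 3730, 43, 0, (-1), 0, 66, 1, 2798, [17259, 17254, 17251, 16817, 17248, 17245, 17242, 17238, 17237, 17235, 17232, 17231, 17224, 17220, 17216, 17212, 17208, 17200, 17198, 17194, 16782, 17192, 17174, 17188, 17176, 17173, 17165, 17160, 17156, 16903, 17150, 16904, 17111, 17144, 17140, 17136, 17112, 17132, 17118, 17114, 17106, 17104, 17100, 17091, 17089, 17082, 17078, 17074, 17071, 17062, 17036, 17032, 16861, 16999, 17044, 2108, 2091, 16812, 17250, 17264, 21974, 21976, 21981]⟩)) (.node (.leaf ⟨8, 1595, 2388, 0, 0, 0, 0, 61, 0, 2388, [13789, 8192, 9000]⟩) (.leaf ⟨0, 4857, 4722, 0, 0, 0, 0, 5, 0, 4722, [28047, 30172, 28876]⟩)))) (.node (.node (.node (.leaf ⟨4, 642, 643, 0,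 0, 0, 0, 93, 0, 0, []⟩) (.leaf ⟨3, 3295, 2137, 0, 0, 0, 0, 37, 0, 2137, [12371, 1333, 19932]⟩)) (.node (.leaf ⟨2, 1004, 1987, 0, 0, 0, 0, 93, 0, 0, []⟩) (.leaf ⟨0, 4746, 4733, 0, 0, 0, 0, 6, 0, 4733, [28071, 28123, 28124]⟩))) (.node (.node (.leaf ⟨6, 1288, 1290, 0, 0, 0, 0, 39, 3, 1288, [7641, 7639, 7644]⟩) (.leaf ⟨5, 4019, 3903, 0, 0, 0, 0, 49, 4, 4018, [24026, 24025, 24028, 21546, 23304]⟩)) (.node (.leaf ⟨4, 2638, 2639, 0, 0, 0, 0, 93, 0, 0, []⟩) (.leaf ⟨0, 0, 0, 0, 0, 0, 0, 0, 0, 0, []⟩)))))) (.node (.node (.node (.node (.node (.leaf ⟨3, 118, 118, 1, 0, 1, 0, 21, 5, 118, [499, 483, 956, 482, 498]⟩) (.leaf ⟨9, 993, 2832, 0, 0, 0, 0, 93, 0, 0, []⟩)) (.node (.leaf ⟨11, 685, 685, 1, 0, 1, 0, 44, 3, 685, [4141, 9180, 4140]⟩) (.leaf ⟨10, 4311, 4312, 0, 0, 0, 0, 93, 0,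 0, []⟩))) (.node (.node (.leaf ⟨6, 786, 753, 0, 0, 0, 0, 55, 0, 753, [4731, 3195, 4928]⟩) (.leaf ⟨8, 350, 350, 1, 0, (-1), 0, 47, 3, 350, [1913, 21468, 1912]⟩)) (.node (.leaf ⟨4, 2310, 2306, 0, 0, 0, 0, 40, 2, 2309, [13274, 13273, 13260]⟩) (.leaf ⟨6, 2262, 37, 0, 0, 0, 0, 24, 3, 2262, [13063, 15008, 72]⟩)))) (.node (.node (.node (.leaf ⟨4, 559, 564, 0, 0, 0, 0, 30, 5, 559, [3009, 3007, 3036, 3026, 3028]⟩) (.leaf ⟨1, 2824, 3078, 0, 0, 0, 0, 20, 0, 3078, [18613, 19421, 17326]⟩)) (.node (.leaf ⟨2, 325, 1246, 0, 0, 0, 0, 23, 0, 1246, [7529, 11229, 1828]⟩) (.leaf ⟨6, 4653, 4654, 0, 0, 0, 0, 93, 0, 0, []⟩))) (.node (.node (.leaf ⟨8, 1156, 1150, 0, 0, 0, 0, 47, 3, 1156, [7123, 7132, 7102]⟩) (.leaf ⟨4, 3848, 2283, 0, 0, 0, 0, 43, 0, 2283, [13141, 23516, 22956]⟩)) (.node (.leaf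 ⟨6, 2533, 2569, 0, 0, 0, 0, 52, 2, 1580, [15194, 8921, 15324]⟩) (.leaf ⟨0, 0, 0, 0, 0, 0, 0, 0, 0, 0, []⟩))))) (.node (.node (.node (.node (.leaf ⟨6, 104, 104, 1, 0, (-1), 0, 45, 5, 104, [445, 2006, 2012, 2007, 444]⟩) (.leaf ⟨6, 426, 3045, 0, 0, 0, 0, 93, 0, 0, []⟩)) (.node (.leaf ⟨4, 1735, 1736, 0, 0, 0, 0, 93, 0, 0, []⟩) (.leaf ⟨7, 4494, 4487, 0, 0, 0, 0, 58, 0, 4487, [26565, 26587, 26588]⟩))) (.node (.node (.leaf ⟨9, 960, 961, 0, 0, 0, 0, 93, 0, 0, []⟩) (.leaf ⟨10, 3775, 3777, 0, 0, 0, 0, 58, 3, 3775, [22487, 22485, 22490]⟩)) (.node (.leaf ⟨10, 1708, 1708, 1, 0, (-1), 0, 65, 4, 1707, [10028, 10025, 14300, 10024, 10028]⟩) (.leaf ⟨2, 2349, 2349, (-1), 0, (-1), 0, 28, 0, 2349, [13437, 9130, 13436]⟩)))) (.node (.node (.node (.leaf ⟨7, 494, 494, (-1), 0, (-1), 0, 40,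 3, 494, [2557, 4060, 2556]⟩) (.leaf ⟨10, 3377, 3377, 1, 0, (-1), 0, 43, 3, 3377, [20437, 20444, 20436]⟩)) (.node (.leaf ⟨6, 2097, 2098, 0, 0, 0, 0, 93, 0, 0, []⟩) (.leaf ⟨7, 4822, 4823, 0, 0, 0, 0, 93, 0, 0, []⟩))) (.node (.node (.leaf ⟨2, 1409, 1415, 0, 0, 0, 0, 28, 2, 1408, [8132, 8131, 8156]⟩) (.leaf ⟨3, 3510, 4096, 0, 0, 0, 0, 33, 0, 4096, [24485, 24541, 20960]⟩)) (.node (.leaf ⟨3, 1071, 1693, 0, 0, 0, 0, 36, 2, 1070, [6698, 6697, 9948]⟩) (.leaf ⟨0, 0, 0, 0, 0, 0, 0, 0, 0, 0, []⟩))))))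

def factsPart240 : ATree TFact :=
  .node (.node (.node (.node (.node (.node (.leaf ⟨1, 113, 100, 0, 0, 0, 0, 13, 0, 100, [429, 477, 478]⟩) (.leaf ⟨4, 2780, 2780, 1, 0, 1, 0, 42, 0, 2780, [16859, 16862, 16858]⟩)) (.node (.leaf ⟨5, 1534, 1534, (-1), 0, 1, 0, 46, 0, 1534, [8647, 8670, 8646]⟩) (.leaf ⟨3, 452, 750, 0, 0, 0, 0, 36, 2, 451, [2398, 2397, 4712]⟩))) (.node (.node (.leaf ⟨3, 487, 487, (-1), 0, (-1), 0, 36, 2, 651, [3622, 4034, 3622]⟩) (.leaf ⟨7, 3509, 3510, 0, 0, 0, 0, 93, 0, 0, []⟩)) (.node (.leaf ⟨10, 2198, 2199, 0, 0, 0, 0, 93, 0, 0, []⟩) (.leaf ⟨4, 2426, 2426, 1, 0, (-1), 0, 38, 0, 2426, [14307, 14310, 14546, 14311, 14306]⟩)))) (.node (.node (.node (.leaf ⟨7, 484, 477, 0, 0, 0, 0, 58, 0, 477, [2467, 2527, 2518]⟩) (.leaf ⟨9, 3118, 3119, 0, 0, 0, 0, 93, 0,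 0, []⟩)) (.node (.leaf ⟨7, 1490, 1789, 0, 0, 0, 0, 93, 0, 0, []⟩) (.leaf ⟨2, 3522, 3522, (-1), 0, 1, 0, 21, 0, 3522, [20999, 27051, 27102, 27050, 20998]⟩))) (.node (.node (.leaf ⟨11, 1040, 280, 0, 0, 0, 0, 62, 3, 1040, [6611, 6622, 1720]⟩) (.leaf ⟨2, 3687, 3687, (-1), 0, 11, 0, 26, 2, 3846, [22952, 23006, 22952]⟩)) (.node (.leaf ⟨2, 1782, 2189, 0, 0, 0, 0, 29, 0, 2189, [12677, 14814, 10636]⟩) (.leaf ⟨0, 832, 832, (-1), 0, (-1), 0, 7, 0, 832, [5313, 31198, 5312]⟩))))) (.node (.node (.node (.node (.leaf ⟨4, 210, 211, 0, 0, 0, 0, 93, 0, 0, []⟩) (.leaf ⟨7, 2931, 2934, 0, 0, 0, 0, 93, 0, 0, []⟩)) (.node (.leaf ⟨2, 1659, 1659, 1, 0, 1, 0, 25, 0, 1659, [9685, 9120, 9684]⟩) (.leaf ⟨6, 4386, 4381, 0, 0, 0, 0, 54, 0, 4381, [26049, 26077, 26078]⟩))) (.node (.node (.leaf ⟨8, 485,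 885, 0, 0, 0, 0, 47, 3, 485, [2521, 5596, 5598]⟩) (.leaf ⟨1, 2774, 3728, 0, 0, 0, 0, 16, 0, 3728, [21963, 16953, 16820]⟩)) (.node (.leaf ⟨8, 1017, 717, 0, 0, 0, 0, 47, 3, 1017, [6405, 6401, 4300]⟩) (.leaf ⟨0, 5012, 4723, 0, 0, 0, 0, 7, 0, 4723, [28049, 30175, 30136]⟩)))) (.node (.node (.node (.leaf ⟨6, 633, 643, 0, 0, 0, 0, 39, 3, 633, [3509, 3548, 3550]⟩) (.leaf ⟨7, 3295, 3296, 0, 0, 0, 0, 93, 0, 0, []⟩)) (.node (.leaf ⟨10, 1987, 1988, 0, 0, 0, 0, 93, 0, 0, []⟩) (.leaf ⟨5, 4739, 4747, 0, 0, 0, 0, 93, 0, 0, []⟩))) (.node (.node (.leaf ⟨2, 16, 310, 0, 0, 0, 0, 26, 0, 310, [1799, 4803, 30]⟩) (.leaf ⟨7, 4019, 4020, 0, 0, 0, 0, 93, 0, 0, []⟩)) (.node (.leaf ⟨5, 2636, 2640, 0, 0, 0, 0, 93, 0, 0, []⟩) (.leaf ⟨0, 0, 0, 0, 0, 0, 0, 0, 0, 0, []⟩)))))) (.node (.node (.node (.node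 (.node (.leaf ⟨3, 119, 119, (-1), 0, (-1), 0, 33, 0, 119, [501, 990, 500]⟩) (.leaf ⟨5, 2830, 2832, 0, 0, 0, 0, 48, 2, 994, [17370, 6325, 17374]⟩)) (.node (.leaf ⟨7, 738, 745, 0, 0, 0, 0, 46, 3, 738, [4599, 4436, 4658]⟩) (.leaf ⟨7, 4312, 4307, 0, 0, 0, 0, 58, 0, 4307, [25551, 25565, 25566]⟩))) (.node (.node (.leaf ⟨6, 780, 754, (-21), 0, (-1), 0, 45, 5, 780, [4865, 5085, 4940, 5086, 4732]⟩) (.leaf ⟨8, 351, 351, 1, 0, 1, 0, 41, 3, 351, [1915, 21470, 1914]⟩)) (.node (.leaf ⟨4, 2307, 2311, 0, 0, 0, 0, 39, 0, 2311, [13277, 13278, 13266]⟩) (.leaf ⟨6, 4849, 2909, 0, 0, 0, 0, 15, 3, 4849, [28829, 29662, 17770]⟩)))) (.node (.node (.node (.leaf ⟨4, 560, 565, 0, 0, 0, 0, 22, 3, 560, [3011, 3038, 3030]⟩) (.leaf ⟨1, 3197, 3079, 0, 0, 0, 0, 16, 0, 3079, [18617, 19423, 19396]⟩))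 (.node (.leaf ⟨2, 326, 1247, 0, 0, 0, 0, 25, 0, 1247, [7531, 11231, 1830]⟩) (.leaf ⟨5, 4654, 4655, 0, 0, 0, 0, 93, 0, 0, []⟩))) (.node (.node (.leaf ⟨5, 1101, 1157, 0, 0, 0, 0, 93, 0, 0, []⟩) (.leaf ⟨4, 3849, 2284, 0, 0, 0, 0, 44, 0, 2284, [13145, 23519, 22958]⟩)) (.node (.leaf ⟨8, 247, 2570, 0, 0, 0, 0, 93, 0, 0, []⟩) (.leaf ⟨0, 0, 0, 0, 0, 0, 0, 0, 0, 0, []⟩))))) (.node (.node (.node (.node (.leaf ⟨6, 369, 369, (-1), 0, 1, 0, 53, 0, 369, [1991, 2014, 1990]⟩) (.leaf ⟨3, 3044, 3045, 0, 0, 0, 0, 32, 0, 3045, [18399, 2295, 18394]⟩)) (.node (.leaf ⟨7, 1731, 1736, 0, 0, 0, 0, 40, 3, 1731, [10175, 10204, 10206]⟩) (.leaf ⟨5, 4414, 4488, 0, 0, 0, 0, 46, 2, 2671, [26168, 15975, 26566]⟩))) (.node (.node (.leaf ⟨2, 961, 837, 0, 0, 0, 0, 27, 0, 837, [5331, 6109, 6110]⟩) (.leaf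 ⟨10, 3778, 3776, 0, 0, 0, 0, 54, 3, 3778, [22493, 22495, 22488]⟩)) (.node (.leaf ⟨5, 2425, 2425, 1, 0, (-1), 0, 49, 4, 1709, [14288, 10033, 14302, 10032, 14288]⟩) (.leaf ⟨2, 1673, 1051, 35, 0, 7, 0, 22, 2, 15, [9892, 4802, 29247]⟩)))) (.node (.node (.node (.leaf ⟨7, 553, 553, (-1), 0, 1, 0, 33, 3, 553, [2981, 4062, 2980]⟩) (.leaf ⟨11, 3372, 3372, 1, 0, (-1), 0, 65, 5, 3372, [20421, 20441, 20446, 20440, 20420]⟩)) (.node (.leaf ⟨4, 1973, 2099, 0, 0, 0, 0, 93, 0, 0, []⟩) (.leaf ⟨6, 4823, 4824, 0, 0, 0, 0, 93, 0, 0, []⟩))) (.node (.node (.leaf ⟨10, 1411, 1416, 0, 0, 0, 0, 93, 0, 0, []⟩) (.leaf ⟨2, 2122, 2122, (-1), 0, (-1), 0, 26, 0, 2122, [12315, 14008, 12314]⟩)) (.node (.leaf ⟨3, 1694, 1782, 0, 0, 0, 0, 37, 0, 1782, [10637, 16350, 9950]⟩) (.leaf ⟨0, 0, 0, 0, 0, 0, 0,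 0, 0, 0, []⟩))))))

def factsPart241 : ATree TFact :=
  .node (.node (.node (.node (.node (.node (.leaf ⟨3, 113, 114, 0, 0, 0, 0, 93, 0, 0, []⟩) (.leaf ⟨8, 141, 2781, 0, 0, 0, 0, 93, 0, 0, []⟩)) (.node (.leaf ⟨6, 1536, 1536, (-1), 0, 1, 0, 45, 5, 1536, [8651, 8649, 8672, 8648, 8650]⟩) (.leaf ⟨3, 751, 453, 0, 0, 0, 0, 31, 0, 453, [2401, 25056, 4714]⟩))) (.node (.node (.leaf ⟨11, 472, 472, 1, 0, 1, 0, 55, 3, 472, [2457, 3952, 2456]⟩) (.leaf ⟨5, 3501, 3511, 0, 0, 0, 0, 93, 0, 0, []⟩)) (.node (.leaf ⟨10, 228, 2195, 0, 0, 0, 0, 58, 3, 228, [1547, 1545, 12760]⟩) (.leaf ⟨3, 2061, 2061, (-1), 0, (-1), 0, 30, 0, 2061, [12063, 29151, 29152, 29150, 12062]⟩)))) (.node (.node (.node (.leaf ⟨7, 485, 478, 0, 0, 0, 0, 46, 3, 485, [2521, 2528, 2468]⟩) (.leaf ⟨5, 3119, 3117, 0, 0, 0,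 0, 48, 0, 3117, [18901, 18911, 18912]⟩)) (.node (.leaf ⟨5, 1789, 1519, 0, 0, 0, 0, 46, 2, 1490, [10720, 8543, 8608]⟩) (.leaf ⟨2, 3523, 3523, 1, 0, (-1), 0, 28, 0, 3523, [21001, 27104, 21000]⟩))) (.node (.node (.leaf ⟨11, 1041, 281, 0, 0, 0, 0, 50, 3, 1041, [6613, 6624, 1722]⟩) (.leaf ⟨2, 3688, 3688, (-1), 0, (-11), 0, 25, 2, 3687, [21684, 23008, 21684]⟩)) (.node (.leaf ⟨2, 1783, 2404, 0, 0, 0, 0, 23, 0, 2404, [13897, 14817, 10638]⟩) (.leaf ⟨0, 853, 853, 1, 0, 1, 0, 4, 0, 853, [5435, 31200, 5434]⟩))))) (.node (.node (.node (.node (.leaf ⟨3, 211, 212, 0, 0, 0, 0, 93, 0, 0, []⟩) (.leaf ⟨10, 2933, 2934, 0, 0, 0, 0, 58, 3, 2933, [17887, 17871, 17888]⟩)) (.node (.leaf ⟨2, 1660, 1660, (-1), 0, (-1), 0, 24, 0, 1660, [9689, 9696, 9688]⟩) (.leaf ⟨5, 4386, 4387, 0, 0, 0, 0, 93,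 0, 0, []⟩))) (.node (.node (.leaf ⟨8, 877, 475, 0, 0, 0, 0, 47, 3, 877, [5573, 5571, 2462]⟩) (.leaf ⟨1, 3731, 3729, 0, 0, 0, 0, 15, 0, 3729, [21967, 21985, 21972]⟩)) (.node (.leaf ⟨8, 718, 2287, 0, 0, 0, 0, 41, 3, 718, [4303, 13793, 13156]⟩) (.leaf ⟨0, 5013, 4724, 0, 0, 0, 0, 4, 0, 4724, [28051, 30177, 30138]⟩)))) (.node (.node (.node (.leaf ⟨3, 643, 644, 0, 0, 0, 0, 93, 0, 0, []⟩) (.leaf ⟨3, 3296, 3277, 0, 0, 0, 0, 33, 0, 3277, [19783, 19935, 19936]⟩)) (.node (.leaf ⟨11, 1988, 1989, 0, 0, 0, 0, 93, 0, 0, []⟩) (.leaf ⟨4, 4747, 4748, 0, 0, 0, 0, 93, 0, 0, []⟩))) (.node (.node (.leaf ⟨2, 17, 311, 0, 0, 0, 0, 23, 0, 311, [1801, 7649, 32]⟩) (.leaf ⟨5, 4020, 4016, 0, 0, 0, 0, 46, 0, 4016, [24015, 24031, 24032]⟩)) (.node (.leaf ⟨4, 2640, 2641, 0, 0, 0, 0, 93, 0, 0, []⟩)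 (.leaf ⟨0, 0, 0, 0, 0, 0, 0, 0, 0, 0, []⟩)))))) (.node (.node (.node (.node (.node (.leaf ⟨5, 167, 168, 0, 0, 0, 0, 93, 0, 0, []⟩) (.leaf ⟨9, 1012, 2833, 0, 0, 0, 0, 93, 0, 0, []⟩)) (.node (.leaf ⟨11, 555, 1613, 0, 0, 0, 0, 93, 0, 0, []⟩) (.leaf ⟨5, 4308, 975, 0, 0, 0, 0, 46, 2, 4297, [25552, 25487, 6174]⟩))) (.node (.node (.leaf ⟨7, 783, 780, (-47), 0, 11, 0, 68, 32, 616, [3341, 3339, 3337, 4866, 2167, 2206, 3342, 3326, 3134, 4868, 4872, 4874, 4871, 333, 2777, 4876, 3801, 4878, 4882, 4884, 4878, 4886, 4888, 4878, 3807, 4890, 4892, 4896, 4898, 4892, 4900, 4902, 4892, 3806, 3800, 2776, 4508, 850, 2780, 854, 852, 424, 3710, 428, 2008, 2156, 1916, 1918, 1920, 1922, 2614, 2616, 2420, 3236, 4914, 4916, 4918, 4926, 4932, 4936, 4942, 4946, 5017, 5018, 5021, 5027, 5025, 5031,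 5033, 4442, 5038, 4445, 4435, 5042, 4427, 4658, 5054, 4666, 4663, 5056, 5059, 4602, 5062, 5075, 5081, 5030, 5083, 4732, 5089]⟩) (.leaf ⟨8, 395, 395, 1, 0, (-1), 0, 34, 3, 395, [2159, 21472, 2158]⟩)) (.node (.leaf ⟨9, 273, 2312, 0, 0, 0, 0, 93, 0, 0, []⟩) (.leaf ⟨6, 4850, 2910, 0, 0, 0, 0, 53, 0, 2910, [17775, 29665, 28830]⟩)))) (.node (.node (.node (.leaf ⟨4, 561, 566, 0, 0, 0, 0, 43, 0, 566, [3033, 3041, 3020]⟩) (.leaf ⟨1, 3198, 3080, 0, 0, 0, 0, 15, 0, 3080, [18621, 19425, 19398]⟩)) (.node (.leaf ⟨2, 327, 1248, 0, 0, 0, 0, 24, 0, 1248, [7533, 11233, 1832]⟩) (.leaf ⟨4, 4655, 4656, 0, 0, 0, 0, 93, 0, 0, []⟩))) (.node (.node (.leaf ⟨4, 1157, 1158, 0, 0, 0, 0, 93, 0, 0, []⟩) (.leaf ⟨9, 2258, 3944, 0, 0, 0, 0, 93, 0, 0, []⟩)) (.node (.leaf ⟨5, 2569, 2570, 0, 0, 0, 0,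 47, 0, 2570, [15329, 9748, 15324]⟩) (.leaf ⟨0, 0, 0, 0, 0, 0, 0, 0, 0, 0, []⟩))))) (.node (.node (.node (.node (.leaf ⟨6, 370, 370, 1, 0, (-1), 0, 54, 0, 370, [1993, 2016, 1992]⟩) (.leaf ⟨6, 431, 3046, 0, 0, 0, 0, 93, 0, 0, []⟩)) (.node (.leaf ⟨1, 462, 1737, 0, 0, 0, 0, 93, 0, 0, []⟩) (.leaf ⟨6, 4490, 4416, 0, 0, 0, 0, 45, 5, 4490, [26571, 26569, 26593, 26170, 26172]⟩))) (.node (.node (.leaf ⟨7, 961, 962, 0, 0, 0, 0, 93, 0, 0, []⟩) (.leaf ⟨8, 932, 3779, 0, 0, 0, 0, 93, 0, 0, []⟩)) (.node (.leaf ⟨5, 1707, 2426, 0, 0, 0, 0, 93, 0, 0, []⟩) (.leaf ⟨4, 507, 507, 1, 0, 1, 0, 43, 0, 507, [2661, 14232, 2660]⟩)))) (.node (.node (.node (.leaf ⟨10, 551, 679, 0, 0, 0, 0, 93, 0, 0, []⟩) (.leaf ⟨11, 3373, 3373, 1, 0, 1, 0, 59, 3, 3373, [20423, 20448, 20422]⟩)) (.node (.leaf ⟨3,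 2099, 2100, 0, 0, 0, 0, 93, 0, 0, []⟩) (.leaf ⟨10, 4822, 4825, 0, 0, 0, 0, 93, 0, 0, []⟩))) (.node (.node (.leaf ⟨1, 760, 642, 0, 0, 0, 0, 14, 0, 642, [3547, 6275, 4746]⟩) (.leaf ⟨2, 2123, 2123, 1, 0, 1, 0, 23, 0, 2123, [12317, 24544, 12316]⟩)) (.node (.leaf ⟨3, 1695, 1783, 0, 0, 0, 0, 31, 0, 1783, [10639, 16353, 9956]⟩) (.leaf ⟨0, 0, 0, 0, 0, 0, 0, 0, 0, 0, []⟩))))))

def factsPart242 : ATree TFact :=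
  .node (.node (.node (.node (.node (.node (.leaf ⟨1, 114, 105, 0, 0, 0, 0, 12, 0, 105, [449, 481, 482]⟩) (.leaf ⟨3, 2781, 157, 0, 0, 0, 0, 34, 0, 157, [911, 779, 16866]⟩)) (.node (.leaf ⟨6, 1537, 1537, (-1), 0, (-1), 0, 39, 3, 1537, [8653, 8674, 8652]⟩) (.leaf ⟨3, 3055, 4209, 0, 0, 0, 0, 33, 0, 4209, [25053, 25059, 18452]⟩))) (.node (.node (.leaf ⟨11, 473, 473, 1, 0, (-1), 0, 59, 3, 473, [2459, 4578, 2458]⟩) (.leaf ⟨4, 3511, 3512, 0, 0, 0, 0, 93, 0, 0, []⟩)) (.node (.leaf ⟨10, 2196, 229, 0, 0, 0, 0, 54, 3, 2196, [12763, 12771, 1548]⟩) (.leaf ⟨2, 2061, 2188, 0, 0, 0, 0, 22, 0, 2188, [12673, 12707, 12062]⟩)))) (.node (.node (.node (.leaf ⟨7, 470, 486, 0, 0, 0, 0, 93, 0, 0, []⟩) (.leaf ⟨10, 497, 497, 1, 0, 1, 0, 58, 3, 497, [2573, 2494, 2572]⟩)) (.node (.leaf ⟨4, 1510,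 1789, 0, 0, 0, 0, 40, 2, 1491, [8584, 8545, 10720]⟩) (.leaf ⟨4, 2122, 2122, (-1), 0, (-1), 0, 41, 0, 2122, [12315, 13962, 12314]⟩))) (.node (.node (.leaf ⟨11, 1042, 282, 0, 0, 0, 0, 44, 3, 1042, [6615, 6626, 1724]⟩) (.leaf ⟨2, 3689, 3689, (-1), 0, 11, 0, 24, 2, 3688, [21686, 23010, 21686]⟩)) (.node (.leaf ⟨2, 741, 1619, (-27), 0, (-1), 0, 22, 2, 588, [4612, 3220, 9257]⟩) (.leaf ⟨0, 920, 920, (-1), 0, (-1), 0, 3, 0, 920, [5871, 31202, 5870]⟩))))) (.node (.node (.node (.node (.leaf ⟨2, 212, 213, 0, 0, 0, 0, 93, 0, 0, []⟩) (.leaf ⟨1, 205, 205, (-1), 0, (-1), 0, 19, 0, 205, [1493, 220, 1492]⟩)) (.node (.leaf ⟨2, 1661, 1661, 1, 0, 1, 0, 23, 0, 1661, [9693, 9698, 9692]⟩) (.leaf ⟨7, 2674, 4388, 0, 0, 0, 0, 93, 0, 0, []⟩))) (.node (.node (.leaf ⟨8, 476, 878, 0, 0, 0, 0, 41,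 3, 476, [2465, 5603, 5574]⟩) (.leaf ⟨1, 2775, 2775, (-1), 0, (-1), 0, 18, 0, 2775, [16833, 1208, 16832]⟩)) (.node (.leaf ⟨8, 719, 2288, 0, 0, 0, 0, 61, 0, 2288, [13161, 13795, 4304]⟩) (.leaf ⟨0, 5014, 4725, 0, 0, 0, 0, 3, 0, 4725, [28053, 30179, 30140]⟩)))) (.node (.node (.node (.leaf ⟨6, 635, 644, 0, 0, 0, 0, 32, 3, 635, [3515, 3552, 3554]⟩) (.leaf ⟨6, 3296, 3297, 0, 0, 0, 0, 93, 0, 0, []⟩)) (.node (.leaf ⟨9, 1987, 1990, 0, 0, 0, 0, 93, 0, 0, []⟩) (.leaf ⟨10, 4748, 4749, 0, 0, 0, 0, 93, 0, 0, []⟩))) (.node (.node (.leaf ⟨2, 18, 312, 0, 0, 0, 0, 22, 0, 312, [1803, 7651, 34]⟩) (.leaf ⟨7, 4018, 4021, 0, 0, 0, 0, 93, 0, 0, []⟩)) (.node (.leaf ⟨11, 2638, 2640, 0, 0, 0, 0, 50, 3, 2638, [15837, 15835, 15840]⟩) (.leaf ⟨0, 0, 0, 0, 0, 0, 0, 0, 0, 0, []⟩)))))) (.node (.node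 (.node (.node (.node (.leaf ⟨4, 168, 168, 1, 0, (-1), 0, 38, 0, 168, [995, 971, 964, 970, 994]⟩) (.leaf ⟨10, 2833, 2832, 0, 0, 0, 0, 63, 3, 2833, [17379, 6388, 17374]⟩)) (.node (.leaf ⟨6, 552, 730, 0, 0, 0, 0, 24, 3, 552, [2979, 4098, 4414]⟩) (.leaf ⟨6, 977, 4310, 0, 0, 0, 0, 45, 5, 977, [6179, 6177, 25571, 25554, 25556]⟩))) (.node (.node (.leaf ⟨10, 586, 783, 0, 0, 0, 0, 49, 5, 586, [3197, 3189, 3236, 4916, 4918]⟩) (.leaf ⟨7, 405, 405, 1, 0, (-1), 0, 56, 4, 396, [2196, 2163, 21474, 2162, 2196]⟩)) (.node (.leaf ⟨3, 275, 2312, 0, 0, 0, 0, 35, 2, 274, [1710, 1709, 13282]⟩) (.leaf ⟨6, 4851, 2911, 0, 0, 0, 0, 54, 0, 2911, [17779, 29667, 28832]⟩)))) (.node (.node (.node (.leaf ⟨10, 563, 567, 0, 0, 0, 0, 93, 0, 0, []⟩) (.leaf ⟨1, 3199, 3081, 0, 0, 0, 0, 14, 0, 3081, [18625,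 19427, 19400]⟩)) (.node (.leaf ⟨2, 328, 1275, 0, 0, 0, 0, 23, 0, 1275, [7615, 11235, 1834]⟩) (.leaf ⟨3, 4656, 4657, 0, 0, 0, 0, 93, 0, 0, []⟩))) (.node (.node (.leaf ⟨3, 1158, 1159, 0, 0, 0, 0, 93, 0, 0, []⟩) (.leaf ⟨5, 3847, 3944, 0, 0, 0, 0, 48, 2, 2259, [22954, 13057, 23522]⟩)) (.node (.leaf ⟨6, 249, 2570, 0, 0, 0, 0, 52, 2, 248, [1610, 1609, 15328]⟩) (.leaf ⟨0, 0, 0, 0, 0, 0, 0, 0, 0, 0, []⟩))))) (.node (.node (.node (.node (.leaf ⟨6, 371, 371, (-1), 0, 1, 0, 55, 0, 371, [1995, 2018, 1994]⟩) (.leaf ⟨2, 3045, 3046, 0, 0, 0, 0, 24, 0, 3046, [18403, 2313, 18398]⟩)) (.node (.leaf ⟨10, 1737, 1738, 0, 0, 0, 0, 93, 0, 0, []⟩) (.leaf ⟨6, 4491, 4417, 0, 0, 0, 0, 39, 3, 4491, [26573, 26594, 26174]⟩))) (.node (.node (.leaf ⟨2, 962, 957, 0, 0, 0, 0, 25, 0, 957, [6095, 6113,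 6114]⟩) (.leaf ⟨5, 3779, 3780, 0, 0, 0, 0, 93, 0, 0, []⟩)) (.node (.leaf ⟨11, 1709, 2426, 0, 0, 0, 0, 50, 3, 1709, [10033, 10029, 14306]⟩) (.leaf ⟨4, 513, 513, (-1), 0, (-1), 0, 40, 0, 513, [2685, 30690, 2684]⟩)))) (.node (.node (.node (.leaf ⟨11, 679, 680, 0, 0, 0, 0, 93, 0, 0, []⟩) (.leaf ⟨11, 3374, 3374, 1, 0, (-1), 0, 55, 3, 3374, [20425, 20450, 20424]⟩)) (.node (.leaf ⟨4, 1938, 2101, 0, 0, 0, 0, 93, 0, 0, []⟩) (.leaf ⟨7, 4825, 4826, 0, 0, 0, 0, 93, 0, 0, []⟩))) (.node (.node (.leaf ⟨1, 761, 643, 0, 0, 0, 0, 13, 0, 643, [3551, 8163, 4748]⟩) (.leaf ⟨2, 2124, 2124, (-1), 0, (-1), 0, 22, 0, 2124, [12319, 24546, 12318]⟩)) (.node (.leaf ⟨3, 2706, 2410, 0, 0, 0, 0, 36, 0, 2410, [13935, 16355, 16266]⟩) (.leaf ⟨0, 0, 0, 0, 0, 0, 0, 0, 0, 0, []⟩))))))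

def factsPart243 : ATree TFact :=
  .node (.node (.node (.node (.node (.node (.leaf ⟨7, 114, 115, 0, 0, 0, 0, 93, 0, 0, []⟩) (.leaf ⟨9, 2781, 2782, 0, 0, 0, 0, 93, 0, 0, []⟩)) (.node (.leaf ⟨6, 1538, 1538, (-1), 0, 1, 0, 32, 3, 1538, [8655, 8676, 8654]⟩) (.leaf ⟨3, 4208, 4210, 0, 0, 0, 0, 32, 0, 4210, [25055, 25061, 25042]⟩))) (.node (.node (.leaf ⟨11, 474, 474, 1, 0, 1, 0, 55, 3, 474, [2461, 4580, 2460]⟩) (.leaf ⟨3, 3512, 3513, 0, 0, 0, 0, 93, 0, 0, []⟩)) (.node (.leaf ⟨10, 2197, 234, 0, 0, 0, 0, 61, 3, 2197, [12765, 12772, 1572]⟩) (.leaf ⟨10, 2172, 2172, (-1), 0, (-1), 0, 49, 5, 2172, [12611, 10941, 9772, 10940, 12610]⟩)))) (.node (.node (.node (.leaf ⟨6, 486, 487, 0, 0, 0, 0, 93, 0, 0, []⟩) (.leaf ⟨10, 3118, 3118, 1, 0, (-1), 0, 61, 3, 3118, [18909, 18916, 18908]⟩))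 (.node (.leaf ⟨5, 1513, 1510, 9, 0, 21, 0, 38, 3, 1511, [8593, 8597, 10719, 10723, 10725]⟩) (.leaf ⟨5, 2124, 2124, (-1), 0, (-1), 0, 38, 5, 2124, [12319, 12317, 27108, 12316, 12318]⟩))) (.node (.node (.leaf ⟨11, 1043, 1030, 0, 0, 0, 0, 59, 3, 1043, [6617, 6628, 6516]⟩) (.leaf ⟨2, 3690, 3690, (-1), 0, (-11), 0, 23, 2, 3689, [21688, 23012, 21688]⟩)) (.node (.leaf ⟨1, 1067, 587, 0, 0, 0, 0, 19, 0, 587, [3209, 10271, 6688]⟩) (.leaf ⟨0, 926, 926, 1, 0, 1, 0, 2, 0, 926, [5923, 31204, 5922]⟩))))) (.node (.node (.node (.node (.leaf ⟨10, 213, 214, 0, 0, 0, 0, 93, 0, 0, []⟩) (.leaf ⟨1, 206, 206, 1, 0, 1, 0, 14, 0, 206, [1495, 17892, 1494]⟩)) (.node (.leaf ⟨10, 1661, 1662, 0, 0, 0, 0, 93, 0, 0, []⟩) (.leaf ⟨6, 4388, 4389, 0, 0, 0, 0, 93, 0, 0, []⟩))) (.node (.node (.leaf ⟨8,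 477, 879, 0, 0, 0, 0, 61, 0, 879, [5577, 5605, 2466]⟩) (.leaf ⟨1, 2776, 2776, 1, 0, 1, 0, 19, 0, 2776, [16835, 21988, 16834]⟩)) (.node (.leaf ⟨8, 720, 2289, 0, 0, 0, 0, 47, 3, 720, [4307, 13796, 13164]⟩) (.leaf ⟨0, 5015, 4726, 0, 0, 0, 0, 2, 0, 4726, [28055, 30181, 30142]⟩)))) (.node (.node (.node (.leaf ⟨2, 644, 645, 0, 0, 0, 0, 93, 0, 0, []⟩) (.leaf ⟨3, 3297, 3278, 0, 0, 0, 0, 32, 0, 3278, [19785, 19939, 19940]⟩)) (.node (.leaf ⟨10, 1990, 1991, 0, 0, 0, 0, 93, 0, 0, []⟩) (.leaf ⟨5, 4749, 4750, 0, 0, 0, 0, 93, 0, 0, []⟩))) (.node (.node (.leaf ⟨3, 37, 1243, 0, 0, 0, 0, 21, 5, 37, [73, 37, 7652, 1822, 7522]⟩) (.leaf ⟨10, 4020, 4021, 0, 0, 0, 0, 58, 3, 4020, [24033, 24027, 24036]⟩)) (.node (.leaf ⟨11, 2641, 2639, 0, 0, 0, 0, 44, 3, 2641, [15843, 15845, 15838]⟩) (.leaf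 ⟨0, 0, 0, 0, 0, 0, 0, 0, 0, 0, []⟩)))))) (.node (.node (.node (.node (.node (.leaf ⟨3, 168, 117, 0, 0, 0, 0, 31, 0, 117, [495, 973, 994]⟩) (.leaf ⟨5, 2828, 2833, 0, 0, 0, 0, 48, 2, 1013, [17356, 6385, 17378]⟩)) (.node (.leaf ⟨6, 555, 731, 0, 0, 0, 0, 54, 0, 731, [4417, 9189, 3000]⟩) (.leaf ⟨6, 4111, 4311, 0, 0, 0, 0, 39, 3, 4111, [24591, 25572, 25558]⟩))) (.node (.node (.leaf ⟨10, 780, 752, 47, 0, 11, 0, 58, 3, 780, [5091, 5093, 4728]⟩) (.leaf ⟨7, 3637, 3637, (-1), 0, 1, 0, 57, 0, 3637, [21465, 21476, 21464]⟩)) (.node (.leaf ⟨10, 2312, 2313, 0, 0, 0, 0, 93, 0, 0, []⟩) (.leaf ⟨11, 4851, 4956, 0, 0, 0, 0, 93, 0, 0, []⟩)))) (.node (.node (.node (.leaf ⟨10, 564, 568, 0, 0, 0, 0, 93, 0, 0, []⟩) (.leaf ⟨1, 3202, 3082, 0, 0, 0, 0, 19, 0, 3082, [18629, 19429, 19406]⟩)) (.node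 (.leaf ⟨2, 329, 1276, 0, 0, 0, 0, 22, 0, 1276, [7617, 11237, 1848]⟩) (.leaf ⟨3, 4304, 4290, 0, 0, 0, 0, 32, 0, 4290, [25441, 21325, 25514]⟩))) (.node (.node (.leaf ⟨2, 1159, 1160, 0, 0, 0, 0, 93, 0, 0, []⟩) (.leaf ⟨9, 385, 3945, 0, 0, 0, 0, 93, 0, 0, []⟩)) (.node (.leaf ⟨6, 2534, 250, 0, 0, 0, 0, 45, 5, 2534, [15197, 15326, 15330, 15333, 1612]⟩) (.leaf ⟨0, 0, 0, 0, 0, 0, 0, 0, 0, 0, []⟩))))) (.node (.node (.node (.node (.leaf ⟨7, 373, 373, (-1), 0, 1, 0, 51, 5, 373, [1999, 1997, 2020, 1996, 1998]⟩) (.leaf ⟨10, 3046, 3046, 1, 0, 1, 0, 54, 3, 3046, [18403, 2334, 18402]⟩)) (.node (.leaf ⟨0, 1737, 1739, 0, 0, 0, 0, 93, 0, 0, []⟩) (.leaf ⟨6, 4492, 4418, 0, 0, 0, 0, 32, 3, 4492, [26575, 26596, 26176]⟩))) (.node (.node (.leaf ⟨6, 962, 963, 0, 0, 0, 0, 93, 0, 0, []⟩) (.leaf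 ⟨7, 3780, 3781, 0, 0, 0, 0, 93, 0, 0, []⟩)) (.node (.leaf ⟨4, 1707, 2349, 0, 0, 0, 0, 43, 2, 1610, [10024, 9105, 13436]⟩) (.leaf ⟨3, 513, 513, (-1), 0, (-1), 0, 33, 0, 513, [2685, 10286, 2684]⟩)))) (.node (.node (.node (.leaf ⟨10, 553, 553, 1, 0, 1, 0, 36, 3, 553, [2981, 2594, 2980]⟩) (.leaf ⟨11, 3375, 3375, 1, 0, 1, 0, 50, 3, 3375, [20433, 20452, 20432]⟩)) (.node (.leaf ⟨2, 2101, 2099, 59, 0, (-31), 0, 22, 2, 1938, [12260, 11663, 12256]⟩) (.leaf ⟨10, 4826, 4823, 0, 0, 0, 0, 58, 3, 4826, [28645, 28643, 28638]⟩))) (.node (.node (.leaf ⟨1, 1411, 644, 0, 0, 0, 0, 12, 0, 644, [3555, 8165, 8148]⟩) (.leaf ⟨3, 3289, 3289, (-1), 0, (-1), 0, 21, 5, 3289, [19867, 12321, 24548, 12320, 19866]⟩)) (.node (.leaf ⟨11, 2620, 2707, 0, 0, 0, 0, 93, 0, 0, []⟩) (.leaf ⟨0, 0, 0, 0, 0, 0,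 0, 0, 0, 0, []⟩))))))

def factsPart244 : ATree TFact :=
  .node (.node (.node (.node (.node (.node (.leaf ⟨1, 115, 106, 0, 0, 0, 0, 16, 0, 106, [451, 485, 486]⟩) (.leaf ⟨3, 2782, 2780, 0, 0, 0, 0, 35, 0, 2780, [16859, 16869, 16870]⟩)) (.node (.leaf ⟨6, 1539, 1539, 1, 0, (-1), 0, 54, 0, 1539, [8657, 8678, 8656]⟩) (.leaf ⟨6, 1958, 4211, 0, 0, 0, 0, 93, 0, 0, []⟩))) (.node (.node (.leaf ⟨5, 677, 677, 1, 0, (-1), 0, 31, 3, 677, [3989, 2506, 3988]⟩) (.leaf ⟨10, 3513, 3514, 0, 0, 0, 0, 93, 0, 0, []⟩)) (.node (.leaf ⟨5, 2199, 2194, 0, 0, 0, 0, 49, 4, 2198, [12768, 12767, 12774, 1574, 12756]⟩) (.leaf ⟨10, 2188, 2188, (-1), 0, 1, 0, 43, 3, 2188, [12673, 29158, 12672]⟩)))) (.node (.node (.node (.leaf ⟨5, 487, 488, 0, 0, 0, 0, 93, 0, 0, []⟩) (.leaf ⟨10, 3119, 3119, 1, 0, 1,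 0, 63, 3, 3119, [18913, 18918, 18912]⟩)) (.node (.leaf ⟨3, 1508, 1513, 0, 0, 0, 0, 33, 2, 1505, [8578, 8573, 8594]⟩) (.leaf ⟨5, 2125, 2125, (-1), 0, 1, 0, 31, 3, 2125, [12321, 27110, 12320]⟩))) (.node (.node (.leaf ⟨11, 1044, 1031, 0, 0, 0, 0, 55, 3, 1044, [6619, 6630, 6520]⟩) (.leaf ⟨2, 3691, 3691, (-1), 0, 11, 0, 28, 2, 3690, [21690, 23014, 21690]⟩)) (.node (.leaf ⟨1, 1573, 588, 0, 0, 0, 0, 14, 0, 588, [3211, 14823, 8898]⟩) (.leaf ⟨0, 934, 934, (-1), 0, (-1), 0, 1, 0, 934, [5981, 31206, 5980]⟩))))) (.node (.node (.node (.node (.leaf ⟨11, 214, 215, 0, 0, 0, 0, 93, 0, 0, []⟩) (.leaf ⟨1, 1533, 1533, (-1), 0, (-1), 0, 15, 0, 1533, [8645, 17894, 8644]⟩)) (.node (.leaf ⟨7, 1660, 1660, 1, 0, (-1), 0, 51, 5, 1660, [9689, 9685, 6778, 9684, 9688]⟩) (.leaf ⟨5, 4389, 4390, 0,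 0, 0, 0, 93, 0, 0, []⟩))) (.node (.node (.leaf ⟨8, 655, 880, 0, 0, 0, 0, 62, 0, 880, [5579, 5607, 3648]⟩) (.leaf ⟨1, 2777, 2777, (-1), 0, (-1), 0, 16, 0, 2777, [16837, 21990, 16836]⟩)) (.node (.leaf ⟨6, 2289, 2389, 0, 0, 0, 0, 93, 0, 0, []⟩) (.leaf ⟨0, 5019, 4727, 0, 0, 0, 0, 9, 0, 4727, [28057, 30183, 30164]⟩)))) (.node (.node (.node (.leaf ⟨6, 637, 645, 0, 0, 0, 0, 24, 3, 637, [3521, 3556, 3558]⟩) (.leaf ⟨5, 3297, 3298, 0, 0, 0, 0, 93, 0, 0, []⟩)) (.node (.leaf ⟨11, 1991, 1992, 0, 0, 0, 0, 93, 0, 0, []⟩) (.leaf ⟨6, 4750, 4751, 0, 0, 0, 0, 93, 0, 0, []⟩))) (.node (.node (.leaf ⟨3, 38, 1244, 0, 0, 0, 0, 35, 0, 1244, [7525, 7655, 74]⟩) (.leaf ⟨5, 382, 4022, 0, 0, 0, 0, 93, 0, 0, []⟩)) (.node (.leaf ⟨8, 592, 2642, 0, 0, 0, 0, 93, 0, 0, []⟩) (.leaf ⟨0, 0, 0, 0, 0, 0,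 0, 0, 0, 0, []⟩)))))) (.node (.node (.node (.node (.node (.leaf ⟨4, 127, 169, 0, 0, 0, 0, 93, 0, 0, []⟩) (.leaf ⟨5, 2829, 2831, 0, 0, 0, 0, 49, 0, 2831, [17373, 17376, 17381, 17383, 17358]⟩)) (.node (.leaf ⟨6, 745, 1613, (-21), 0, (-11), 0, 55, 0, 1613, [9187, 9190, 4672]⟩) (.leaf ⟨6, 4112, 4312, 0, 0, 0, 0, 54, 0, 4312, [25567, 25575, 24592]⟩))) (.node (.node (.leaf ⟨8, 772, 642, 0, 0, 0, 0, 47, 3, 772, [4845, 4843, 3546]⟩) (.leaf ⟨6, 3636, 3636, 1, 0, 1, 0, 51, 0, 3636, [21461, 21467, 21478, 21466, 21460]⟩)) (.node (.leaf ⟨3, 2313, 276, 0, 0, 0, 0, 36, 0, 276, [1713, 13284, 13286]⟩) (.leaf ⟨6, 4956, 2912, 0, 0, 0, 0, 55, 0, 2912, [17783, 29669, 29670]⟩)))) (.node (.node (.node (.leaf ⟨3, 568, 567, 0, 0, 0, 0, 36, 2, 564, [3046, 3029, 3044]⟩) (.leaf ⟨1, 3123, 3201,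 38, 0, 10, 0, 13, 0, 3201, [19408, 19430, 18996]⟩)) (.node (.leaf ⟨3, 331, 1278, 0, 0, 0, 0, 21, 5, 331, [1855, 1851, 11238, 7618, 7620]⟩) (.leaf ⟨3, 4653, 4337, 0, 0, 0, 0, 33, 0, 4337, [25711, 27623, 27612]⟩))) (.node (.node (.leaf ⟨10, 1160, 1161, 0, 0, 0, 0, 93, 0, 0, []⟩) (.leaf ⟨10, 3945, 3944, 0, 0, 0, 0, 63, 3, 3945, [23527, 15092, 23522]⟩)) (.node (.leaf ⟨6, 2535, 251, 0, 0, 0, 0, 39, 3, 2535, [15199, 15334, 1614]⟩) (.leaf ⟨0, 0, 0, 0, 0, 0, 0, 0, 0, 0, []⟩))))) (.node (.node (.node (.node (.leaf ⟨7, 374, 374, (-1), 0, (-1), 0, 46, 3, 374, [2001, 2022, 2000]⟩) (.leaf ⟨7, 3046, 1946, 0, 0, 0, 0, 51, 5, 3046, [18403, 2305, 2382, 11430, 11432]⟩)) (.node (.leaf ⟨11, 1542, 1740, 0, 0, 0, 0, 93, 0, 0, []⟩) (.leaf ⟨6, 4493, 4419, 0, 0, 0, 0, 24, 3, 4493, [26577,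 26598, 26178]⟩))) (.node (.node (.leaf ⟨2, 963, 958, 0, 0, 0, 0, 24, 0, 958, [6097, 6117, 6118]⟩) (.leaf ⟨6, 3781, 3782, 0, 0, 0, 0, 93, 0, 0, []⟩)) (.node (.leaf ⟨3, 2349, 505, 0, 0, 0, 0, 36, 0, 505, [2655, 9137, 13436]⟩) (.leaf ⟨7, 1666, 1666, 1, 0, (-1), 0, 58, 0, 1666, [9733, 9746, 9732]⟩)))) (.node (.node (.node (.leaf ⟨5, 679, 679, (-1), 0, 1, 0, 49, 0, 679, [4067, 2985, 4070, 2984, 4066]⟩) (.leaf ⟨10, 3375, 3378, 0, 0, 0, 0, 93, 0, 0, []⟩)) (.node (.leaf ⟨3, 2101, 2102, 0, 0, 0, 0, 93, 0, 0, []⟩) (.leaf ⟨6, 4826, 4827, 0, 0, 0, 0, 93, 0, 0, []⟩))) (.node (.node (.leaf ⟨1, 1416, 788, 0, 0, 0, 0, 19, 0, 788, [4945, 8167, 8160]⟩) (.leaf ⟨3, 3499, 3499, 1, 0, 1, 0, 35, 0, 3499, [20939, 24550, 20938]⟩)) (.node (.leaf ⟨11, 2619, 2619, 1, 0, (-1), 0, 20, 3, 2619,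 [15603, 16278, 15602]⟩) (.leaf ⟨0, 0, 0, 0, 0, 0, 0, 0, 0, 0, []⟩))))))

def factsPart245 : ATree TFact :=
  .node (.node (.node (.node (.node (.node (.leaf ⟨6, 115, 116, 0, 0, 0, 0, 93, 0, 0, []⟩) (.leaf ⟨2, 2781, 2781, (-1), 0, 1, 0, 26, 0, 2781, [16867, 770, 16866]⟩)) (.node (.leaf ⟨5, 1539, 1540, 0, 0, 0, 0, 93, 0, 0, []⟩) (.leaf ⟨4, 1958, 4209, 0, 0, 0, 0, 40, 2, 454, [11486, 2403, 25052]⟩))) (.node (.node (.leaf ⟨6, 476, 476, 1, 0, 1, 0, 39, 3, 476, [2465, 4486, 2464]⟩) (.leaf ⟨11, 3514, 3515, 0, 0, 0, 0, 93, 0, 0, []⟩)) (.node (.leaf ⟨11, 2199, 2200, 0, 0, 0, 0, 93, 0, 0, []⟩) (.leaf ⟨10, 2444, 4896, 0, 0, 0, 0, 93, 0, 0, []⟩)))) (.node (.node (.node (.leaf ⟨4, 488, 489, 0, 0, 0, 0, 93, 0, 0, []⟩) (.leaf ⟨9, 202, 3120, 0, 0, 0, 0, 93, 0, 0, []⟩)) (.node (.leaf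 ⟨5, 1509, 1508, (-9), 0, (-21), 0, 31, 3, 1509, [8586, 10727, 10729]⟩) (.leaf ⟨5, 3289, 3289, (-1), 0, (-1), 0, 23, 3, 3289, [19867, 27112, 19866]⟩))) (.node (.node (.leaf ⟨10, 1042, 1045, 0, 0, 0, 0, 93, 0, 0, []⟩) (.leaf ⟨3, 3681, 3691, (-24), 0, (-4), 0, 66, 30, 3700, [21735, 21736, 21738, 21774, 21784, 22458, 22478, 22529, 22554, 22505, 22558, 22569, 22577, 22591, 22600, 22589, 22604, 22608, 22617, 22620, 22640, 22624, 22664, 21099, 21100, 21104, 21108, 21654, 22698, 21656, 21658, 21660, 21662, 22704, 22708, 22712, 22716, 22501, 22532, 22746, 22750, 22754, 22758, 22763, 22770, 22777, 22778, 22796, 22815, 22829, 22841, 22847, 22848, 22873, 22890, 22915, 22930, 22938, 22940, 22944, 21716, 21690, 23016]⟩)) (.node (.leaf ⟨4, 1573, 2465, 0, 0, 0, 0, 93, 0, 0, []⟩) (.leaf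 ⟨0, 935, 935, 1, 0, 1, 0, 8, 0, 935, [5983, 31208, 5982]⟩))))) (.node (.node (.node (.node (.leaf ⟨7, 215, 216, 0, 0, 0, 0, 93, 0, 0, []⟩) (.leaf ⟨1, 1534, 1534, 1, 0, 1, 0, 16, 0, 1534, [8647, 17896, 8646]⟩)) (.node (.leaf ⟨7, 1661, 1661, 1, 0, 1, 0, 46, 3, 1661, [9693, 9704, 9692]⟩) (.leaf ⟨4, 4390, 4391, 0, 0, 0, 0, 93, 0, 0, []⟩))) (.node (.node (.leaf ⟨3, 885, 880, (-27), 0, 1, 0, 34, 2, 485, [5600, 5069, 5608]⟩) (.leaf ⟨1, 3730, 3730, 1, 0, 1, 0, 15, 0, 3730, [21971, 21992, 21970]⟩)) (.node (.leaf ⟨8, 1596, 2389, 0, 0, 0, 0, 52, 3, 1596, [9003, 13798, 13800]⟩) (.leaf ⟨0, 5020, 4728, 0, 0, 0, 0, 6, 0, 4728, [28059, 30185, 30168]⟩)))) (.node (.node (.node (.leaf ⟨0, 98, 98, (-1), 0, (-1), 0, 9, 0, 98, [421, 1482, 420]⟩) (.leaf ⟨3, 3298, 3279, 0, 0, 0, 0, 31, 0,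 3279, [19787, 19943, 19944]⟩)) (.node (.leaf ⟨9, 1991, 1988, 0, 0, 0, 0, 63, 2, 1990, [11750, 11749, 11744]⟩) (.leaf ⟨8, 4741, 4747, 0, 0, 0, 0, 47, 3, 4741, [28105, 28101, 28128]⟩))) (.node (.node (.leaf ⟨3, 39, 1245, 0, 0, 0, 0, 36, 0, 1245, [7527, 7657, 76]⟩) (.leaf ⟨8, 4018, 4022, 0, 0, 0, 0, 47, 3, 4018, [24025, 24023, 24040]⟩)) (.node (.leaf ⟨5, 2642, 2643, 0, 0, 0, 0, 93, 0, 0, []⟩) (.leaf ⟨0, 0, 0, 0, 0, 0, 0, 0, 0, 0, []⟩)))))) (.node (.node (.node (.node (.node (.leaf ⟨10, 169, 121, 17, 0, 1, 0, 43, 3, 169, [1001, 524, 785]⟩) (.leaf ⟨9, 311, 2834, 0, 0, 0, 0, 93, 0, 0, []⟩)) (.node (.leaf ⟨10, 554, 554, 1, 0, (-1), 0, 28, 3, 554, [2983, 4070, 2982]⟩) (.leaf ⟨7, 3067, 4313, 0, 0, 0, 0, 93, 0, 0, []⟩))) (.node (.node (.leaf ⟨8, 643, 773, 0, 0, 0, 0, 41, 3,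 643, [3551, 5097, 4846]⟩) (.leaf ⟨5, 3634, 3634, (-1), 0, 1, 0, 45, 0, 3634, [21451, 21463, 21480, 21462, 21450]⟩)) (.node (.leaf ⟨5, 2313, 2314, 0, 0, 0, 0, 93, 0, 0, []⟩) (.leaf ⟨10, 2591, 4957, 0, 0, 0, 0, 93, 0, 0, []⟩)))) (.node (.node (.node (.leaf ⟨2, 566, 568, 0, 0, 0, 0, 28, 2, 565, [3032, 3031, 3046]⟩) (.leaf ⟨5, 3201, 2733, (-38), 0, 10, 0, 14, 3, 3201, [19433, 18987, 16618]⟩)) (.node (.leaf ⟨1, 1323, 1278, 13, 0, (-21), 0, 12, 2, 304, [7780, 6321, 11240]⟩) (.leaf ⟨3, 4654, 4338, 0, 0, 0, 0, 32, 0, 4338, [25713, 27625, 27614]⟩))) (.node (.node (.leaf ⟨7, 1101, 15, 0, 0, 0, 0, 51, 3, 1099, [6878, 6882, 6875, 26, 28]⟩) (.leaf ⟨9, 386, 3946, 0, 0, 0, 0, 93, 0, 0, []⟩)) (.node (.leaf ⟨6, 2536, 252, 0, 0, 0, 0, 32, 3, 2536, [15201, 15336, 1616]⟩) (.leaf ⟨0, 0,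 0, 0, 0, 0, 0, 0, 0, 0, []⟩))))) (.node (.node (.node (.node (.leaf ⟨9, 103, 377, 0, 0, 0, 0, 93, 0, 0, []⟩) (.leaf ⟨4, 1967, 1954, 0, 0, 0, 0, 43, 0, 1954, [11465, 6251, 11520]⟩)) (.node (.leaf ⟨3, 1740, 1734, 0, 0, 0, 0, 37, 0, 1734, [10199, 8688, 10216]⟩) (.leaf ⟨6, 4494, 4420, 0, 0, 0, 0, 54, 0, 4420, [26181, 26601, 26588]⟩))) (.node (.node (.leaf ⟨7, 411, 964, 0, 0, 0, 0, 93, 0, 0, []⟩) (.leaf ⟨3, 3772, 3779, 0, 0, 0, 0, 34, 0, 3779, [22499, 5969, 22480]⟩)) (.node (.leaf ⟨5, 505, 505, (-1), 0, 1, 0, 49, 4, 504, [2654, 2651, 13314, 2650, 2654]⟩) (.leaf ⟨6, 1666, 1837, 0, 0, 0, 0, 54, 0, 1837, [10941, 9757, 9732]⟩)))) (.node (.node (.node (.leaf ⟨5, 680, 680, 1, 0, (-1), 0, 50, 0, 680, [4069, 4072, 4068]⟩) (.leaf ⟨7, 3371, 3379, 0, 0, 0, 0, 93, 0, 0, []⟩)) (.node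 (.leaf ⟨5, 2091, 2103, 0, 0, 0, 0, 93, 0, 0, []⟩) (.leaf ⟨10, 4824, 4827, 0, 0, 0, 0, 54, 3, 4824, [28641, 28647, 28648]⟩))) (.node (.node (.leaf ⟨1, 1383, 590, 0, 0, 0, 0, 13, 0, 590, [3223, 2645, 8072]⟩) (.leaf ⟨3, 3500, 3500, (-1), 0, (-1), 0, 33, 0, 3500, [20941, 24552, 20940]⟩)) (.node (.leaf ⟨10, 2707, 2707, 1, 0, (-1), 0, 65, 4, 2620, [16358, 15607, 16360, 15606, 16358]⟩) (.leaf ⟨0, 0, 0, 0, 0, 0, 0, 0, 0, 0, []⟩))))))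

def factsPart246 : ATree TFact :=
  .node (.node (.node (.node (.node (.node (.leaf ⟨1, 116, 107, 0, 0, 0, 0, 15, 0, 107, [453, 489, 490]⟩) (.leaf ⟨2, 2782, 2782, 1, 0, (-1), 0, 27, 0, 2782, [16871, 16874, 16870]⟩)) (.node (.leaf ⟨4, 1540, 1541, 0, 0, 0, 0, 93, 0, 0, []⟩) (.leaf ⟨4, 4210, 4211, 0, 0, 0, 0, 39, 0, 4211, [25065, 25066, 25054]⟩))) (.node (.node (.leaf ⟨6, 677, 677, 1, 0, (-1), 0, 32, 3, 677, [3989, 4586, 3988]⟩) (.leaf ⟨5, 3515, 3516, 0, 0, 0, 0, 93, 0, 0, []⟩)) (.node (.leaf ⟨11, 207, 207, 1, 0, (-1), 0, 59, 3, 207, [1497, 9594, 1496]⟩) (.leaf ⟨6, 4896, 1778, 0, 0, 0, 0, 54, 0, 1778, [10621, 14517, 29162]⟩)))) (.node (.node (.node (.leaf ⟨5, 480, 486, 0, 0, 0, 0, 46, 2, 471, [2510, 2455, 2532]⟩) (.leaf ⟨11, 497, 201, 0, 0, 0, 0, 59, 3, 497, [2573, 2447,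 1444]⟩)) (.node (.leaf ⟨2, 1494, 1509, 0, 0, 0, 0, 25, 2, 1493, [8550, 8549, 8582]⟩) (.leaf ⟨5, 3499, 3499, 1, 0, 1, 0, 48, 0, 3499, [20939, 27114, 20938]⟩))) (.node (.node (.leaf ⟨7, 1045, 1046, 0, 0, 0, 0, 93, 0, 0, []⟩) (.leaf ⟨7, 3674, 3681, 24, 0, (-4), 0, 33, 1, 3691, [21721, 21728, 23019]⟩)) (.node (.leaf ⟨1, 2465, 741, 0, 0, 0, 0, 13, 0, 741, [4613, 14825, 14826]⟩) (.leaf ⟨0, 2747, 2747, (-1), 0, (-1), 0, 6, 0, 2747, [16595, 31210, 16594]⟩))))) (.node (.node (.node (.node (.leaf ⟨6, 216, 217, 0, 0, 0, 0, 93, 0, 0, []⟩) (.leaf ⟨1, 1535, 1535, (-1), 0, (-1), 0, 15, 0, 1535, [8649, 17898, 8648]⟩)) (.node (.leaf ⟨7, 1662, 1662, (-1), 0, (-1), 0, 58, 0, 1662, [9703, 9706, 9702]⟩) (.leaf ⟨3, 4391, 4392, 0, 0, 0, 0, 93, 0, 0, []⟩))) (.node (.node (.leaf ⟨9, 872, 884,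 0, 0, 0, 0, 63, 2, 871, [5548, 5547, 5590]⟩) (.leaf ⟨2, 3729, 3729, 1, 0, 3, 0, 11, 3, 3730, [21983, 21986, 21994, 21983, 21986]⟩)) (.node (.leaf ⟨11, 2388, 2389, 1, 0, 5, 0, 62, 3, 2388, [13791, 9007, 13802]⟩) (.leaf ⟨2, 4734, 4728, (-128), 0, 28, 0, 1, 3, 4734, [30163, 30171, 30186]⟩)))) (.node (.node (.node (.leaf ⟨0, 349, 349, 1, 0, 1, 0, 10, 0, 349, [1911, 3562, 1910]⟩) (.leaf ⟨10, 3298, 3299, 0, 0, 0, 0, 93, 0, 0, []⟩)) (.node (.leaf ⟨9, 1989, 1992, 0, 0, 0, 0, 64, 0, 1992, [11753, 11754, 11746]⟩) (.leaf ⟨8, 4748, 4742, 0, 0, 0, 0, 41, 3, 4748, [28131, 28139, 28108]⟩))) (.node (.node (.leaf ⟨3, 40, 1246, 0, 0, 0, 0, 31, 0, 1246, [7529, 7659, 78]⟩) (.leaf ⟨7, 3062, 4023, 0, 0, 0, 0, 93, 0, 0, []⟩)) (.node (.leaf ⟨4, 2643, 2644, 0, 0, 0, 0, 93, 0, 0, []⟩) (.leaf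 ⟨0, 0, 0, 0, 0, 0, 0, 0, 0, 0, []⟩)))))) (.node (.node (.node (.node (.node (.leaf ⟨6, 124, 124, 1, 0, 1, 0, 32, 3, 124, [517, 758, 516]⟩) (.leaf ⟨10, 2834, 2835, 0, 0, 0, 0, 93, 0, 0, []⟩)) (.node (.leaf ⟨5, 555, 555, (-1), 0, (-1), 0, 49, 0, 555, [3001, 2987, 9194, 2986, 3000]⟩) (.leaf ⟨6, 4313, 4314, 0, 0, 0, 0, 93, 0, 0, []⟩))) (.node (.node (.leaf ⟨8, 779, 777, 0, 0, 0, 0, 61, 0, 777, [4855, 5099, 4862]⟩) (.leaf ⟨5, 3635, 3635, 1, 0, (-1), 0, 47, 0, 3635, [21453, 21482, 21452]⟩)) (.node (.leaf ⟨3, 2314, 2304, 0, 0, 0, 0, 31, 0, 2304, [13257, 13289, 13290]⟩) (.leaf ⟨9, 2597, 4957, 0, 0, 0, 0, 63, 2, 2592, [15502, 15475, 29674]⟩)))) (.node (.node (.node (.leaf ⟨7, 267, 569, 0, 0, 0, 0, 93, 0, 0, []⟩) (.leaf ⟨9, 2533, 3203, 0, 0, 0, 0, 93, 0, 0, []⟩)) (.node (.leaf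 ⟨2, 1889, 1320, 0, 0, 0, 0, 28, 2, 1888, [11170, 11169, 7766]⟩) (.leaf ⟨3, 4655, 4382, 0, 0, 0, 0, 31, 0, 4382, [26063, 27627, 27616]⟩))) (.node (.node (.leaf ⟨7, 755, 1157, 0, 0, 0, 0, 46, 3, 755, [4737, 7147, 7136]⟩) (.leaf ⟨5, 3946, 3945, 0, 0, 0, 0, 48, 2, 386, [23530, 2083, 23526]⟩)) (.node (.leaf ⟨6, 2549, 332, 0, 0, 0, 0, 53, 0, 332, [1859, 15339, 15262]⟩) (.leaf ⟨0, 0, 0, 0, 0, 0, 0, 0, 0, 0, []⟩))))) (.node (.node (.node (.node (.leaf ⟨5, 369, 377, 0, 0, 0, 0, 48, 2, 104, [1990, 445, 2026]⟩) (.leaf ⟨5, 1969, 1956, 0, 0, 0, 0, 38, 5, 1969, [11535, 11531, 18410, 11466, 11468]⟩)) (.node (.leaf ⟨5, 1740, 1741, 0, 0, 0, 0, 93, 0, 0, []⟩) (.leaf ⟨0, 2642, 2642, (-1), 0, (-1), 0, 7, 0, 2642, [15849, 25934, 15848]⟩))) (.node (.node (.leaf ⟨6, 964, 965, 0, 0, 0, 0,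 93, 0, 0, []⟩) (.leaf ⟨3, 3773, 3780, 0, 0, 0, 0, 31, 0, 3780, [22501, 22507, 22482]⟩)) (.node (.leaf ⟨7, 570, 570, (-1), 0, (-1), 0, 51, 5, 570, [3057, 3053, 6782, 3052, 3056]⟩) (.leaf ⟨3, 2188, 5114, 0, 0, 0, 0, 93, 0, 0, []⟩)))) (.node (.node (.node (.leaf ⟨3, 679, 490, 0, 0, 0, 0, 36, 2, 551, [4066, 2977, 2546]⟩) (.leaf ⟨6, 3379, 3380, 0, 0, 0, 0, 93, 0, 0, []⟩)) (.node (.leaf ⟨4, 2103, 2104, 0, 0, 0, 0, 93, 0, 0, []⟩) (.leaf ⟨7, 4815, 4828, 0, 0, 0, 0, 93, 0, 0, []⟩))) (.node (.node (.leaf ⟨1, 1384, 591, 0, 0, 0, 0, 16, 0, 591, [3225, 8171, 8074]⟩) (.leaf ⟨3, 3501, 3501, 1, 0, 1, 0, 32, 0, 3501, [20943, 24554, 20942]⟩)) (.node (.leaf ⟨3, 719, 719, (-1), 0, (-1), 0, 36, 0, 719, [4305, 16162, 4304]⟩) (.leaf ⟨0, 0, 0, 0, 0, 0, 0, 0, 0, 0, []⟩))))))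

def factsPart247 : ATree TFact :=
  .node (.node (.node (.node (.node (.node (.leaf ⟨5, 116, 117, 0, 0, 0, 0, 93, 0, 0, []⟩) (.leaf ⟨10, 2781, 2781, 1, 0, 1, 0, 61, 3, 2781, [16867, 1038, 16866]⟩)) (.node (.leaf ⟨10, 1537, 1542, 0, 0, 0, 0, 93, 0, 0, []⟩) (.leaf ⟨5, 4211, 4212, 0, 0, 0, 0, 93, 0, 0, []⟩))) (.node (.node (.leaf ⟨11, 478, 676, (-21), 0, 11, 0, 68, 80, 482, [4016, 2600, 4480, 3602, 4488, 4496, 4002, 3651, 2468, 2515, 3980, 4500, 2514, 2543, 3974, 2537, 3623, 4505, 3774, 3786, 3778, 3775, 393, 391, 1360, 3720, 3948, 2878, 2451, 2886, 2883, 2921, 2922, 2944, 4514, 2919, 2942, 3883, 3876, 4516, 4552, 4544, 4517, 3861, 4554, 3818, 3745, 329, 2865, 4556, 4558, 2864, 2576, 2580, 2870, 4562, 4564, 2944, 2920, 2914, 2917, 2911, 4568, 2966, 4574, 2991, 4048,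 2552, 4058, 2554, 2592, 3966, 2555, 2560, 4576, 2536, 2542, 2524, 2463, 4494, 4582, 2462, 2464, 3988, 4584, 4588, 3993, 4010, 3986]⟩) (.leaf ⟨4, 3516, 3517, 0, 0, 0, 0, 93, 0, 0, []⟩)) (.node (.leaf ⟨11, 208, 208, 1, 0, 1, 0, 55, 3, 208, [1499, 12780, 1498]⟩) (.leaf ⟨11, 4896, 4897, 0, 0, 0, 0, 93, 0, 0, []⟩)))) (.node (.node (.node (.leaf ⟨6, 488, 482, 0, 0, 0, 0, 45, 5, 488, [2537, 2535, 2541, 2512, 2514]⟩) (.leaf ⟨11, 202, 3118, 0, 0, 0, 0, 62, 3, 202, [1447, 18925, 18908]⟩)) (.node (.leaf ⟨5, 1507, 1494, 9, 0, 21, 0, 23, 3, 1507, [8580, 10731, 10733]⟩) (.leaf ⟨5, 3500, 3500, (-1), 0, (-1), 0, 46, 0, 3500, [20941, 27116, 20940]⟩))) (.node (.node (.leaf ⟨10, 1046, 1043, 0, 0, 0, 0, 58, 3, 1046, [6637, 6635, 6616]⟩) (.leaf ⟨2, 3673, 3674, (-24), 0, (-4), 0, 25, 2,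 3676, [21653, 21670, 23021]⟩)) (.node (.leaf ⟨2, 1573, 1424, 0, 0, 0, 0, 23, 0, 1424, [8263, 13638, 8898]⟩) (.leaf ⟨0, 3802, 3802, 1, 0, 1, 0, 7, 0, 3802, [22753, 31212, 22752]⟩))))) (.node (.node (.node (.node (.leaf ⟨5, 217, 218, 0, 0, 0, 0, 93, 0, 0, []⟩) (.leaf ⟨1, 1994, 1994, 1, 0, 1, 0, 17, 0, 1994, [11843, 17900, 11842]⟩)) (.node (.leaf ⟨5, 1659, 1659, 1, 0, 1, 0, 46, 0, 1659, [9685, 9668, 9684]⟩) (.leaf ⟨2, 4392, 4393, 0, 0, 0, 0, 93, 0, 0, []⟩))) (.node (.node (.leaf ⟨9, 885, 875, 0, 0, 0, 0, 48, 3, 885, [5599, 5613, 5568]⟩) (.leaf ⟨3, 2792, 2792, (-1), 0, 1, 0, 35, 0, 2792, [16935, 906, 16934]⟩)) (.node (.leaf ⟨6, 2290, 2390, 0, 0, 0, 0, 93, 0, 0, []⟩) (.leaf ⟨11, 4714, 4731, 0, 0, 0, 0, 50, 3, 4714, [28023, 28019, 28066]⟩)))) (.node (.node (.node (.leaf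 ⟨0, 350, 350, (-1), 0, (-1), 0, 4, 0, 350, [1913, 3564, 1912]⟩) (.leaf ⟨3, 3299, 3280, 0, 0, 0, 0, 36, 0, 3280, [19789, 19947, 19948]⟩)) (.node (.leaf ⟨2, 1988, 1005, 0, 0, 0, 0, 28, 2, 1987, [11744, 11743, 6362]⟩) (.leaf ⟨8, 4749, 4743, 0, 0, 0, 0, 61, 0, 4743, [28113, 28141, 28132]⟩))) (.node (.node (.leaf ⟨3, 41, 1247, 0, 0, 0, 0, 33, 0, 1247, [7531, 7661, 80]⟩) (.leaf ⟨6, 4023, 4024, 0, 0, 0, 0, 93, 0, 0, []⟩)) (.node (.leaf ⟨3, 2644, 2645, 0, 0, 0, 0, 93, 0, 0, []⟩) (.leaf ⟨0, 0, 0, 0, 0, 0, 0, 0, 0, 0, []⟩)))))) (.node (.node (.node (.node (.node (.leaf ⟨7, 126, 126, 1, 0, 1, 0, 51, 5, 126, [521, 519, 1004, 518, 520]⟩) (.leaf ⟨6, 2830, 2834, 0, 0, 0, 0, 53, 0, 2834, [17387, 6341, 17370]⟩)) (.node (.leaf ⟨5, 1613, 1613, 1, 0, 1, 0, 50, 0, 1613, [9187, 9196, 9186]⟩)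 (.leaf ⟨5, 4314, 4315, 0, 0, 0, 0, 93, 0, 0, []⟩))) (.node (.node (.leaf ⟨8, 780, 778, 0, 0, 0, 0, 47, 3, 780, [4865, 5100, 4856]⟩) (.leaf ⟨10, 3539, 3539, 1, 0, (-1), 0, 49, 5, 3539, [21067, 21459, 21484, 21458, 21066]⟩)) (.node (.leaf ⟨6, 2314, 2315, 0, 0, 0, 0, 93, 0, 0, []⟩) (.leaf ⟨10, 4849, 4958, 0, 0, 0, 0, 93, 0, 0, []⟩)))) (.node (.node (.node (.leaf ⟨1, 569, 407, 0, 0, 0, 0, 16, 0, 407, [2223, 2643, 3052]⟩) (.leaf ⟨5, 3181, 3203, 0, 0, 0, 0, 48, 2, 2534, [19344, 15197, 19436]⟩)) (.node (.leaf ⟨2, 1321, 1890, 0, 0, 0, 0, 23, 0, 1890, [11173, 11244, 7768]⟩) (.leaf ⟨4, 4657, 4384, 0, 0, 0, 0, 30, 5, 4657, [27621, 27619, 27628, 26064, 26066]⟩))) (.node (.node (.leaf ⟨7, 756, 1158, 0, 0, 0, 0, 40, 3, 756, [4739, 7148, 7138]⟩) (.leaf ⟨10, 3946, 3947, 0, 0, 0, 0,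 93, 0, 0, []⟩)) (.node (.leaf ⟨6, 2550, 2048, 0, 0, 0, 0, 54, 0, 2048, [12027, 15341, 15266]⟩) (.leaf ⟨0, 0, 0, 0, 0, 0, 0, 0, 0, 0, []⟩))))) (.node (.node (.node (.node (.leaf ⟨10, 101, 101, 1, 0, 1, 0, 58, 3, 101, [433, 870, 432]⟩) (.leaf ⟨5, 1970, 1957, 0, 0, 0, 0, 46, 0, 1957, [11471, 18413, 11538]⟩)) (.node (.leaf ⟨3, 1741, 1735, 0, 0, 0, 0, 31, 0, 1735, [10203, 10219, 10220]⟩) (.leaf ⟨0, 2643, 2643, 1, 0, 1, 0, 4, 0, 2643, [15851, 26604, 15850]⟩))) (.node (.node (.leaf ⟨3, 959, 409, 0, 0, 0, 0, 34, 0, 409, [2227, 3035, 6102]⟩) (.leaf ⟨3, 3777, 3781, 0, 0, 0, 0, 33, 0, 3781, [22503, 22509, 22490]⟩)) (.node (.leaf ⟨7, 571, 571, (-1), 0, 1, 0, 46, 3, 571, [3061, 14316, 3060]⟩) (.leaf ⟨2, 5114, 5114, 1, 0, (-1), 0, 21, 0, 5114, [30701, 29157, 29154, 29156, 30700]⟩))))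 (.node (.node (.node (.leaf ⟨11, 490, 681, 0, 0, 0, 0, 93, 0, 0, []⟩) (.leaf ⟨5, 3380, 3381, 0, 0, 0, 0, 93, 0, 0, []⟩)) (.node (.leaf ⟨10, 2104, 2105, 0, 0, 0, 0, 93, 0, 0, []⟩) (.leaf ⟨6, 4828, 4829, 0, 0, 0, 0, 93, 0, 0, []⟩))) (.node (.node (.leaf ⟨1, 1385, 592, 0, 0, 0, 0, 15, 0, 592, [3227, 8173, 8076]⟩) (.leaf ⟨3, 3502, 3502, (-1), 0, (-1), 0, 34, 0, 3502, [20945, 24556, 20944]⟩)) (.node (.leaf ⟨3, 720, 720, 1, 0, 1, 0, 31, 0, 720, [4307, 16364, 4306]⟩) (.leaf ⟨0, 0, 0, 0, 0, 0, 0, 0, 0, 0, []⟩))))))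

def factsPart248 : ATree TFact :=
  .node (.node (.node (.node (.node (.node (.leaf ⟨1, 117, 110, 0, 0, 0, 0, 14, 0, 110, [467, 493, 494]⟩) (.leaf ⟨10, 2782, 2782, 1, 0, (-1), 0, 63, 3, 2782, [16871, 16878, 16870]⟩)) (.node (.leaf ⟨3, 1539, 1542, 0, 0, 0, 0, 36, 2, 1538, [8656, 8655, 8686]⟩) (.leaf ⟨6, 4212, 2078, (-59), 0, 31, 0, 45, 3, 1958, [25064, 25070, 18417, 12154, 12156]⟩))) (.node (.node (.leaf ⟨6, 680, 478, 21, 0, 11, 0, 55, 2, 679, [4068, 4100, 4591]⟩) (.leaf ⟨8, 3503, 3511, 0, 0, 0, 0, 47, 3, 3503, [20947, 20945, 20962]⟩)) (.node (.leaf ⟨11, 209, 209, 1, 0, (-1), 0, 62, 3, 209, [1501, 12782, 1500]⟩) (.leaf ⟨6, 4897, 2191, 0, 0, 0, 0, 55, 0, 2191, [12683, 29165, 29166]⟩)))) (.node (.node (.node (.leaf ⟨6, 489, 483, 0, 0, 0, 0, 39, 3, 489, [2539, 2542, 2516]⟩)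 (.leaf ⟨11, 3120, 3119, 0, 0, 0, 0, 64, 3, 3120, [18923, 18926, 18912]⟩)) (.node (.leaf ⟨1, 1506, 1790, 0, 0, 0, 0, 93, 0, 0, []⟩) (.leaf ⟨6, 3511, 3511, (-1), 0, (-1), 0, 45, 5, 3511, [20963, 20943, 27118, 20942, 20962]⟩))) (.node (.node (.leaf ⟨6, 1046, 1047, 0, 0, 0, 0, 93, 0, 0, []⟩) (.leaf ⟨2, 3545, 3649, 24, 0, 4, 0, 24, 2, 3674, [21645, 23023, 21638]⟩)) (.node (.leaf ⟨2, 2465, 2371, 0, 0, 0, 0, 22, 0, 2371, [13709, 14831, 14826]⟩) (.leaf ⟨1, 934, 5182, 0, 0, 0, 0, 93, 0, 0, []⟩))))) (.node (.node (.node (.node (.leaf ⟨4, 218, 219, 0, 0, 0, 0, 93, 0, 0, []⟩) (.leaf ⟨1, 1995, 1995, (-1), 0, (-1), 0, 14, 0, 1995, [11845, 17902, 11844]⟩)) (.node (.leaf ⟨6, 1661, 1661, 1, 0, 1, 0, 45, 5, 1661, [9693, 9689, 9710, 9688, 9692]⟩) (.leaf ⟨10, 4393, 4394, 0, 0, 0, 0, 93,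 0, 0, []⟩))) (.node (.node (.leaf ⟨3, 883, 875, 27, 0, (-1), 0, 35, 2, 880, [5588, 5611, 5614]⟩) (.leaf ⟨3, 3728, 3728, 1, 0, (-1), 0, 33, 0, 3728, [21963, 21998, 21962]⟩)) (.node (.leaf ⟨4, 2389, 2390, 0, 0, 0, 0, 39, 0, 2390, [13807, 13173, 13800]⟩) (.leaf ⟨11, 4732, 4715, 0, 0, 0, 0, 55, 3, 4732, [28069, 30191, 28026]⟩)))) (.node (.node (.node (.leaf ⟨0, 351, 351, 1, 0, 1, 0, 3, 0, 351, [1915, 3566, 1914]⟩) (.leaf ⟨4, 3298, 3300, 0, 0, 0, 0, 93, 0, 0, []⟩)) (.node (.leaf ⟨2, 1006, 1989, 0, 0, 0, 0, 29, 0, 1989, [11747, 11758, 6364]⟩) (.leaf ⟨8, 4750, 4744, 0, 0, 0, 0, 47, 3, 4750, [28135, 28142, 28116]⟩))) (.node (.node (.leaf ⟨3, 42, 1248, 0, 0, 0, 0, 32, 0, 1248, [7533, 7663, 82]⟩) (.leaf ⟨4, 381, 4023, 21, 0, (-1), 0, 40, 2, 380, [2062, 18511, 24044]⟩)) (.node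 (.leaf ⟨9, 2645, 2646, 0, 0, 0, 0, 93, 0, 0, []⟩) (.leaf ⟨0, 0, 0, 0, 0, 0, 0, 0, 0, 0, []⟩)))))) (.node (.node (.node (.node (.node (.leaf ⟨7, 127, 127, 1, 0, (-1), 0, 46, 3, 127, [523, 1006, 522]⟩) (.leaf ⟨6, 2831, 2835, 0, 0, 0, 0, 54, 0, 2835, [17389, 17391, 17372]⟩)) (.node (.leaf ⟨11, 561, 1614, 0, 0, 0, 0, 93, 0, 0, []⟩) (.leaf ⟨4, 4315, 4316, 0, 0, 0, 0, 93, 0, 0, []⟩))) (.node (.node (.leaf ⟨10, 751, 778, (-47), 0, (-11), 0, 61, 3, 751, [4725, 5095, 5102]⟩) (.leaf ⟨10, 3540, 3540, 1, 0, 1, 0, 43, 3, 3540, [21069, 21486, 21068]⟩)) (.node (.leaf ⟨3, 2315, 2305, 0, 0, 0, 0, 32, 0, 2305, [13259, 13293, 13294]⟩) (.leaf ⟨11, 4958, 4959, 0, 0, 0, 0, 93, 0, 0, []⟩)))) (.node (.node (.node (.leaf ⟨6, 569, 570, 0, 0, 0, 0, 93, 0, 0, []⟩) (.leaf ⟨9, 2820, 3204, 0, 0,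 0, 0, 93, 0, 0, []⟩)) (.node (.leaf ⟨2, 1322, 1891, 0, 0, 0, 0, 24, 0, 1891, [11175, 11247, 7770]⟩) (.leaf ⟨6, 3682, 4658, 0, 0, 0, 0, 93, 0, 0, []⟩))) (.node (.node (.leaf ⟨7, 1153, 1159, 0, 0, 0, 0, 33, 3, 1153, [7117, 7150, 7140]⟩) (.leaf ⟨5, 3947, 3848, 0, 0, 0, 0, 49, 0, 3848, [22957, 23524, 23529, 23533, 23534]⟩)) (.node (.leaf ⟨6, 2551, 2560, 0, 0, 0, 0, 55, 0, 2560, [15307, 15343, 15270]⟩) (.leaf ⟨0, 0, 0, 0, 0, 0, 0, 0, 0, 0, []⟩))))) (.node (.node (.node (.node (.leaf ⟨10, 102, 102, 1, 0, (-1), 0, 54, 3, 102, [437, 2030, 436]⟩) (.leaf ⟨5, 1966, 1958, 59, 0, 31, 0, 47, 0, 1958, [11489, 18415, 11638]⟩)) (.node (.leaf ⟨0, 1537, 1711, 0, 0, 0, 0, 3, 0, 1711, [10047, 9921, 8652]⟩) (.leaf ⟨0, 2644, 2644, (-1), 0, (-1), 0, 3, 0, 2644, [15853, 26606, 15852]⟩))) (.node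 (.node (.leaf ⟨3, 960, 410, 0, 0, 0, 0, 31, 0, 410, [2229, 6127, 6106]⟩) (.leaf ⟨3, 3778, 3782, 0, 0, 0, 0, 32, 0, 3782, [22505, 22511, 22492]⟩)) (.node (.leaf ⟨7, 723, 723, 1, 0, (-1), 0, 58, 0, 723, [4331, 14318, 4330]⟩) (.leaf ⟨10, 5114, 5114, (-1), 0, (-1), 0, 36, 3, 5114, [30701, 29160, 30700]⟩)))) (.node (.node (.node (.leaf ⟨3, 681, 680, 0, 0, 0, 0, 37, 0, 680, [4069, 4076, 4078]⟩) (.leaf ⟨10, 3381, 3382, 0, 0, 0, 0, 93, 0, 0, []⟩)) (.node (.leaf ⟨5, 2105, 2106, 0, 0, 0, 0, 93, 0, 0, []⟩) (.leaf ⟨7, 4816, 4830, 0, 0, 0, 0, 93, 0, 0, []⟩))) (.node (.node (.leaf ⟨1, 1405, 593, 0, 0, 0, 0, 14, 0, 593, [3233, 8175, 8124]⟩) (.leaf ⟨3, 3503, 3503, 1, 0, 1, 0, 31, 0, 3503, [20947, 24558, 20946]⟩)) (.node (.leaf ⟨3, 1596, 1596, (-1), 0, (-1), 0, 32, 0, 1596, [9003,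 16366, 9002]⟩) (.leaf ⟨0, 0, 0, 0, 0, 0, 0, 0, 0, 0, []⟩))))))

def factsPart249 : ATree TFact :=
  .node (.node (.node (.node (.node (.node (.leaf ⟨2, 114, 118, 0, 0, 0, 0, 93, 0, 0, []⟩) (.leaf ⟨7, 2782, 2783, 0, 0, 0, 0, 93, 0, 0, []⟩)) (.node (.leaf ⟨5, 1542, 1543, 0, 0, 0, 0, 93, 0, 0, []⟩) (.leaf ⟨7, 4087, 4213, 0, 0, 0, 0, 93, 0, 0, []⟩))) (.node (.node (.leaf ⟨10, 485, 485, (-1), 0, (-1), 0, 49, 5, 485, [2521, 2519, 3982, 2518, 2520]⟩) (.leaf ⟨8, 3512, 3504, 0, 0, 0, 0, 41, 3, 3512, [20965, 20977, 20948]⟩)) (.node (.leaf ⟨11, 210, 210, 1, 0, 1, 0, 50, 3, 210, [1503, 12784, 1502]⟩) (.leaf ⟨5, 2427, 1766, 21, 0, 1, 0, 23, 1, 1701, [10001, 14336, 10467]⟩)))) (.node (.node (.node (.leaf ⟨10, 489, 490, 0, 0, 0, 0, 93, 0, 0, []⟩) (.leaf ⟨9, 145, 3121, 0, 0, 0, 0,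 93, 0, 0, []⟩)) (.node (.leaf ⟨7, 1790, 1791, 0, 0, 0, 0, 93, 0, 0, []⟩) (.leaf ⟨6, 3512, 3512, (-1), 0, 1, 0, 39, 3, 3512, [20965, 27120, 20964]⟩))) (.node (.node (.leaf ⟨10, 1044, 1047, 0, 0, 0, 0, 54, 3, 1044, [6619, 6639, 6640]⟩) (.leaf ⟨2, 3659, 3546, (-45), 0, (-5), 0, 29, 2, 3649, [21641, 23025, 21080]⟩)) (.node (.leaf ⟨1, 2404, 2371, 27, 0, (-1), 0, 11, 4, 1783, [14818, 14224, 14821, 14829, 14832]⟩) (.leaf ⟨9, 5182, 5183, 0, 0, 0, 0, 93, 0, 0, []⟩))))) (.node (.node (.node (.node (.leaf ⟨7, 214, 220, 0, 0, 0, 0, 93, 0, 0, []⟩) (.leaf ⟨1, 1996, 1996, 1, 0, 1, 0, 13, 0, 1996, [11847, 17904, 11846]⟩)) (.node (.leaf ⟨6, 1662, 1662, (-1), 0, (-1), 0, 54, 0, 1662, [9703, 9712, 9702]⟩) (.leaf ⟨5, 4394, 4395, 0, 0, 0, 0, 93, 0, 0, []⟩))) (.node (.node (.leaf ⟨9, 877,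 886, 0, 0, 0, 0, 93, 0, 0, []⟩) (.leaf ⟨3, 3729, 3729, (-1), 0, 1, 0, 32, 0, 3729, [21967, 22000, 21966]⟩)) (.node (.leaf ⟨4, 2387, 2388, 0, 0, 0, 0, 43, 2, 312, [13786, 1803, 13788]⟩) (.leaf ⟨11, 4733, 4716, 0, 0, 0, 0, 59, 3, 4733, [28071, 30192, 28030]⟩)))) (.node (.node (.node (.leaf ⟨0, 352, 352, (-1), 0, (-1), 0, 9, 0, 352, [1917, 3568, 1916]⟩) (.leaf ⟨10, 3300, 3301, 0, 0, 0, 0, 93, 0, 0, []⟩)) (.node (.leaf ⟨10, 1984, 1993, 0, 0, 0, 0, 93, 0, 0, []⟩) (.leaf ⟨8, 4751, 4745, 0, 0, 0, 0, 52, 3, 4751, [28137, 28144, 28120]⟩))) (.node (.node (.leaf ⟨3, 1169, 1275, 0, 0, 0, 0, 31, 0, 1275, [7615, 7665, 7228]⟩) (.leaf ⟨4, 4024, 382, (-21), 0, 1, 0, 39, 2, 4023, [24046, 24049, 2064]⟩)) (.node (.leaf ⟨10, 2646, 2647, 0, 0, 0, 0, 93, 0, 0, []⟩) (.leaf ⟨0, 0, 0, 0, 0,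 0, 0, 0, 0, 0, []⟩)))))) (.node (.node (.node (.node (.node (.leaf ⟨7, 169, 169, 1, 0, 1, 0, 40, 3, 169, [1001, 1008, 1000]⟩) (.leaf ⟨7, 2835, 2836, 0, 0, 0, 0, 93, 0, 0, []⟩)) (.node (.leaf ⟨3, 1614, 1613, 0, 0, 0, 0, 37, 0, 1613, [9187, 3023, 9200]⟩) (.leaf ⟨4, 4313, 975, 0, 0, 0, 0, 40, 0, 975, [6175, 18533, 25578]⟩))) (.node (.node (.leaf ⟨10, 776, 749, 47, 0, 11, 0, 63, 3, 776, [4861, 5105, 4718]⟩) (.leaf ⟨10, 3541, 3541, 1, 0, (-1), 0, 36, 3, 3541, [21071, 21488, 21070]⟩)) (.node (.leaf ⟨9, 272, 2316, 0, 0, 0, 0, 93, 0, 0, []⟩) (.leaf ⟨10, 2262, 4960, 0, 0, 0, 0, 93, 0, 0, []⟩)))) (.node (.node (.node (.leaf ⟨1, 570, 408, 0, 0, 0, 0, 15, 0, 408, [2225, 3055, 3056]⟩) (.leaf ⟨10, 2820, 2533, 0, 0, 0, 0, 61, 3, 2820, [17313, 9718, 15194]⟩)) (.node (.leaf ⟨2, 1323,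 1892, 0, 0, 0, 0, 25, 0, 1892, [11177, 11249, 7772]⟩) (.leaf ⟨7, 4658, 4659, 0, 0, 0, 0, 93, 0, 0, []⟩))) (.node (.node (.leaf ⟨7, 1154, 1160, 0, 0, 0, 0, 25, 3, 1154, [7119, 7152, 7142]⟩) (.leaf ⟨11, 3947, 3948, 0, 0, 0, 0, 93, 0, 0, []⟩)) (.node (.leaf ⟨7, 2553, 2562, 0, 0, 0, 0, 51, 5, 2553, [15279, 15275, 15344, 15308, 15310]⟩) (.leaf ⟨0, 0, 0, 0, 0, 0, 0, 0, 0, 0, []⟩))))) (.node (.node (.node (.node (.leaf ⟨10, 103, 103, 1, 0, 1, 0, 61, 3, 103, [441, 2032, 440]⟩) (.leaf ⟨5, 1959, 1945, (-59), 0, (-31), 0, 48, 2, 1958, [11492, 18417, 11518]⟩)) (.node (.leaf ⟨0, 1542, 1712, 0, 0, 0, 0, 9, 0, 1712, [10049, 10225, 8686]⟩) (.leaf ⟨0, 3050, 3050, 1, 0, 1, 0, 9, 0, 3050, [18435, 26608, 18434]⟩))) (.node (.node (.leaf ⟨3, 961, 411, 0, 0, 0, 0, 35, 0, 411, [2231, 6129,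 6110]⟩) (.leaf ⟨8, 3768, 806, 0, 0, 0, 0, 47, 3, 3768, [22463, 22461, 5146]⟩)) (.node (.leaf ⟨4, 116, 116, 1, 0, (-1), 0, 39, 0, 116, [491, 948, 490]⟩) (.leaf ⟨5, 4901, 5115, 0, 0, 0, 0, 93, 0, 0, []⟩)))) (.node (.node (.node (.leaf ⟨4, 490, 649, 0, 0, 0, 0, 43, 2, 489, [2546, 2539, 3608]⟩) (.leaf ⟨10, 3373, 3379, 0, 0, 0, 0, 58, 3, 3373, [20423, 20421, 20458]⟩)) (.node (.leaf ⟨6, 2106, 2107, 0, 0, 0, 0, 93, 0, 0, []⟩) (.leaf ⟨9, 4830, 4828, 0, 0, 0, 0, 57, 3, 4830, [28657, 28615, 28652]⟩))) (.node (.node (.leaf ⟨1, 1406, 594, 0, 0, 0, 0, 13, 0, 594, [3235, 8177, 8126]⟩) (.leaf ⟨4, 3505, 3505, 1, 0, 1, 0, 30, 5, 3505, [20951, 20949, 24560, 20948, 20950]⟩)) (.node (.leaf ⟨6, 719, 719, (-1), 0, (-1), 0, 54, 0, 719, [4305, 9676, 4304]⟩) (.leaf ⟨0, 0, 0, 0, 0, 0, 0, 0,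 0, 0, []⟩))))))

def factsPart250 : ATree TFact :=
  .node (.node (.node (.node (.node (.node (.leaf ⟨7, 118, 119, 0, 0, 0, 0, 93, 0, 0, []⟩) (.leaf ⟨8, 140, 2784, 0, 0, 0, 0, 93, 0, 0, []⟩)) (.node (.leaf ⟨3, 1543, 1540, 0, 0, 0, 0, 31, 0, 1540, [8683, 8688, 8690]⟩) (.leaf ⟨6, 4213, 4214, 0, 0, 0, 0, 93, 0, 0, []⟩))) (.node (.node (.leaf ⟨2, 696, 484, 0, 0, 0, 0, 28, 0, 484, [2519, 4419, 4220]⟩) (.leaf ⟨8, 3513, 3505, 0, 0, 0, 0, 34, 3, 3513, [20967, 20978, 20950]⟩)) (.node (.leaf ⟨11, 211, 211, 1, 0, (-1), 0, 44, 3, 211, [1505, 12786, 1504]⟩) (.leaf ⟨1, 4896, 1771, 0, 0, 0, 0, 19, 2, 2444, [29162, 14497, 10560]⟩)))) (.node (.node (.node (.leaf ⟨6, 490, 484, 0, 0, 0, 0, 54, 0, 484, [2519, 2545, 2546]⟩) (.leaf ⟨5, 202, 145, 0, 0, 0, 0, 47, 0, 145, [815, 3780, 1446]⟩))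 (.node (.leaf ⟨1, 1791, 1507, 0, 0, 0, 0, 16, 2, 1790, [10738, 10737, 8576]⟩) (.leaf ⟨6, 3513, 3513, (-1), 0, (-1), 0, 32, 3, 3513, [20967, 27122, 20966]⟩))) (.node (.node (.leaf ⟨5, 1047, 1048, 0, 0, 0, 0, 93, 0, 0, []⟩) (.leaf ⟨9, 2724, 3853, 0, 0, 0, 0, 93, 0, 0, []⟩)) (.node (.leaf ⟨1, 2464, 2403, (-27), 0, 1, 0, 17, 2, 2371, [14812, 14835, 13906]⟩) (.leaf ⟨7, 5183, 5184, 0, 0, 0, 0, 93, 0, 0, []⟩))))) (.node (.node (.node (.node (.leaf ⟨6, 220, 221, 0, 0, 0, 0, 93, 0, 0, []⟩) (.leaf ⟨1, 1997, 1997, (-1), 0, (-1), 0, 12, 0, 1997, [11849, 17906, 11848]⟩)) (.node (.leaf ⟨10, 1579, 1659, 0, 0, 0, 0, 58, 3, 1579, [8919, 1603, 9684]⟩) (.leaf ⟨9, 2673, 3588, 0, 0, 0, 0, 48, 3, 2673, [15989, 12351, 21266]⟩))) (.node (.node (.leaf ⟨4, 881, 886, 0, 0, 0, 0, 42, 2, 878,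 [5580, 5575, 5618]⟩) (.leaf ⟨7, 378, 3732, 0, 0, 0, 0, 93, 0, 0, []⟩)) (.node (.leaf ⟨11, 2390, 2387, (-1), 0, (-5), 0, 44, 1, 2388, [13804, 13808, 13811]⟩) (.leaf ⟨11, 4734, 4717, 0, 0, 0, 0, 62, 3, 4734, [28073, 30194, 28034]⟩)))) (.node (.node (.node (.leaf ⟨0, 353, 353, 1, 0, 1, 0, 4, 0, 353, [1919, 3570, 1918]⟩) (.leaf ⟨4, 3301, 3299, 0, 0, 0, 0, 43, 2, 3300, [19954, 19953, 19948]⟩)) (.node (.leaf ⟨2, 1993, 1024, 0, 0, 0, 0, 28, 2, 1984, [11762, 11731, 6440]⟩) (.leaf ⟨1, 4049, 4752, 0, 0, 0, 0, 93, 0, 0, []⟩))) (.node (.node (.leaf ⟨4, 1171, 1277, 0, 0, 0, 0, 30, 5, 1171, [7233, 7231, 7666, 7616, 7618]⟩) (.leaf ⟨7, 3061, 4025, 0, 0, 0, 0, 93, 0, 0, []⟩)) (.node (.leaf ⟨5, 2647, 2648, 0, 0, 0, 0, 93, 0, 0, []⟩) (.leaf ⟨0, 0, 0, 0, 0, 0, 0, 0, 0, 0, []⟩)))))) (.node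 (.node (.node (.node (.node (.leaf ⟨5, 124, 124, 1, 0, 1, 0, 31, 3, 124, [517, 744, 516]⟩) (.leaf ⟨7, 2834, 2837, 0, 0, 0, 0, 93, 0, 0, []⟩)) (.node (.leaf ⟨11, 566, 1615, 0, 0, 0, 0, 93, 0, 0, []⟩) (.leaf ⟨4, 4314, 976, 0, 0, 0, 0, 39, 0, 976, [6177, 25587, 25580]⟩))) (.node (.node (.leaf ⟨7, 776, 796, 0, 0, 0, 0, 93, 0, 0, []⟩) (.leaf ⟨10, 3542, 3542, 1, 0, 1, 0, 58, 3, 3542, [21073, 21490, 21072]⟩)) (.node (.leaf ⟨4, 2312, 2316, 0, 0, 0, 0, 42, 2, 273, [13282, 1707, 13298]⟩) (.leaf ⟨1, 4958, 4960, 0, 0, 0, 0, 19, 2, 4849, [29678, 28829, 29682]⟩)))) (.node (.node (.node (.leaf ⟨5, 570, 571, 0, 0, 0, 0, 93, 0, 0, []⟩) (.leaf ⟨10, 3204, 3203, 0, 0, 0, 0, 63, 3, 3204, [19441, 19442, 19436]⟩)) (.node (.leaf ⟨1, 1900, 1892, (-13), 0, 21, 0, 11, 2, 1278, [7621, 11222,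 11224, 11243, 11250]⟩) (.leaf ⟨6, 4659, 4660, 0, 0, 0, 0, 93, 0, 0, []⟩))) (.node (.node (.leaf ⟨7, 1155, 1161, 0, 0, 0, 0, 58, 0, 1161, [7145, 7155, 7120]⟩) (.leaf ⟨5, 3948, 3849, 0, 0, 0, 0, 50, 0, 3849, [22959, 23537, 23538]⟩)) (.node (.leaf ⟨7, 2554, 2563, 0, 0, 0, 0, 46, 3, 2554, [15283, 15346, 15312]⟩) (.leaf ⟨0, 0, 0, 0, 0, 0, 0, 0, 0, 0, []⟩))))) (.node (.node (.node (.node (.leaf ⟨10, 377, 377, 1, 0, (-1), 0, 63, 3, 377, [2027, 2034, 2026]⟩) (.leaf ⟨7, 457, 3047, 0, 0, 0, 0, 93, 0, 0, []⟩)) (.node (.leaf ⟨0, 1740, 1713, 0, 0, 0, 0, 10, 0, 1713, [10051, 10227, 10216]⟩) (.leaf ⟨0, 4396, 4396, (-1), 0, (-1), 0, 10, 0, 4396, [26121, 26610, 26120]⟩))) (.node (.node (.leaf ⟨3, 962, 964, 0, 0, 0, 0, 33, 0, 964, [6123, 6131, 6114]⟩) (.leaf ⟨8, 811, 3769, 0, 0, 0,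 0, 41, 3, 811, [5199, 22515, 22464]⟩)) (.node (.leaf ⟨11, 166, 1659, 0, 0, 0, 0, 59, 3, 166, [951, 2712, 9684]⟩) (.leaf ⟨6, 5115, 5116, 0, 0, 0, 0, 93, 0, 0, []⟩)))) (.node (.node (.node (.leaf ⟨4, 650, 681, 0, 0, 0, 0, 44, 0, 681, [4079, 4082, 3612]⟩) (.leaf ⟨10, 3380, 3374, 0, 0, 0, 0, 54, 3, 3380, [20461, 20467, 20424]⟩)) (.node (.leaf ⟨10, 2094, 2108, 0, 0, 0, 0, 93, 0, 0, []⟩) (.leaf ⟨6, 4830, 4831, 0, 0, 0, 0, 93, 0, 0, []⟩))) (.node (.node (.leaf ⟨1, 1407, 595, 0, 0, 0, 0, 12, 0, 595, [3239, 8179, 8128]⟩) (.leaf ⟨4, 3506, 3506, (-1), 0, (-1), 0, 43, 0, 3506, [20953, 24562, 20952]⟩)) (.node (.leaf ⟨5, 1596, 1596, (-1), 0, (-1), 0, 45, 4, 720, [9002, 4307, 16370, 4306, 9002]⟩) (.leaf ⟨0, 0, 0, 0, 0, 0, 0, 0, 0, 0, []⟩))))))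

def factsPart251 : ATree TFact :=
  .node (.node (.node (.node (.node (.node (.leaf ⟨6, 119, 120, 0, 0, 0, 0, 93, 0, 0, []⟩) (.leaf ⟨6, 2781, 2784, 0, 0, 0, 0, 52, 2, 141, [16866, 735, 16884]⟩)) (.node (.leaf ⟨10, 1536, 1544, 0, 0, 0, 0, 93, 0, 0, []⟩) (.leaf ⟨5, 4214, 4215, 0, 0, 0, 0, 93, 0, 0, []⟩))) (.node (.node (.leaf ⟨5, 696, 738, 0, 0, 0, 0, 93, 0, 0, []⟩) (.leaf ⟨8, 3514, 3506, 0, 0, 0, 0, 61, 0, 3506, [20953, 20981, 20968]⟩)) (.node (.leaf ⟨11, 212, 212, 1, 0, 1, 0, 37, 3, 212, [1507, 12788, 1506]⟩) (.leaf ⟨1, 2427, 4897, 0, 0, 0, 0, 20, 0, 4897, [29167, 29172, 14334]⟩)))) (.node (.node (.node (.leaf ⟨7, 479, 491, 0, 0, 0, 0, 93, 0, 0, []⟩) (.leaf ⟨5, 3120, 3121, 0, 0, 0, 0, 48, 0, 3121, [18931, 18933, 18922]⟩)) (.node (.leaf ⟨5, 1522, 1792, 0, 0, 0, 0,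 93, 0, 0, []⟩) (.leaf ⟨4, 3500, 3500, 1, 0, (-1), 0, 40, 0, 3500, [20941, 24448, 20940]⟩))) (.node (.node (.leaf ⟨6, 268, 1049, 0, 0, 0, 0, 93, 0, 0, []⟩) (.leaf ⟨7, 3853, 3854, 0, 0, 0, 0, 93, 0, 0, []⟩)) (.node (.leaf ⟨9, 2464, 2463, 0, 0, 0, 0, 42, 3, 2464, [14811, 8252, 14806]⟩) (.leaf ⟨8, 5184, 5185, 0, 0, 0, 0, 93, 0, 0, []⟩))))) (.node (.node (.node (.node (.leaf ⟨5, 221, 222, 0, 0, 0, 0, 93, 0, 0, []⟩) (.leaf ⟨2, 2922, 2922, (-1), 0, (-1), 0, 11, 5, 2922, [17819, 11851, 17908, 11850, 17818]⟩)) (.node (.leaf ⟨10, 1660, 1580, 0, 0, 0, 0, 54, 3, 1660, [9689, 9717, 8920]⟩) (.leaf ⟨9, 2674, 4290, 0, 0, 0, 0, 53, 3, 2674, [15991, 26100, 25440]⟩))) (.node (.node (.leaf ⟨10, 886, 887, 0, 0, 0, 0, 93, 0, 0, []⟩) (.leaf ⟨4, 3732, 3728, 0, 0, 0, 0, 40, 0, 3728, [21963,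 16948, 22004]⟩)) (.node (.leaf ⟨5, 1005, 2391, 0, 0, 0, 0, 93, 0, 0, []⟩) (.leaf ⟨2, 4730, 4717, 128, 0, (-28), 0, 29, 2, 4728, [28065, 30189, 30196]⟩)))) (.node (.node (.node (.leaf ⟨0, 525, 525, (-1), 0, (-1), 0, 5, 0, 525, [2759, 3572, 2758]⟩) (.leaf ⟨7, 808, 3302, 0, 0, 0, 0, 93, 0, 0, []⟩)) (.node (.leaf ⟨5, 1989, 1993, 21, 0, (-1), 0, 23, 1, 1024, [6445, 11760, 11765]⟩) (.leaf ⟨4, 4752, 2897, 0, 0, 0, 0, 13, 3, 4752, [28149, 24360, 17690]⟩))) (.node (.node (.leaf ⟨4, 1284, 1278, 0, 0, 0, 0, 22, 3, 1284, [7633, 7668, 7620]⟩) (.leaf ⟨5, 4025, 4023, 0, 0, 0, 0, 46, 0, 4023, [24045, 18498, 24052]⟩)) (.node (.leaf ⟨4, 2648, 2649, 0, 0, 0, 0, 93, 0, 0, []⟩) (.leaf ⟨0, 0, 0, 0, 0, 0, 0, 0, 0, 0, []⟩)))))) (.node (.node (.node (.node (.node (.leaf ⟨5, 125, 125, (-1),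 0, (-1), 0, 46, 0, 125, [519, 1012, 518]⟩) (.leaf ⟨10, 2836, 2837, 0, 0, 0, 0, 58, 3, 2836, [17395, 17389, 17396]⟩)) (.node (.leaf ⟨4, 1614, 1615, 0, 0, 0, 0, 44, 0, 1615, [9205, 3043, 9200]⟩) (.leaf ⟨5, 4316, 4111, 0, 0, 0, 0, 38, 5, 4316, [25585, 25583, 25588, 6178, 24590]⟩))) (.node (.node (.leaf ⟨6, 796, 797, 0, 0, 0, 0, 93, 0, 0, []⟩) (.leaf ⟨10, 3543, 3543, 1, 0, (-1), 0, 54, 3, 3543, [21075, 21492, 21074]⟩)) (.node (.leaf ⟨10, 2316, 2317, 0, 0, 0, 0, 93, 0, 0, []⟩) (.leaf ⟨11, 4960, 4961, 0, 0, 0, 0, 93, 0, 0, []⟩)))) (.node (.node (.node (.leaf ⟨1, 571, 562, 0, 0, 0, 0, 14, 0, 562, [3025, 3059, 3060]⟩) (.leaf ⟨5, 2822, 3204, 0, 0, 0, 0, 48, 2, 2821, [17320, 17317, 19440]⟩)) (.node (.leaf ⟨0, 1638, 1893, 0, 0, 0, 0, 9, 2, 1637, [9550, 9549, 11194]⟩) (.leaf ⟨5,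 4660, 4661, 0, 0, 0, 0, 93, 0, 0, []⟩))) (.node (.node (.leaf ⟨5, 1161, 1162, 0, 0, 0, 0, 93, 0, 0, []⟩) (.leaf ⟨10, 388, 3949, 0, 0, 0, 0, 93, 0, 0, []⟩)) (.node (.leaf ⟨7, 2555, 2564, 0, 0, 0, 0, 40, 3, 2555, [15287, 15348, 15314]⟩) (.leaf ⟨0, 0, 0, 0, 0, 0, 0, 0, 0, 0, []⟩))))) (.node (.node (.node (.node (.leaf ⟨5, 370, 370, (-1), 0, (-1), 0, 49, 0, 370, [1993, 2028, 2036, 2029, 1992]⟩) (.leaf ⟨4, 1959, 3047, 0, 0, 0, 0, 40, 2, 458, [11490, 2415, 18420]⟩)) (.node (.leaf ⟨0, 1741, 1714, 0, 0, 0, 0, 4, 0, 1714, [10063, 10229, 10220]⟩) (.leaf ⟨0, 4397, 4397, 1, 0, 1, 0, 6, 0, 4397, [26123, 26612, 26122]⟩))) (.node (.node (.leaf ⟨3, 963, 965, 0, 0, 0, 0, 32, 0, 965, [6125, 6133, 6118]⟩) (.leaf ⟨8, 3773, 924, 0, 0, 0, 0, 47, 3, 3773, [22483, 22481, 5884]⟩)) (.node (.leaf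 ⟨11, 167, 1660, 0, 0, 0, 0, 55, 3, 167, [967, 14324, 9688]⟩) (.leaf ⟨1, 4901, 2360, 0, 0, 0, 0, 19, 2, 4900, [29204, 29199, 13572]⟩)))) (.node (.node (.node (.leaf ⟨4, 680, 680, (-1), 0, 1, 0, 30, 5, 680, [4081, 4085, 3642, 4084, 4080]⟩) (.leaf ⟨5, 3382, 3378, 0, 0, 0, 0, 49, 4, 3381, [20464, 20463, 20468, 20432, 20456]⟩)) (.node (.leaf ⟨8, 2093, 2103, 0, 0, 0, 0, 47, 3, 2093, [12245, 12243, 12266]⟩) (.leaf ⟨9, 4829, 4831, 0, 0, 0, 0, 53, 3, 4829, [28655, 28659, 28660]⟩))) (.node (.node (.leaf ⟨1, 1415, 789, 0, 0, 0, 0, 19, 0, 789, [4993, 8181, 8156]⟩) (.leaf ⟨4, 3507, 3507, 1, 0, 1, 0, 44, 0, 3507, [20955, 24564, 20954]⟩)) (.node (.leaf ⟨7, 719, 719, (-1), 0, (-1), 0, 58, 0, 719, [4305, 9664, 4304]⟩) (.leaf ⟨0, 0, 0, 0, 0, 0, 0, 0, 0, 0, []⟩))))))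

def factsPart252 : ATree TFact :=
  .node (.node (.node (.node (.node (.node (.leaf ⟨5, 120, 121, 0, 0, 0, 0, 93, 0, 0, []⟩) (.leaf ⟨9, 2784, 2785, 0, 0, 0, 0, 93, 0, 0, []⟩)) (.node (.leaf ⟨4, 1542, 1544, 0, 0, 0, 0, 43, 2, 1537, [8686, 8653, 8694]⟩) (.leaf ⟨6, 2675, 465, 0, 0, 0, 0, 54, 0, 465, [2431, 2377, 16000]⟩))) (.node (.node (.leaf ⟨2, 738, 485, 0, 0, 0, 0, 23, 0, 485, [2521, 4597, 4598]⟩) (.leaf ⟨8, 3515, 3507, 0, 0, 0, 0, 62, 0, 3507, [20955, 20983, 20970]⟩)) (.node (.leaf ⟨11, 213, 213, 1, 0, (-1), 0, 29, 3, 213, [1509, 12790, 1508]⟩) (.leaf ⟨1, 1765, 4898, 0, 0, 0, 0, 93, 0, 0, []⟩)))) (.node (.node (.node (.leaf ⟨6, 491, 492, 0, 0, 0, 0, 93, 0, 0, []⟩) (.leaf ⟨4, 145, 196, 0, 0, 0, 0, 41, 0, 196, [1351, 398, 814]⟩)) (.node (.leaf ⟨4, 1792, 1793, 0, 0,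 0, 0, 93, 0, 0, []⟩) (.leaf ⟨4, 3501, 3501, (-1), 0, 1, 0, 39, 0, 3501, [20943, 27126, 20942]⟩))) (.node (.node (.leaf ⟨7, 1049, 1050, 0, 0, 0, 0, 93, 0, 0, []⟩) (.leaf ⟨6, 3854, 3855, 0, 0, 0, 0, 93, 0, 0, []⟩)) (.node (.leaf ⟨1, 2399, 2463, 27, 0, (-1), 0, 18, 2, 2403, [13892, 14837, 14838]⟩) (.leaf ⟨1, 5183, 935, 0, 0, 0, 0, 18, 2, 5182, [31218, 31217, 5982]⟩))))) (.node (.node (.node (.node (.leaf ⟨4, 222, 223, 0, 0, 0, 0, 93, 0, 0, []⟩) (.leaf ⟨2, 2930, 2930, 1, 0, 1, 0, 27, 0, 2930, [17867, 17910, 17866]⟩)) (.node (.leaf ⟨10, 1581, 1663, 0, 0, 0, 0, 93, 0, 0, []⟩) (.leaf ⟨9, 4388, 4337, 0, 0, 0, 0, 57, 3, 4388, [26085, 26102, 25710]⟩))) (.node (.node (.leaf ⟨4, 887, 882, 0, 0, 0, 0, 43, 0, 882, [5583, 5620, 5622]⟩) (.leaf ⟨6, 3732, 3733, 0, 0, 0, 0, 93, 0, 0,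 []⟩)) (.node (.leaf ⟨6, 2391, 2392, 0, 0, 0, 0, 93, 0, 0, []⟩) (.leaf ⟨10, 4725, 5021, 0, 0, 0, 0, 93, 0, 0, []⟩)))) (.node (.node (.node (.leaf ⟨0, 526, 526, 1, 0, 1, 0, 6, 0, 526, [2761, 3574, 2760]⟩) (.leaf ⟨6, 3302, 3303, 0, 0, 0, 0, 93, 0, 0, []⟩)) (.node (.leaf ⟨9, 1986, 1993, 0, 0, 0, 0, 63, 2, 1985, [11738, 11735, 11762]⟩) (.leaf ⟨9, 4752, 4753, 0, 0, 0, 0, 93, 0, 0, []⟩))) (.node (.node (.leaf ⟨4, 1285, 1279, 0, 0, 0, 0, 43, 0, 1279, [7623, 7671, 7634]⟩) (.leaf ⟨9, 3285, 4026, 0, 0, 0, 0, 93, 0, 0, []⟩)) (.node (.leaf ⟨1, 1386, 2642, 0, 0, 0, 0, 17, 0, 2642, [15849, 8175, 8078]⟩) (.leaf ⟨0, 0, 0, 0, 0, 0, 0, 0, 0, 0, []⟩)))))) (.node (.node (.node (.node (.node (.leaf ⟨6, 127, 127, (-1), 0, (-1), 0, 45, 5, 127, [523, 521, 1014, 520, 522]⟩) (.leaf ⟨9, 17, 2838,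 0, 0, 0, 0, 93, 0, 0, []⟩)) (.node (.leaf ⟨2, 787, 1615, 0, 0, 0, 0, 29, 0, 1615, [9205, 3050, 4934]⟩) (.leaf ⟨7, 3066, 4317, 0, 0, 0, 0, 93, 0, 0, []⟩))) (.node (.node (.leaf ⟨5, 797, 798, 0, 0, 0, 0, 93, 0, 0, []⟩) (.leaf ⟨5, 3545, 3545, 1, 0, (-1), 0, 49, 4, 3544, [21078, 21077, 21494, 21076, 21078]⟩)) (.node (.leaf ⟨4, 2317, 2313, 0, 0, 0, 0, 43, 0, 2313, [13287, 13300, 13302]⟩) (.leaf ⟨1, 4961, 4959, 0, 0, 0, 0, 20, 0, 4959, [29681, 29684, 29686]⟩)))) (.node (.node (.node (.leaf ⟨4, 571, 572, 0, 0, 0, 0, 93, 0, 0, []⟩) (.leaf ⟨5, 2823, 3182, 0, 0, 0, 0, 49, 0, 3182, [19347, 19438, 19445, 19447, 17324]⟩)) (.node (.leaf ⟨0, 1894, 1639, 0, 0, 0, 0, 4, 0, 1639, [9557, 11254, 11196]⟩) (.leaf ⟨4, 4661, 4662, 0, 0, 0, 0, 93, 0, 0, []⟩))) (.node (.node (.leaf ⟨7, 1156,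 1162, 0, 0, 0, 0, 46, 3, 1156, [7123, 7156, 7158]⟩) (.leaf ⟨10, 3756, 3950, 0, 0, 0, 0, 93, 0, 0, []⟩)) (.node (.leaf ⟨7, 2556, 2565, 0, 0, 0, 0, 58, 0, 2565, [15317, 15351, 15290]⟩) (.leaf ⟨0, 0, 0, 0, 0, 0, 0, 0, 0, 0, []⟩))))) (.node (.node (.node (.node (.leaf ⟨5, 371, 371, 1, 0, 1, 0, 50, 0, 371, [1995, 2038, 1994]⟩) (.leaf ⟨7, 749, 3048, 0, 0, 0, 0, 93, 0, 0, []⟩)) (.node (.leaf ⟨1, 1462, 525, 0, 0, 0, 0, 15, 0, 525, [2759, 1959, 8448]⟩) (.leaf ⟨0, 4398, 4398, (-1), 0, (-1), 0, 5, 0, 4398, [26125, 26614, 26124]⟩))) (.node (.node (.leaf ⟨7, 418, 966, 0, 0, 0, 0, 93, 0, 0, []⟩) (.leaf ⟨8, 925, 3774, 0, 0, 0, 0, 61, 0, 3774, [22485, 22518, 5896]⟩)) (.node (.leaf ⟨6, 307, 1383, 11, 0, 5, 0, 68, 49, 1690, [9913, 9911, 9909, 10052, 1609, 9748, 8928, 14240, 4785, 13644,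 13312, 4784, 3053, 6782, 1696, 7861, 9762, 1605, 10066, 1603, 9668, 9684, 9688, 9692, 9694, 4302, 9682, 4317, 1178, 927, 1174, 921, 1168, 1156, 1162, 1168, 3418, 4321, 4755, 1795, 14242, 14244, 14246, 10654, 14255, 14258, 14266, 14253, 14270, 14263, 14274, 14278, 14282, 14286, 14292, 14304, 14289, 14308, 14307, 14310, 14312, 14314, 9315, 14320, 4341, 4335, 4315, 495, 14322, 973, 994, 1066, 1060, 995, 1070, 14326, 9692, 13524, 9694, 4301, 4299, 4297, 9670, 1694, 9972, 1696, 8072, 14238, 9156]⟩) (.leaf ⟨1, 2361, 5115, 0, 0, 0, 0, 14, 0, 5115, [30707, 30710, 13574]⟩)))) (.node (.node (.node (.leaf ⟨5, 681, 681, 1, 0, 1, 0, 50, 0, 681, [4079, 2596, 4078]⟩) (.leaf ⟨5, 2523, 3383, 0, 0, 0, 0, 93, 0, 0, []⟩)) (.node (.leaf ⟨8, 2104, 2094, 0, 0, 0, 0, 41, 3, 2104, [12269,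 12279, 12246]⟩) (.leaf ⟨7, 4821, 4832, 0, 0, 0, 0, 93, 0, 0, []⟩))) (.node (.node (.leaf ⟨7, 1416, 1415, (-17), 0, (-9), 0, 16, 3, 1416, [8168, 5017, 8183]⟩) (.leaf ⟨5, 3509, 3509, 1, 0, 1, 0, 38, 5, 3509, [20959, 20957, 24566, 20956, 20958]⟩)) (.node (.leaf ⟨7, 720, 720, (-1), 0, 1, 0, 46, 3, 720, [4307, 16374, 4306]⟩) (.leaf ⟨0, 0, 0, 0, 0, 0, 0, 0, 0, 0, []⟩))))))

def factsPart253 : ATree TFact :=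
  .node (.node (.node (.node (.node (.node (.leaf ⟨2, 119, 115, 0, 0, 0, 0, 25, 2, 118, [500, 499, 486]⟩) (.leaf ⟨6, 2785, 2782, 0, 0, 0, 0, 53, 0, 2782, [16871, 16886, 16888]⟩)) (.node (.leaf ⟨10, 206, 206, (-1), 0, 1, 0, 49, 5, 206, [1495, 1493, 3478, 1492, 1494]⟩) (.leaf ⟨6, 4087, 466, 0, 0, 0, 0, 55, 0, 466, [2433, 25081, 24416]⟩))) (.node (.node (.leaf ⟨5, 697, 739, 0, 0, 0, 0, 93, 0, 0, []⟩) (.leaf ⟨8, 3516, 3508, 0, 0, 0, 0, 47, 3, 3516, [20973, 20984, 20956]⟩)) (.node (.leaf ⟨11, 226, 226, 1, 0, 1, 0, 64, 3, 226, [1543, 12792, 1542]⟩) (.leaf ⟨10, 4898, 4899, 0, 0, 0, 0, 93, 0, 0, []⟩)))) (.node (.node (.node (.leaf ⟨5, 492, 493, 0, 0, 0, 0, 93, 0, 0, []⟩) (.leaf ⟨4, 3121, 818, 0, 0, 0, 0, 42, 0, 818, [5225, 18937, 18930]⟩)) (.node (.leaf ⟨3, 1793, 1794, 0,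 0, 0, 0, 93, 0, 0, []⟩) (.leaf ⟨5, 3512, 3512, (-1), 0, 1, 0, 38, 5, 3512, [20965, 20963, 27128, 20962, 20964]⟩))) (.node (.node (.leaf ⟨6, 1050, 1051, 0, 0, 0, 0, 93, 0, 0, []⟩) (.leaf ⟨8, 3855, 3856, 0, 0, 0, 0, 93, 0, 0, []⟩)) (.node (.leaf ⟨1, 2395, 2400, (-27), 0, 1, 0, 19, 2, 2463, [14808, 14841, 13878]⟩) (.leaf ⟨1, 2747, 5184, 0, 0, 0, 0, 16, 0, 5184, [31221, 31224, 16594]⟩))))) (.node (.node (.node (.node (.leaf ⟨11, 216, 220, 0, 0, 0, 0, 59, 3, 216, [1515, 1513, 1522]⟩) (.leaf ⟨2, 2931, 2931, 1, 0, (-1), 0, 1, 3, 2931, [17869, 17912, 17868]⟩)) (.node (.leaf ⟨5, 1662, 1663, 0, 0, 0, 0, 49, 4, 1661, [9702, 9693, 9718, 8922, 9720]⟩) (.leaf ⟨9, 4389, 4338, 0, 0, 0, 0, 53, 3, 4389, [26087, 26104, 25712]⟩))) (.node (.node (.leaf ⟨11, 887, 888, 0, 0, 0, 0, 93, 0,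 0, []⟩) (.leaf ⟨4, 3733, 3729, 0, 0, 0, 0, 39, 0, 3729, [21967, 22007, 22008]⟩)) (.node (.leaf ⟨3, 2290, 2391, 0, 0, 0, 0, 31, 0, 2391, [13815, 6436, 13168]⟩) (.leaf ⟨3, 4727, 5021, 0, 0, 0, 0, 36, 2, 4726, [28056, 28055, 30200]⟩)))) (.node (.node (.node (.leaf ⟨0, 527, 527, (-1), 0, (-1), 0, 5, 0, 527, [2763, 3576, 2762]⟩) (.leaf ⟨5, 3303, 3304, 0, 0, 0, 0, 93, 0, 0, []⟩)) (.node (.leaf ⟨5, 1992, 1986, 21, 0, 1, 0, 48, 2, 1989, [11756, 11766, 11769]⟩) (.leaf ⟨4, 4753, 2898, 0, 0, 0, 0, 42, 0, 2898, [17693, 28151, 28152]⟩))) (.node (.node (.leaf ⟨4, 1280, 1291, 0, 0, 0, 0, 93, 0, 0, []⟩) (.leaf ⟨6, 4026, 3061, 0, 0, 0, 0, 53, 0, 3061, [18493, 19844, 24056]⟩)) (.node (.leaf ⟨1, 1387, 2643, 0, 0, 0, 0, 14, 0, 2643, [15851, 15865, 8080]⟩) (.leaf ⟨0, 0, 0, 0, 0, 0, 0,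 0, 0, 0, []⟩)))))) (.node (.node (.node (.node (.node (.leaf ⟨6, 169, 169, (-1), 0, 1, 0, 39, 3, 169, [1001, 1016, 1000]⟩) (.leaf ⟨2, 2838, 2834, 0, 0, 0, 0, 27, 0, 2834, [17387, 7651, 17400]⟩)) (.node (.leaf ⟨5, 1615, 638, 21, 0, (-1), 0, 23, 1, 636, [4943, 9208, 3525]⟩) (.leaf ⟨6, 4317, 4318, 0, 0, 0, 0, 93, 0, 0, []⟩))) (.node (.node (.leaf ⟨4, 798, 799, 0, 0, 0, 0, 93, 0, 0, []⟩) (.leaf ⟨5, 3546, 3546, (-1), 0, 1, 0, 50, 0, 3546, [21081, 21496, 21080]⟩)) (.node (.leaf ⟨9, 271, 2318, 0, 0, 0, 0, 93, 0, 0, []⟩) (.leaf ⟨2, 4960, 2503, 0, 0, 0, 0, 28, 2, 2262, [29682, 13063, 15032]⟩)))) (.node (.node (.node (.leaf ⟨1, 572, 563, 0, 0, 0, 0, 13, 0, 563, [3027, 3063, 3064]⟩) (.leaf ⟨5, 2824, 3183, 0, 0, 0, 0, 50, 0, 3183, [19349, 19449, 17326]⟩)) (.node (.leaf ⟨0, 1895,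 1640, 0, 0, 0, 0, 6, 0, 1640, [9561, 11257, 11198]⟩) (.leaf ⟨3, 4662, 4663, 0, 0, 0, 0, 93, 0, 0, []⟩))) (.node (.node (.leaf ⟨10, 1118, 1163, 0, 0, 0, 0, 93, 0, 0, []⟩) (.leaf ⟨9, 3950, 2511, 0, 0, 0, 0, 63, 2, 3756, [23544, 22327, 15054]⟩)) (.node (.leaf ⟨7, 2557, 2566, 0, 0, 0, 0, 46, 3, 2557, [15295, 15352, 15318]⟩) (.leaf ⟨0, 0, 0, 0, 0, 0, 0, 0, 0, 0, []⟩))))) (.node (.node (.node (.node (.leaf ⟨5, 372, 372, (-1), 0, (-1), 0, 46, 0, 372, [1997, 2040, 1996]⟩) (.leaf ⟨3, 3048, 3047, 0, 0, 0, 0, 33, 0, 3047, [18421, 4711, 18424]⟩)) (.node (.leaf ⟨1, 1463, 526, 0, 0, 0, 0, 16, 0, 526, [2761, 10233, 8450]⟩) (.leaf ⟨0, 4399, 4399, 1, 0, 1, 0, 4, 0, 4399, [26127, 26616, 26126]⟩))) (.node (.node (.leaf ⟨6, 966, 967, 0, 0, 0, 0, 93, 0, 0, []⟩) (.leaf ⟨3, 3769, 3774, (-50),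 0, 6, 0, 34, 2, 811, [22516, 5963, 22520]⟩)) (.node (.leaf ⟨2, 1383, 1099, (-11), 0, 5, 0, 24, 0, 1099, [6875, 4798, 14328]⟩) (.leaf ⟨1, 2362, 5116, 0, 0, 0, 0, 15, 0, 5116, [30709, 30713, 13576]⟩)))) (.node (.node (.node (.leaf ⟨11, 484, 682, 0, 0, 0, 0, 93, 0, 0, []⟩) (.leaf ⟨4, 3383, 3384, 0, 0, 0, 0, 93, 0, 0, []⟩)) (.node (.leaf ⟨8, 2105, 2108, 0, 0, 0, 0, 61, 0, 2108, [12277, 12281, 12270]⟩) (.leaf ⟨6, 4832, 4833, 0, 0, 0, 0, 93, 0, 0, []⟩))) (.node (.node (.leaf ⟨2, 1413, 1416, 0, 0, 0, 0, 28, 2, 1412, [8152, 8151, 8160]⟩) (.leaf ⟨5, 3510, 3510, (-1), 0, (-1), 0, 46, 0, 3510, [20961, 24568, 20960]⟩)) (.node (.leaf ⟨5, 174, 174, 1, 0, (-1), 0, 38, 5, 174, [1141, 495, 14322, 494, 1140]⟩) (.leaf ⟨0, 0, 0, 0, 0, 0, 0, 0, 0, 0, []⟩))))))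

def factsPart254 : ATree TFact :=
  .node (.node (.node (.node (.node (.node (.leaf ⟨2, 116, 120, 0, 0, 0, 0, 24, 0, 120, [503, 506, 490]⟩) (.leaf ⟨7, 2784, 2784, (-1), 0, (-1), 0, 56, 4, 140, [16884, 733, 1300, 732, 16884]⟩)) (.node (.leaf ⟨10, 1533, 1533, (-1), 0, (-1), 0, 54, 3, 1533, [8645, 8698, 8644]⟩) (.leaf ⟨7, 4214, 2077, 0, 0, 0, 0, 51, 5, 4214, [25077, 25075, 25082, 11516, 12154]⟩))) (.node (.node (.leaf ⟨3, 738, 739, 0, 0, 0, 0, 31, 0, 739, [4603, 4226, 4598]⟩) (.leaf ⟨8, 3517, 3509, 0, 0, 0, 0, 41, 3, 3517, [20975, 20986, 20958]⟩)) (.node (.leaf ⟨11, 2195, 2195, 1, 0, (-1), 0, 59, 3, 2195, [12761, 12794, 12760]⟩) (.leaf ⟨1, 4899, 1766, 0, 0, 0, 0, 19, 2, 4898, [29178, 29177, 10464]⟩)))) (.node (.node (.node (.leaf ⟨4, 493, 494, 0, 0, 0, 0, 93, 0, 0, []⟩)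 (.leaf ⟨3, 196, 196, 1, 0, (-1), 0, 32, 2, 93, [1352, 808, 1352]⟩)) (.node (.leaf ⟨2, 1794, 1795, 0, 0, 0, 0, 93, 0, 0, []⟩) (.leaf ⟨5, 3513, 3513, (-1), 0, (-1), 0, 31, 3, 3513, [20967, 27130, 20966]⟩))) (.node (.node (.leaf ⟨8, 1051, 1052, 0, 0, 0, 0, 93, 0, 0, []⟩) (.leaf ⟨5, 3856, 3857, 0, 0, 0, 0, 93, 0, 0, []⟩)) (.node (.leaf ⟨6, 2324, 2395, (-167), 0, 69, 0, 15, 1, 2400, [14796, 14804, 14843]⟩) (.leaf ⟨1, 3802, 5185, 0, 0, 0, 0, 17, 0, 5185, [31223, 31227, 22752]⟩))))) (.node (.node (.node (.node (.leaf ⟨11, 221, 217, 0, 0, 0, 0, 55, 3, 221, [1525, 1531, 1516]⟩) (.leaf ⟨2, 2934, 2934, (-1), 0, 1, 0, 25, 0, 2934, [17889, 17914, 17888]⟩)) (.node (.leaf ⟨10, 1582, 1664, 0, 0, 0, 0, 93, 0, 0, []⟩) (.leaf ⟨9, 4390, 4382, 0, 0, 0, 0, 48, 3, 4390, [26089, 26106, 26062]⟩)))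 (.node (.node (.leaf ⟨4, 888, 883, 0, 0, 0, 0, 44, 0, 883, [5585, 5625, 5626]⟩) (.leaf ⟨9, 108, 3734, 0, 0, 0, 0, 93, 0, 0, []⟩)) (.node (.leaf ⟨3, 2390, 2392, 0, 0, 0, 0, 32, 0, 2392, [13817, 13819, 13806]⟩) (.leaf ⟨11, 5021, 5022, 0, 0, 0, 0, 93, 0, 0, []⟩)))) (.node (.node (.node (.leaf ⟨0, 528, 528, 1, 0, 1, 0, 4, 0, 528, [2767, 3578, 2766]⟩) (.leaf ⟨4, 3304, 3305, 0, 0, 0, 0, 93, 0, 0, []⟩)) (.node (.leaf ⟨6, 1987, 1202, 0, 0, 0, 0, 24, 3, 1987, [11743, 6464, 7348]⟩) (.leaf ⟨3, 4752, 3161, 0, 0, 0, 0, 12, 3, 4752, [28149, 24266, 19254]⟩))) (.node (.node (.leaf ⟨5, 1290, 1291, 0, 0, 0, 0, 38, 5, 1290, [7645, 7637, 7672, 7624, 7674]⟩) (.leaf ⟨8, 11, 11, 1, 0, (-1), 0, 34, 3, 11, [21, 18106, 20]⟩)) (.node (.leaf ⟨1, 1388, 2644, 0, 0, 0, 0, 13, 0, 2644, [15853, 15867,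 8082]⟩) (.leaf ⟨0, 0, 0, 0, 0, 0, 0, 0, 0, 0, []⟩)))))) (.node (.node (.node (.node (.node (.leaf ⟨4, 124, 124, 1, 0, 1, 0, 30, 5, 124, [517, 515, 726, 514, 516]⟩) (.leaf ⟨7, 2838, 2839, 0, 0, 0, 0, 93, 0, 0, []⟩)) (.node (.leaf ⟨11, 178, 619, 0, 0, 0, 0, 20, 3, 178, [1217, 3416, 3396]⟩) (.leaf ⟨10, 4313, 4317, 0, 0, 0, 0, 58, 3, 4313, [25579, 18531, 25592]⟩))) (.node (.node (.leaf ⟨3, 799, 800, 0, 0, 0, 0, 93, 0, 0, []⟩) (.leaf ⟨9, 2667, 3638, 0, 0, 0, 0, 93, 0, 0, []⟩)) (.node (.leaf ⟨5, 2316, 2318, 0, 0, 0, 0, 48, 2, 272, [13298, 1705, 13306]⟩) (.leaf ⟨2, 2504, 4961, 0, 0, 0, 0, 29, 0, 4961, [29687, 29690, 15034]⟩)))) (.node (.node (.node (.leaf ⟨10, 572, 573, 0, 0, 0, 0, 93, 0, 0, []⟩) (.leaf ⟨5, 3197, 3184, 0, 0, 0, 0, 46, 0, 3184, [19351, 19451, 19396]⟩)) (.node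 (.leaf ⟨0, 1896, 1641, 0, 0, 0, 0, 5, 0, 1641, [9565, 11259, 11200]⟩) (.leaf ⟨4, 4658, 4304, 0, 0, 0, 0, 39, 0, 4304, [25515, 23661, 27632]⟩))) (.node (.node (.leaf ⟨8, 1103, 1157, 0, 0, 0, 0, 47, 3, 1103, [6891, 6887, 7136]⟩) (.leaf ⟨9, 3949, 2514, 0, 0, 0, 0, 63, 2, 388, [23542, 2087, 15064]⟩)) (.node (.leaf ⟨6, 2559, 2568, 0, 0, 0, 0, 51, 4, 2558, [15302, 15299, 15354, 15320, 15322]⟩) (.leaf ⟨0, 0, 0, 0, 0, 0, 0, 0, 0, 0, []⟩))))) (.node (.node (.node (.node (.leaf ⟨6, 374, 374, (-1), 0, (-1), 0, 45, 5, 374, [2001, 1999, 2042, 1998, 2000]⟩) (.leaf ⟨2, 3048, 3048, 1, 0, 1, 0, 25, 2, 749, [18424, 4840, 18424]⟩)) (.node (.leaf ⟨1, 1464, 527, 0, 0, 0, 0, 15, 0, 527, [2763, 10235, 8452]⟩) (.leaf ⟨0, 4400, 4400, (-1), 0, (-1), 0, 3, 0, 4400, [26129, 26618, 26128]⟩)))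 (.node (.node (.leaf ⟨4, 964, 966, 0, 0, 0, 0, 40, 0, 966, [6137, 2270, 6122]⟩) (.leaf ⟨3, 3775, 3770, 50, 0, (-6), 0, 33, 2, 3774, [22486, 22523, 22466]⟩)) (.node (.leaf ⟨2, 766, 2366, 21, 0, 1, 0, 23, 2, 713, [4776, 4361, 13612]⟩) (.leaf ⟨3, 5116, 2191, (-21), 0, 1, 0, 12, 3, 5116, [30715, 13642, 12686]⟩)))) (.node (.node (.node (.leaf ⟨6, 681, 682, 0, 0, 0, 0, 55, 0, 682, [4091, 2549, 4078]⟩) (.leaf ⟨7, 3384, 3385, 0, 0, 0, 0, 93, 0, 0, []⟩)) (.node (.leaf ⟨5, 2108, 2109, 0, 0, 0, 0, 93, 0, 0, []⟩) (.leaf ⟨8, 1683, 4820, 0, 0, 0, 0, 26, 3, 1683, [9877, 14916, 28632]⟩))) (.node (.node (.leaf ⟨7, 1409, 1413, 17, 0, 9, 0, 25, 3, 1409, [8158, 8185, 8187]⟩) (.leaf ⟨6, 3630, 3510, (-6), 0, (-12), 0, 68, 58, 3546, [21081, 21079, 21077, 21116, 21115, 21142, 21146, 21150,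 21154, 21166, 21178, 21185, 21183, 21206, 21203, 21222, 21238, 21240, 21301, 21302, 21314, 21316, 21318, 21320, 21357, 21358, 21378, 21396, 21398, 21400, 21447, 21498, 23852, 23910, 23847, 23845, 23841, 23839, 23041, 23930, 23942, 23039, 23865, 23863, 22604, 23960, 22608, 23970, 23980, 23988, 24003, 24010, 24013, 23327, 23320, 23323, 24017, 24020, 24035, 24080, 24091, 24110, 24112, 24146, 24148, 24184, 24228, 24149, 24260, 24295, 24322, 24293, 24289, 24285, 24336, 24350, 24352, 24354, 24356, 24382, 24443, 24444, 24462, 24469, 24475, 24481, 24487, 24543, 24570]⟩)) (.node (.leaf ⟨10, 1082, 1082, 1, 0, 1, 0, 65, 4, 131, [6770, 551, 4506, 550, 6770]⟩) (.leaf ⟨0, 0, 0, 0, 0, 0, 0, 0, 0, 0, []⟩))))))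

def factsPart255 : ATree TFact :=
  .node (.node (.node (.node (.node (.node (.leaf ⟨2, 117, 121, 0, 0, 0, 0, 23, 0, 121, [505, 509, 494]⟩) (.leaf ⟨7, 2785, 2785, 1, 0, 1, 0, 57, 0, 2785, [16889, 16892, 16888]⟩)) (.node (.leaf ⟨10, 1534, 1534, (-1), 0, 1, 0, 58, 3, 1534, [8647, 8700, 8646]⟩) (.leaf ⟨7, 4215, 2078, 0, 0, 0, 0, 46, 3, 4215, [25079, 25084, 12156]⟩))) (.node (.node (.leaf ⟨4, 739, 740, 0, 0, 0, 0, 93, 0, 0, []⟩) (.leaf ⟨7, 2657, 3518, 0, 0, 0, 0, 93, 0, 0, []⟩)) (.node (.leaf ⟨11, 2196, 2196, 1, 0, 1, 0, 55, 3, 2196, [12763, 12796, 12762]⟩) (.leaf ⟨5, 4897, 4899, 21, 0, (-1), 0, 14, 1, 1766, [29171, 29174, 29181]⟩)))) (.node (.node (.node (.leaf ⟨4, 491, 486, 0, 0, 0, 0, 40, 0, 486, [2533, 2472, 2550]⟩) (.leaf ⟨3, 818, 818, 1, 0, 1, 0, 35, 2, 196, [5224,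 18940, 5224]⟩)) (.node (.leaf ⟨5, 1516, 1796, 0, 0, 0, 0, 93, 0, 0, []⟩) (.leaf ⟨3, 3511, 3511, (-1), 0, (-1), 0, 31, 0, 3511, [20963, 24556, 20962]⟩))) (.node (.node (.leaf ⟨5, 1052, 1053, 0, 0, 0, 0, 93, 0, 0, []⟩) (.leaf ⟨4, 3857, 3858, 0, 0, 0, 0, 93, 0, 0, []⟩)) (.node (.leaf ⟨7, 2397, 2326, 167, 0, 69, 0, 51, 3, 2395, [13870, 13872, 14845, 13354, 13356]⟩) (.leaf ⟨1, 72, 72, 1, 0, 1, 0, 12, 0, 72, [281, 28160, 280]⟩))))) (.node (.node (.node (.node (.leaf ⟨11, 222, 218, 0, 0, 0, 0, 50, 3, 222, [1527, 1532, 1518]⟩) (.leaf ⟨2, 1994, 1994, (-1), 0, 1, 0, 26, 0, 1994, [11843, 9460, 11842]⟩)) (.node (.leaf ⟨4, 1664, 1663, 0, 0, 0, 0, 43, 2, 1582, [9724, 8925, 9720]⟩) (.leaf ⟨9, 4391, 4383, 0, 0, 0, 0, 42, 3, 4391, [26091, 26108, 26064]⟩))) (.node (.node (.leaf ⟨9,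 876, 889, 0, 0, 0, 0, 93, 0, 0, []⟩) (.leaf ⟨5, 378, 3734, 0, 0, 0, 0, 48, 2, 109, [2056, 457, 22012]⟩)) (.node (.leaf ⟨3, 2386, 2387, 0, 0, 0, 0, 36, 2, 322, [13784, 1823, 13786]⟩) (.leaf ⟨3, 5022, 4729, 0, 0, 0, 0, 37, 0, 4729, [28061, 30202, 30204]⟩)))) (.node (.node (.node (.leaf ⟨0, 604, 604, (-1), 0, (-1), 0, 9, 0, 604, [3273, 3580, 3272]⟩) (.leaf ⟨2, 3295, 808, 0, 0, 0, 0, 29, 0, 808, [5167, 1343, 19932]⟩)) (.node (.leaf ⟨6, 1990, 1203, 0, 0, 0, 0, 53, 0, 1203, [7351, 11773, 11748]⟩) (.leaf ⟨3, 4753, 3165, 0, 0, 0, 0, 35, 0, 3165, [19263, 28157, 28152]⟩))) (.node (.node (.leaf ⟨6, 1282, 1291, 0, 0, 0, 0, 39, 3, 1282, [7629, 7627, 7674]⟩) (.leaf ⟨8, 305, 305, 1, 0, 1, 0, 26, 3, 305, [1789, 24060, 1788]⟩)) (.node (.leaf ⟨1, 1389, 2645, 0, 0, 0, 0, 12, 0, 2645,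 [15855, 15869, 8084]⟩) (.leaf ⟨0, 0, 0, 0, 0, 0, 0, 0, 0, 0, []⟩)))))) (.node (.node (.node (.node (.node (.leaf ⟨4, 125, 125, (-1), 0, (-1), 0, 40, 0, 125, [519, 1020, 518]⟩) (.leaf ⟨2, 2839, 2837, 0, 0, 0, 0, 25, 0, 2837, [17397, 17403, 17404]⟩)) (.node (.leaf ⟨11, 179, 620, 0, 0, 0, 0, 59, 3, 179, [1219, 9212, 3398]⟩) (.leaf ⟨10, 4318, 4314, 0, 0, 0, 0, 54, 3, 4318, [25595, 25597, 25580]⟩))) (.node (.node (.leaf ⟨0, 103, 103, 1, 0, 1, 0, 7, 0, 103, [441, 3770, 440]⟩) (.leaf ⟨10, 3638, 3639, 0, 0, 0, 0, 93, 0, 0, []⟩)) (.node (.leaf ⟨10, 268, 268, (-1), 0, 1, 0, 49, 5, 268, [1697, 1695, 9670, 1694, 1696]⟩) (.leaf ⟨10, 2590, 4962, 0, 0, 0, 0, 93, 0, 0, []⟩)))) (.node (.node (.node (.leaf ⟨1, 573, 567, 0, 0, 0, 0, 19, 0, 567, [3045, 3067, 3068]⟩) (.leaf ⟨6, 3199, 3186,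 0, 0, 0, 0, 45, 5, 3199, [19401, 19399, 19452, 19352, 19354]⟩)) (.node (.leaf ⟨0, 1897, 1863, 0, 0, 0, 0, 4, 0, 1863, [11073, 11261, 11202]⟩) (.leaf ⟨4, 4659, 4653, 0, 0, 0, 0, 40, 0, 4653, [27613, 27645, 27634]⟩))) (.node (.node (.leaf ⟨8, 1158, 1104, 0, 0, 0, 0, 41, 3, 1158, [7139, 7165, 6894]⟩) (.leaf ⟨11, 3950, 3949, (-17), 0, 1, 0, 64, 1, 2514, [15084, 23547, 23549]⟩)) (.node (.leaf ⟨8, 1587, 2571, 0, 0, 0, 0, 93, 0, 0, []⟩) (.leaf ⟨0, 0, 0, 0, 0, 0, 0, 0, 0, 0, []⟩))))) (.node (.node (.node (.node (.leaf ⟨4, 369, 369, 1, 0, 1, 0, 42, 0, 369, [1991, 904, 1990]⟩) (.leaf ⟨7, 778, 3049, 0, 0, 0, 0, 93, 0, 0, []⟩)) (.node (.leaf ⟨1, 1688, 528, 0, 0, 0, 0, 14, 0, 528, [2767, 10237, 9908]⟩) (.leaf ⟨0, 4431, 4431, 1, 0, 1, 0, 9, 0, 4431, [26217, 26620, 26216]⟩))) (.node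 (.node (.leaf ⟨4, 965, 967, 0, 0, 0, 0, 39, 0, 967, [6139, 6141, 6124]⟩) (.leaf ⟨3, 3771, 3776, (-50), 0, 6, 0, 32, 2, 3770, [22468, 22525, 22488]⟩)) (.node (.leaf ⟨11, 1771, 2427, 0, 0, 0, 0, 93, 0, 0, []⟩) (.leaf ⟨7, 5114, 5116, (-6), 0, 0, 0, 33, 3, 5114, [30701, 12717, 30717]⟩)))) (.node (.node (.node (.leaf ⟨7, 682, 655, 0, 0, 0, 0, 59, 0, 655, [3649, 2529, 4090]⟩) (.leaf ⟨6, 3385, 3386, 0, 0, 0, 0, 93, 0, 0, []⟩)) (.node (.leaf ⟨8, 2106, 2109, 0, 0, 0, 0, 47, 3, 2106, [12273, 12282, 12284]⟩) (.leaf ⟨8, 2629, 4821, 0, 0, 0, 0, 17, 3, 2629, [15753, 28668, 28634]⟩))) (.node (.node (.leaf ⟨7, 1414, 1410, (-17), 0, (-9), 0, 46, 3, 1414, [8155, 8189, 8134]⟩) (.leaf ⟨5, 3558, 4107, 0, 0, 0, 0, 93, 0, 0, []⟩)) (.node (.leaf ⟨4, 131, 131, (-1), 0, (-1), 0, 43, 0, 131,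 [551, 690, 550]⟩) (.leaf ⟨0, 0, 0, 0, 0, 0, 0, 0, 0, 0, []⟩))))))

end CfsgLib.Fi24Mult
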