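import Cfsg.Agent.Lib.Presented.Fi24Mult.Twist

/-! Generated points (data). -/
set_option autoImplicit false
set_option maxRecDepth 20000

namespace CfsgLib.Fi24Mult

open CfsgLib.Presented

def ptsPart0 : ATree (ℕ × ℕ) :=
  .node (.node (.node (.node (.node (.node (.node (.node (.leaf (0, 1)) (.leaf (4082, 10))) (.node (.leaf (2048, 5)) (.leaf (0, 0)))) (.node (.node (.leaf (569, 8)) (.leaf (5120, 11))) (.node (.leaf (3072, 7)) (.leaf (0, 0))))) (.node (.node (.node (.leaf (507, 7)) (.leaf (4608, 5))) (.node (.leaf (2560, 7)) (.leaf (0, 0)))) (.node (.node (.leaf (1536, 4)) (.leaf (0, 0))) (.node (.leaf (3584, 8)) (.leaf (0, 0)))))) (.node (.node (.node (.node (.leaf (256, 6)) (.leaf (4352, 7))) (.node (.leaf (2304, 6)) (.leaf (0, 0)))) (.node (.node (.leaf (1280, 6)) (.leaf (0, 0))) (.node (.leaf (863, 7)) (.leaf (0, 0))))) (.node (.node (.node (.leaf (768, 11)) (.leaf (4864, 5))) (.node (.leaf (2752, 9)) (.leaf (0, 0)))) (.node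 (.node (.leaf (1792, 4)) (.leaf (0, 0))) (.node (.leaf (3840, 6)) (.leaf (0, 0))))))) (.node (.node (.node (.node (.node (.leaf (112, 7)) (.leaf (4224, 5))) (.node (.leaf (2165, 4)) (.leaf (0, 0)))) (.node (.node (.leaf (756, 3)) (.leaf (0, 0))) (.node (.leaf (3200, 10)) (.leaf (0, 0))))) (.node (.node (.node (.leaf (640, 6)) (.leaf (4736, 11))) (.node (.leaf (2688, 4)) (.leaf (0, 0)))) (.node (.node (.leaf (1583, 2)) (.leaf (0, 0))) (.node (.leaf (3712, 7)) (.leaf (0, 0)))))) (.node (.node (.node (.node (.leaf (384, 8)) (.leaf (4480, 7))) (.node (.leaf (2431, 0)) (.leaf (0, 0)))) (.node (.node (.leaf (1408, 10)) (.leaf (0, 0))) (.node (.leaf (3456, 8)) (.leaf (0, 0))))) (.node (.node (.node (.leaf (882, 7)) (.leaf (2909, 0))) (.node (.leaf (2944, 7)) (.leaf (0, 0)))) (.node (.node (.leaf (1920, 2)) (.leaf (0, 0))) (.node (.leaf (967, 8)) (.leaf (0, 0)))))))) (.node (.node (.node (.node (.node (.node (.leaf (64, 6)) (.leaf (4160,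 5))) (.node (.leaf (2112, 10)) (.leaf (0, 0)))) (.node (.node (.leaf (1088, 10)) (.leaf (5184, 8))) (.node (.leaf (3136, 7)) (.leaf (0, 0))))) (.node (.node (.node (.leaf (576, 6)) (.leaf (4672, 10))) (.node (.leaf (2624, 10)) (.leaf (0, 0)))) (.node (.node (.leaf (1157, 10)) (.leaf (0, 0))) (.node (.leaf (3648, 4)) (.leaf (0, 0)))))) (.node (.node (.node (.node (.leaf (320, 2)) (.leaf (4416, 4))) (.node (.leaf (1837, 11)) (.leaf (0, 0)))) (.node (.node (.leaf (1344, 4)) (.leaf (0, 0))) (.node (.leaf (3392, 6)) (.leaf (0, 0))))) (.node (.node (.node (.leaf (832, 9)) (.leaf (4928, 5))) (.node (.leaf (2880, 6)) (.leaf (0, 0)))) (.node (.node (.leaf (1856, 1)) (.leaf (0, 0))) (.node (.leaf (3904, 6)) (.leaf (0, 0))))))) (.node (.node (.node (.node (.node (.leaf (97, 10)) (.leaf (4288, 3))) (.node (.leaf (2237, 10)) (.leaf (0, 0)))) (.node (.node (.leaf (1216, 4)) (.leaf (0, 0))) (.node (.leaf (3264, 6)) (.leaf (0, 0))))) (.node (.node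 (.node (.leaf (704, 5)) (.leaf (1469, 1))) (.node (.leaf (2737, 7)) (.leaf (0, 0)))) (.node (.node (.leaf (1532, 11)) (.leaf (0, 0))) (.node (.leaf (3773, 7)) (.leaf (0, 0)))))) (.node (.node (.node (.node (.leaf (448, 5)) (.leaf (4129, 10))) (.node (.leaf (2496, 5)) (.leaf (0, 0)))) (.node (.node (.leaf (1472, 6)) (.leaf (0, 0))) (.node (.leaf (3520, 4)) (.leaf (0, 0))))) (.node (.node (.node (.leaf (960, 9)) (.leaf (5045, 10))) (.node (.leaf (3008, 4)) (.leaf (0, 0)))) (.node (.node (.leaf (1984, 9)) (.leaf (0, 0))) (.node (.leaf (4032, 10)) (.leaf (0, 0))))))))) (.node (.node (.node (.node (.node (.node (.node (.leaf (32, 6)) (.leaf (4128, 5))) (.node (.leaf (2080, 4)) (.leaf (0, 0)))) (.node (.node (.leaf (1056, 10)) (.leaf (5152, 6))) (.node (.leaf (3020, 9)) (.leaf (0, 0))))) (.node (.node (.node (.leaf (544, 2)) (.leaf (4332, 4))) (.node (.leaf (2592, 0)) (.leaf (0, 0)))) (.node (.node (.leaf (8, 7)) (.leaf (0, 0))) (.node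 (.leaf (3616, 7)) (.leaf (0, 0)))))) (.node (.node (.node (.node (.leaf (288, 4)) (.leaf (4384, 2))) (.node (.leaf (2336, 6)) (.leaf (0, 0)))) (.node (.node (.leaf (1312, 10)) (.leaf (0, 0))) (.node (.leaf (3360, 5)) (.leaf (0, 0))))) (.node (.node (.node (.leaf (97, 9)) (.leaf (4896, 11))) (.node (.leaf (2844, 10)) (.leaf (0, 0)))) (.node (.node (.leaf (1824, 1)) (.leaf (0, 0))) (.node (.leaf (3872, 6)) (.leaf (0, 0))))))) (.node (.node (.node (.node (.node (.leaf (160, 7)) (.leaf (4256, 4))) (.node (.leaf (2208, 7)) (.leaf (0, 0)))) (.node (.node (.leaf (1184, 4)) (.leaf (0, 0))) (.node (.leaf (3232, 7)) (.leaf (0, 0))))) (.node (.node (.node (.leaf (672, 11)) (.leaf (446, 8))) (.node (.leaf (577, 8)) (.leaf (0, 0)))) (.node (.node (.leaf (1406, 10)) (.leaf (0, 0))) (.node (.leaf (377, 7)) (.leaf (0, 0)))))) (.node (.node (.node (.node (.leaf (410, 4)) (.leaf (4455, 6))) (.node (.leaf (1573, 4)) (.leaf (0, 0)))) (.node (.node (.leaf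 (1440, 8)) (.leaf (0, 0))) (.node (.leaf (3488, 7)) (.leaf (0, 0))))) (.node (.node (.node (.leaf (903, 7)) (.leaf (5024, 11))) (.node (.leaf (2976, 10)) (.leaf (0, 0)))) (.node (.node (.leaf (1952, 8)) (.leaf (0, 0))) (.node (.leaf (3135, 8)) (.leaf (0, 0)))))))) (.node (.node (.node (.node (.node (.node (.leaf (93, 5)) (.leaf (4192, 5))) (.node (.leaf (2107, 7)) (.leaf (0, 0)))) (.node (.node (.leaf (1120, 5)) (.leaf (0, 0))) (.node (.leaf (1467, 10)) (.leaf (0, 0))))) (.node (.node (.node (.leaf (351, 7)) (.leaf (4704, 10))) (.node (.leaf (2656, 9)) (.leaf (0, 0)))) (.node (.node (.leaf (1632, 5)) (.leaf (0, 0))) (.node (.leaf (3680, 4)) (.leaf (0, 0)))))) (.node (.node (.node (.node (.leaf (352, 5)) (.leaf (4362, 7))) (.node (.leaf (2322, 5)) (.leaf (0, 0)))) (.node (.node (.leaf (1366, 10)) (.leaf (0, 0))) (.node (.leaf (3424, 8)) (.leaf (0, 0))))) (.node (.node (.node (.leaf (864, 7)) (.leaf (4960, 11))) (.node (.leaf (213,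 1)) (.leaf (0, 0)))) (.node (.node (.leaf (1888, 10)) (.leaf (0, 0))) (.node (.leaf (3936, 5)) (.leaf (0, 0))))))) (.node (.node (.node (.node (.node (.leaf (224, 5)) (.leaf (444, 9))) (.node (.leaf (2272, 7)) (.leaf (0, 0)))) (.node (.node (.leaf (1248, 8)) (.leaf (0, 0))) (.node (.leaf (3296, 6)) (.leaf (0, 0))))) (.node (.node (.node (.leaf (672, 5)) (.leaf (4832, 6))) (.node (.leaf (2784, 9)) (.leaf (0, 0)))) (.node (.node (.leaf (1760, 5)) (.leaf (0, 0))) (.node (.leaf (939, 10)) (.leaf (0, 0)))))) (.node (.node (.node (.node (.leaf (480, 6)) (.leaf (4576, 10))) (.node (.leaf (2528, 5)) (.leaf (0, 0)))) (.node (.node (.leaf (1504, 3)) (.leaf (0, 0))) (.node (.leaf (3552, 4)) (.leaf (0, 0))))) (.node (.node (.node (.leaf (710, 8)) (.leaf (5088, 8))) (.node (.leaf (3040, 10)) (.leaf (0, 0)))) (.node (.node (.leaf (2016, 4)) (.leaf (0, 0))) (.node (.leaf (4064, 6)) (.leaf (0, 0)))))))))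

def ptsPart1 : ATree (ℕ × ℕ) :=
  .node (.node (.node (.node (.node (.node (.node (.node (.leaf (1, 2)) (.leaf (4097, 11))) (.node (.leaf (2049, 4)) (.leaf (0, 0)))) (.node (.node (.leaf (269, 8)) (.leaf (5121, 5))) (.node (.leaf (3073, 6)) (.leaf (0, 0))))) (.node (.node (.node (.leaf (513, 6)) (.leaf (3065, 7))) (.node (.leaf (2561, 6)) (.leaf (0, 0)))) (.node (.node (.leaf (1537, 3)) (.leaf (0, 0))) (.node (.leaf (3585, 5)) (.leaf (0, 0)))))) (.node (.node (.node (.node (.leaf (257, 8)) (.leaf (456, 11))) (.node (.leaf (2305, 7)) (.leaf (0, 0)))) (.node (.node (.leaf (1281, 4)) (.leaf (0, 0))) (.node (.leaf (860, 7)) (.leaf (0, 0))))) (.node (.node (.node (.leaf (769, 5)) (.leaf (4865, 4))) (.node (.leaf (2751, 7)) (.leaf (0, 0)))) (.node (.node (.leaf (1793, 3)) (.leaf (0, 0))) (.node (.leaf (3540, 7)) (.leaf (0, 0))))))) (.node (.node (.node (.node (.node (.leaf (129, 6)) (.leaf (4225, 10))) (.node (.leaf (2177, 7)) (.leaf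 (0, 0)))) (.node (.node (.leaf (1153, 2)) (.leaf (0, 0))) (.node (.leaf (3199, 10)) (.leaf (0, 0))))) (.node (.node (.node (.leaf (641, 5)) (.leaf (4737, 7))) (.node (.leaf (439, 1)) (.leaf (0, 0)))) (.node (.node (.leaf (1665, 10)) (.leaf (0, 0))) (.node (.leaf (3713, 6)) (.leaf (0, 0)))))) (.node (.node (.node (.node (.leaf (385, 5)) (.leaf (3983, 7))) (.node (.leaf (1665, 1)) (.leaf (0, 0)))) (.node (.node (.leaf (1409, 5)) (.leaf (0, 0))) (.node (.leaf (3457, 5)) (.leaf (0, 0))))) (.node (.node (.node (.leaf (882, 5)) (.leaf (4993, 10))) (.node (.leaf (2945, 6)) (.leaf (0, 0)))) (.node (.node (.leaf (1204, 11)) (.leaf (0, 0))) (.node (.leaf (3969, 5)) (.leaf (0, 0)))))))) (.node (.node (.node (.node (.node (.node (.leaf (63, 5)) (.leaf (4161, 4))) (.node (.leaf (2113, 5)) (.leaf (0, 0)))) (.node (.node (.leaf (1058, 8)) (.leaf (2732, 8))) (.node (.leaf (3137, 6)) (.leaf (0, 0))))) (.node (.node (.node (.leaf (577, 5)) (.leaf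 (3537, 5))) (.node (.leaf (2190, 5)) (.leaf (0, 0)))) (.node (.node (.leaf (1601, 11)) (.leaf (0, 0))) (.node (.leaf (3063, 7)) (.leaf (0, 0)))))) (.node (.node (.node (.node (.leaf (312, 3)) (.leaf (4417, 3))) (.node (.leaf (1427, 4)) (.leaf (0, 0)))) (.node (.node (.leaf (1345, 7)) (.leaf (0, 0))) (.node (.leaf (3393, 5)) (.leaf (0, 0))))) (.node (.node (.node (.leaf (487, 8)) (.leaf (4929, 4))) (.node (.leaf (2874, 10)) (.leaf (0, 0)))) (.node (.node (.leaf (1635, 5)) (.leaf (0, 0))) (.node (.leaf (3660, 7)) (.leaf (0, 0))))))) (.node (.node (.node (.node (.node (.leaf (193, 7)) (.leaf (3588, 6))) (.node (.leaf (1555, 8)) (.leaf (0, 0)))) (.node (.node (.leaf (1217, 5)) (.leaf (0, 0))) (.node (.leaf (3265, 5)) (.leaf (0, 0))))) (.node (.node (.node (.leaf (705, 4)) (.leaf (4801, 10))) (.node (.leaf (2753, 6)) (.leaf (0, 0)))) (.node (.node (.leaf (1729, 5)) (.leaf (0, 0))) (.node (.leaf (3777, 6)) (.leaf (0, 0)))))) (.node (.node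 (.node (.node (.leaf (449, 4)) (.leaf (2664, 7))) (.node (.leaf (2497, 4)) (.leaf (0, 0)))) (.node (.node (.leaf (1473, 8)) (.leaf (0, 0))) (.node (.leaf (3521, 3)) (.leaf (0, 0))))) (.node (.node (.node (.leaf (961, 7)) (.leaf (5057, 7))) (.node (.leaf (3009, 10)) (.leaf (0, 0)))) (.node (.node (.leaf (1985, 10)) (.leaf (0, 0))) (.node (.leaf (3079, 8)) (.leaf (0, 0))))))))) (.node (.node (.node (.node (.node (.node (.node (.leaf (33, 5)) (.leaf (4129, 4))) (.node (.leaf (1948, 4)) (.leaf (0, 0)))) (.node (.node (.leaf (1057, 7)) (.leaf (2510, 7))) (.node (.leaf (3105, 7)) (.leaf (0, 0))))) (.node (.node (.node (.leaf (538, 7)) (.leaf (4641, 10))) (.node (.leaf (2593, 7)) (.leaf (0, 0)))) (.node (.node (.leaf (1156, 4)) (.leaf (0, 0))) (.node (.leaf (3617, 6)) (.leaf (0, 0)))))) (.node (.node (.node (.node (.leaf (289, 10)) (.leaf (4385, 10))) (.node (.leaf (2337, 7)) (.leaf (0, 0)))) (.node (.node (.leaf (1313, 5)) (.leaf (0, 0)))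 (.node (.leaf (3361, 10)) (.leaf (0, 0))))) (.node (.node (.node (.leaf (801, 10)) (.leaf (1765, 1))) (.node (.leaf (2849, 7)) (.leaf (0, 0)))) (.node (.node (.leaf (1799, 1)) (.leaf (0, 0))) (.node (.leaf (961, 10)) (.leaf (0, 0))))))) (.node (.node (.node (.node (.node (.leaf (161, 6)) (.leaf (4257, 10))) (.node (.leaf (2209, 6)) (.leaf (0, 0)))) (.node (.node (.leaf (1178, 8)) (.leaf (0, 0))) (.node (.leaf (3233, 6)) (.leaf (0, 0))))) (.node (.node (.node (.leaf (673, 5)) (.leaf (450, 7))) (.node (.leaf (2721, 5)) (.leaf (0, 0)))) (.node (.node (.leaf (1697, 5)) (.leaf (0, 0))) (.node (.leaf (149, 9)) (.leaf (0, 0)))))) (.node (.node (.node (.node (.leaf (417, 9)) (.leaf (4513, 5))) (.node (.leaf (1105, 10)) (.leaf (0, 0)))) (.node (.node (.leaf (1441, 5)) (.leaf (0, 0))) (.node (.leaf (3489, 6)) (.leaf (0, 0))))) (.node (.node (.node (.leaf (908, 7)) (.leaf (5025, 7))) (.node (.leaf (1467, 9)) (.leaf (0, 0)))) (.node (.node (.leaf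 (438, 10)) (.leaf (0, 0))) (.node (.leaf (2721, 9)) (.leaf (0, 0)))))))) (.node (.node (.node (.node (.node (.node (.leaf (70, 10)) (.leaf (435, 7))) (.node (.leaf (2103, 10)) (.leaf (0, 0)))) (.node (.node (.leaf (1121, 7)) (.leaf (0, 0))) (.node (.leaf (3169, 11)) (.leaf (0, 0))))) (.node (.node (.node (.leaf (609, 6)) (.leaf (4705, 11))) (.node (.leaf (2657, 10)) (.leaf (0, 0)))) (.node (.node (.leaf (1633, 7)) (.leaf (0, 0))) (.node (.leaf (3639, 5)) (.leaf (0, 0)))))) (.node (.node (.node (.node (.leaf (353, 7)) (.leaf (4449, 6))) (.node (.leaf (1428, 11)) (.leaf (0, 0)))) (.node (.node (.leaf (1377, 5)) (.leaf (0, 0))) (.node (.leaf (3425, 5)) (.leaf (0, 0))))) (.node (.node (.node (.leaf (864, 10)) (.leaf (2590, 10))) (.node (.leaf (2913, 9)) (.leaf (0, 0)))) (.node (.node (.leaf (1889, 5)) (.leaf (0, 0))) (.node (.leaf (3937, 4)) (.leaf (0, 0))))))) (.node (.node (.node (.node (.node (.leaf (213, 9)) (.leaf (1932, 7))) (.node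 (.leaf (2268, 10)) (.leaf (0, 0)))) (.node (.node (.leaf (1249, 5)) (.leaf (0, 0))) (.node (.leaf (3297, 5)) (.leaf (0, 0))))) (.node (.node (.node (.leaf (696, 5)) (.leaf (1672, 8))) (.node (.leaf (2781, 5)) (.leaf (0, 0)))) (.node (.node (.leaf (1761, 7)) (.leaf (0, 0))) (.node (.leaf (3809, 7)) (.leaf (0, 0)))))) (.node (.node (.node (.node (.leaf (481, 5)) (.leaf (4563, 10))) (.node (.leaf (2529, 4)) (.leaf (0, 0)))) (.node (.node (.leaf (1505, 2)) (.leaf (0, 0))) (.node (.leaf (3553, 3)) (.leaf (0, 0))))) (.node (.node (.node (.leaf (993, 5)) (.leaf (4653, 8))) (.node (.leaf (414, 6)) (.leaf (0, 0)))) (.node (.node (.leaf (2017, 3)) (.leaf (0, 0))) (.node (.leaf (4065, 8)) (.leaf (0, 0)))))))))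

def ptsPart2 : ATree (ℕ × ℕ) :=
  .node (.node (.node (.node (.node (.node (.node (.node (.leaf (2, 3)) (.leaf (4098, 5))) (.node (.leaf (2050, 7)) (.leaf (0, 0)))) (.node (.node (.leaf (283, 7)) (.leaf (5122, 6))) (.node (.leaf (3074, 5)) (.leaf (0, 0))))) (.node (.node (.node (.leaf (514, 5)) (.leaf (4610, 6))) (.node (.leaf (2562, 5)) (.leaf (0, 0)))) (.node (.node (.leaf (1538, 10)) (.leaf (0, 0))) (.node (.leaf (3583, 8)) (.leaf (0, 0)))))) (.node (.node (.node (.node (.leaf (258, 5)) (.leaf (4354, 5))) (.node (.leaf (2306, 6)) (.leaf (0, 0)))) (.node (.node (.leaf (1282, 5)) (.leaf (0, 0))) (.node (.leaf (832, 7)) (.leaf (0, 0))))) (.node (.node (.node (.leaf (641, 8)) (.leaf (4866, 7))) (.node (.leaf (2772, 6)) (.leaf (0, 0)))) (.node (.node (.leaf (1794, 2)) (.leaf (0, 0))) (.node (.leaf (3842, 6)) (.leaf (0, 0))))))) (.node (.node (.node (.node (.node (.leaf (78, 10)) (.leaf (4226, 7))) (.node (.leaf (2178, 6)) (.leaf (0,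 0)))) (.node (.node (.leaf (1154, 10)) (.leaf (0, 0))) (.node (.leaf (2533, 9)) (.leaf (0, 0))))) (.node (.node (.node (.leaf (642, 4)) (.leaf (4738, 6))) (.node (.leaf (2690, 10)) (.leaf (0, 0)))) (.node (.node (.leaf (511, 4)) (.leaf (0, 0))) (.node (.leaf (181, 9)) (.leaf (0, 0)))))) (.node (.node (.node (.node (.leaf (386, 4)) (.leaf (3494, 5))) (.node (.leaf (2434, 0)) (.leaf (0, 0)))) (.node (.node (.leaf (761, 3)) (.leaf (0, 0))) (.node (.leaf (3458, 10)) (.leaf (0, 0))))) (.node (.node (.node (.leaf (898, 7)) (.leaf (4994, 5))) (.node (.leaf (2585, 10)) (.leaf (0, 0)))) (.node (.node (.leaf (1922, 5)) (.leaf (0, 0))) (.node (.leaf (3970, 10)) (.leaf (0, 0)))))))) (.node (.node (.node (.node (.node (.node (.leaf (66, 7)) (.leaf (4162, 3))) (.node (.leaf (2114, 7)) (.leaf (0, 0)))) (.node (.node (.leaf (1084, 8)) (.leaf (3175, 8))) (.node (.leaf (3138, 5)) (.leaf (0, 0))))) (.node (.node (.node (.leaf (578, 4)) (.leaf (4674,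 4))) (.node (.leaf (1754, 10)) (.leaf (0, 0)))) (.node (.node (.leaf (1159, 10)) (.leaf (0, 0))) (.node (.leaf (3650, 6)) (.leaf (0, 0)))))) (.node (.node (.node (.node (.leaf (322, 9)) (.leaf (4418, 2))) (.node (.leaf (1424, 4)) (.leaf (0, 0)))) (.node (.node (.leaf (1343, 4)) (.leaf (0, 0))) (.node (.leaf (2560, 5)) (.leaf (0, 0))))) (.node (.node (.node (.leaf (834, 9)) (.leaf (4930, 7))) (.node (.leaf (2874, 4)) (.leaf (0, 0)))) (.node (.node (.leaf (1858, 4)) (.leaf (0, 0))) (.node (.leaf (403, 8)) (.leaf (0, 0))))))) (.node (.node (.node (.node (.node (.leaf (97, 7)) (.leaf (3984, 10))) (.node (.leaf (2242, 5)) (.leaf (0, 0)))) (.node (.node (.leaf (1218, 7)) (.leaf (0, 0))) (.node (.leaf (940, 10)) (.leaf (0, 0))))) (.node (.node (.node (.leaf (706, 10)) (.leaf (4802, 7))) (.node (.leaf (2754, 5)) (.leaf (0, 0)))) (.node (.node (.leaf (1730, 4)) (.leaf (0, 0))) (.node (.leaf (932, 8)) (.leaf (0, 0)))))) (.node (.node (.node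 (.node (.leaf (450, 3)) (.leaf (4546, 6))) (.node (.leaf (2498, 3)) (.leaf (0, 0)))) (.node (.node (.leaf (1474, 5)) (.leaf (0, 0))) (.node (.leaf (3522, 10)) (.leaf (0, 0))))) (.node (.node (.node (.leaf (962, 6)) (.leaf (2678, 1))) (.node (.leaf (899, 6)) (.leaf (0, 0)))) (.node (.node (.leaf (1004, 2)) (.leaf (0, 0))) (.node (.leaf (4033, 7)) (.leaf (0, 0))))))))) (.node (.node (.node (.node (.node (.node (.node (.leaf (34, 4)) (.leaf (4130, 3))) (.node (.leaf (1942, 4)) (.leaf (0, 0)))) (.node (.node (.leaf (1058, 6)) (.leaf (5154, 6))) (.node (.leaf (3106, 6)) (.leaf (0, 0))))) (.node (.node (.node (.leaf (546, 6)) (.leaf (4642, 5))) (.node (.leaf (2593, 10)) (.leaf (0, 0)))) (.node (.node (.leaf (1416, 5)) (.leaf (0, 0))) (.node (.leaf (3618, 5)) (.leaf (0, 0)))))) (.node (.node (.node (.node (.leaf (290, 5)) (.leaf (4386, 5))) (.node (.leaf (2338, 6)) (.leaf (0, 0)))) (.node (.node (.leaf (1314, 6)) (.leaf (0, 0))) (.node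 (.leaf (3362, 7)) (.leaf (0, 0))))) (.node (.node (.node (.leaf (802, 11)) (.leaf (4898, 10))) (.node (.leaf (2850, 6)) (.leaf (0, 0)))) (.node (.node (.leaf (1322, 4)) (.leaf (0, 0))) (.node (.leaf (3874, 7)) (.leaf (0, 0))))))) (.node (.node (.node (.node (.node (.leaf (162, 8)) (.leaf (4258, 5))) (.node (.leaf (2203, 5)) (.leaf (0, 0)))) (.node (.node (.leaf (1186, 5)) (.leaf (0, 0))) (.node (.leaf (3234, 5)) (.leaf (0, 0))))) (.node (.node (.node (.leaf (483, 3)) (.leaf (773, 7))) (.node (.leaf (2722, 4)) (.leaf (0, 0)))) (.node (.node (.leaf (1576, 11)) (.leaf (0, 0))) (.node (.leaf (3746, 7)) (.leaf (0, 0)))))) (.node (.node (.node (.node (.leaf (418, 10)) (.leaf (4514, 10))) (.node (.leaf (2466, 5)) (.leaf (0, 0)))) (.node (.node (.leaf (1442, 4)) (.leaf (0, 0))) (.node (.leaf (3490, 5)) (.leaf (0, 0))))) (.node (.node (.node (.leaf (904, 7)) (.leaf (4720, 10))) (.node (.leaf (2978, 10)) (.leaf (0, 0)))) (.node (.node (.leaf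 (1954, 5)) (.leaf (0, 0))) (.node (.leaf (4002, 7)) (.leaf (0, 0)))))))) (.node (.node (.node (.node (.node (.node (.leaf (98, 5)) (.leaf (427, 7))) (.node (.leaf (363, 10)) (.leaf (0, 0)))) (.node (.node (.leaf (1122, 6)) (.leaf (0, 0))) (.node (.leaf (3170, 5)) (.leaf (0, 0))))) (.node (.node (.node (.leaf (610, 5)) (.leaf (4706, 7))) (.node (.leaf (2658, 5)) (.leaf (0, 0)))) (.node (.node (.leaf (1634, 6)) (.leaf (0, 0))) (.node (.leaf (3682, 7)) (.leaf (0, 0)))))) (.node (.node (.node (.node (.leaf (354, 6)) (.leaf (4446, 7))) (.node (.leaf (2402, 5)) (.leaf (0, 0)))) (.node (.node (.leaf (1251, 10)) (.leaf (0, 0))) (.node (.leaf (3426, 10)) (.leaf (0, 0))))) (.node (.node (.node (.leaf (866, 7)) (.leaf (4820, 10))) (.node (.leaf (2914, 10)) (.leaf (0, 0)))) (.node (.node (.leaf (1890, 6)) (.leaf (0, 0))) (.node (.leaf (3936, 8)) (.leaf (0, 0))))))) (.node (.node (.node (.node (.node (.leaf (226, 10)) (.leaf (4322, 6))) (.node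 (.leaf (1991, 5)) (.leaf (0, 0)))) (.node (.node (.leaf (1250, 4)) (.leaf (0, 0))) (.node (.leaf (3298, 10)) (.leaf (0, 0))))) (.node (.node (.node (.leaf (697, 5)) (.leaf (2910, 7))) (.node (.leaf (2786, 9)) (.leaf (0, 0)))) (.node (.node (.leaf (1762, 6)) (.leaf (0, 0))) (.node (.leaf (3810, 6)) (.leaf (0, 0)))))) (.node (.node (.node (.node (.leaf (482, 4)) (.leaf (455, 7))) (.node (.leaf (2530, 3)) (.leaf (0, 0)))) (.node (.node (.leaf (1506, 7)) (.leaf (0, 0))) (.node (.leaf (3554, 7)) (.leaf (0, 0))))) (.node (.node (.node (.leaf (994, 4)) (.leaf (4299, 8))) (.node (.leaf (3042, 5)) (.leaf (0, 0)))) (.node (.node (.leaf (2018, 2)) (.leaf (0, 0))) (.node (.leaf (4066, 5)) (.leaf (0, 0)))))))))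

def ptsPart3 : ATree (ℕ × ℕ) :=
  .node (.node (.node (.node (.node (.node (.node (.node (.leaf (3, 4)) (.leaf (4081, 10))) (.node (.leaf (2051, 6)) (.leaf (0, 0)))) (.node (.node (.leaf (1027, 6)) (.leaf (1107, 11))) (.node (.leaf (846, 9)) (.leaf (0, 0))))) (.node (.node (.node (.leaf (515, 10)) (.leaf (4611, 5))) (.node (.leaf (2563, 4)) (.leaf (0, 0)))) (.node (.node (.leaf (1539, 5)) (.leaf (0, 0))) (.node (.leaf (424, 5)) (.leaf (0, 0)))))) (.node (.node (.node (.node (.leaf (259, 4)) (.leaf (4355, 6))) (.node (.leaf (2307, 5)) (.leaf (0, 0)))) (.node (.node (.leaf (1171, 2)) (.leaf (0, 0))) (.node (.leaf (822, 7)) (.leaf (0, 0))))) (.node (.node (.node (.leaf (771, 5)) (.leaf (1997, 9))) (.node (.leaf (1660, 8)) (.leaf (0, 0)))) (.node (.node (.leaf (1516, 5)) (.leaf (0, 0))) (.node (.leaf (3843, 5)) (.leaf (0, 0))))))) (.node (.node (.node (.node (.node (.leaf (4, 0)) (.leaf (4227, 6))) (.node (.leaf (2179, 8)) (.leaf (0,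 0)))) (.node (.node (.leaf (1155, 5)) (.leaf (0, 0))) (.node (.leaf (2820, 9)) (.leaf (0, 0))))) (.node (.node (.node (.leaf (643, 3)) (.leaf (4739, 8))) (.node (.leaf (2691, 5)) (.leaf (0, 0)))) (.node (.node (.leaf (1667, 3)) (.leaf (0, 0))) (.node (.leaf (3715, 7)) (.leaf (0, 0)))))) (.node (.node (.node (.node (.leaf (387, 9)) (.leaf (4483, 4))) (.node (.leaf (1774, 1)) (.leaf (0, 0)))) (.node (.node (.leaf (1411, 2)) (.leaf (0, 0))) (.node (.leaf (3459, 7)) (.leaf (0, 0))))) (.node (.node (.node (.leaf (863, 3)) (.leaf (4995, 7))) (.node (.leaf (2947, 7)) (.leaf (0, 0)))) (.node (.node (.leaf (1923, 7)) (.leaf (0, 0))) (.node (.leaf (966, 8)) (.leaf (0, 0)))))))) (.node (.node (.node (.node (.node (.node (.leaf (66, 6)) (.leaf (4163, 10))) (.node (.leaf (2115, 6)) (.leaf (0, 0)))) (.node (.node (.leaf (1089, 7)) (.leaf (3167, 8))) (.node (.leaf (960, 4)) (.leaf (0, 0))))) (.node (.node (.node (.leaf (579, 3)) (.leaf (4675, 3)))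 (.node (.leaf (2627, 5)) (.leaf (0, 0)))) (.node (.node (.leaf (1603, 11)) (.leaf (0, 0))) (.node (.leaf (3651, 8)) (.leaf (0, 0)))))) (.node (.node (.node (.node (.leaf (323, 10)) (.leaf (4419, 10))) (.node (.leaf (2184, 5)) (.leaf (0, 0)))) (.node (.node (.leaf (1314, 4)) (.leaf (0, 0))) (.node (.leaf (3395, 4)) (.leaf (0, 0))))) (.node (.node (.node (.leaf (834, 5)) (.leaf (4931, 6))) (.node (.leaf (2883, 10)) (.leaf (0, 0)))) (.node (.node (.leaf (1859, 3)) (.leaf (0, 0))) (.node (.leaf (3662, 7)) (.leaf (0, 0))))))) (.node (.node (.node (.node (.node (.leaf (91, 8)) (.leaf (4283, 7))) (.node (.leaf (2243, 4)) (.leaf (0, 0)))) (.node (.node (.leaf (1202, 1)) (.leaf (0, 0))) (.node (.leaf (3267, 7)) (.leaf (0, 0))))) (.node (.node (.node (.leaf (707, 11)) (.leaf (4803, 6))) (.node (.leaf (2755, 4)) (.leaf (0, 0)))) (.node (.node (.leaf (1558, 10)) (.leaf (0, 0))) (.node (.leaf (3779, 5)) (.leaf (0, 0)))))) (.node (.node (.node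 (.node (.leaf (451, 10)) (.leaf (4547, 5))) (.node (.leaf (2499, 9)) (.leaf (0, 0)))) (.node (.node (.leaf (1475, 4)) (.leaf (0, 0))) (.node (.leaf (3523, 11)) (.leaf (0, 0))))) (.node (.node (.node (.leaf (411, 7)) (.leaf (5059, 10))) (.node (.leaf (3011, 5)) (.leaf (0, 0)))) (.node (.node (.leaf (1987, 10)) (.leaf (0, 0))) (.node (.leaf (4035, 6)) (.leaf (0, 0))))))))) (.node (.node (.node (.node (.node (.node (.node (.leaf (35, 3)) (.leaf (4131, 10))) (.node (.leaf (1922, 7)) (.leaf (0, 0)))) (.node (.node (.leaf (1059, 8)) (.leaf (159, 11))) (.node (.leaf (3107, 5)) (.leaf (0, 0))))) (.node (.node (.node (.leaf (537, 7)) (.leaf (4332, 10))) (.node (.leaf (2595, 7)) (.leaf (0, 0)))) (.node (.node (.leaf (1071, 5)) (.leaf (0, 0))) (.node (.leaf (3619, 4)) (.leaf (0, 0)))))) (.node (.node (.node (.node (.leaf (277, 5)) (.leaf (2674, 7))) (.node (.leaf (1769, 4)) (.leaf (0, 0)))) (.node (.node (.leaf (1315, 7)) (.leaf (0, 0))) (.node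 (.leaf (3363, 6)) (.leaf (0, 0))))) (.node (.node (.node (.leaf (803, 7)) (.leaf (2359, 1))) (.node (.leaf (2245, 9)) (.leaf (0, 0)))) (.node (.node (.leaf (260, 3)) (.leaf (0, 0))) (.node (.leaf (3875, 6)) (.leaf (0, 0))))))) (.node (.node (.node (.node (.node (.leaf (163, 5)) (.leaf (4259, 6))) (.node (.leaf (2211, 10)) (.leaf (0, 0)))) (.node (.node (.leaf (1187, 4)) (.leaf (0, 0))) (.node (.leaf (3235, 10)) (.leaf (0, 0))))) (.node (.node (.node (.leaf (675, 10)) (.leaf (4567, 10))) (.node (.leaf (2723, 3)) (.leaf (0, 0)))) (.node (.node (.leaf (712, 3)) (.leaf (0, 0))) (.node (.leaf (147, 9)) (.leaf (0, 0)))))) (.node (.node (.node (.node (.leaf (419, 11)) (.leaf (2659, 7))) (.node (.leaf (2467, 7)) (.leaf (0, 0)))) (.node (.node (.leaf (1443, 3)) (.leaf (0, 0))) (.node (.leaf (3491, 4)) (.leaf (0, 0))))) (.node (.node (.node (.leaf (928, 6)) (.leaf (5027, 7))) (.node (.leaf (2979, 5)) (.leaf (0, 0)))) (.node (.node (.leaf (1955,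 4)) (.leaf (0, 0))) (.node (.leaf (576, 8)) (.leaf (0, 0)))))))) (.node (.node (.node (.node (.node (.node (.leaf (99, 4)) (.leaf (4195, 6))) (.node (.leaf (2048, 7)) (.leaf (0, 0)))) (.node (.node (.leaf (1123, 8)) (.leaf (0, 0))) (.node (.leaf (3171, 7)) (.leaf (0, 0))))) (.node (.node (.node (.leaf (611, 10)) (.leaf (4707, 6))) (.node (.leaf (441, 5)) (.leaf (0, 0)))) (.node (.node (.leaf (1630, 9)) (.leaf (0, 0))) (.node (.leaf (3683, 6)) (.leaf (0, 0)))))) (.node (.node (.node (.node (.leaf (355, 8)) (.leaf (4451, 6))) (.node (.leaf (2189, 5)) (.leaf (0, 0)))) (.node (.node (.leaf (1379, 5)) (.leaf (0, 0))) (.node (.leaf (3427, 7)) (.leaf (0, 0))))) (.node (.node (.node (.leaf (481, 8)) (.leaf (4963, 11))) (.node (.leaf (2915, 11)) (.leaf (0, 0)))) (.node (.node (.leaf (1891, 7)) (.leaf (0, 0))) (.node (.leaf (3939, 5)) (.leaf (0, 0))))))) (.node (.node (.node (.node (.node (.leaf (227, 7)) (.leaf (4323, 5))) (.node (.leaf (2275,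 7)) (.leaf (0, 0)))) (.node (.node (.leaf (1251, 3)) (.leaf (0, 0))) (.node (.leaf (3298, 4)) (.leaf (0, 0))))) (.node (.node (.node (.leaf (739, 4)) (.leaf (2914, 7))) (.node (.leaf (2787, 7)) (.leaf (0, 0)))) (.node (.node (.leaf (1667, 10)) (.leaf (0, 0))) (.node (.leaf (3811, 8)) (.leaf (0, 0)))))) (.node (.node (.node (.node (.leaf (483, 10)) (.leaf (4579, 6))) (.node (.leaf (2531, 2)) (.leaf (0, 0)))) (.node (.node (.leaf (1505, 7)) (.leaf (0, 0))) (.node (.leaf (3555, 6)) (.leaf (0, 0))))) (.node (.node (.node (.leaf (995, 3)) (.leaf (4251, 5))) (.node (.leaf (421, 6)) (.leaf (0, 0)))) (.node (.node (.leaf (2019, 1)) (.leaf (0, 0))) (.node (.leaf (4067, 4)) (.leaf (0, 0)))))))))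

def ptsPart4 : ATree (ℕ × ℕ) :=
  .node (.node (.node (.node (.node (.node (.node (.node (.leaf (4, 5)) (.leaf (4100, 11))) (.node (.leaf (2052, 8)) (.leaf (0, 0)))) (.node (.node (.leaf (1028, 5)) (.leaf (5124, 5))) (.node (.leaf (3076, 10)) (.leaf (0, 0))))) (.node (.node (.node (.leaf (384, 5)) (.leaf (4612, 4))) (.node (.leaf (2564, 10)) (.leaf (0, 0)))) (.node (.node (.leaf (1540, 4)) (.leaf (0, 0))) (.node (.leaf (3588, 7)) (.leaf (0, 0)))))) (.node (.node (.node (.node (.leaf (260, 10)) (.leaf (4356, 7))) (.node (.leaf (2305, 4)) (.leaf (0, 0)))) (.node (.node (.leaf (1284, 10)) (.leaf (0, 0))) (.node (.leaf (195, 6)) (.leaf (0, 0))))) (.node (.node (.node (.leaf (772, 4)) (.leaf (4868, 10))) (.node (.leaf (2820, 5)) (.leaf (0, 0)))) (.node (.node (.leaf (1796, 4)) (.leaf (0, 0))) (.node (.leaf (3684, 5)) (.leaf (0, 0))))))) (.node (.node (.node (.node (.node (.leaf (111, 7)) (.leaf (752, 6))) (.node (.leaf (2169, 4)) (.leaf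 (0, 0)))) (.node (.node (.leaf (1101, 5)) (.leaf (0, 0))) (.node (.leaf (250, 10)) (.leaf (0, 0))))) (.node (.node (.node (.leaf (644, 2)) (.leaf (4740, 5))) (.node (.leaf (2692, 6)) (.leaf (0, 0)))) (.node (.node (.leaf (1668, 2)) (.leaf (0, 0))) (.node (.leaf (3716, 8)) (.leaf (0, 0)))))) (.node (.node (.node (.node (.leaf (176, 9)) (.leaf (4484, 3))) (.node (.leaf (2436, 0)) (.leaf (0, 0)))) (.node (.node (.leaf (1412, 10)) (.leaf (0, 0))) (.node (.leaf (3460, 6)) (.leaf (0, 0))))) (.node (.node (.node (.leaf (900, 10)) (.leaf (4972, 7))) (.node (.leaf (2948, 6)) (.leaf (0, 0)))) (.node (.node (.leaf (1924, 6)) (.leaf (0, 0))) (.node (.leaf (3971, 7)) (.leaf (0, 0)))))))) (.node (.node (.node (.node (.node (.node (.leaf (6, 0)) (.leaf (4164, 5))) (.node (.leaf (2116, 5)) (.leaf (0, 0)))) (.node (.node (.leaf (1092, 6)) (.leaf (1996, 9))) (.node (.leaf (3140, 9)) (.leaf (0, 0))))) (.node (.node (.node (.leaf (580, 2)) (.leaf (4676,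 2))) (.node (.leaf (1683, 1)) (.leaf (0, 0)))) (.node (.node (.leaf (1604, 5)) (.leaf (0, 0))) (.node (.leaf (3652, 5)) (.leaf (0, 0)))))) (.node (.node (.node (.node (.leaf (324, 5)) (.leaf (4420, 5))) (.node (.leaf (2372, 6)) (.leaf (0, 0)))) (.node (.node (.leaf (1345, 5)) (.leaf (0, 0))) (.node (.leaf (3396, 7)) (.leaf (0, 0))))) (.node (.node (.node (.leaf (836, 9)) (.leaf (2602, 10))) (.node (.leaf (2884, 5)) (.leaf (0, 0)))) (.node (.node (.leaf (1860, 2)) (.leaf (0, 0))) (.node (.leaf (3908, 6)) (.leaf (0, 0))))))) (.node (.node (.node (.node (.node (.leaf (87, 7)) (.leaf (4292, 6))) (.node (.leaf (2244, 3)) (.leaf (0, 0)))) (.node (.node (.leaf (1220, 9)) (.leaf (0, 0))) (.node (.leaf (3268, 6)) (.leaf (0, 0))))) (.node (.node (.node (.leaf (306, 7)) (.leaf (4804, 5))) (.node (.leaf (2736, 7)) (.leaf (0, 0)))) (.node (.node (.leaf (1732, 11)) (.leaf (0, 0))) (.node (.leaf (3780, 7)) (.leaf (0, 0)))))) (.node (.node (.node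 (.node (.leaf (452, 5)) (.leaf (4548, 10))) (.node (.leaf (2500, 10)) (.leaf (0, 0)))) (.node (.node (.leaf (1476, 3)) (.leaf (0, 0))) (.node (.leaf (3524, 5)) (.leaf (0, 0))))) (.node (.node (.node (.leaf (964, 6)) (.leaf (5060, 7))) (.node (.leaf (3012, 4)) (.leaf (0, 0)))) (.node (.node (.leaf (1988, 11)) (.leaf (0, 0))) (.node (.leaf (4036, 5)) (.leaf (0, 0))))))))) (.node (.node (.node (.node (.node (.node (.node (.leaf (19, 2)) (.leaf (4132, 5))) (.node (.leaf (2084, 6)) (.leaf (0, 0)))) (.node (.node (.leaf (1060, 5)) (.leaf (5156, 7))) (.node (.leaf (3105, 10)) (.leaf (0, 0))))) (.node (.node (.node (.leaf (82, 11)) (.leaf (4622, 10))) (.node (.leaf (2592, 10)) (.leaf (0, 0)))) (.node (.node (.leaf (1067, 5)) (.leaf (0, 0))) (.node (.leaf (3620, 10)) (.leaf (0, 0)))))) (.node (.node (.node (.node (.leaf (292, 7)) (.leaf (4388, 6))) (.node (.leaf (1785, 10)) (.leaf (0, 0)))) (.node (.node (.leaf (1315, 4)) (.leaf (0, 0)))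 (.node (.leaf (212, 10)) (.leaf (0, 0))))) (.node (.node (.node (.leaf (804, 6)) (.leaf (4900, 10))) (.node (.leaf (2852, 10)) (.leaf (0, 0)))) (.node (.node (.leaf (1828, 10)) (.leaf (0, 0))) (.node (.leaf (3876, 8)) (.leaf (0, 0))))))) (.node (.node (.node (.node (.node (.leaf (162, 5)) (.leaf (4260, 7))) (.node (.leaf (2212, 11)) (.leaf (0, 0)))) (.node (.node (.leaf (1188, 3)) (.leaf (0, 0))) (.node (.leaf (3024, 4)) (.leaf (0, 0))))) (.node (.node (.node (.leaf (476, 3)) (.leaf (4772, 7))) (.node (.leaf (2724, 2)) (.leaf (0, 0)))) (.node (.node (.leaf (1700, 10)) (.leaf (0, 0))) (.node (.leaf (3721, 6)) (.leaf (0, 0)))))) (.node (.node (.node (.node (.leaf (420, 7)) (.leaf (4516, 6))) (.node (.leaf (510, 8)) (.leaf (0, 0)))) (.node (.node (.leaf (1444, 10)) (.leaf (0, 0))) (.node (.leaf (979, 7)) (.leaf (0, 0))))) (.node (.node (.node (.leaf (932, 5)) (.leaf (5028, 6))) (.node (.leaf (2980, 7)) (.leaf (0, 0)))) (.node (.node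 (.leaf (1956, 7)) (.leaf (0, 0))) (.node (.leaf (4004, 9)) (.leaf (0, 0)))))))) (.node (.node (.node (.node (.node (.node (.leaf (100, 7)) (.leaf (4196, 5))) (.node (.leaf (2148, 6)) (.leaf (0, 0)))) (.node (.node (.leaf (1124, 5)) (.leaf (0, 0))) (.node (.leaf (3172, 6)) (.leaf (0, 0))))) (.node (.node (.node (.leaf (612, 11)) (.leaf (4708, 8))) (.node (.leaf (2660, 6)) (.leaf (0, 0)))) (.node (.node (.leaf (1636, 0)) (.leaf (0, 0))) (.node (.leaf (3684, 8)) (.leaf (0, 0)))))) (.node (.node (.node (.node (.leaf (356, 5)) (.leaf (4447, 7))) (.node (.leaf (2401, 6)) (.leaf (0, 0)))) (.node (.node (.leaf (1250, 10)) (.leaf (0, 0))) (.node (.leaf (3428, 6)) (.leaf (0, 0))))) (.node (.node (.node (.leaf (868, 5)) (.leaf (4964, 5))) (.node (.leaf (2913, 10)) (.leaf (0, 0)))) (.node (.node (.leaf (1636, 10)) (.leaf (0, 0))) (.node (.leaf (3940, 4)) (.leaf (0, 0))))))) (.node (.node (.node (.node (.node (.leaf (228, 6)) (.leaf (4324, 10)))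 (.node (.leaf (2276, 6)) (.leaf (0, 0)))) (.node (.node (.leaf (1252, 10)) (.leaf (0, 0))) (.node (.leaf (3300, 10)) (.leaf (0, 0))))) (.node (.node (.node (.leaf (588, 4)) (.leaf (2915, 7))) (.node (.leaf (139, 8)) (.leaf (0, 0)))) (.node (.node (.leaf (1700, 2)) (.leaf (0, 0))) (.node (.leaf (3812, 7)) (.leaf (0, 0)))))) (.node (.node (.node (.node (.leaf (484, 5)) (.leaf (4580, 5))) (.node (.leaf (1580, 8)) (.leaf (0, 0)))) (.node (.node (.leaf (1492, 7)) (.leaf (0, 0))) (.node (.leaf (419, 7)) (.leaf (0, 0))))) (.node (.node (.node (.leaf (709, 8)) (.leaf (5092, 7))) (.node (.leaf (426, 6)) (.leaf (0, 0)))) (.node (.node (.leaf (1471, 5)) (.leaf (0, 0))) (.node (.leaf (4068, 3)) (.leaf (0, 0)))))))))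

def ptsPart5 : ATree (ℕ × ℕ) :=
  .node (.node (.node (.node (.node (.node (.node (.node (.leaf (5, 6)) (.leaf (3503, 10))) (.node (.leaf (2053, 5)) (.leaf (0, 0)))) (.node (.node (.leaf (282, 7)) (.leaf (5125, 6))) (.node (.leaf (3077, 11)) (.leaf (0, 0))))) (.node (.node (.node (.leaf (517, 4)) (.leaf (3064, 7))) (.node (.leaf (2565, 5)) (.leaf (0, 0)))) (.node (.node (.leaf (1537, 10)) (.leaf (0, 0))) (.node (.leaf (3589, 8)) (.leaf (0, 0)))))) (.node (.node (.node (.node (.leaf (261, 5)) (.leaf (4339, 7))) (.node (.leaf (2309, 7)) (.leaf (0, 0)))) (.node (.node (.leaf (1285, 5)) (.leaf (0, 0))) (.node (.leaf (194, 6)) (.leaf (0, 0))))) (.node (.node (.node (.leaf (773, 9)) (.leaf (4869, 11))) (.node (.leaf (2821, 9)) (.leaf (0, 0)))) (.node (.node (.leaf (1797, 3)) (.leaf (0, 0))) (.node (.leaf (3845, 4)) (.leaf (0, 0))))))) (.node (.node (.node (.node (.node (.leaf (69, 7)) (.leaf (674, 10))) (.node (.leaf (2181, 7)) (.leaf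 (0, 0)))) (.node (.node (.leaf (1157, 4)) (.leaf (0, 0))) (.node (.leaf (3205, 11)) (.leaf (0, 0))))) (.node (.node (.node (.leaf (475, 10)) (.leaf (4741, 4))) (.node (.leaf (1777, 6)) (.leaf (0, 0)))) (.node (.node (.leaf (1668, 10)) (.leaf (0, 0))) (.node (.leaf (186, 9)) (.leaf (0, 0)))))) (.node (.node (.node (.node (.leaf (389, 10)) (.leaf (4485, 2))) (.node (.leaf (2421, 0)) (.leaf (0, 0)))) (.node (.node (.leaf (1413, 5)) (.leaf (0, 0))) (.node (.leaf (3461, 5)) (.leaf (0, 0))))) (.node (.node (.node (.leaf (901, 11)) (.leaf (4997, 6))) (.node (.leaf (2949, 5)) (.leaf (0, 0)))) (.node (.node (.leaf (1925, 8)) (.leaf (0, 0))) (.node (.leaf (3970, 7)) (.leaf (0, 0)))))))) (.node (.node (.node (.node (.node (.node (.leaf (69, 1)) (.leaf (2142, 7))) (.node (.leaf (2117, 4)) (.leaf (0, 0)))) (.node (.node (.leaf (1093, 5)) (.leaf (5189, 10))) (.node (.leaf (3141, 7)) (.leaf (0, 0))))) (.node (.node (.node (.leaf (350, 7)) (.leaf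 (4663, 2))) (.node (.leaf (2629, 10)) (.leaf (0, 0)))) (.node (.node (.leaf (1161, 11)) (.leaf (0, 0))) (.node (.leaf (3653, 4)) (.leaf (0, 0)))))) (.node (.node (.node (.node (.leaf (325, 7)) (.leaf (2672, 7))) (.node (.leaf (2373, 7)) (.leaf (0, 0)))) (.node (.node (.leaf (1349, 7)) (.leaf (0, 0))) (.node (.leaf (3397, 6)) (.leaf (0, 0))))) (.node (.node (.node (.leaf (837, 10)) (.leaf (4933, 5))) (.node (.leaf (2885, 6)) (.leaf (0, 0)))) (.node (.node (.leaf (1861, 1)) (.leaf (0, 0))) (.node (.leaf (2293, 7)) (.leaf (0, 0))))))) (.node (.node (.node (.node (.node (.leaf (96, 7)) (.leaf (4293, 5))) (.node (.leaf (2245, 2)) (.leaf (0, 0)))) (.node (.node (.leaf (1221, 10)) (.leaf (0, 0))) (.node (.leaf (3269, 5)) (.leaf (0, 0))))) (.node (.node (.node (.leaf (709, 6)) (.leaf (4801, 9))) (.node (.leaf (2757, 6)) (.leaf (0, 0)))) (.node (.node (.leaf (1539, 11)) (.leaf (0, 0))) (.node (.leaf (3781, 6)) (.leaf (0, 0)))))) (.node (.node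 (.node (.node (.leaf (453, 4)) (.leaf (4372, 7))) (.node (.leaf (2499, 10)) (.leaf (0, 0)))) (.node (.node (.leaf (1477, 10)) (.leaf (0, 0))) (.node (.leaf (3525, 4)) (.leaf (0, 0))))) (.node (.node (.node (.leaf (418, 7)) (.leaf (5059, 9))) (.node (.leaf (906, 7)) (.leaf (0, 0)))) (.node (.node (.leaf (1987, 9)) (.leaf (0, 0))) (.node (.leaf (4032, 7)) (.leaf (0, 0))))))))) (.node (.node (.node (.node (.node (.node (.node (.leaf (37, 9)) (.leaf (4133, 4))) (.node (.leaf (2085, 8)) (.leaf (0, 0)))) (.node (.node (.leaf (1061, 4)) (.leaf (5157, 6))) (.node (.leaf (869, 10)) (.leaf (0, 0))))) (.node (.node (.node (.leaf (536, 3)) (.leaf (4335, 4))) (.node (.leaf (2590, 9)) (.leaf (0, 0)))) (.node (.node (.leaf (1573, 6)) (.leaf (0, 0))) (.node (.leaf (3621, 5)) (.leaf (0, 0)))))) (.node (.node (.node (.node (.leaf (293, 6)) (.leaf (4389, 5))) (.node (.leaf (2341, 5)) (.leaf (0, 0)))) (.node (.node (.leaf (1317, 7)) (.leaf (0, 0)))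 (.node (.leaf (3365, 11)) (.leaf (0, 0))))) (.node (.node (.node (.leaf (805, 5)) (.leaf (1663, 11))) (.node (.leaf (2853, 7)) (.leaf (0, 0)))) (.node (.node (.leaf (1829, 5)) (.leaf (0, 0))) (.node (.leaf (3877, 5)) (.leaf (0, 0))))))) (.node (.node (.node (.node (.node (.leaf (113, 7)) (.leaf (4261, 8))) (.node (.leaf (1534, 8)) (.leaf (0, 0)))) (.node (.node (.leaf (1189, 10)) (.leaf (0, 0))) (.node (.leaf (358, 10)) (.leaf (0, 0))))) (.node (.node (.node (.leaf (677, 10)) (.leaf (449, 10))) (.node (.leaf (2725, 1)) (.leaf (0, 0)))) (.node (.node (.leaf (1415, 5)) (.leaf (0, 0))) (.node (.leaf (3122, 4)) (.leaf (0, 0)))))) (.node (.node (.node (.node (.leaf (417, 3)) (.leaf (4517, 5))) (.node (.leaf (2469, 5)) (.leaf (0, 0)))) (.node (.node (.leaf (1445, 11)) (.leaf (0, 0))) (.node (.leaf (3493, 6)) (.leaf (0, 0))))) (.node (.node (.node (.leaf (926, 2)) (.leaf (5029, 8))) (.node (.leaf (2981, 6)) (.leaf (0, 0)))) (.node (.node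 (.leaf (454, 7)) (.leaf (0, 0))) (.node (.leaf (3141, 10)) (.leaf (0, 0)))))))) (.node (.node (.node (.node (.node (.node (.leaf (101, 6)) (.leaf (4197, 4))) (.node (.leaf (2149, 8)) (.leaf (0, 0)))) (.node (.node (.leaf (1125, 4)) (.leaf (0, 0))) (.node (.leaf (2423, 10)) (.leaf (0, 0))))) (.node (.node (.node (.leaf (397, 5)) (.leaf (4709, 5))) (.node (.leaf (429, 5)) (.leaf (0, 0)))) (.node (.node (.leaf (1637, 10)) (.leaf (0, 0))) (.node (.leaf (3685, 5)) (.leaf (0, 0)))))) (.node (.node (.node (.node (.leaf (357, 4)) (.leaf (2664, 5))) (.node (.leaf (1409, 11)) (.leaf (0, 0)))) (.node (.node (.leaf (1365, 10)) (.leaf (0, 0))) (.node (.leaf (3429, 5)) (.leaf (0, 0))))) (.node (.node (.node (.leaf (869, 4)) (.leaf (4965, 4))) (.node (.leaf (2917, 11)) (.leaf (0, 0)))) (.node (.node (.leaf (1893, 5)) (.leaf (0, 0))) (.node (.leaf (3929, 5)) (.leaf (0, 0))))))) (.node (.node (.node (.node (.node (.leaf (229, 5)) (.leaf (441, 7)))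 (.node (.leaf (2277, 5)) (.leaf (0, 0)))) (.node (.node (.leaf (1253, 5)) (.leaf (0, 0))) (.node (.leaf (808, 7)) (.leaf (0, 0))))) (.node (.node (.node (.leaf (727, 4)) (.leaf (2246, 1))) (.node (.leaf (164, 9)) (.leaf (0, 0)))) (.node (.node (.leaf (1765, 10)) (.leaf (0, 0))) (.node (.leaf (931, 6)) (.leaf (0, 0)))))) (.node (.node (.node (.node (.leaf (470, 7)) (.leaf (4581, 4))) (.node (.leaf (2533, 5)) (.leaf (0, 0)))) (.node (.node (.leaf (1491, 7)) (.leaf (0, 0))) (.node (.leaf (3557, 6)) (.leaf (0, 0))))) (.node (.node (.node (.leaf (308, 8)) (.leaf (5093, 8))) (.node (.leaf (431, 6)) (.leaf (0, 0)))) (.node (.node (.leaf (2021, 7)) (.leaf (0, 0))) (.node (.leaf (3046, 8)) (.leaf (0, 0)))))))))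

def ptsPart6 : ATree (ℕ × ℕ) :=
  .node (.node (.node (.node (.node (.node (.node (.node (.leaf (6, 10)) (.leaf (4102, 11))) (.node (.leaf (2054, 4)) (.leaf (0, 0)))) (.node (.node (.leaf (1030, 6)) (.leaf (5126, 4))) (.node (.leaf (3078, 7)) (.leaf (0, 0))))) (.node (.node (.node (.leaf (518, 10)) (.leaf (4614, 6))) (.node (.leaf (2566, 6)) (.leaf (0, 0)))) (.node (.node (.leaf (1542, 5)) (.leaf (0, 0))) (.node (.leaf (3589, 6)) (.leaf (0, 0)))))) (.node (.node (.node (.node (.leaf (262, 7)) (.leaf (2665, 5))) (.node (.leaf (2310, 6)) (.leaf (0, 0)))) (.node (.node (.leaf (1286, 6)) (.leaf (0, 0))) (.node (.leaf (3324, 6)) (.leaf (0, 0))))) (.node (.node (.node (.leaf (774, 10)) (.leaf (4870, 5))) (.node (.leaf (2822, 10)) (.leaf (0, 0)))) (.node (.node (.leaf (1798, 2)) (.leaf (0, 0))) (.node (.leaf (2259, 9)) (.leaf (0, 0))))))) (.node (.node (.node (.node (.node (.leaf (3, 0)) (.leaf (4225, 7))) (.node (.leaf (2182, 6)) (.leaf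 (0, 0)))) (.node (.node (.leaf (1158, 3)) (.leaf (0, 0))) (.node (.leaf (3206, 7)) (.leaf (0, 0))))) (.node (.node (.node (.leaf (646, 11)) (.leaf (4742, 10))) (.node (.leaf (1702, 4)) (.leaf (0, 0)))) (.node (.node (.leaf (13, 4)) (.leaf (0, 0))) (.node (.leaf (2793, 7)) (.leaf (0, 0)))))) (.node (.node (.node (.node (.leaf (390, 11)) (.leaf (4486, 10))) (.node (.leaf (2419, 0)) (.leaf (0, 0)))) (.node (.node (.leaf (1407, 10)) (.leaf (0, 0))) (.node (.leaf (748, 7)) (.leaf (0, 0))))) (.node (.node (.node (.leaf (900, 9)) (.leaf (4998, 5))) (.node (.leaf (2525, 7)) (.leaf (0, 0)))) (.node (.node (.leaf (1926, 5)) (.leaf (0, 0))) (.node (.leaf (3969, 7)) (.leaf (0, 0)))))))) (.node (.node (.node (.node (.node (.node (.leaf (70, 2)) (.leaf (4166, 6))) (.node (.leaf (2118, 3)) (.leaf (0, 0)))) (.node (.node (.leaf (1089, 5)) (.leaf (5190, 11))) (.node (.leaf (3142, 6)) (.leaf (0, 0))))) (.node (.node (.node (.leaf (582, 6)) (.leaf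 (4678, 10))) (.node (.leaf (2630, 5)) (.leaf (0, 0)))) (.node (.node (.leaf (1606, 5)) (.leaf (0, 0))) (.node (.leaf (3654, 3)) (.leaf (0, 0)))))) (.node (.node (.node (.node (.leaf (326, 6)) (.leaf (4422, 6))) (.node (.leaf (2374, 6)) (.leaf (0, 0)))) (.node (.node (.leaf (1253, 11)) (.leaf (0, 0))) (.node (.leaf (3398, 8)) (.leaf (0, 0))))) (.node (.node (.node (.leaf (651, 8)) (.leaf (4934, 4))) (.node (.leaf (2886, 7)) (.leaf (0, 0)))) (.node (.node (.leaf (1641, 5)) (.leaf (0, 0))) (.node (.leaf (3910, 6)) (.leaf (0, 0))))))) (.node (.node (.node (.node (.node (.leaf (149, 7)) (.leaf (4294, 4))) (.node (.leaf (2246, 9)) (.leaf (0, 0)))) (.node (.node (.leaf (1222, 5)) (.leaf (0, 0))) (.node (.leaf (3238, 5)) (.leaf (0, 0))))) (.node (.node (.node (.leaf (710, 5)) (.leaf (4806, 10))) (.node (.leaf (130, 8)) (.leaf (0, 0)))) (.node (.node (.leaf (1734, 5)) (.leaf (0, 0))) (.node (.leaf (928, 8)) (.leaf (0, 0)))))) (.node (.node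 (.node (.node (.leaf (451, 9)) (.leaf (4550, 6))) (.node (.leaf (2261, 10)) (.leaf (0, 0)))) (.node (.node (.leaf (1478, 5)) (.leaf (0, 0))) (.node (.leaf (3519, 8)) (.leaf (0, 0))))) (.node (.node (.node (.leaf (966, 6)) (.leaf (5062, 10))) (.node (.leaf (3014, 6)) (.leaf (0, 0)))) (.node (.node (.leaf (1990, 10)) (.leaf (0, 0))) (.node (.leaf (4038, 6)) (.leaf (0, 0))))))))) (.node (.node (.node (.node (.node (.node (.node (.leaf (38, 10)) (.leaf (3523, 5))) (.node (.leaf (2086, 5)) (.leaf (0, 0)))) (.node (.node (.leaf (1062, 10)) (.leaf (5158, 5))) (.node (.leaf (357, 10)) (.leaf (0, 0))))) (.node (.node (.node (.leaf (489, 3)) (.leaf (4646, 10))) (.node (.leaf (2598, 10)) (.leaf (0, 0)))) (.node (.node (.leaf (572, 3)) (.leaf (0, 0))) (.node (.leaf (3561, 10)) (.leaf (0, 0)))))) (.node (.node (.node (.node (.leaf (294, 5)) (.leaf (4390, 4))) (.node (.leaf (2342, 6)) (.leaf (0, 0)))) (.node (.node (.leaf (289, 3)) (.leaf (0,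 0))) (.node (.leaf (3366, 5)) (.leaf (0, 0))))) (.node (.node (.node (.leaf (806, 10)) (.leaf (4901, 11))) (.node (.leaf (2854, 6)) (.leaf (0, 0)))) (.node (.node (.leaf (1830, 6)) (.leaf (0, 0))) (.node (.leaf (3878, 7)) (.leaf (0, 0))))))) (.node (.node (.node (.node (.node (.leaf (166, 6)) (.leaf (4252, 5))) (.node (.leaf (2014, 5)) (.leaf (0, 0)))) (.node (.node (.leaf (1190, 11)) (.leaf (0, 0))) (.node (.leaf (3238, 11)) (.leaf (0, 0))))) (.node (.node (.node (.leaf (551, 10)) (.leaf (3247, 9))) (.node (.leaf (2726, 9)) (.leaf (0, 0)))) (.node (.node (.leaf (1067, 11)) (.leaf (0, 0))) (.node (.leaf (813, 8)) (.leaf (0, 0)))))) (.node (.node (.node (.node (.leaf (422, 9)) (.leaf (4518, 10))) (.node (.leaf (2470, 4)) (.leaf (0, 0)))) (.node (.node (.leaf (1446, 5)) (.leaf (0, 0))) (.node (.leaf (750, 7)) (.leaf (0, 0))))) (.node (.node (.node (.leaf (934, 9)) (.leaf (5030, 5))) (.node (.leaf (2982, 5)) (.leaf (0, 0)))) (.node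 (.node (.leaf (458, 7)) (.leaf (0, 0))) (.node (.leaf (4006, 7)) (.leaf (0, 0)))))))) (.node (.node (.node (.node (.node (.node (.leaf (102, 8)) (.leaf (4198, 3))) (.node (.leaf (2150, 5)) (.leaf (0, 0)))) (.node (.node (.leaf (1126, 10)) (.leaf (0, 0))) (.node (.leaf (3165, 7)) (.leaf (0, 0))))) (.node (.node (.node (.leaf (614, 10)) (.leaf (4710, 4))) (.node (.leaf (2662, 6)) (.leaf (0, 0)))) (.node (.node (.leaf (1638, 5)) (.leaf (0, 0))) (.node (.leaf (3686, 4)) (.leaf (0, 0)))))) (.node (.node (.node (.node (.leaf (358, 3)) (.leaf (4454, 7))) (.node (.leaf (2406, 5)) (.leaf (0, 0)))) (.node (.node (.leaf (268, 4)) (.leaf (0, 0))) (.node (.leaf (3400, 7)) (.leaf (0, 0))))) (.node (.node (.node (.leaf (870, 9)) (.leaf (4966, 7))) (.node (.leaf (1545, 1)) (.leaf (0, 0)))) (.node (.node (.leaf (1894, 7)) (.leaf (0, 0))) (.node (.leaf (3942, 4)) (.leaf (0, 0))))))) (.node (.node (.node (.node (.node (.leaf (230, 4)) (.leaf (4326,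 6))) (.node (.leaf (2261, 9)) (.leaf (0, 0)))) (.node (.node (.leaf (1254, 6)) (.leaf (0, 0))) (.node (.leaf (3302, 6)) (.leaf (0, 0))))) (.node (.node (.node (.leaf (683, 5)) (.leaf (4838, 9))) (.node (.leaf (2790, 7)) (.leaf (0, 0)))) (.node (.node (.leaf (1716, 2)) (.leaf (0, 0))) (.node (.leaf (3814, 8)) (.leaf (0, 0)))))) (.node (.node (.node (.node (.leaf (486, 6)) (.leaf (4582, 10))) (.node (.leaf (2534, 4)) (.leaf (0, 0)))) (.node (.node (.leaf (1502, 7)) (.leaf (0, 0))) (.node (.leaf (3558, 8)) (.leaf (0, 0))))) (.node (.node (.node (.leaf (996, 9)) (.leaf (748, 11))) (.node (.leaf (457, 7)) (.leaf (0, 0)))) (.node (.node (.leaf (2022, 6)) (.leaf (0, 0))) (.node (.leaf (4070, 5)) (.leaf (0, 0)))))))))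

def ptsPart7 : ATree (ℕ × ℕ) :=
  .node (.node (.node (.node (.node (.node (.node (.node (.leaf (7, 11)) (.leaf (3504, 10))) (.node (.leaf (252, 10)) (.leaf (0, 0)))) (.node (.node (.leaf (1031, 5)) (.leaf (2466, 11))) (.node (.leaf (3079, 6)) (.leaf (0, 0))))) (.node (.node (.node (.leaf (519, 5)) (.leaf (4615, 5))) (.node (.leaf (2567, 7)) (.leaf (0, 0)))) (.node (.node (.leaf (1536, 10)) (.leaf (0, 0))) (.node (.leaf (3591, 8)) (.leaf (0, 0)))))) (.node (.node (.node (.node (.leaf (263, 6)) (.leaf (4359, 7))) (.node (.leaf (273, 9)) (.leaf (0, 0)))) (.node (.node (.leaf (1287, 4)) (.leaf (0, 0))) (.node (.leaf (3335, 5)) (.leaf (0, 0))))) (.node (.node (.node (.leaf (775, 5)) (.leaf (4871, 4))) (.node (.leaf (2823, 11)) (.leaf (0, 0)))) (.node (.node (.leaf (1517, 5)) (.leaf (0, 0))) (.node (.leaf (3847, 10)) (.leaf (0, 0))))))) (.node (.node (.node (.node (.node (.leaf (2, 0)) (.leaf (4231, 6))) (.node (.leaf (1220, 10)) (.leaf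 (0, 0)))) (.node (.node (.leaf (1159, 2)) (.leaf (0, 0))) (.node (.leaf (3207, 6)) (.leaf (0, 0))))) (.node (.node (.node (.leaf (500, 11)) (.leaf (4743, 5))) (.node (.leaf (2460, 4)) (.leaf (0, 0)))) (.node (.node (.leaf (1671, 7)) (.leaf (0, 0))) (.node (.leaf (3719, 8)) (.leaf (0, 0)))))) (.node (.node (.node (.node (.leaf (158, 4)) (.leaf (2141, 7))) (.node (.leaf (565, 1)) (.leaf (0, 0)))) (.node (.node (.leaf (1411, 10)) (.leaf (0, 0))) (.node (.leaf (3463, 6)) (.leaf (0, 0))))) (.node (.node (.node (.leaf (903, 10)) (.leaf (4971, 7))) (.node (.leaf (2951, 6)) (.leaf (0, 0)))) (.node (.node (.leaf (1927, 4)) (.leaf (0, 0))) (.node (.leaf (423, 7)) (.leaf (0, 0)))))))) (.node (.node (.node (.node (.node (.node (.leaf (71, 3)) (.leaf (4167, 5))) (.node (.leaf (1936, 5)) (.leaf (0, 0)))) (.node (.node (.leaf (1095, 7)) (.leaf (2392, 7))) (.node (.leaf (3143, 5)) (.leaf (0, 0))))) (.node (.node (.node (.leaf (349, 7)) (.leaf (4679,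 5))) (.node (.leaf (1752, 10)) (.leaf (0, 0)))) (.node (.node (.leaf (1607, 10)) (.leaf (0, 0))) (.node (.leaf (3655, 7)) (.leaf (0, 0)))))) (.node (.node (.node (.node (.leaf (327, 5)) (.leaf (4423, 5))) (.node (.leaf (2336, 7)) (.leaf (0, 0)))) (.node (.node (.leaf (1351, 5)) (.leaf (0, 0))) (.node (.leaf (3399, 5)) (.leaf (0, 0))))) (.node (.node (.node (.leaf (839, 9)) (.leaf (4935, 7))) (.node (.leaf (255, 11)) (.leaf (0, 0)))) (.node (.node (.leaf (1863, 4)) (.leaf (0, 0))) (.node (.leaf (3911, 8)) (.leaf (0, 0))))))) (.node (.node (.node (.node (.node (.leaf (150, 8)) (.leaf (4295, 3))) (.node (.leaf (2247, 10)) (.leaf (0, 0)))) (.node (.node (.leaf (1223, 6)) (.leaf (0, 0))) (.node (.leaf (3271, 7)) (.leaf (0, 0))))) (.node (.node (.node (.leaf (711, 4)) (.leaf (4807, 7))) (.node (.leaf (390, 7)) (.leaf (0, 0)))) (.node (.node (.leaf (1735, 4)) (.leaf (0, 0))) (.node (.leaf (929, 8)) (.leaf (0, 0)))))) (.node (.node (.node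 (.node (.leaf (455, 10)) (.leaf (4551, 5))) (.node (.leaf (2503, 11)) (.leaf (0, 0)))) (.node (.node (.leaf (1479, 6)) (.leaf (0, 0))) (.node (.leaf (3527, 5)) (.leaf (0, 0))))) (.node (.node (.node (.leaf (967, 5)) (.leaf (5063, 7))) (.node (.leaf (3015, 5)) (.leaf (0, 0)))) (.node (.node (.leaf (1991, 11)) (.leaf (0, 0))) (.node (.leaf (4031, 7)) (.leaf (0, 0))))))))) (.node (.node (.node (.node (.node (.node (.node (.leaf (39, 5)) (.leaf (4135, 4))) (.node (.leaf (2087, 4)) (.leaf (0, 0)))) (.node (.node (.leaf (274, 10)) (.leaf (159, 7))) (.node (.leaf (87, 9)) (.leaf (0, 0))))) (.node (.node (.node (.leaf (551, 2)) (.leaf (2663, 7))) (.node (.leaf (2472, 2)) (.leaf (0, 0)))) (.node (.node (.leaf (1575, 10)) (.leaf (0, 0))) (.node (.leaf (3623, 11)) (.leaf (0, 0)))))) (.node (.node (.node (.node (.leaf (295, 4)) (.leaf (4391, 3))) (.node (.leaf (1748, 10)) (.leaf (0, 0)))) (.node (.node (.leaf (1319, 10)) (.leaf (0, 0))) (.node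 (.leaf (3367, 10)) (.leaf (0, 0))))) (.node (.node (.node (.leaf (193, 11)) (.leaf (4896, 5))) (.node (.leaf (2280, 7)) (.leaf (0, 0)))) (.node (.node (.leaf (1831, 4)) (.leaf (0, 0))) (.node (.leaf (3879, 6)) (.leaf (0, 0))))))) (.node (.node (.node (.node (.node (.leaf (167, 5)) (.leaf (4263, 7))) (.node (.leaf (2215, 10)) (.leaf (0, 0)))) (.node (.node (.leaf (1191, 5)) (.leaf (0, 0))) (.node (.leaf (3239, 7)) (.leaf (0, 0))))) (.node (.node (.node (.leaf (679, 11)) (.leaf (4775, 10))) (.node (.leaf (2727, 7)) (.leaf (0, 0)))) (.node (.node (.leaf (1703, 5)) (.leaf (0, 0))) (.node (.leaf (3751, 5)) (.leaf (0, 0)))))) (.node (.node (.node (.node (.leaf (423, 10)) (.leaf (4353, 6))) (.node (.leaf (2471, 3)) (.leaf (0, 0)))) (.node (.node (.leaf (1447, 6)) (.leaf (0, 0))) (.node (.leaf (3495, 6)) (.leaf (0, 0))))) (.node (.node (.node (.leaf (907, 2)) (.leaf (5031, 10))) (.node (.leaf (2983, 4)) (.leaf (0, 0)))) (.node (.node (.leaf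 (1959, 8)) (.leaf (0, 0))) (.node (.leaf (4007, 8)) (.leaf (0, 0)))))))) (.node (.node (.node (.node (.node (.node (.leaf (103, 5)) (.leaf (4199, 10))) (.node (.leaf (2151, 4)) (.leaf (0, 0)))) (.node (.node (.leaf (1127, 5)) (.leaf (0, 0))) (.node (.leaf (3175, 6)) (.leaf (0, 0))))) (.node (.node (.node (.leaf (615, 11)) (.leaf (4711, 10))) (.node (.leaf (2656, 10)) (.leaf (0, 0)))) (.node (.node (.leaf (1639, 7)) (.leaf (0, 0))) (.node (.leaf (3687, 7)) (.leaf (0, 0)))))) (.node (.node (.node (.node (.leaf (359, 9)) (.leaf (4372, 6))) (.node (.leaf (1391, 11)) (.leaf (0, 0)))) (.node (.node (.leaf (1383, 7)) (.leaf (0, 0))) (.node (.leaf (3399, 7)) (.leaf (0, 0))))) (.node (.node (.node (.leaf (871, 10)) (.leaf (4967, 6))) (.node (.leaf (2919, 0)) (.leaf (0, 0)))) (.node (.node (.leaf (1895, 6)) (.leaf (0, 0))) (.node (.leaf (2258, 9)) (.leaf (0, 0))))))) (.node (.node (.node (.node (.node (.leaf (231, 10)) (.leaf (4327, 5))) (.node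 (.leaf (2279, 10)) (.leaf (0, 0)))) (.node (.node (.leaf (1255, 4)) (.leaf (0, 0))) (.node (.leaf (3303, 5)) (.leaf (0, 0))))) (.node (.node (.node (.leaf (743, 4)) (.leaf (4839, 10))) (.node (.leaf (155, 9)) (.leaf (0, 0)))) (.node (.node (.leaf (706, 3)) (.leaf (0, 0))) (.node (.leaf (3815, 7)) (.leaf (0, 0)))))) (.node (.node (.node (.node (.leaf (487, 5)) (.leaf (2111, 7))) (.node (.leaf (2535, 3)) (.leaf (0, 0)))) (.node (.node (.leaf (1503, 7)) (.leaf (0, 0))) (.node (.leaf (3559, 5)) (.leaf (0, 0))))) (.node (.node (.node (.leaf (999, 10)) (.leaf (5095, 5))) (.node (.leaf (749, 7)) (.leaf (0, 0)))) (.node (.node (.leaf (2023, 8)) (.leaf (0, 0))) (.node (.leaf (4071, 4)) (.leaf (0, 0)))))))))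

def ptsPart8 : ATree (ℕ × ℕ) :=
  .node (.node (.node (.node (.node (.node (.node (.node (.leaf (8, 5)) (.leaf (4104, 11))) (.node (.leaf (2056, 5)) (.leaf (0, 0)))) (.node (.node (.leaf (281, 7)) (.leaf (5128, 5))) (.node (.leaf (3080, 5)) (.leaf (0, 0))))) (.node (.node (.node (.leaf (506, 7)) (.leaf (4616, 4))) (.node (.leaf (1579, 8)) (.leaf (0, 0)))) (.node (.node (.leaf (1538, 2)) (.leaf (0, 0))) (.node (.leaf (3592, 5)) (.leaf (0, 0)))))) (.node (.node (.node (.node (.leaf (264, 5)) (.leaf (4343, 7))) (.node (.leaf (2312, 10)) (.leaf (0, 0)))) (.node (.node (.leaf (1288, 5)) (.leaf (0, 0))) (.node (.leaf (934, 7)) (.leaf (0, 0))))) (.node (.node (.node (.leaf (773, 10)) (.leaf (4872, 7))) (.node (.leaf (1017, 9)) (.leaf (0, 0)))) (.node (.node (.leaf (1800, 4)) (.leaf (0, 0))) (.node (.leaf (3848, 11)) (.leaf (0, 0))))))) (.node (.node (.node (.node (.node (.leaf (1, 0)) (.leaf (4119, 5))) (.node (.leaf (2184, 11)) (.leaf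 (0, 0)))) (.node (.node (.leaf (1160, 10)) (.leaf (0, 0))) (.node (.leaf (3208, 5)) (.leaf (0, 0))))) (.node (.node (.node (.leaf (488, 10)) (.leaf (4744, 6))) (.node (.leaf (1693, 5)) (.leaf (0, 0)))) (.node (.node (.leaf (1672, 6)) (.leaf (0, 0))) (.node (.leaf (379, 7)) (.leaf (0, 0)))))) (.node (.node (.node (.node (.leaf (392, 9)) (.leaf (4488, 6))) (.node (.leaf (2440, 0)) (.leaf (0, 0)))) (.node (.node (.leaf (1309, 8)) (.leaf (0, 0))) (.node (.leaf (3464, 8)) (.leaf (0, 0))))) (.node (.node (.node (.leaf (904, 11)) (.leaf (5000, 6))) (.node (.leaf (2952, 5)) (.leaf (0, 0)))) (.node (.node (.leaf (1928, 3)) (.leaf (0, 0))) (.node (.leaf (3976, 6)) (.leaf (0, 0)))))))) (.node (.node (.node (.node (.node (.node (.leaf (72, 7)) (.leaf (4168, 4))) (.node (.leaf (2120, 4)) (.leaf (0, 0)))) (.node (.node (.leaf (1096, 6)) (.leaf (5192, 6))) (.node (.leaf (534, 8)) (.leaf (0, 0))))) (.node (.node (.node (.leaf (460, 10)) (.leaf (4657,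 2))) (.node (.leaf (2632, 5)) (.leaf (0, 0)))) (.node (.node (.leaf (248, 5)) (.leaf (0, 0))) (.node (.leaf (3656, 6)) (.leaf (0, 0)))))) (.node (.node (.node (.node (.leaf (328, 4)) (.leaf (4424, 4))) (.node (.leaf (2376, 6)) (.leaf (0, 0)))) (.node (.node (.leaf (1352, 6)) (.leaf (0, 0))) (.node (.leaf (3400, 10)) (.leaf (0, 0))))) (.node (.node (.node (.leaf (839, 5)) (.leaf (4936, 6))) (.node (.leaf (2888, 7)) (.leaf (0, 0)))) (.node (.node (.leaf (1864, 3)) (.leaf (0, 0))) (.node (.leaf (3912, 5)) (.leaf (0, 0))))))) (.node (.node (.node (.node (.node (.leaf (88, 7)) (.leaf (974, 5))) (.node (.leaf (2248, 11)) (.leaf (0, 0)))) (.node (.node (.leaf (1224, 7)) (.leaf (0, 0))) (.node (.leaf (3272, 6)) (.leaf (0, 0))))) (.node (.node (.node (.leaf (712, 10)) (.leaf (4808, 6))) (.node (.leaf (393, 7)) (.leaf (0, 0)))) (.node (.node (.leaf (462, 1)) (.leaf (0, 0))) (.node (.leaf (930, 8)) (.leaf (0, 0)))))) (.node (.node (.node (.node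 (.leaf (456, 5)) (.leaf (4552, 10))) (.node (.leaf (2260, 10)) (.leaf (0, 0)))) (.node (.node (.leaf (1480, 4)) (.leaf (0, 0))) (.node (.leaf (3528, 4)) (.leaf (0, 0))))) (.node (.node (.node (.leaf (437, 9)) (.leaf (5064, 8))) (.node (.leaf (879, 7)) (.leaf (0, 0)))) (.node (.node (.leaf (1984, 10)) (.leaf (0, 0))) (.node (.leaf (963, 8)) (.leaf (0, 0))))))))) (.node (.node (.node (.node (.node (.node (.node (.leaf (40, 7)) (.leaf (751, 6))) (.node (.leaf (2082, 3)) (.leaf (0, 0)))) (.node (.node (.leaf (1064, 7)) (.leaf (5160, 6))) (.node (.leaf (3112, 7)) (.leaf (0, 0))))) (.node (.node (.node (.leaf (494, 3)) (.leaf (4648, 6))) (.node (.leaf (2600, 1)) (.leaf (0, 0)))) (.node (.node (.leaf (1576, 5)) (.leaf (0, 0))) (.node (.leaf (3624, 7)) (.leaf (0, 0)))))) (.node (.node (.node (.node (.leaf (296, 3)) (.leaf (4392, 2))) (.node (.leaf (2344, 5)) (.leaf (0, 0)))) (.node (.node (.leaf (1320, 5)) (.leaf (0, 0))) (.node (.leaf (3368,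 7)) (.leaf (0, 0))))) (.node (.node (.node (.leaf (671, 11)) (.leaf (4904, 6))) (.node (.leaf (2856, 6)) (.leaf (0, 0)))) (.node (.node (.leaf (1832, 7)) (.leaf (0, 0))) (.node (.leaf (958, 8)) (.leaf (0, 0))))))) (.node (.node (.node (.node (.node (.leaf (127, 4)) (.leaf (4264, 6))) (.node (.leaf (253, 1)) (.leaf (0, 0)))) (.node (.node (.leaf (1192, 4)) (.leaf (0, 0))) (.node (.leaf (3240, 6)) (.leaf (0, 0))))) (.node (.node (.node (.leaf (490, 11)) (.leaf (4776, 7))) (.node (.leaf (2728, 6)) (.leaf (0, 0)))) (.node (.node (.leaf (1611, 10)) (.leaf (0, 0))) (.node (.leaf (3752, 4)) (.leaf (0, 0)))))) (.node (.node (.node (.node (.leaf (424, 11)) (.leaf (4520, 5))) (.node (.leaf (2472, 10)) (.leaf (0, 0)))) (.node (.node (.leaf (1448, 4)) (.leaf (0, 0))) (.node (.leaf (3492, 10)) (.leaf (0, 0))))) (.node (.node (.node (.leaf (936, 9)) (.leaf (5032, 11))) (.node (.leaf (2984, 3)) (.leaf (0, 0)))) (.node (.node (.leaf (360, 10)) (.leaf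 (0, 0))) (.node (.leaf (4006, 11)) (.leaf (0, 0)))))))) (.node (.node (.node (.node (.node (.node (.leaf (100, 3)) (.leaf (3111, 11))) (.node (.leaf (2152, 3)) (.leaf (0, 0)))) (.node (.node (.leaf (1128, 7)) (.leaf (0, 0))) (.node (.leaf (941, 1)) (.leaf (0, 0))))) (.node (.node (.node (.leaf (188, 11)) (.leaf (4712, 11))) (.node (.leaf (2111, 10)) (.leaf (0, 0)))) (.node (.node (.leaf (1640, 6)) (.leaf (0, 0))) (.node (.leaf (3688, 6)) (.leaf (0, 0)))))) (.node (.node (.node (.node (.leaf (360, 7)) (.leaf (4456, 7))) (.node (.leaf (2408, 5)) (.leaf (0, 0)))) (.node (.node (.leaf (1384, 6)) (.leaf (0, 0))) (.node (.leaf (2712, 7)) (.leaf (0, 0))))) (.node (.node (.node (.leaf (486, 8)) (.leaf (4820, 9))) (.node (.leaf (2920, 10)) (.leaf (0, 0)))) (.node (.node (.leaf (1896, 5)) (.leaf (0, 0))) (.node (.leaf (385, 9)) (.leaf (0, 0))))))) (.node (.node (.node (.node (.node (.leaf (232, 5)) (.leaf (4328, 10))) (.node (.leaf (2280,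 11)) (.leaf (0, 0)))) (.node (.node (.leaf (1256, 5)) (.leaf (0, 0))) (.node (.leaf (3304, 4)) (.leaf (0, 0))))) (.node (.node (.node (.leaf (732, 5)) (.leaf (1562, 8))) (.node (.leaf (182, 9)) (.leaf (0, 0)))) (.node (.node (.leaf (1424, 6)) (.leaf (0, 0))) (.node (.leaf (867, 6)) (.leaf (0, 0)))))) (.node (.node (.node (.node (.leaf (488, 4)) (.leaf (4584, 6))) (.node (.leaf (2536, 2)) (.leaf (0, 0)))) (.node (.node (.leaf (1504, 7)) (.leaf (0, 0))) (.node (.leaf (3560, 4)) (.leaf (0, 0))))) (.node (.node (.node (.leaf (570, 8)) (.leaf (5096, 10))) (.node (.leaf (778, 7)) (.leaf (0, 0)))) (.node (.node (.leaf (2024, 5)) (.leaf (0, 0))) (.node (.leaf (4072, 3)) (.leaf (0, 0)))))))))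

def ptsPart9 : ATree (ℕ × ℕ) :=
  .node (.node (.node (.node (.node (.node (.node (.node (.leaf (9, 4)) (.leaf (4105, 5))) (.node (.leaf (2057, 4)) (.leaf (0, 0)))) (.node (.node (.leaf (1033, 6)) (.leaf (5129, 6))) (.node (.leaf (3081, 10)) (.leaf (0, 0))))) (.node (.node (.node (.leaf (521, 6)) (.leaf (3571, 4))) (.node (.leaf (247, 8)) (.leaf (0, 0)))) (.node (.node (.leaf (1545, 10)) (.leaf (0, 0))) (.node (.leaf (3578, 5)) (.leaf (0, 0)))))) (.node (.node (.node (.node (.leaf (244, 3)) (.leaf (4342, 11))) (.node (.leaf (2313, 5)) (.leaf (0, 0)))) (.node (.node (.leaf (1286, 4)) (.leaf (0, 0))) (.node (.leaf (3337, 6)) (.leaf (0, 0))))) (.node (.node (.node (.leaf (777, 5)) (.leaf (1220, 0))) (.node (.leaf (2825, 10)) (.leaf (0, 0)))) (.node (.node (.leaf (1801, 3)) (.leaf (0, 0))) (.node (.leaf (2287, 9)) (.leaf (0, 0))))))) (.node (.node (.node (.node (.node (.leaf (122, 7)) (.leaf (4233, 4))) (.node (.leaf (2185, 7)) (.leaf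 (0, 0)))) (.node (.node (.leaf (1161, 5)) (.leaf (0, 0))) (.node (.leaf (3209, 4)) (.leaf (0, 0))))) (.node (.node (.node (.leaf (649, 11)) (.leaf (4745, 7))) (.node (.leaf (782, 11)) (.leaf (0, 0)))) (.node (.node (.leaf (1673, 5)) (.leaf (0, 0))) (.node (.leaf (3721, 8)) (.leaf (0, 0)))))) (.node (.node (.node (.node (.leaf (176, 10)) (.leaf (4489, 5))) (.node (.leaf (2441, 10)) (.leaf (0, 0)))) (.node (.node (.leaf (1202, 10)) (.leaf (0, 0))) (.node (.leaf (3465, 5)) (.leaf (0, 0))))) (.node (.node (.node (.leaf (879, 5)) (.leaf (5001, 5))) (.node (.leaf (2953, 4)) (.leaf (0, 0)))) (.node (.node (.leaf (294, 8)) (.leaf (0, 0))) (.node (.leaf (3977, 8)) (.leaf (0, 0)))))))) (.node (.node (.node (.node (.node (.node (.leaf (73, 8)) (.leaf (4169, 10))) (.node (.leaf (630, 8)) (.leaf (0, 0)))) (.node (.node (.leaf (1097, 5)) (.leaf (5193, 5))) (.node (.leaf (354, 8)) (.leaf (0, 0))))) (.node (.node (.node (.leaf (585, 5)) (.leaf (4681,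 10))) (.node (.leaf (2633, 6)) (.leaf (0, 0)))) (.node (.node (.leaf (1609, 4)) (.leaf (0, 0))) (.node (.leaf (3657, 5)) (.leaf (0, 0)))))) (.node (.node (.node (.node (.leaf (329, 3)) (.leaf (4425, 3))) (.node (.leaf (1630, 10)) (.leaf (0, 0)))) (.node (.node (.leaf (1353, 4)) (.leaf (0, 0))) (.node (.leaf (3401, 7)) (.leaf (0, 0))))) (.node (.node (.node (.leaf (841, 9)) (.leaf (2937, 10))) (.node (.leaf (2889, 6)) (.leaf (0, 0)))) (.node (.node (.leaf (1865, 2)) (.leaf (0, 0))) (.node (.leaf (3913, 4)) (.leaf (0, 0))))))) (.node (.node (.node (.node (.node (.leaf (201, 8)) (.leaf (4297, 6))) (.node (.leaf (2249, 7)) (.leaf (0, 0)))) (.node (.node (.leaf (1225, 6)) (.leaf (0, 0))) (.node (.leaf (3273, 5)) (.leaf (0, 0))))) (.node (.node (.node (.leaf (711, 10)) (.leaf (4809, 5))) (.node (.leaf (392, 7)) (.leaf (0, 0)))) (.node (.node (.leaf (1737, 10)) (.leaf (0, 0))) (.node (.leaf (931, 8)) (.leaf (0, 0)))))) (.node (.node (.node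 (.node (.leaf (457, 4)) (.leaf (2658, 7))) (.node (.leaf (2505, 11)) (.leaf (0, 0)))) (.node (.node (.leaf (1481, 7)) (.leaf (0, 0))) (.node (.leaf (3529, 3)) (.leaf (0, 0))))) (.node (.node (.node (.leaf (969, 7)) (.leaf (5063, 5))) (.node (.leaf (3017, 6)) (.leaf (0, 0)))) (.node (.node (.leaf (1535, 8)) (.leaf (0, 0))) (.node (.leaf (3145, 9)) (.leaf (0, 0))))))))) (.node (.node (.node (.node (.node (.node (.node (.leaf (41, 6)) (.leaf (4137, 7))) (.node (.leaf (1961, 7)) (.leaf (0, 0)))) (.node (.node (.leaf (1065, 6)) (.leaf (5161, 5))) (.node (.leaf (85, 9)) (.leaf (0, 0))))) (.node (.node (.node (.leaf (553, 2)) (.leaf (4649, 5))) (.node (.leaf (2601, 9)) (.leaf (0, 0)))) (.node (.node (.leaf (1577, 6)) (.leaf (0, 0))) (.node (.leaf (3625, 6)) (.leaf (0, 0)))))) (.node (.node (.node (.node (.leaf (297, 2)) (.leaf (4393, 10))) (.node (.leaf (1645, 10)) (.leaf (0, 0)))) (.node (.node (.leaf (1321, 6)) (.leaf (0, 0))) (.node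 (.leaf (3369, 6)) (.leaf (0, 0))))) (.node (.node (.node (.leaf (665, 11)) (.leaf (1779, 6))) (.node (.leaf (2857, 5)) (.leaf (0, 0)))) (.node (.node (.leaf (253, 10)) (.leaf (0, 0))) (.node (.leaf (873, 9)) (.leaf (0, 0))))))) (.node (.node (.node (.node (.node (.leaf (7, 7)) (.leaf (4265, 8))) (.node (.leaf (2217, 9)) (.leaf (0, 0)))) (.node (.node (.leaf (1193, 7)) (.leaf (0, 0))) (.node (.leaf (3241, 5)) (.leaf (0, 0))))) (.node (.node (.node (.leaf (484, 11)) (.leaf (4777, 6))) (.node (.leaf (936, 1)) (.leaf (0, 0)))) (.node (.node (.leaf (1705, 11)) (.leaf (0, 0))) (.node (.leaf (3753, 7)) (.leaf (0, 0)))))) (.node (.node (.node (.node (.leaf (425, 7)) (.leaf (4521, 10))) (.node (.leaf (2473, 5)) (.leaf (0, 0)))) (.node (.node (.leaf (1449, 5)) (.leaf (0, 0))) (.node (.leaf (3497, 5)) (.leaf (0, 0))))) (.node (.node (.node (.leaf (900, 2)) (.leaf (5033, 7))) (.node (.leaf (2985, 2)) (.leaf (0, 0)))) (.node (.node (.leaf (1961,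 5)) (.leaf (0, 0))) (.node (.leaf (4009, 7)) (.leaf (0, 0)))))))) (.node (.node (.node (.node (.node (.node (.leaf (105, 7)) (.leaf (4201, 7))) (.node (.leaf (2153, 10)) (.leaf (0, 0)))) (.node (.node (.leaf (1129, 6)) (.leaf (0, 0))) (.node (.leaf (3177, 9)) (.leaf (0, 0))))) (.node (.node (.node (.leaf (172, 11)) (.leaf (4713, 5))) (.node (.leaf (772, 10)) (.leaf (0, 0)))) (.node (.node (.leaf (1164, 4)) (.leaf (0, 0))) (.node (.leaf (3689, 5)) (.leaf (0, 0)))))) (.node (.node (.node (.node (.leaf (361, 6)) (.leaf (4351, 7))) (.node (.leaf (1783, 10)) (.leaf (0, 0)))) (.node (.node (.leaf (1385, 8)) (.leaf (0, 0))) (.node (.leaf (3433, 6)) (.leaf (0, 0))))) (.node (.node (.node (.leaf (480, 8)) (.leaf (4969, 10))) (.node (.leaf (1998, 1)) (.leaf (0, 0)))) (.node (.node (.leaf (1897, 4)) (.leaf (0, 0))) (.node (.leaf (386, 9)) (.leaf (0, 0))))))) (.node (.node (.node (.node (.node (.leaf (229, 8)) (.leaf (429, 7))) (.node (.leaf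 (2260, 9)) (.leaf (0, 0)))) (.node (.node (.leaf (1257, 7)) (.leaf (0, 0))) (.node (.leaf (895, 11)) (.leaf (0, 0))))) (.node (.node (.node (.leaf (694, 5)) (.leaf (4841, 5))) (.node (.leaf (2788, 6)) (.leaf (0, 0)))) (.node (.node (.leaf (1575, 2)) (.leaf (0, 0))) (.node (.leaf (3817, 8)) (.leaf (0, 0)))))) (.node (.node (.node (.node (.leaf (489, 10)) (.leaf (4585, 5))) (.node (.leaf (2537, 9)) (.leaf (0, 0)))) (.node (.node (.leaf (1121, 6)) (.leaf (0, 0))) (.node (.leaf (3561, 3)) (.leaf (0, 0))))) (.node (.node (.node (.leaf (1001, 5)) (.leaf (1054, 9))) (.node (.leaf (2644, 10)) (.leaf (0, 0)))) (.node (.node (.leaf (2025, 4)) (.leaf (0, 0))) (.node (.leaf (3499, 10)) (.leaf (0, 0)))))))))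

def ptsPart10 : ATree (ℕ × ℕ) :=
  .node (.node (.node (.node (.node (.node (.node (.node (.leaf (10, 3)) (.leaf (3558, 5))) (.node (.leaf (2058, 7)) (.leaf (0, 0)))) (.node (.node (.leaf (280, 7)) (.leaf (5130, 4))) (.node (.leaf (911, 7)) (.leaf (0, 0))))) (.node (.node (.node (.leaf (522, 5)) (.leaf (4618, 10))) (.node (.leaf (1587, 8)) (.leaf (0, 0)))) (.node (.node (.leaf (1546, 5)) (.leaf (0, 0))) (.node (.leaf (3045, 5)) (.leaf (0, 0)))))) (.node (.node (.node (.node (.leaf (266, 10)) (.leaf (4362, 5))) (.node (.leaf (2314, 6)) (.leaf (0, 0)))) (.node (.node (.leaf (1280, 4)) (.leaf (0, 0))) (.node (.leaf (546, 8)) (.leaf (0, 0))))) (.node (.node (.node (.leaf (643, 10)) (.leaf (4874, 10))) (.node (.leaf (2826, 11)) (.leaf (0, 0)))) (.node (.node (.leaf (1802, 2)) (.leaf (0, 0))) (.node (.leaf (3850, 10)) (.leaf (0, 0))))))) (.node (.node (.node (.node (.node (.leaf (138, 6)) (.leaf (4234, 10))) (.node (.leaf (2186, 6)) (.leaf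 (0, 0)))) (.node (.node (.leaf (1118, 10)) (.leaf (0, 0))) (.node (.leaf (3210, 10)) (.leaf (0, 0))))) (.node (.node (.node (.leaf (535, 6)) (.leaf (4739, 5))) (.node (.leaf (2698, 5)) (.leaf (0, 0)))) (.node (.node (.leaf (1674, 4)) (.leaf (0, 0))) (.node (.leaf (3708, 8)) (.leaf (0, 0)))))) (.node (.node (.node (.node (.leaf (351, 3)) (.leaf (4490, 4))) (.node (.leaf (2440, 10)) (.leaf (0, 0)))) (.node (.node (.leaf (1418, 5)) (.leaf (0, 0))) (.node (.leaf (3466, 10)) (.leaf (0, 0))))) (.node (.node (.node (.leaf (860, 3)) (.leaf (5002, 10))) (.node (.leaf (2954, 3)) (.leaf (0, 0)))) (.node (.node (.leaf (1930, 5)) (.leaf (0, 0))) (.node (.leaf (3978, 5)) (.leaf (0, 0)))))))) (.node (.node (.node (.node (.node (.node (.leaf (72, 10)) (.leaf (4145, 7))) (.node (.leaf (2122, 5)) (.leaf (0, 0)))) (.node (.node (.leaf (13, 6)) (.leaf (2394, 7))) (.node (.leaf (2998, 7)) (.leaf (0, 0))))) (.node (.node (.node (.leaf (461, 10)) (.leaf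 (4682, 5))) (.node (.leaf (1389, 9)) (.leaf (0, 0)))) (.node (.node (.leaf (1610, 3)) (.leaf (0, 0))) (.node (.leaf (3658, 4)) (.leaf (0, 0)))))) (.node (.node (.node (.node (.leaf (330, 2)) (.leaf (4426, 2))) (.node (.leaf (2378, 5)) (.leaf (0, 0)))) (.node (.node (.leaf (1354, 5)) (.leaf (0, 0))) (.node (.leaf (3402, 6)) (.leaf (0, 0))))) (.node (.node (.node (.leaf (842, 10)) (.leaf (4938, 5))) (.node (.leaf (2890, 5)) (.leaf (0, 0)))) (.node (.node (.leaf (1866, 1)) (.leaf (0, 0))) (.node (.leaf (3914, 7)) (.leaf (0, 0))))))) (.node (.node (.node (.node (.node (.leaf (71, 7)) (.leaf (4298, 7))) (.node (.leaf (2250, 6)) (.leaf (0, 0)))) (.node (.node (.leaf (1226, 8)) (.leaf (0, 0))) (.node (.leaf (3274, 10)) (.leaf (0, 0))))) (.node (.node (.node (.leaf (266, 7)) (.leaf (1834, 11))) (.node (.leaf (2516, 7)) (.leaf (0, 0)))) (.node (.node (.leaf (1737, 0)) (.leaf (0, 0))) (.node (.leaf (3779, 7)) (.leaf (0, 0)))))) (.node (.node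 (.node (.node (.leaf (434, 5)) (.leaf (4554, 6))) (.node (.leaf (2498, 10)) (.leaf (0, 0)))) (.node (.node (.leaf (1482, 8)) (.leaf (0, 0))) (.node (.leaf (3530, 10)) (.leaf (0, 0))))) (.node (.node (.node (.leaf (970, 6)) (.leaf (5066, 7))) (.node (.leaf (3018, 5)) (.leaf (0, 0)))) (.node (.node (.leaf (1994, 5)) (.leaf (0, 0))) (.node (.leaf (3807, 5)) (.leaf (0, 0))))))))) (.node (.node (.node (.node (.node (.node (.node (.leaf (42, 8)) (.leaf (4138, 6))) (.node (.leaf (2090, 6)) (.leaf (0, 0)))) (.node (.node (.leaf (1037, 10)) (.leaf (158, 7))) (.node (.leaf (855, 9)) (.leaf (0, 0))))) (.node (.node (.node (.leaf (552, 10)) (.leaf (4650, 4))) (.node (.leaf (2602, 0)) (.leaf (0, 0)))) (.node (.node (.leaf (245, 7)) (.leaf (0, 0))) (.node (.leaf (3626, 5)) (.leaf (0, 0)))))) (.node (.node (.node (.node (.leaf (279, 5)) (.leaf (4394, 5))) (.node (.leaf (2346, 5)) (.leaf (0, 0)))) (.node (.node (.leaf (1322, 7)) (.leaf (0, 0)))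 (.node (.leaf (3367, 4)) (.leaf (0, 0))))) (.node (.node (.node (.leaf (806, 4)) (.leaf (1605, 10))) (.node (.leaf (2280, 5)) (.leaf (0, 0)))) (.node (.node (.leaf (1834, 7)) (.leaf (0, 0))) (.node (.leaf (3826, 7)) (.leaf (0, 0))))))) (.node (.node (.node (.node (.node (.leaf (168, 10)) (.leaf (4266, 5))) (.node (.leaf (2218, 0)) (.leaf (0, 0)))) (.node (.node (.leaf (1194, 6)) (.leaf (0, 0))) (.node (.leaf (3239, 5)) (.leaf (0, 0))))) (.node (.node (.node (.leaf (600, 10)) (.leaf (4778, 5))) (.node (.leaf (2730, 9)) (.leaf (0, 0)))) (.node (.node (.leaf (1610, 10)) (.leaf (0, 0))) (.node (.leaf (3741, 6)) (.leaf (0, 0)))))) (.node (.node (.node (.node (.leaf (422, 2)) (.leaf (4341, 6))) (.node (.leaf (2474, 7)) (.leaf (0, 0)))) (.node (.node (.leaf (1439, 8)) (.leaf (0, 0))) (.node (.leaf (3289, 9)) (.leaf (0, 0))))) (.node (.node (.node (.leaf (938, 9)) (.leaf (5032, 7))) (.node (.leaf (527, 8)) (.leaf (0, 0)))) (.node (.node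 (.leaf (1962, 4)) (.leaf (0, 0))) (.node (.leaf (4010, 8)) (.leaf (0, 0)))))))) (.node (.node (.node (.node (.node (.node (.leaf (106, 6)) (.leaf (980, 11))) (.node (.leaf (2154, 5)) (.leaf (0, 0)))) (.node (.node (.leaf (1126, 3)) (.leaf (0, 0))) (.node (.leaf (3178, 7)) (.leaf (0, 0))))) (.node (.node (.node (.leaf (305, 1)) (.leaf (4714, 6))) (.node (.leaf (399, 4)) (.leaf (0, 0)))) (.node (.node (.leaf (1642, 7)) (.leaf (0, 0))) (.node (.leaf (3690, 10)) (.leaf (0, 0)))))) (.node (.node (.node (.node (.leaf (362, 5)) (.leaf (3051, 6))) (.node (.leaf (1572, 6)) (.leaf (0, 0)))) (.node (.node (.leaf (1386, 5)) (.leaf (0, 0))) (.node (.leaf (3434, 8)) (.leaf (0, 0))))) (.node (.node (.node (.leaf (872, 5)) (.leaf (4970, 11))) (.node (.leaf (2922, 0)) (.leaf (0, 0)))) (.node (.node (.leaf (1898, 3)) (.leaf (0, 0))) (.node (.leaf (3946, 10)) (.leaf (0, 0))))))) (.node (.node (.node (.node (.node (.leaf (234, 5)) (.leaf (4330, 6)))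 (.node (.leaf (2282, 10)) (.leaf (0, 0)))) (.node (.node (.leaf (1258, 8)) (.leaf (0, 0))) (.node (.leaf (876, 7)) (.leaf (0, 0))))) (.node (.node (.node (.leaf (450, 9)) (.leaf (4842, 4))) (.node (.leaf (2778, 6)) (.leaf (0, 0)))) (.node (.node (.leaf (1770, 10)) (.leaf (0, 0))) (.node (.leaf (3818, 7)) (.leaf (0, 0)))))) (.node (.node (.node (.node (.leaf (479, 7)) (.leaf (4586, 4))) (.node (.leaf (2538, 10)) (.leaf (0, 0)))) (.node (.node (.leaf (1514, 7)) (.leaf (0, 0))) (.node (.leaf (3562, 7)) (.leaf (0, 0))))) (.node (.node (.node (.leaf (1002, 4)) (.leaf (5098, 10))) (.node (.leaf (3050, 5)) (.leaf (0, 0)))) (.node (.node (.leaf (2026, 3)) (.leaf (0, 0))) (.node (.leaf (4074, 7)) (.leaf (0, 0)))))))))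

def ptsPart11 : ATree (ℕ × ℕ) :=
  .node (.node (.node (.node (.node (.node (.node (.node (.leaf (11, 10)) (.leaf (4107, 4))) (.node (.leaf (2059, 6)) (.leaf (0, 0)))) (.node (.node (.leaf (278, 8)) (.leaf (2442, 5))) (.node (.leaf (3083, 6)) (.leaf (0, 0))))) (.node (.node (.node (.leaf (523, 10)) (.leaf (428, 7))) (.node (.leaf (2571, 5)) (.leaf (0, 0)))) (.node (.node (.leaf (1547, 4)) (.leaf (0, 0))) (.node (.leaf (3593, 10)) (.leaf (0, 0)))))) (.node (.node (.node (.node (.leaf (267, 5)) (.leaf (4363, 7))) (.node (.leaf (272, 9)) (.leaf (0, 0)))) (.node (.node (.leaf (1284, 1)) (.leaf (0, 0))) (.node (.leaf (834, 7)) (.leaf (0, 0))))) (.node (.node (.node (.leaf (779, 5)) (.leaf (4875, 7))) (.node (.leaf (1013, 9)) (.leaf (0, 0)))) (.node (.node (.leaf (1527, 5)) (.leaf (0, 0))) (.node (.leaf (3851, 5)) (.leaf (0, 0))))))) (.node (.node (.node (.node (.node (.leaf (123, 7)) (.leaf (4235, 5))) (.node (.leaf (2172, 4)) (.leaf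 (0, 0)))) (.node (.node (.leaf (1163, 5)) (.leaf (0, 0))) (.node (.leaf (1466, 10)) (.leaf (0, 0))))) (.node (.node (.node (.leaf (651, 5)) (.leaf (4747, 4))) (.node (.leaf (593, 10)) (.leaf (0, 0)))) (.node (.node (.leaf (1675, 3)) (.leaf (0, 0))) (.node (.leaf (812, 8)) (.leaf (0, 0)))))) (.node (.node (.node (.node (.leaf (395, 7)) (.leaf (4491, 3))) (.node (.leaf (1770, 1)) (.leaf (0, 0)))) (.node (.node (.leaf (1419, 7)) (.leaf (0, 0))) (.node (.leaf (3467, 7)) (.leaf (0, 0))))) (.node (.node (.node (.leaf (907, 9)) (.leaf (2479, 9))) (.node (.leaf (2955, 2)) (.leaf (0, 0)))) (.node (.node (.leaf (981, 10)) (.leaf (0, 0))) (.node (.leaf (3979, 7)) (.leaf (0, 0)))))))) (.node (.node (.node (.node (.node (.node (.leaf (75, 7)) (.leaf (4171, 6))) (.node (.leaf (2123, 4)) (.leaf (0, 0)))) (.node (.node (.leaf (1099, 7)) (.leaf (5195, 6))) (.node (.leaf (3147, 6)) (.leaf (0, 0))))) (.node (.node (.node (.leaf (587, 5)) (.leaf (4657,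 10))) (.node (.leaf (2635, 10)) (.leaf (0, 0)))) (.node (.node (.leaf (1611, 2)) (.leaf (0, 0))) (.node (.leaf (404, 8)) (.leaf (0, 0)))))) (.node (.node (.node (.node (.leaf (252, 9)) (.leaf (4427, 10))) (.node (.leaf (2379, 7)) (.leaf (0, 0)))) (.node (.node (.leaf (1355, 7)) (.leaf (0, 0))) (.node (.leaf (3403, 5)) (.leaf (0, 0))))) (.node (.node (.node (.leaf (841, 10)) (.leaf (4939, 7))) (.node (.leaf (2891, 4)) (.leaf (0, 0)))) (.node (.node (.leaf (231, 3)) (.leaf (0, 0))) (.node (.leaf (3915, 6)) (.leaf (0, 0))))))) (.node (.node (.node (.node (.node (.leaf (203, 8)) (.leaf (4299, 6))) (.node (.leaf (2251, 5)) (.leaf (0, 0)))) (.node (.node (.leaf (1227, 5)) (.leaf (0, 0))) (.node (.leaf (3266, 10)) (.leaf (0, 0))))) (.node (.node (.node (.leaf (715, 6)) (.leaf (4811, 7))) (.node (.leaf (2516, 9)) (.leaf (0, 0)))) (.node (.node (.leaf (1542, 11)) (.leaf (0, 0))) (.node (.leaf (3098, 8)) (.leaf (0, 0)))))) (.node (.node (.node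 (.node (.leaf (459, 4)) (.leaf (4555, 5))) (.node (.leaf (2497, 10)) (.leaf (0, 0)))) (.node (.node (.leaf (1120, 11)) (.leaf (0, 0))) (.node (.leaf (3531, 11)) (.leaf (0, 0))))) (.node (.node (.node (.leaf (971, 5)) (.leaf (5067, 8))) (.node (.leaf (878, 3)) (.leaf (0, 0)))) (.node (.node (.leaf (1995, 4)) (.leaf (0, 0))) (.node (.leaf (4043, 7)) (.leaf (0, 0))))))))) (.node (.node (.node (.node (.node (.node (.node (.leaf (43, 5)) (.leaf (4139, 5))) (.node (.leaf (2091, 8)) (.leaf (0, 0)))) (.node (.node (.leaf (1051, 5)) (.leaf (5163, 6))) (.node (.leaf (495, 8)) (.leaf (0, 0))))) (.node (.node (.node (.leaf (534, 6)) (.leaf (4651, 10))) (.node (.leaf (2603, 10)) (.leaf (0, 0)))) (.node (.node (.leaf (1579, 6)) (.leaf (0, 0))) (.node (.leaf (3627, 4)) (.leaf (0, 0)))))) (.node (.node (.node (.node (.leaf (299, 4)) (.leaf (3050, 11))) (.node (.leaf (1532, 5)) (.leaf (0, 0)))) (.node (.node (.leaf (18, 9)) (.leaf (0, 0))) (.node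 (.leaf (3371, 10)) (.leaf (0, 0))))) (.node (.node (.node (.leaf (802, 7)) (.leaf (1750, 0))) (.node (.leaf (2859, 7)) (.leaf (0, 0)))) (.node (.node (.leaf (1835, 6)) (.leaf (0, 0))) (.node (.leaf (3836, 7)) (.leaf (0, 0))))))) (.node (.node (.node (.node (.node (.leaf (117, 10)) (.leaf (4267, 4))) (.node (.leaf (2219, 10)) (.leaf (0, 0)))) (.node (.node (.leaf (1192, 6)) (.leaf (0, 0))) (.node (.leaf (3243, 7)) (.leaf (0, 0))))) (.node (.node (.node (.leaf (599, 10)) (.leaf (4776, 5))) (.node (.leaf (2731, 7)) (.leaf (0, 0)))) (.node (.node (.leaf (1707, 11)) (.leaf (0, 0))) (.node (.leaf (2510, 9)) (.leaf (0, 0)))))) (.node (.node (.node (.node (.leaf (427, 9)) (.leaf (4523, 5))) (.node (.leaf (1673, 8)) (.leaf (0, 0)))) (.node (.node (.leaf (1362, 8)) (.leaf (0, 0))) (.node (.leaf (3499, 7)) (.leaf (0, 0))))) (.node (.node (.node (.leaf (870, 3)) (.leaf (5031, 7))) (.node (.leaf (2987, 5)) (.leaf (0, 0)))) (.node (.node (.leaf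 (1963, 7)) (.leaf (0, 0))) (.node (.leaf (3874, 11)) (.leaf (0, 0)))))))) (.node (.node (.node (.node (.node (.node (.leaf (107, 8)) (.leaf (4203, 7))) (.node (.leaf (2153, 2)) (.leaf (0, 0)))) (.node (.node (.leaf (1131, 10)) (.leaf (0, 0))) (.node (.leaf (3179, 6)) (.leaf (0, 0))))) (.node (.node (.node (.leaf (619, 7)) (.leaf (4715, 7))) (.node (.leaf (2667, 10)) (.leaf (0, 0)))) (.node (.node (.leaf (1643, 6)) (.leaf (0, 0))) (.node (.leaf (3644, 7)) (.leaf (0, 0)))))) (.node (.node (.node (.node (.leaf (363, 4)) (.leaf (4459, 7))) (.node (.leaf (743, 6)) (.leaf (0, 0)))) (.node (.node (.leaf (1387, 4)) (.leaf (0, 0))) (.node (.leaf (3435, 7)) (.leaf (0, 0))))) (.node (.node (.node (.leaf (474, 8)) (.leaf (4971, 5))) (.node (.leaf (2923, 10)) (.leaf (0, 0)))) (.node (.node (.leaf (1899, 2)) (.leaf (0, 0))) (.node (.leaf (3947, 11)) (.leaf (0, 0))))))) (.node (.node (.node (.node (.node (.leaf (235, 4)) (.leaf (4331, 5))) (.node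 (.leaf (2283, 11)) (.leaf (0, 0)))) (.node (.node (.leaf (1252, 2)) (.leaf (0, 0))) (.node (.leaf (877, 7)) (.leaf (0, 0))))) (.node (.node (.node (.leaf (747, 10)) (.leaf (4843, 3))) (.node (.leaf (2761, 6)) (.leaf (0, 0)))) (.node (.node (.leaf (1771, 5)) (.leaf (0, 0))) (.node (.leaf (956, 8)) (.leaf (0, 0)))))) (.node (.node (.node (.node (.leaf (491, 6)) (.leaf (451, 7))) (.node (.leaf (2539, 11)) (.leaf (0, 0)))) (.node (.node (.leaf (1515, 6)) (.leaf (0, 0))) (.node (.leaf (3561, 7)) (.leaf (0, 0))))) (.node (.node (.node (.leaf (1003, 3)) (.leaf (5099, 11))) (.node (.leaf (3051, 7)) (.leaf (0, 0)))) (.node (.node (.leaf (2027, 2)) (.leaf (0, 0))) (.node (.leaf (4075, 6)) (.leaf (0, 0)))))))))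

def ptsPart12 : ATree (ℕ × ℕ) :=
  .node (.node (.node (.node (.node (.node (.node (.node (.leaf (12, 5)) (.leaf (4108, 10))) (.node (.leaf (1719, 4)) (.leaf (0, 0)))) (.node (.node (.leaf (767, 3)) (.leaf (5132, 6))) (.node (.leaf (3084, 5)) (.leaf (0, 0))))) (.node (.node (.node (.leaf (353, 6)) (.leaf (4620, 6))) (.node (.leaf (2572, 4)) (.leaf (0, 0)))) (.node (.node (.leaf (9, 10)) (.leaf (0, 0))) (.node (.leaf (3596, 7)) (.leaf (0, 0)))))) (.node (.node (.node (.node (.leaf (268, 7)) (.leaf (2647, 11))) (.node (.leaf (2316, 10)) (.leaf (0, 0)))) (.node (.node (.leaf (1292, 10)) (.leaf (0, 0))) (.node (.leaf (959, 7)) (.leaf (0, 0))))) (.node (.node (.node (.leaf (70, 7)) (.leaf (1221, 0))) (.node (.leaf (2828, 10)) (.leaf (0, 0)))) (.node (.node (.leaf (1804, 4)) (.leaf (0, 0))) (.node (.leaf (2724, 9)) (.leaf (0, 0))))))) (.node (.node (.node (.node (.node (.leaf (140, 6)) (.leaf (4236, 6))) (.node (.leaf (1426, 11)) (.leaf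 (0, 0)))) (.node (.node (.leaf (1164, 7)) (.leaf (0, 0))) (.node (.leaf (3212, 11)) (.leaf (0, 0))))) (.node (.node (.node (.leaf (652, 10)) (.leaf (4748, 10))) (.node (.leaf (2700, 11)) (.leaf (0, 0)))) (.node (.node (.leaf (1676, 10)) (.leaf (0, 0))) (.node (.leaf (814, 8)) (.leaf (0, 0)))))) (.node (.node (.node (.node (.leaf (396, 6)) (.leaf (4492, 2))) (.node (.leaf (2444, 0)) (.leaf (0, 0)))) (.node (.node (.leaf (1420, 6)) (.leaf (0, 0))) (.node (.leaf (3468, 6)) (.leaf (0, 0))))) (.node (.node (.node (.leaf (866, 11)) (.leaf (5004, 10))) (.node (.leaf (2956, 10)) (.leaf (0, 0)))) (.node (.node (.leaf (1932, 11)) (.leaf (0, 0))) (.node (.leaf (3979, 4)) (.leaf (0, 0)))))))) (.node (.node (.node (.node (.node (.node (.leaf (76, 8)) (.leaf (4172, 5))) (.node (.leaf (2124, 3)) (.leaf (0, 0)))) (.node (.node (.leaf (1100, 6)) (.leaf (5196, 5))) (.node (.leaf (3148, 5)) (.leaf (0, 0))))) (.node (.node (.node (.leaf (463, 5)) (.leaf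 (4684, 5))) (.node (.leaf (2636, 11)) (.leaf (0, 0)))) (.node (.node (.leaf (555, 11)) (.leaf (0, 0))) (.node (.leaf (3660, 5)) (.leaf (0, 0)))))) (.node (.node (.node (.node (.leaf (332, 7)) (.leaf (4428, 5))) (.node (.leaf (2380, 6)) (.leaf (0, 0)))) (.node (.node (.leaf (1356, 8)) (.leaf (0, 0))) (.node (.leaf (2652, 7)) (.leaf (0, 0))))) (.node (.node (.node (.leaf (610, 8)) (.leaf (4940, 6))) (.node (.leaf (2892, 10)) (.leaf (0, 0)))) (.node (.node (.leaf (1868, 2)) (.leaf (0, 0))) (.node (.leaf (2292, 7)) (.leaf (0, 0))))))) (.node (.node (.node (.node (.node (.leaf (10, 10)) (.leaf (4300, 5))) (.node (.leaf (2252, 4)) (.leaf (0, 0)))) (.node (.node (.leaf (1228, 4)) (.leaf (0, 0))) (.node (.leaf (2137, 7)) (.leaf (0, 0))))) (.node (.node (.node (.leaf (716, 5)) (.leaf (4812, 6))) (.node (.leaf (2764, 7)) (.leaf (0, 0)))) (.node (.node (.leaf (1740, 5)) (.leaf (0, 0))) (.node (.leaf (3788, 7)) (.leaf (0, 0)))))) (.node (.node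 (.node (.node (.leaf (460, 3)) (.leaf (4556, 10))) (.node (.leaf (522, 8)) (.leaf (0, 0)))) (.node (.node (.leaf (1484, 5)) (.leaf (0, 0))) (.node (.leaf (3532, 5)) (.leaf (0, 0))))) (.node (.node (.node (.leaf (972, 10)) (.leaf (5060, 5))) (.node (.leaf (3020, 10)) (.leaf (0, 0)))) (.node (.node (.leaf (1996, 3)) (.leaf (0, 0))) (.node (.leaf (4030, 5)) (.leaf (0, 0))))))))) (.node (.node (.node (.node (.node (.node (.node (.leaf (44, 4)) (.leaf (4140, 4))) (.node (.leaf (2092, 5)) (.leaf (0, 0)))) (.node (.node (.leaf (1068, 4)) (.leaf (157, 7))) (.node (.leaf (3116, 9)) (.leaf (0, 0))))) (.node (.node (.node (.leaf (556, 5)) (.leaf (4304, 7))) (.node (.leaf (2604, 5)) (.leaf (0, 0)))) (.node (.node (.leaf (1580, 5)) (.leaf (0, 0))) (.node (.leaf (3628, 10)) (.leaf (0, 0)))))) (.node (.node (.node (.node (.leaf (300, 3)) (.leaf (4396, 7))) (.node (.leaf (1609, 10)) (.leaf (0, 0)))) (.node (.node (.leaf (1324, 10)) (.leaf (0, 0)))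 (.node (.leaf (3372, 7)) (.leaf (0, 0))))) (.node (.node (.node (.leaf (812, 6)) (.leaf (4908, 10))) (.node (.leaf (2860, 6)) (.leaf (0, 0)))) (.node (.node (.leaf (1612, 10)) (.leaf (0, 0))) (.node (.leaf (3076, 7)) (.leaf (0, 0))))))) (.node (.node (.node (.node (.node (.leaf (6, 7)) (.leaf (4268, 10))) (.node (.leaf (2220, 7)) (.leaf (0, 0)))) (.node (.node (.leaf (1196, 4)) (.leaf (0, 0))) (.node (.leaf (3244, 6)) (.leaf (0, 0))))) (.node (.node (.node (.leaf (502, 4)) (.leaf (4780, 7))) (.node (.leaf (2732, 6)) (.leaf (0, 0)))) (.node (.node (.leaf (1708, 5)) (.leaf (0, 0))) (.node (.leaf (3727, 8)) (.leaf (0, 0)))))) (.node (.node (.node (.node (.leaf (428, 10)) (.leaf (4524, 10))) (.node (.leaf (2476, 5)) (.leaf (0, 0)))) (.node (.node (.leaf (1450, 7)) (.leaf (0, 0))) (.node (.leaf (3500, 6)) (.leaf (0, 0))))) (.node (.node (.node (.leaf (940, 2)) (.leaf (5030, 7))) (.node (.leaf (2988, 4)) (.leaf (0, 0)))) (.node (.node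 (.leaf (1964, 8)) (.leaf (0, 0))) (.node (.leaf (4012, 7)) (.leaf (0, 0)))))))) (.node (.node (.node (.node (.node (.node (.leaf (108, 5)) (.leaf (3049, 6))) (.node (.leaf (2156, 10)) (.leaf (0, 0)))) (.node (.node (.leaf (1132, 5)) (.leaf (0, 0))) (.node (.leaf (2534, 9)) (.leaf (0, 0))))) (.node (.node (.node (.leaf (620, 6)) (.leaf (4716, 8))) (.node (.leaf (2668, 5)) (.leaf (0, 0)))) (.node (.node (.leaf (1412, 1)) (.leaf (0, 0))) (.node (.leaf (3692, 6)) (.leaf (0, 0)))))) (.node (.node (.node (.node (.leaf (364, 10)) (.leaf (3053, 6))) (.node (.leaf (684, 11)) (.leaf (0, 0)))) (.node (.node (.leaf (1388, 3)) (.leaf (0, 0))) (.node (.leaf (2711, 7)) (.leaf (0, 0))))) (.node (.node (.node (.leaf (876, 5)) (.leaf (4972, 4))) (.node (.leaf (1550, 1)) (.leaf (0, 0)))) (.node (.node (.leaf (1628, 5)) (.leaf (0, 0))) (.node (.leaf (388, 10)) (.leaf (0, 0))))))) (.node (.node (.node (.node (.node (.leaf (236, 10)) (.leaf (2662, 7)))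 (.node (.leaf (995, 9)) (.leaf (0, 0)))) (.node (.node (.leaf (1260, 10)) (.leaf (0, 0))) (.node (.leaf (895, 7)) (.leaf (0, 0))))) (.node (.node (.node (.leaf (748, 5)) (.leaf (4844, 2))) (.node (.leaf (2796, 5)) (.leaf (0, 0)))) (.node (.node (.leaf (1772, 6)) (.leaf (0, 0))) (.node (.leaf (3820, 7)) (.leaf (0, 0)))))) (.node (.node (.node (.node (.leaf (492, 5)) (.leaf (4588, 6))) (.node (.leaf (2540, 7)) (.leaf (0, 0)))) (.node (.node (.leaf (1516, 8)) (.leaf (0, 0))) (.node (.leaf (3560, 7)) (.leaf (0, 0))))) (.node (.node (.node (.leaf (1004, 10)) (.leaf (5100, 5))) (.node (.leaf (979, 5)) (.leaf (0, 0)))) (.node (.node (.leaf (1468, 9)) (.leaf (0, 0))) (.node (.leaf (4076, 5)) (.leaf (0, 0)))))))))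

def ptsPart13 : ATree (ℕ × ℕ) :=
  .node (.node (.node (.node (.node (.node (.node (.node (.leaf (13, 7)) (.leaf (4109, 11))) (.node (.leaf (1718, 4)) (.leaf (0, 0)))) (.node (.node (.leaf (276, 7)) (.leaf (2897, 0))) (.node (.leaf (3085, 10)) (.leaf (0, 0))))) (.node (.node (.node (.leaf (525, 7)) (.leaf (4621, 5))) (.node (.leaf (2573, 3)) (.leaf (0, 0)))) (.node (.node (.leaf (1531, 2)) (.leaf (0, 0))) (.node (.leaf (3597, 6)) (.leaf (0, 0)))))) (.node (.node (.node (.node (.leaf (269, 6)) (.leaf (4365, 5))) (.node (.leaf (271, 9)) (.leaf (0, 0)))) (.node (.node (.leaf (1293, 5)) (.leaf (0, 0))) (.node (.leaf (409, 7)) (.leaf (0, 0))))) (.node (.node (.node (.leaf (594, 10)) (.leaf (4877, 10))) (.node (.leaf (994, 9)) (.leaf (0, 0)))) (.node (.node (.leaf (1805, 3)) (.leaf (0, 0))) (.node (.leaf (3853, 7)) (.leaf (0, 0))))))) (.node (.node (.node (.node (.node (.leaf (141, 5)) (.leaf (4123, 11))) (.node (.leaf (1423, 11)) (.leaf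 (0, 0)))) (.node (.node (.leaf (1165, 6)) (.leaf (0, 0))) (.node (.leaf (3213, 7)) (.leaf (0, 0))))) (.node (.node (.node (.leaf (653, 11)) (.leaf (4749, 5))) (.node (.leaf (2450, 4)) (.leaf (0, 0)))) (.node (.node (.leaf (1677, 5)) (.leaf (0, 0))) (.node (.leaf (815, 8)) (.leaf (0, 0)))))) (.node (.node (.node (.node (.leaf (397, 8)) (.leaf (4493, 10))) (.node (.leaf (2445, 10)) (.leaf (0, 0)))) (.node (.node (.leaf (1037, 2)) (.leaf (0, 0))) (.node (.leaf (3469, 5)) (.leaf (0, 0))))) (.node (.node (.node (.leaf (838, 11)) (.leaf (5005, 11))) (.node (.leaf (2840, 10)) (.leaf (0, 0)))) (.node (.node (.leaf (1933, 5)) (.leaf (0, 0))) (.node (.leaf (3981, 7)) (.leaf (0, 0)))))))) (.node (.node (.node (.node (.node (.node (.leaf (5, 0)) (.leaf (4173, 4))) (.node (.leaf (629, 8)) (.leaf (0, 0)))) (.node (.node (.leaf (1101, 8)) (.leaf (1149, 11))) (.node (.leaf (3149, 10)) (.leaf (0, 0))))) (.node (.node (.node (.leaf (432, 4)) (.leaf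 (4656, 10))) (.node (.leaf (2637, 5)) (.leaf (0, 0)))) (.node (.node (.leaf (561, 11)) (.leaf (0, 0))) (.node (.leaf (3661, 4)) (.leaf (0, 0)))))) (.node (.node (.node (.node (.leaf (333, 6)) (.leaf (4421, 4))) (.node (.leaf (1987, 1)) (.leaf (0, 0)))) (.node (.node (.leaf (1055, 2)) (.leaf (0, 0))) (.node (.leaf (3405, 6)) (.leaf (0, 0))))) (.node (.node (.node (.leaf (845, 5)) (.leaf (1746, 10))) (.node (.leaf (2893, 5)) (.leaf (0, 0)))) (.node (.node (.leaf (1869, 1)) (.leaf (0, 0))) (.node (.leaf (3917, 6)) (.leaf (0, 0))))))) (.node (.node (.node (.node (.node (.leaf (205, 5)) (.leaf (4301, 4))) (.node (.leaf (2253, 10)) (.leaf (0, 0)))) (.node (.node (.leaf (1229, 3)) (.leaf (0, 0))) (.node (.leaf (3277, 6)) (.leaf (0, 0))))) (.node (.node (.node (.leaf (717, 4)) (.leaf (4813, 5))) (.node (.leaf (119, 8)) (.leaf (0, 0)))) (.node (.node (.leaf (698, 1)) (.leaf (0, 0))) (.node (.leaf (3096, 8)) (.leaf (0, 0)))))) (.node (.node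 (.node (.node (.leaf (461, 2)) (.leaf (3520, 10))) (.node (.leaf (2509, 5)) (.leaf (0, 0)))) (.node (.node (.leaf (1485, 10)) (.leaf (0, 0))) (.node (.leaf (3533, 4)) (.leaf (0, 0))))) (.node (.node (.node (.leaf (969, 10)) (.leaf (5069, 7))) (.node (.leaf (3021, 7)) (.leaf (0, 0)))) (.node (.node (.leaf (1997, 2)) (.leaf (0, 0))) (.node (.leaf (4045, 10)) (.leaf (0, 0))))))))) (.node (.node (.node (.node (.node (.node (.node (.leaf (45, 10)) (.leaf (4141, 10))) (.node (.leaf (2093, 4)) (.leaf (0, 0)))) (.node (.node (.leaf (1069, 3)) (.leaf (3730, 8))) (.node (.leaf (497, 8)) (.leaf (0, 0))))) (.node (.node (.node (.leaf (557, 4)) (.leaf (4653, 6))) (.node (.leaf (1118, 1)) (.leaf (0, 0)))) (.node (.node (.leaf (1581, 4)) (.leaf (0, 0))) (.node (.leaf (3629, 5)) (.leaf (0, 0)))))) (.node (.node (.node (.node (.leaf (301, 2)) (.leaf (4397, 6))) (.node (.leaf (1764, 5)) (.leaf (0, 0)))) (.node (.node (.leaf (1325, 5)) (.leaf (0, 0)))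 (.node (.leaf (3373, 6)) (.leaf (0, 0))))) (.node (.node (.node (.leaf (801, 7)) (.leaf (2619, 0))) (.node (.leaf (2861, 5)) (.leaf (0, 0)))) (.node (.node (.leaf (1767, 10)) (.leaf (0, 0))) (.node (.leaf (3885, 6)) (.leaf (0, 0))))))) (.node (.node (.node (.node (.node (.leaf (117, 4)) (.leaf (4269, 5))) (.node (.leaf (2221, 6)) (.leaf (0, 0)))) (.node (.node (.leaf (1197, 7)) (.leaf (0, 0))) (.node (.leaf (3245, 5)) (.leaf (0, 0))))) (.node (.node (.node (.leaf (558, 10)) (.leaf (4781, 6))) (.node (.leaf (167, 8)) (.leaf (0, 0)))) (.node (.node (.leaf (1664, 11)) (.leaf (0, 0))) (.node (.leaf (3757, 7)) (.leaf (0, 0)))))) (.node (.node (.node (.node (.leaf (429, 11)) (.leaf (1957, 6))) (.node (.leaf (2477, 4)) (.leaf (0, 0)))) (.node (.node (.leaf (1453, 8)) (.leaf (0, 0))) (.node (.leaf (3501, 8)) (.leaf (0, 0))))) (.node (.node (.node (.leaf (941, 9)) (.leaf (4718, 0))) (.node (.leaf (2989, 9)) (.leaf (0, 0)))) (.node (.node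 (.leaf (466, 7)) (.leaf (0, 0))) (.node (.leaf (4013, 8)) (.leaf (0, 0)))))))) (.node (.node (.node (.node (.node (.node (.leaf (107, 5)) (.leaf (3052, 6))) (.node (.leaf (2157, 5)) (.leaf (0, 0)))) (.node (.node (.leaf (1133, 7)) (.leaf (0, 0))) (.node (.leaf (3181, 10)) (.leaf (0, 0))))) (.node (.node (.node (.leaf (621, 5)) (.leaf (3289, 1))) (.node (.leaf (2669, 6)) (.leaf (0, 0)))) (.node (.node (.leaf (1645, 0)) (.leaf (0, 0))) (.node (.leaf (3693, 5)) (.leaf (0, 0)))))) (.node (.node (.node (.node (.leaf (365, 5)) (.leaf (4461, 7))) (.node (.leaf (1617, 6)) (.leaf (0, 0)))) (.node (.node (.leaf (1389, 2)) (.leaf (0, 0))) (.node (.leaf (3437, 6)) (.leaf (0, 0))))) (.node (.node (.node (.leaf (877, 4)) (.leaf (4973, 7))) (.node (.leaf (2925, 10)) (.leaf (0, 0)))) (.node (.node (.leaf (1901, 4)) (.leaf (0, 0))) (.node (.leaf (3756, 10)) (.leaf (0, 0))))))) (.node (.node (.node (.node (.node (.leaf (237, 5)) (.leaf (4333, 6)))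 (.node (.leaf (2285, 10)) (.leaf (0, 0)))) (.node (.node (.leaf (1261, 5)) (.leaf (0, 0))) (.node (.leaf (878, 7)) (.leaf (0, 0))))) (.node (.node (.node (.leaf (450, 10)) (.leaf (4845, 1))) (.node (.leaf (2760, 6)) (.leaf (0, 0)))) (.node (.node (.leaf (1590, 2)) (.leaf (0, 0))) (.node (.leaf (3820, 5)) (.leaf (0, 0)))))) (.node (.node (.node (.node (.leaf (493, 4)) (.leaf (4589, 5))) (.node (.leaf (2541, 6)) (.leaf (0, 0)))) (.node (.node (.leaf (1517, 7)) (.leaf (0, 0))) (.node (.leaf (3559, 7)) (.leaf (0, 0))))) (.node (.node (.node (.leaf (1005, 11)) (.leaf (5101, 10))) (.node (.leaf (3053, 7)) (.leaf (0, 0)))) (.node (.node (.leaf (2029, 10)) (.leaf (0, 0))) (.node (.leaf (4077, 4)) (.leaf (0, 0)))))))))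

def ptsPart14 : ATree (ℕ × ℕ) :=
  .node (.node (.node (.node (.node (.node (.node (.node (.leaf (14, 6)) (.leaf (977, 4))) (.node (.leaf (1468, 10)) (.leaf (0, 0)))) (.node (.node (.leaf (1038, 6)) (.leaf (5134, 10))) (.node (.leaf (954, 5)) (.leaf (0, 0))))) (.node (.node (.node (.leaf (526, 6)) (.leaf (4622, 4))) (.node (.leaf (2574, 2)) (.leaf (0, 0)))) (.node (.node (.leaf (1550, 10)) (.leaf (0, 0))) (.node (.leaf (3598, 5)) (.leaf (0, 0)))))) (.node (.node (.node (.node (.leaf (270, 8)) (.leaf (4366, 7))) (.node (.leaf (1206, 4)) (.leaf (0, 0)))) (.node (.node (.leaf (1294, 6)) (.leaf (0, 0))) (.node (.leaf (410, 7)) (.leaf (0, 0))))) (.node (.node (.node (.leaf (782, 5)) (.leaf (4878, 7))) (.node (.leaf (2830, 10)) (.leaf (0, 0)))) (.node (.node (.leaf (1806, 2)) (.leaf (0, 0))) (.node (.leaf (3854, 6)) (.leaf (0, 0))))))) (.node (.node (.node (.node (.node (.leaf (5, 10)) (.leaf (4238, 5))) (.node (.leaf (1778, 11)) (.leaf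 (0, 0)))) (.node (.node (.leaf (62, 7)) (.leaf (0, 0))) (.node (.leaf (3214, 6)) (.leaf (0, 0))))) (.node (.node (.node (.leaf (477, 11)) (.leaf (4750, 6))) (.node (.leaf (1405, 10)) (.leaf (0, 0)))) (.node (.node (.leaf (1678, 4)) (.leaf (0, 0))) (.node (.leaf (3719, 6)) (.leaf (0, 0)))))) (.node (.node (.node (.node (.leaf (398, 5)) (.leaf (4265, 5))) (.node (.leaf (2349, 11)) (.leaf (0, 0)))) (.node (.node (.leaf (1422, 10)) (.leaf (0, 0))) (.node (.leaf (3470, 4)) (.leaf (0, 0))))) (.node (.node (.node (.leaf (843, 11)) (.leaf (5006, 7))) (.node (.leaf (2958, 7)) (.leaf (0, 0)))) (.node (.node (.leaf (1934, 7)) (.leaf (0, 0))) (.node (.leaf (3140, 3)) (.leaf (0, 0)))))))) (.node (.node (.node (.node (.node (.node (.leaf (78, 1)) (.leaf (4174, 10))) (.node (.leaf (640, 8)) (.leaf (0, 0)))) (.node (.node (.leaf (1102, 5)) (.leaf (5198, 7))) (.node (.leaf (871, 7)) (.leaf (0, 0))))) (.node (.node (.node (.leaf (590, 7)) (.leaf (4686,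 5))) (.node (.leaf (2638, 4)) (.leaf (0, 0)))) (.node (.node (.leaf (566, 11)) (.leaf (0, 0))) (.node (.leaf (3662, 3)) (.leaf (0, 0)))))) (.node (.node (.node (.node (.leaf (334, 5)) (.leaf (4400, 10))) (.node (.leaf (2382, 10)) (.leaf (0, 0)))) (.node (.node (.leaf (1358, 9)) (.leaf (0, 0))) (.node (.leaf (3406, 8)) (.leaf (0, 0))))) (.node (.node (.node (.leaf (846, 10)) (.leaf (4942, 5))) (.node (.leaf (2894, 6)) (.leaf (0, 0)))) (.node (.node (.leaf (1870, 10)) (.leaf (0, 0))) (.node (.leaf (3918, 8)) (.leaf (0, 0))))))) (.node (.node (.node (.node (.node (.leaf (206, 7)) (.leaf (4302, 3))) (.node (.leaf (2254, 5)) (.leaf (0, 0)))) (.node (.node (.leaf (1230, 10)) (.leaf (0, 0))) (.node (.leaf (3278, 5)) (.leaf (0, 0))))) (.node (.node (.node (.leaf (718, 10)) (.leaf (1358, 1))) (.node (.leaf (2515, 9)) (.leaf (0, 0)))) (.node (.node (.leaf (1742, 10)) (.leaf (0, 0))) (.node (.leaf (3790, 7)) (.leaf (0, 0)))))) (.node (.node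 (.node (.node (.leaf (462, 10)) (.leaf (3521, 10))) (.node (.leaf (2510, 10)) (.leaf (0, 0)))) (.node (.node (.leaf (1486, 7)) (.leaf (0, 0))) (.node (.leaf (3534, 7)) (.leaf (0, 0))))) (.node (.node (.node (.leaf (974, 7)) (.leaf (1072, 5))) (.node (.leaf (3022, 6)) (.leaf (0, 0)))) (.node (.node (.leaf (1998, 9)) (.leaf (0, 0))) (.node (.leaf (3806, 5)) (.leaf (0, 0))))))))) (.node (.node (.node (.node (.node (.node (.node (.leaf (46, 11)) (.leaf (4142, 5))) (.node (.leaf (2094, 3)) (.leaf (0, 0)))) (.node (.node (.leaf (1070, 10)) (.leaf (5166, 7))) (.node (.leaf (3118, 9)) (.leaf (0, 0))))) (.node (.node (.node (.leaf (558, 3)) (.leaf (4654, 5))) (.node (.leaf (2606, 10)) (.leaf (0, 0)))) (.node (.node (.leaf (1582, 3)) (.leaf (0, 0))) (.node (.leaf (3557, 8)) (.leaf (0, 0)))))) (.node (.node (.node (.node (.leaf (291, 6)) (.leaf (4398, 5))) (.node (.leaf (1670, 5)) (.leaf (0, 0)))) (.node (.node (.leaf (1326, 7)) (.leaf (0,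 0))) (.node (.leaf (3374, 5)) (.leaf (0, 0))))) (.node (.node (.node (.leaf (814, 6)) (.leaf (4910, 10))) (.node (.leaf (2859, 6)) (.leaf (0, 0)))) (.node (.node (.leaf (1469, 10)) (.leaf (0, 0))) (.node (.leaf (3886, 8)) (.leaf (0, 0))))))) (.node (.node (.node (.node (.node (.leaf (116, 8)) (.leaf (4270, 6))) (.node (.leaf (2222, 5)) (.leaf (0, 0)))) (.node (.node (.leaf (1198, 6)) (.leaf (0, 0))) (.node (.leaf (2989, 3)) (.leaf (0, 0))))) (.node (.node (.node (.leaf (677, 2)) (.leaf (4782, 5))) (.node (.leaf (2734, 5)) (.leaf (0, 0)))) (.node (.node (.leaf (1688, 4)) (.leaf (0, 0))) (.node (.leaf (3729, 8)) (.leaf (0, 0)))))) (.node (.node (.node (.node (.leaf (430, 7)) (.leaf (4526, 5))) (.node (.leaf (2478, 3)) (.leaf (0, 0)))) (.node (.node (.leaf (1449, 7)) (.leaf (0, 0))) (.node (.leaf (3502, 5)) (.leaf (0, 0))))) (.node (.node (.node (.leaf (942, 7)) (.leaf (5038, 10))) (.node (.leaf (2990, 10)) (.leaf (0, 0)))) (.node (.node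 (.leaf (359, 10)) (.leaf (0, 0))) (.node (.leaf (414, 8)) (.leaf (0, 0)))))))) (.node (.node (.node (.node (.node (.node (.leaf (69, 10)) (.leaf (3054, 6))) (.node (.leaf (2055, 3)) (.leaf (0, 0)))) (.node (.node (.leaf (1134, 6)) (.leaf (0, 0))) (.node (.leaf (3182, 11)) (.leaf (0, 0))))) (.node (.node (.node (.leaf (305, 7)) (.leaf (4718, 9))) (.node (.leaf (2141, 5)) (.leaf (0, 0)))) (.node (.node (.leaf (1646, 10)) (.leaf (0, 0))) (.node (.leaf (3640, 8)) (.leaf (0, 0)))))) (.node (.node (.node (.node (.leaf (366, 6)) (.leaf (869, 7))) (.node (.leaf (642, 10)) (.leaf (0, 0)))) (.node (.node (.leaf (1390, 10)) (.leaf (0, 0))) (.node (.leaf (3438, 8)) (.leaf (0, 0))))) (.node (.node (.node (.leaf (878, 10)) (.leaf (4974, 6))) (.node (.leaf (2926, 11)) (.leaf (0, 0)))) (.node (.node (.leaf (1902, 3)) (.leaf (0, 0))) (.node (.leaf (2497, 9)) (.leaf (0, 0))))))) (.node (.node (.node (.node (.node (.leaf (238, 7)) (.leaf (4334, 5)))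 (.node (.leaf (1017, 4)) (.leaf (0, 0)))) (.node (.node (.leaf (1262, 6)) (.leaf (0, 0))) (.node (.leaf (863, 10)) (.leaf (0, 0))))) (.node (.node (.node (.leaf (750, 5)) (.leaf (4846, 9))) (.node (.leaf (2798, 5)) (.leaf (0, 0)))) (.node (.node (.leaf (1155, 11)) (.leaf (0, 0))) (.node (.leaf (3822, 7)) (.leaf (0, 0)))))) (.node (.node (.node (.node (.leaf (468, 7)) (.leaf (4590, 4))) (.node (.leaf (2542, 5)) (.leaf (0, 0)))) (.node (.node (.leaf (1489, 7)) (.leaf (0, 0))) (.node (.leaf (3044, 8)) (.leaf (0, 0))))) (.node (.node (.node (.leaf (1004, 9)) (.leaf (1054, 10))) (.node (.leaf (751, 7)) (.leaf (0, 0)))) (.node (.node (.leaf (2030, 5)) (.leaf (0, 0))) (.node (.leaf (4078, 3)) (.leaf (0, 0)))))))))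

def ptsPart15 : ATree (ℕ × ℕ) :=
  .node (.node (.node (.node (.node (.node (.node (.node (.leaf (15, 8)) (.leaf (4111, 10))) (.node (.leaf (2063, 5)) (.leaf (0, 0)))) (.node (.node (.leaf (1039, 8)) (.leaf (5135, 5))) (.node (.leaf (950, 7)) (.leaf (0, 0))))) (.node (.node (.node (.leaf (527, 5)) (.leaf (4623, 10))) (.node (.leaf (2575, 1)) (.leaf (0, 0)))) (.node (.node (.leaf (1551, 5)) (.leaf (0, 0))) (.node (.leaf (419, 5)) (.leaf (0, 0)))))) (.node (.node (.node (.node (.leaf (271, 5)) (.leaf (4347, 10))) (.node (.leaf (2319, 7)) (.leaf (0, 0)))) (.node (.node (.leaf (1295, 4)) (.leaf (0, 0))) (.node (.leaf (3343, 6)) (.leaf (0, 0))))) (.node (.node (.node (.leaf (562, 10)) (.leaf (2604, 7))) (.node (.leaf (993, 9)) (.leaf (0, 0)))) (.node (.node (.leaf (1488, 5)) (.leaf (0, 0))) (.node (.leaf (3855, 8)) (.leaf (0, 0))))))) (.node (.node (.node (.node (.node (.leaf (142, 10)) (.leaf (4239, 6))) (.node (.leaf (1838, 11)) (.leaf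 (0, 0)))) (.node (.node (.leaf (1167, 6)) (.leaf (0, 0))) (.node (.leaf (3215, 5)) (.leaf (0, 0))))) (.node (.node (.node (.leaf (72, 4)) (.leaf (4049, 1))) (.node (.leaf (1697, 11)) (.leaf (0, 0)))) (.node (.node (.leaf (1675, 10)) (.leaf (0, 0))) (.node (.leaf (2792, 7)) (.leaf (0, 0)))))) (.node (.node (.node (.node (.leaf (399, 9)) (.leaf (4495, 4))) (.node (.leaf (1584, 11)) (.leaf (0, 0)))) (.node (.node (.leaf (1423, 5)) (.leaf (0, 0))) (.node (.leaf (3466, 4)) (.leaf (0, 0))))) (.node (.node (.node (.leaf (840, 7)) (.leaf (5007, 6))) (.node (.leaf (2959, 6)) (.leaf (0, 0)))) (.node (.node (.leaf (1935, 6)) (.leaf (0, 0))) (.node (.leaf (3983, 9)) (.leaf (0, 0)))))))) (.node (.node (.node (.node (.node (.node (.leaf (79, 2)) (.leaf (3110, 11))) (.node (.leaf (2125, 9)) (.leaf (0, 0)))) (.node (.node (.leaf (1103, 4)) (.leaf (5199, 6))) (.node (.leaf (3151, 6)) (.leaf (0, 0))))) (.node (.node (.node (.leaf (591, 6)) (.leaf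 (4655, 10))) (.node (.leaf (2636, 5)) (.leaf (0, 0)))) (.node (.node (.leaf (850, 5)) (.leaf (0, 0))) (.node (.leaf (3663, 7)) (.leaf (0, 0)))))) (.node (.node (.node (.node (.leaf (335, 4)) (.leaf (4431, 5))) (.node (.leaf (2383, 5)) (.leaf (0, 0)))) (.node (.node (.leaf (1359, 10)) (.leaf (0, 0))) (.node (.leaf (3407, 5)) (.leaf (0, 0))))) (.node (.node (.node (.leaf (399, 10)) (.leaf (4943, 4))) (.node (.leaf (2895, 7)) (.leaf (0, 0)))) (.node (.node (.leaf (1871, 5)) (.leaf (0, 0))) (.node (.leaf (3919, 5)) (.leaf (0, 0))))))) (.node (.node (.node (.node (.node (.leaf (207, 6)) (.leaf (3600, 6))) (.node (.leaf (2255, 6)) (.leaf (0, 0)))) (.node (.node (.leaf (1231, 11)) (.leaf (0, 0))) (.node (.leaf (3279, 10)) (.leaf (0, 0))))) (.node (.node (.node (.leaf (719, 5)) (.leaf (4815, 9))) (.node (.leaf (175, 9)) (.leaf (0, 0)))) (.node (.node (.leaf (1422, 1)) (.leaf (0, 0))) (.node (.leaf (3138, 8)) (.leaf (0, 0)))))) (.node (.node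 (.node (.node (.leaf (463, 11)) (.leaf (2112, 7))) (.node (.leaf (386, 10)) (.leaf (0, 0)))) (.node (.node (.leaf (1487, 6)) (.leaf (0, 0))) (.node (.leaf (401, 7)) (.leaf (0, 0))))) (.node (.node (.node (.leaf (975, 6)) (.leaf (5071, 6))) (.node (.leaf (3023, 5)) (.leaf (0, 0)))) (.node (.node (.leaf (1999, 10)) (.leaf (0, 0))) (.node (.leaf (4044, 6)) (.leaf (0, 0))))))))) (.node (.node (.node (.node (.node (.node (.node (.leaf (47, 5)) (.leaf (4143, 6))) (.node (.leaf (2095, 10)) (.leaf (0, 0)))) (.node (.node (.leaf (1055, 10)) (.leaf (2777, 8))) (.node (.leaf (202, 9)) (.leaf (0, 0))))) (.node (.node (.node (.leaf (559, 2)) (.leaf (4655, 4))) (.node (.leaf (2607, 5)) (.leaf (0, 0)))) (.node (.node (.leaf (1583, 10)) (.leaf (0, 0))) (.node (.leaf (3601, 8)) (.leaf (0, 0)))))) (.node (.node (.node (.node (.leaf (303, 7)) (.leaf (4399, 4))) (.node (.leaf (1669, 10)) (.leaf (0, 0)))) (.node (.node (.leaf (1327, 6)) (.leaf (0, 0)))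 (.node (.leaf (3365, 5)) (.leaf (0, 0))))) (.node (.node (.node (.leaf (93, 9)) (.leaf (1742, 0))) (.node (.leaf (2863, 7)) (.leaf (0, 0)))) (.node (.node (.leaf (1839, 7)) (.leaf (0, 0))) (.node (.leaf (3887, 7)) (.leaf (0, 0))))))) (.node (.node (.node (.node (.node (.leaf (175, 5)) (.leaf (4271, 7))) (.node (.leaf (2208, 11)) (.leaf (0, 0)))) (.node (.node (.leaf (1197, 5)) (.leaf (0, 0))) (.node (.leaf (3247, 10)) (.leaf (0, 0))))) (.node (.node (.node (.leaf (528, 4)) (.leaf (4478, 11))) (.node (.leaf (2735, 9)) (.leaf (0, 0)))) (.node (.node (.leaf (1711, 10)) (.leaf (0, 0))) (.node (.leaf (3759, 7)) (.leaf (0, 0)))))) (.node (.node (.node (.node (.leaf (406, 5)) (.leaf (4527, 10))) (.node (.leaf (2479, 10)) (.leaf (0, 0)))) (.node (.node (.leaf (1455, 8)) (.leaf (0, 0))) (.node (.leaf (3503, 4)) (.leaf (0, 0))))) (.node (.node (.node (.leaf (942, 10)) (.leaf (5039, 7))) (.node (.leaf (2991, 5)) (.leaf (0, 0)))) (.node (.node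 (.leaf (1967, 5)) (.leaf (0, 0))) (.node (.leaf (3903, 7)) (.leaf (0, 0)))))))) (.node (.node (.node (.node (.node (.node (.leaf (111, 5)) (.leaf (3055, 6))) (.node (.leaf (2071, 3)) (.leaf (0, 0)))) (.node (.node (.leaf (1133, 4)) (.leaf (0, 0))) (.node (.leaf (3183, 7)) (.leaf (0, 0))))) (.node (.node (.node (.leaf (623, 6)) (.leaf (4719, 0))) (.node (.leaf (2671, 6)) (.leaf (0, 0)))) (.node (.node (.leaf (1647, 5)) (.leaf (0, 0))) (.node (.leaf (3683, 8)) (.leaf (0, 0)))))) (.node (.node (.node (.node (.leaf (367, 7)) (.leaf (4463, 6))) (.node (.leaf (1616, 6)) (.leaf (0, 0)))) (.node (.node (.leaf (1391, 5)) (.leaf (0, 0))) (.node (.leaf (3439, 7)) (.leaf (0, 0))))) (.node (.node (.node (.leaf (879, 11)) (.leaf (1684, 11))) (.node (.leaf (2919, 10)) (.leaf (0, 0)))) (.node (.node (.leaf (1903, 2)) (.leaf (0, 0))) (.node (.leaf (3951, 10)) (.leaf (0, 0))))))) (.node (.node (.node (.node (.node (.leaf (239, 6)) (.leaf (2725, 9)))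 (.node (.leaf (2287, 10)) (.leaf (0, 0)))) (.node (.node (.leaf (1263, 4)) (.leaf (0, 0))) (.node (.leaf (3311, 11)) (.leaf (0, 0))))) (.node (.node (.node (.leaf (684, 5)) (.leaf (1568, 8))) (.node (.leaf (2780, 7)) (.leaf (0, 0)))) (.node (.node (.leaf (1605, 4)) (.leaf (0, 0))) (.node (.leaf (3823, 6)) (.leaf (0, 0)))))) (.node (.node (.node (.node (.leaf (495, 6)) (.leaf (4583, 5))) (.node (.leaf (2543, 4)) (.leaf (0, 0)))) (.node (.node (.leaf (1164, 6)) (.leaf (0, 0))) (.node (.leaf (3567, 7)) (.leaf (0, 0))))) (.node (.node (.node (.leaf (1007, 10)) (.leaf (5103, 11))) (.node (.leaf (2124, 9)) (.leaf (0, 0)))) (.node (.node (.leaf (2031, 4)) (.leaf (0, 0))) (.node (.leaf (4076, 8)) (.leaf (0, 0)))))))))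

def ptsPart16 : ATree (ℕ × ℕ) :=
  .node (.node (.node (.node (.node (.node (.node (.node (.leaf (16, 5)) (.leaf (4112, 11))) (.node (.leaf (2064, 4)) (.leaf (0, 0)))) (.node (.node (.leaf (1040, 5)) (.leaf (5136, 6))) (.node (.leaf (3088, 6)) (.leaf (0, 0))))) (.node (.node (.node (.leaf (151, 11)) (.leaf (4624, 5))) (.node (.leaf (2576, 9)) (.leaf (0, 0)))) (.node (.node (.leaf (1552, 4)) (.leaf (0, 0))) (.node (.leaf (3600, 7)) (.leaf (0, 0)))))) (.node (.node (.node (.node (.leaf (272, 4)) (.leaf (783, 6))) (.node (.leaf (2320, 6)) (.leaf (0, 0)))) (.node (.node (.leaf (1296, 5)) (.leaf (0, 0))) (.node (.leaf (436, 7)) (.leaf (0, 0))))) (.node (.node (.node (.leaf (784, 11)) (.leaf (2605, 7))) (.node (.leaf (1012, 9)) (.leaf (0, 0)))) (.node (.node (.leaf (1808, 4)) (.leaf (0, 0))) (.node (.leaf (3856, 5)) (.leaf (0, 0))))))) (.node (.node (.node (.node (.node (.leaf (94, 8)) (.leaf (4240, 7))) (.node (.leaf (1876, 10)) (.leaf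 (0, 0)))) (.node (.node (.leaf (42, 5)) (.leaf (0, 0))) (.node (.leaf (3216, 4)) (.leaf (0, 0))))) (.node (.node (.node (.leaf (656, 10)) (.leaf (4752, 9))) (.node (.leaf (2704, 5)) (.leaf (0, 0)))) (.node (.node (.leaf (1680, 5)) (.leaf (0, 0))) (.node (.leaf (3728, 6)) (.leaf (0, 0)))))) (.node (.node (.node (.node (.leaf (400, 10)) (.leaf (4496, 3))) (.node (.leaf (1530, 10)) (.leaf (0, 0)))) (.node (.node (.leaf (1070, 2)) (.leaf (0, 0))) (.node (.leaf (3472, 10)) (.leaf (0, 0))))) (.node (.node (.node (.leaf (535, 8)) (.leaf (5008, 5))) (.node (.leaf (2960, 5)) (.leaf (0, 0)))) (.node (.node (.leaf (1936, 8)) (.leaf (0, 0))) (.node (.leaf (3984, 7)) (.leaf (0, 0)))))))) (.node (.node (.node (.node (.node (.node (.leaf (80, 3)) (.leaf (4176, 7))) (.node (.leaf (2128, 10)) (.leaf (0, 0)))) (.node (.node (.leaf (1104, 3)) (.leaf (2483, 11))) (.node (.leaf (3152, 5)) (.leaf (0, 0))))) (.node (.node (.node (.leaf (592, 5)) (.leaf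 (4311, 3))) (.node (.leaf (2640, 4)) (.leaf (0, 0)))) (.node (.node (.leaf (566, 5)) (.leaf (0, 0))) (.node (.leaf (3664, 6)) (.leaf (0, 0)))))) (.node (.node (.node (.node (.leaf (336, 10)) (.leaf (4432, 6))) (.node (.leaf (2384, 6)) (.leaf (0, 0)))) (.node (.node (.leaf (1360, 5)) (.leaf (0, 0))) (.node (.leaf (3408, 10)) (.leaf (0, 0))))) (.node (.node (.node (.leaf (614, 4)) (.leaf (2629, 0))) (.node (.leaf (427, 1)) (.leaf (0, 0)))) (.node (.node (.leaf (1872, 6)) (.leaf (0, 0))) (.node (.leaf (3920, 4)) (.leaf (0, 0))))))) (.node (.node (.node (.node (.node (.leaf (208, 8)) (.leaf (1325, 11))) (.node (.leaf (2256, 7)) (.leaf (0, 0)))) (.node (.node (.leaf (1232, 5)) (.leaf (0, 0))) (.node (.leaf (2135, 7)) (.leaf (0, 0))))) (.node (.node (.node (.leaf (625, 10)) (.leaf (4816, 10))) (.node (.leaf (2768, 7)) (.leaf (0, 0)))) (.node (.node (.leaf (1744, 0)) (.leaf (0, 0))) (.node (.leaf (3792, 7)) (.leaf (0, 0)))))) (.node (.node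 (.node (.node (.leaf (439, 10)) (.leaf (4560, 6))) (.node (.leaf (2512, 11)) (.leaf (0, 0)))) (.node (.node (.leaf (1488, 8)) (.leaf (0, 0))) (.node (.leaf (3536, 6)) (.leaf (0, 0))))) (.node (.node (.node (.leaf (976, 5)) (.leaf (5072, 4))) (.node (.leaf (884, 11)) (.leaf (0, 0)))) (.node (.node (.leaf (2000, 5)) (.leaf (0, 0))) (.node (.leaf (3983, 2)) (.leaf (0, 0))))))))) (.node (.node (.node (.node (.node (.node (.node (.leaf (48, 10)) (.leaf (979, 11))) (.node (.leaf (2096, 5)) (.leaf (0, 0)))) (.node (.node (.leaf (1072, 7)) (.leaf (5166, 5))) (.node (.leaf (145, 9)) (.leaf (0, 0))))) (.node (.node (.node (.leaf (560, 10)) (.leaf (4656, 3))) (.node (.leaf (2608, 6)) (.leaf (0, 0)))) (.node (.node (.leaf (243, 10)) (.leaf (0, 0))) (.node (.leaf (400, 7)) (.leaf (0, 0)))))) (.node (.node (.node (.node (.leaf (11, 2)) (.leaf (4400, 3))) (.node (.leaf (2352, 5)) (.leaf (0, 0)))) (.node (.node (.leaf (1328, 5)) (.leaf (0, 0)))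 (.node (.leaf (3376, 4)) (.leaf (0, 0))))) (.node (.node (.node (.leaf (816, 7)) (.leaf (1557, 10))) (.node (.leaf (2864, 6)) (.leaf (0, 0)))) (.node (.node (.leaf (1840, 6)) (.leaf (0, 0))) (.node (.leaf (3885, 8)) (.leaf (0, 0))))))) (.node (.node (.node (.node (.node (.leaf (176, 4)) (.leaf (4253, 8))) (.node (.leaf (2224, 7)) (.leaf (0, 0)))) (.node (.node (.leaf (1200, 7)) (.leaf (0, 0))) (.node (.leaf (3248, 11)) (.leaf (0, 0))))) (.node (.node (.node (.leaf (688, 3)) (.leaf (4784, 7))) (.node (.leaf (2736, 10)) (.leaf (0, 0)))) (.node (.node (.leaf (1712, 11)) (.leaf (0, 0))) (.node (.leaf (3733, 8)) (.leaf (0, 0)))))) (.node (.node (.node (.node (.leaf (432, 7)) (.leaf (4212, 10))) (.node (.leaf (2480, 5)) (.leaf (0, 0)))) (.node (.node (.leaf (1445, 5)) (.leaf (0, 0))) (.node (.leaf (3504, 3)) (.leaf (0, 0))))) (.node (.node (.node (.leaf (944, 7)) (.leaf (5040, 6))) (.node (.leaf (2992, 7)) (.leaf (0, 0)))) (.node (.node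 (.leaf (1968, 4)) (.leaf (0, 0))) (.node (.leaf (382, 8)) (.leaf (0, 0)))))))) (.node (.node (.node (.node (.node (.node (.leaf (112, 4)) (.leaf (453, 7))) (.node (.leaf (2079, 3)) (.leaf (0, 0)))) (.node (.node (.leaf (1136, 7)) (.leaf (0, 0))) (.node (.leaf (3184, 6)) (.leaf (0, 0))))) (.node (.node (.node (.leaf (624, 5)) (.leaf (4720, 7))) (.node (.leaf (2130, 5)) (.leaf (0, 0)))) (.node (.node (.leaf (1544, 11)) (.leaf (0, 0))) (.node (.leaf (3694, 10)) (.leaf (0, 0)))))) (.node (.node (.node (.node (.leaf (104, 9)) (.leaf (868, 7))) (.node (.leaf (700, 6)) (.leaf (0, 0)))) (.node (.node (.leaf (1392, 7)) (.leaf (0, 0))) (.node (.leaf (2690, 7)) (.leaf (0, 0))))) (.node (.node (.node (.leaf (878, 9)) (.leaf (4976, 5))) (.node (.leaf (2928, 5)) (.leaf (0, 0)))) (.node (.node (.leaf (1904, 1)) (.leaf (0, 0))) (.node (.leaf (2496, 9)) (.leaf (0, 0))))))) (.node (.node (.node (.node (.node (.leaf (240, 5)) (.leaf (4290, 7))) (.node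 (.leaf (2288, 5)) (.leaf (0, 0)))) (.node (.node (.leaf (1264, 5)) (.leaf (0, 0))) (.node (.leaf (844, 11)) (.leaf (0, 0))))) (.node (.node (.node (.leaf (585, 11)) (.leaf (2262, 1))) (.node (.leaf (2779, 9)) (.leaf (0, 0)))) (.node (.node (.leaf (1738, 5)) (.leaf (0, 0))) (.node (.leaf (3092, 6)) (.leaf (0, 0)))))) (.node (.node (.node (.node (.leaf (467, 7)) (.leaf (3456, 5))) (.node (.leaf (2544, 10)) (.leaf (0, 0)))) (.node (.node (.leaf (1520, 7)) (.leaf (0, 0))) (.node (.leaf (3567, 5)) (.leaf (0, 0))))) (.node (.node (.node (.leaf (1008, 11)) (.leaf (5104, 5))) (.node (.leaf (3056, 10)) (.leaf (0, 0)))) (.node (.node (.leaf (2032, 7)) (.leaf (0, 0))) (.node (.leaf (4080, 5)) (.leaf (0, 0)))))))))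

def ptsPart17 : ATree (ℕ × ℕ) :=
  .node (.node (.node (.node (.node (.node (.node (.node (.leaf (17, 4)) (.leaf (3531, 5))) (.node (.leaf (2065, 7)) (.leaf (0, 0)))) (.node (.node (.leaf (1041, 4)) (.leaf (1605, 6))) (.node (.leaf (953, 7)) (.leaf (0, 0))))) (.node (.node (.node (.leaf (132, 1)) (.leaf (4623, 3))) (.node (.leaf (2577, 0)) (.leaf (0, 0)))) (.node (.node (.leaf (205, 7)) (.leaf (0, 0))) (.node (.leaf (3601, 6)) (.leaf (0, 0)))))) (.node (.node (.node (.node (.leaf (273, 3)) (.leaf (2453, 4))) (.node (.leaf (1496, 10)) (.leaf (0, 0)))) (.node (.node (.leaf (1294, 4)) (.leaf (0, 0))) (.node (.leaf (3345, 6)) (.leaf (0, 0))))) (.node (.node (.node (.leaf (567, 11)) (.leaf (4881, 6))) (.node (.leaf (311, 9)) (.leaf (0, 0)))) (.node (.node (.leaf (1809, 3)) (.leaf (0, 0))) (.node (.leaf (3857, 4)) (.leaf (0, 0))))))) (.node (.node (.node (.node (.node (.leaf (99, 7)) (.leaf (4241, 6))) (.node (.leaf (235, 10)) (.leaf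 (0, 0)))) (.node (.node (.leaf (1169, 4)) (.leaf (0, 0))) (.node (.leaf (3217, 10)) (.leaf (0, 0))))) (.node (.node (.node (.leaf (657, 7)) (.leaf (3811, 5))) (.node (.leaf (1695, 10)) (.leaf (0, 0)))) (.node (.node (.leaf (1674, 10)) (.leaf (0, 0))) (.node (.leaf (2777, 6)) (.leaf (0, 0)))))) (.node (.node (.node (.node (.leaf (401, 11)) (.leaf (4497, 10))) (.node (.leaf (1702, 6)) (.leaf (0, 0)))) (.node (.node (.leaf (1425, 10)) (.leaf (0, 0))) (.node (.leaf (3473, 7)) (.leaf (0, 0))))) (.node (.node (.node (.leaf (913, 9)) (.leaf (5009, 10))) (.node (.leaf (2961, 4)) (.leaf (0, 0)))) (.node (.node (.leaf (1937, 5)) (.leaf (0, 0))) (.node (.leaf (3985, 6)) (.leaf (0, 0)))))))) (.node (.node (.node (.node (.node (.node (.leaf (81, 10)) (.leaf (847, 11))) (.node (.leaf (422, 10)) (.leaf (0, 0)))) (.node (.node (.leaf (1105, 9)) (.leaf (18, 10))) (.node (.leaf (3153, 10)) (.leaf (0, 0))))) (.node (.node (.node (.leaf (593, 4)) (.leaf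 (4601, 6))) (.node (.leaf (592, 8)) (.leaf (0, 0)))) (.node (.node (.leaf (683, 11)) (.leaf (0, 0))) (.node (.leaf (3665, 5)) (.leaf (0, 0)))))) (.node (.node (.node (.node (.leaf (337, 5)) (.leaf (4433, 7))) (.node (.leaf (322, 10)) (.leaf (0, 0)))) (.node (.node (.leaf (1361, 7)) (.leaf (0, 0))) (.node (.leaf (3409, 7)) (.leaf (0, 0))))) (.node (.node (.node (.leaf (849, 10)) (.leaf (4945, 10))) (.node (.leaf (2897, 9)) (.leaf (0, 0)))) (.node (.node (.leaf (1873, 7)) (.leaf (0, 0))) (.node (.leaf (3921, 7)) (.leaf (0, 0))))))) (.node (.node (.node (.node (.node (.leaf (209, 5)) (.leaf (2293, 6))) (.node (.leaf (704, 8)) (.leaf (0, 0)))) (.node (.node (.leaf (1233, 6)) (.leaf (0, 0))) (.node (.leaf (3281, 6)) (.leaf (0, 0))))) (.node (.node (.node (.leaf (573, 5)) (.leaf (4817, 7))) (.node (.leaf (115, 8)) (.leaf (0, 0)))) (.node (.node (.leaf (1669, 1)) (.leaf (0, 0))) (.node (.leaf (3137, 8)) (.leaf (0, 0)))))) (.node (.node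 (.node (.node (.leaf (465, 11)) (.leaf (4561, 5))) (.node (.leaf (387, 10)) (.leaf (0, 0)))) (.node (.node (.leaf (1489, 5)) (.leaf (0, 0))) (.node (.leaf (3537, 8)) (.leaf (0, 0))))) (.node (.node (.node (.leaf (977, 10)) (.leaf (5073, 7))) (.node (.leaf (3025, 7)) (.leaf (0, 0)))) (.node (.node (.leaf (2001, 4)) (.leaf (0, 0))) (.node (.leaf (4049, 9)) (.leaf (0, 0))))))))) (.node (.node (.node (.node (.node (.node (.node (.leaf (49, 7)) (.leaf (4145, 5))) (.node (.leaf (2097, 6)) (.leaf (0, 0)))) (.node (.node (.leaf (1073, 6)) (.leaf (5169, 7))) (.node (.leaf (813, 5)) (.leaf (0, 0))))) (.node (.node (.node (.leaf (408, 5)) (.leaf (3682, 6))) (.node (.leaf (2606, 9)) (.leaf (0, 0)))) (.node (.node (.leaf (1585, 7)) (.leaf (0, 0))) (.node (.leaf (3633, 6)) (.leaf (0, 0)))))) (.node (.node (.node (.node (.leaf (305, 10)) (.leaf (4401, 10))) (.node (.leaf (574, 3)) (.leaf (0, 0)))) (.node (.node (.leaf (1329, 4)) (.leaf (0, 0)))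 (.node (.leaf (3375, 10)) (.leaf (0, 0))))) (.node (.node (.node (.leaf (196, 9)) (.leaf (4913, 11))) (.node (.leaf (2865, 5)) (.leaf (0, 0)))) (.node (.node (.leaf (1757, 5)) (.leaf (0, 0))) (.node (.leaf (3129, 8)) (.leaf (0, 0))))))) (.node (.node (.node (.node (.node (.leaf (160, 1)) (.leaf (4264, 8))) (.node (.leaf (2225, 6)) (.leaf (0, 0)))) (.node (.node (.leaf (274, 2)) (.leaf (0, 0))) (.node (.leaf (3249, 7)) (.leaf (0, 0))))) (.node (.node (.node (.leaf (689, 2)) (.leaf (4785, 6))) (.node (.leaf (2737, 11)) (.leaf (0, 0)))) (.node (.node (.leaf (1713, 5)) (.leaf (0, 0))) (.node (.leaf (3761, 7)) (.leaf (0, 0)))))) (.node (.node (.node (.node (.leaf (433, 6)) (.leaf (4458, 6))) (.node (.leaf (2481, 7)) (.leaf (0, 0)))) (.node (.node (.leaf (1457, 6)) (.leaf (0, 0))) (.node (.leaf (3505, 10)) (.leaf (0, 0))))) (.node (.node (.node (.leaf (940, 9)) (.leaf (637, 1))) (.node (.leaf (2993, 6)) (.leaf (0, 0)))) (.node (.node (.leaf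 (1969, 7)) (.leaf (0, 0))) (.node (.leaf (4017, 5)) (.leaf (0, 0)))))))) (.node (.node (.node (.node (.node (.node (.leaf (113, 3)) (.leaf (4209, 6))) (.node (.leaf (2081, 3)) (.leaf (0, 0)))) (.node (.node (.leaf (1137, 6)) (.leaf (0, 0))) (.node (.leaf (3185, 5)) (.leaf (0, 0))))) (.node (.node (.node (.leaf (622, 10)) (.leaf (4721, 6))) (.node (.leaf (2673, 6)) (.leaf (0, 0)))) (.node (.node (.leaf (1529, 10)) (.leaf (0, 0))) (.node (.leaf (373, 8)) (.leaf (0, 0)))))) (.node (.node (.node (.node (.leaf (369, 10)) (.leaf (870, 7))) (.node (.leaf (1619, 10)) (.leaf (0, 0)))) (.node (.node (.leaf (1393, 6)) (.leaf (0, 0))) (.node (.leaf (3441, 6)) (.leaf (0, 0))))) (.node (.node (.node (.leaf (881, 10)) (.leaf (4977, 4))) (.node (.leaf (2922, 9)) (.leaf (0, 0)))) (.node (.node (.leaf (1905, 7)) (.leaf (0, 0))) (.node (.leaf (2509, 9)) (.leaf (0, 0))))))) (.node (.node (.node (.node (.node (.leaf (111, 11)) (.leaf (4337, 6))) (.node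 (.leaf (1022, 5)) (.leaf (0, 0)))) (.node (.node (.leaf (1265, 7)) (.leaf (0, 0))) (.node (.leaf (839, 7)) (.leaf (0, 0))))) (.node (.node (.node (.leaf (753, 5)) (.leaf (4849, 9))) (.node (.leaf (161, 8)) (.leaf (0, 0)))) (.node (.node (.leaf (1744, 10)) (.leaf (0, 0))) (.node (.leaf (3825, 8)) (.leaf (0, 0)))))) (.node (.node (.node (.node (.leaf (80, 10)) (.leaf (4593, 4))) (.node (.leaf (2545, 5)) (.leaf (0, 0)))) (.node (.node (.leaf (1521, 6)) (.leaf (0, 0))) (.node (.leaf (3569, 7)) (.leaf (0, 0))))) (.node (.node (.node (.leaf (995, 10)) (.leaf (5105, 10))) (.node (.leaf (2123, 9)) (.leaf (0, 0)))) (.node (.node (.leaf (2033, 6)) (.leaf (0, 0))) (.node (.leaf (4081, 4)) (.leaf (0, 0)))))))))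

def ptsPart18 : ATree (ℕ × ℕ) :=
  .node (.node (.node (.node (.node (.node (.node (.node (.leaf (18, 3)) (.leaf (4114, 4))) (.node (.leaf (2066, 6)) (.leaf (0, 0)))) (.node (.node (.leaf (1042, 7)) (.leaf (5138, 4))) (.node (.leaf (874, 9)) (.leaf (0, 0))))) (.node (.node (.node (.leaf (350, 10)) (.leaf (4626, 10))) (.node (.leaf (2578, 7)) (.leaf (0, 0)))) (.node (.node (.leaf (1554, 6)) (.leaf (0, 0))) (.node (.leaf (3602, 8)) (.leaf (0, 0)))))) (.node (.node (.node (.node (.leaf (274, 9)) (.leaf (4355, 10))) (.node (.leaf (2322, 11)) (.leaf (0, 0)))) (.node (.node (.leaf (1204, 7)) (.leaf (0, 0))) (.node (.leaf (980, 7)) (.leaf (0, 0))))) (.node (.node (.node (.leaf (568, 11)) (.leaf (2618, 7))) (.node (.leaf (2834, 10)) (.leaf (0, 0)))) (.node (.node (.leaf (1810, 2)) (.leaf (0, 0))) (.node (.leaf (3858, 10)) (.leaf (0, 0))))))) (.node (.node (.node (.node (.node (.leaf (146, 8)) (.leaf (3508, 6))) (.node (.leaf (226, 7)) (.leaf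 (0, 0)))) (.node (.node (.leaf (1170, 3)) (.leaf (0, 0))) (.node (.leaf (1463, 8)) (.leaf (0, 0))))) (.node (.node (.node (.leaf (657, 11)) (.leaf (2535, 9))) (.node (.leaf (2620, 11)) (.leaf (0, 0)))) (.node (.node (.leaf (1676, 2)) (.leaf (0, 0))) (.node (.leaf (2774, 6)) (.leaf (0, 0)))))) (.node (.node (.node (.node (.leaf (402, 7)) (.leaf (4498, 5))) (.node (.leaf (1783, 6)) (.leaf (0, 0)))) (.node (.node (.leaf (1426, 5)) (.leaf (0, 0))) (.node (.leaf (3474, 6)) (.leaf (0, 0))))) (.node (.node (.node (.leaf (842, 7)) (.leaf (4747, 10))) (.node (.leaf (2962, 3)) (.leaf (0, 0)))) (.node (.node (.leaf (1933, 7)) (.leaf (0, 0))) (.node (.leaf (3986, 8)) (.leaf (0, 0)))))))) (.node (.node (.node (.node (.node (.node (.leaf (75, 5)) (.leaf (2134, 7))) (.node (.leaf (2130, 11)) (.leaf (0, 0)))) (.node (.node (.leaf (1106, 10)) (.leaf (5202, 11))) (.node (.leaf (3008, 10)) (.leaf (0, 0))))) (.node (.node (.node (.leaf (594, 3)) (.leaf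 (4596, 6))) (.node (.leaf (2642, 5)) (.leaf (0, 0)))) (.node (.node (.leaf (1618, 5)) (.leaf (0, 0))) (.node (.leaf (3666, 4)) (.leaf (0, 0)))))) (.node (.node (.node (.node (.leaf (338, 6)) (.leaf (2643, 10))) (.node (.leaf (312, 10)) (.leaf (0, 0)))) (.node (.node (.leaf (1362, 6)) (.leaf (0, 0))) (.node (.leaf (3410, 6)) (.leaf (0, 0))))) (.node (.node (.node (.leaf (517, 10)) (.leaf (4946, 5))) (.node (.leaf (2898, 10)) (.leaf (0, 0)))) (.node (.node (.leaf (1874, 8)) (.leaf (0, 0))) (.node (.leaf (3922, 6)) (.leaf (0, 0))))))) (.node (.node (.node (.node (.node (.leaf (210, 4)) (.leaf (4302, 10))) (.node (.leaf (2258, 5)) (.leaf (0, 0)))) (.node (.node (.leaf (1234, 4)) (.leaf (0, 0))) (.node (.leaf (2136, 7)) (.leaf (0, 0))))) (.node (.node (.node (.leaf (571, 10)) (.leaf (4818, 6))) (.node (.leaf (2770, 9)) (.leaf (0, 0)))) (.node (.node (.leaf (1746, 0)) (.leaf (0, 0))) (.node (.leaf (3142, 8)) (.leaf (0, 0)))))) (.node (.node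 (.node (.node (.leaf (88, 11)) (.leaf (4562, 4))) (.node (.leaf (120, 8)) (.leaf (0, 0)))) (.node (.node (.leaf (1490, 4)) (.leaf (0, 0))) (.node (.leaf (3538, 5)) (.leaf (0, 0))))) (.node (.node (.node (.leaf (437, 10)) (.leaf (1083, 6))) (.node (.leaf (3026, 6)) (.leaf (0, 0)))) (.node (.node (.leaf (2002, 7)) (.leaf (0, 0))) (.node (.leaf (4050, 7)) (.leaf (0, 0))))))))) (.node (.node (.node (.node (.node (.node (.node (.leaf (50, 6)) (.leaf (4146, 7))) (.node (.leaf (1973, 4)) (.leaf (0, 0)))) (.node (.node (.leaf (1063, 7)) (.leaf (2798, 8))) (.node (.leaf (2750, 5)) (.leaf (0, 0))))) (.node (.node (.node (.leaf (562, 4)) (.leaf (4658, 7))) (.node (.leaf (2610, 10)) (.leaf (0, 0)))) (.node (.node (.leaf (1586, 6)) (.leaf (0, 0))) (.node (.leaf (3634, 8)) (.leaf (0, 0)))))) (.node (.node (.node (.node (.leaf (306, 5)) (.leaf (4402, 5))) (.node (.leaf (2354, 10)) (.leaf (0, 0)))) (.node (.node (.leaf (1330, 3)) (.leaf (0, 0)))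 (.node (.leaf (3371, 7)) (.leaf (0, 0))))) (.node (.node (.node (.leaf (93, 7)) (.leaf (755, 10))) (.node (.leaf (2866, 10)) (.leaf (0, 0)))) (.node (.node (.leaf (1842, 4)) (.leaf (0, 0))) (.node (.leaf (3355, 9)) (.leaf (0, 0))))))) (.node (.node (.node (.node (.node (.leaf (178, 7)) (.leaf (3514, 5))) (.node (.leaf (2226, 5)) (.leaf (0, 0)))) (.node (.node (.leaf (1202, 9)) (.leaf (0, 0))) (.node (.leaf (3250, 6)) (.leaf (0, 0))))) (.node (.node (.node (.leaf (645, 10)) (.leaf (4786, 5))) (.node (.leaf (2738, 7)) (.leaf (0, 0)))) (.node (.node (.leaf (1712, 5)) (.leaf (0, 0))) (.node (.leaf (3732, 8)) (.leaf (0, 0)))))) (.node (.node (.node (.node (.leaf (434, 8)) (.leaf (4530, 5))) (.node (.leaf (19, 10)) (.leaf (0, 0)))) (.node (.node (.leaf (1458, 4)) (.leaf (0, 0))) (.node (.leaf (3506, 11)) (.leaf (0, 0))))) (.node (.node (.node (.leaf (946, 10)) (.leaf (5042, 0))) (.node (.leaf (2994, 5)) (.leaf (0, 0)))) (.node (.node (.leaf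 (1959, 6)) (.leaf (0, 0))) (.node (.leaf (4018, 10)) (.leaf (0, 0)))))))) (.node (.node (.node (.node (.node (.node (.leaf (114, 7)) (.leaf (1958, 6))) (.node (.leaf (2074, 3)) (.leaf (0, 0)))) (.node (.node (.leaf (1138, 5)) (.leaf (0, 0))) (.node (.leaf (3186, 4)) (.leaf (0, 0))))) (.node (.node (.node (.leaf (143, 11)) (.leaf (4722, 8))) (.node (.leaf (427, 10)) (.leaf (0, 0)))) (.node (.node (.leaf (1650, 11)) (.leaf (0, 0))) (.node (.leaf (3698, 5)) (.leaf (0, 0)))))) (.node (.node (.node (.node (.leaf (370, 11)) (.leaf (4466, 6))) (.node (.leaf (560, 1)) (.leaf (0, 0)))) (.node (.node (.leaf (1390, 9)) (.leaf (0, 0))) (.node (.leaf (3421, 7)) (.leaf (0, 0))))) (.node (.node (.node (.leaf (882, 11)) (.leaf (2487, 6))) (.node (.leaf (2930, 0)) (.leaf (0, 0)))) (.node (.node (.leaf (1877, 10)) (.leaf (0, 0))) (.node (.leaf (3941, 7)) (.leaf (0, 0))))))) (.node (.node (.node (.node (.node (.leaf (242, 5)) (.leaf (1955, 6))) (.node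 (.leaf (1003, 9)) (.leaf (0, 0)))) (.node (.node (.leaf (1226, 5)) (.leaf (0, 0))) (.node (.leaf (828, 7)) (.leaf (0, 0))))) (.node (.node (.node (.leaf (15, 5)) (.leaf (4850, 10))) (.node (.leaf (2802, 9)) (.leaf (0, 0)))) (.node (.node (.leaf (1778, 5)) (.leaf (0, 0))) (.node (.leaf (3826, 5)) (.leaf (0, 0)))))) (.node (.node (.node (.node (.leaf (498, 11)) (.leaf (4594, 10))) (.node (.leaf (2546, 6)) (.leaf (0, 0)))) (.node (.node (.leaf (1163, 11)) (.leaf (0, 0))) (.node (.leaf (3044, 5)) (.leaf (0, 0))))) (.node (.node (.node (.leaf (994, 10)) (.leaf (1600, 6))) (.node (.leaf (3058, 10)) (.leaf (0, 0)))) (.node (.node (.leaf (2034, 8)) (.leaf (0, 0))) (.node (.leaf (4082, 3)) (.leaf (0, 0)))))))))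

def ptsPart19 : ATree (ℕ × ℕ) :=
  .node (.node (.node (.node (.node (.node (.node (.node (.leaf (19, 9)) (.leaf (4115, 7))) (.node (.leaf (1964, 6)) (.leaf (0, 0)))) (.node (.node (.leaf (1043, 6)) (.leaf (2898, 0))) (.node (.leaf (843, 7)) (.leaf (0, 0))))) (.node (.node (.node (.leaf (447, 5)) (.leaf (440, 7))) (.node (.leaf (2579, 6)) (.leaf (0, 0)))) (.node (.node (.leaf (1555, 5)) (.leaf (0, 0))) (.node (.leaf (3603, 5)) (.leaf (0, 0)))))) (.node (.node (.node (.node (.leaf (275, 10)) (.leaf (465, 5))) (.node (.leaf (2323, 5)) (.leaf (0, 0)))) (.node (.node (.leaf (1299, 6)) (.leaf (0, 0))) (.node (.leaf (3347, 6)) (.leaf (0, 0))))) (.node (.node (.node (.leaf (644, 10)) (.leaf (4883, 6))) (.node (.leaf (2835, 7)) (.leaf (0, 0)))) (.node (.node (.leaf (1803, 7)) (.leaf (0, 0))) (.node (.leaf (3859, 7)) (.leaf (0, 0))))))) (.node (.node (.node (.node (.node (.leaf (146, 6)) (.leaf (4243, 4))) (.node (.leaf (2195, 6)) (.leaf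 (0, 0)))) (.node (.node (.leaf (1171, 10)) (.leaf (0, 0))) (.node (.leaf (3170, 7)) (.leaf (0, 0))))) (.node (.node (.node (.leaf (659, 7)) (.leaf (4755, 10))) (.node (.leaf (1750, 10)) (.leaf (0, 0)))) (.node (.node (.leaf (1683, 10)) (.leaf (0, 0))) (.node (.leaf (378, 7)) (.leaf (0, 0)))))) (.node (.node (.node (.node (.leaf (403, 6)) (.leaf (4499, 6))) (.node (.leaf (1619, 6)) (.leaf (0, 0)))) (.node (.node (.leaf (1358, 10)) (.leaf (0, 0))) (.node (.leaf (3475, 5)) (.leaf (0, 0))))) (.node (.node (.node (.leaf (841, 7)) (.leaf (4857, 8))) (.node (.leaf (2963, 2)) (.leaf (0, 0)))) (.node (.node (.leaf (1939, 6)) (.leaf (0, 0))) (.node (.leaf (3987, 5)) (.leaf (0, 0)))))))) (.node (.node (.node (.node (.node (.node (.leaf (83, 7)) (.leaf (3326, 6))) (.node (.leaf (2124, 10)) (.leaf (0, 0)))) (.node (.node (.leaf (1107, 5)) (.leaf (5200, 5))) (.node (.leaf (2975, 10)) (.leaf (0, 0))))) (.node (.node (.node (.leaf (595, 2)) (.leaf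 (4592, 6))) (.node (.leaf (2643, 4)) (.leaf (0, 0)))) (.node (.node (.leaf (533, 11)) (.leaf (0, 0))) (.node (.leaf (3651, 5)) (.leaf (0, 0)))))) (.node (.node (.node (.node (.leaf (339, 7)) (.leaf (4435, 11))) (.node (.leaf (311, 10)) (.leaf (0, 0)))) (.node (.node (.leaf (1363, 8)) (.leaf (0, 0))) (.node (.leaf (3411, 5)) (.leaf (0, 0))))) (.node (.node (.node (.leaf (851, 11)) (.leaf (1756, 5))) (.node (.leaf (2899, 5)) (.leaf (0, 0)))) (.node (.node (.leaf (236, 3)) (.leaf (0, 0))) (.node (.leaf (3917, 8)) (.leaf (0, 0))))))) (.node (.node (.node (.node (.node (.leaf (211, 3)) (.leaf (4297, 7))) (.node (.leaf (2259, 4)) (.leaf (0, 0)))) (.node (.node (.leaf (1235, 5)) (.leaf (0, 0))) (.node (.leaf (3283, 6)) (.leaf (0, 0))))) (.node (.node (.node (.leaf (717, 10)) (.leaf (2479, 2))) (.node (.leaf (389, 7)) (.leaf (0, 0)))) (.node (.node (.leaf (1425, 1)) (.leaf (0, 0))) (.node (.leaf (962, 8)) (.leaf (0, 0)))))) (.node (.node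 (.node (.node (.leaf (467, 5)) (.leaf (774, 7))) (.node (.leaf (2515, 5)) (.leaf (0, 0)))) (.node (.node (.leaf (1491, 3)) (.leaf (0, 0))) (.node (.leaf (3539, 4)) (.leaf (0, 0))))) (.node (.node (.node (.leaf (436, 10)) (.leaf (5075, 4))) (.node (.leaf (3027, 5)) (.leaf (0, 0)))) (.node (.node (.leaf (2003, 6)) (.leaf (0, 0))) (.node (.leaf (4051, 6)) (.leaf (0, 0))))))))) (.node (.node (.node (.node (.node (.node (.node (.leaf (51, 5)) (.leaf (4147, 6))) (.node (.leaf (2099, 3)) (.leaf (0, 0)))) (.node (.node (.leaf (1075, 6)) (.leaf (5171, 5))) (.node (.leaf (582, 8)) (.leaf (0, 0))))) (.node (.node (.node (.leaf (563, 3)) (.leaf (4659, 6))) (.node (.leaf (2611, 5)) (.leaf (0, 0)))) (.node (.node (.leaf (1587, 5)) (.leaf (0, 0))) (.node (.leaf (416, 7)) (.leaf (0, 0)))))) (.node (.node (.node (.node (.leaf (307, 7)) (.leaf (4403, 6))) (.node (.leaf (2354, 2)) (.leaf (0, 0)))) (.node (.node (.leaf (1331, 2)) (.leaf (0, 0))) (.node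 (.leaf (3379, 6)) (.leaf (0, 0))))) (.node (.node (.node (.leaf (96, 9)) (.leaf (2368, 11))) (.node (.leaf (2264, 5)) (.leaf (0, 0)))) (.node (.node (.leaf (1843, 3)) (.leaf (0, 0))) (.node (.leaf (3891, 7)) (.leaf (0, 0))))))) (.node (.node (.node (.node (.node (.leaf (179, 6)) (.leaf (4275, 6))) (.node (.leaf (2000, 11)) (.leaf (0, 0)))) (.node (.node (.leaf (1203, 10)) (.leaf (0, 0))) (.node (.leaf (3251, 5)) (.leaf (0, 0))))) (.node (.node (.node (.leaf (691, 5)) (.leaf (4065, 5))) (.node (.leaf (2739, 6)) (.leaf (0, 0)))) (.node (.node (.leaf (1711, 3)) (.leaf (0, 0))) (.node (.leaf (3749, 8)) (.leaf (0, 0)))))) (.node (.node (.node (.node (.leaf (435, 5)) (.leaf (4531, 10))) (.node (.leaf (2483, 5)) (.leaf (0, 0)))) (.node (.node (.leaf (1459, 7)) (.leaf (0, 0))) (.node (.leaf (3507, 5)) (.leaf (0, 0))))) (.node (.node (.node (.leaf (947, 7)) (.leaf (5043, 10))) (.node (.leaf (2995, 4)) (.leaf (0, 0)))) (.node (.node (.leaf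 (1971, 8)) (.leaf (0, 0))) (.node (.leaf (4019, 7)) (.leaf (0, 0)))))))) (.node (.node (.node (.node (.node (.node (.leaf (115, 6)) (.leaf (4211, 5))) (.node (.leaf (2076, 3)) (.leaf (0, 0)))) (.node (.node (.leaf (1132, 11)) (.leaf (0, 0))) (.node (.leaf (3187, 10)) (.leaf (0, 0))))) (.node (.node (.node (.leaf (619, 10)) (.leaf (4723, 5))) (.node (.leaf (2675, 5)) (.leaf (0, 0)))) (.node (.node (.leaf (1556, 10)) (.leaf (0, 0))) (.node (.leaf (3699, 10)) (.leaf (0, 0)))))) (.node (.node (.node (.node (.leaf (371, 7)) (.leaf (940, 7))) (.node (.leaf (2419, 10)) (.leaf (0, 0)))) (.node (.node (.leaf (1395, 10)) (.leaf (0, 0))) (.node (.leaf (3443, 6)) (.leaf (0, 0))))) (.node (.node (.node (.leaf (870, 10)) (.leaf (2360, 11))) (.node (.leaf (2931, 10)) (.leaf (0, 0)))) (.node (.node (.leaf (1907, 5)) (.leaf (0, 0))) (.node (.leaf (3955, 6)) (.leaf (0, 0))))))) (.node (.node (.node (.node (.node (.leaf (243, 4)) (.leaf (4339, 4)))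 (.node (.leaf (2291, 10)) (.leaf (0, 0)))) (.node (.node (.leaf (1267, 4)) (.leaf (0, 0))) (.node (.leaf (3315, 6)) (.leaf (0, 0))))) (.node (.node (.node (.leaf (755, 4)) (.leaf (1984, 1))) (.node (.leaf (163, 9)) (.leaf (0, 0)))) (.node (.node (.leaf (1745, 10)) (.leaf (0, 0))) (.node (.leaf (3827, 7)) (.leaf (0, 0)))))) (.node (.node (.node (.node (.leaf (482, 10)) (.leaf (4595, 5))) (.node (.leaf (2547, 7)) (.leaf (0, 0)))) (.node (.node (.leaf (1523, 5)) (.leaf (0, 0))) (.node (.leaf (3057, 7)) (.leaf (0, 0))))) (.node (.node (.node (.leaf (624, 8)) (.leaf (1104, 10))) (.node (.leaf (2122, 9)) (.leaf (0, 0)))) (.node (.node (.leaf (2035, 5)) (.leaf (0, 0))) (.node (.leaf (3046, 5)) (.leaf (0, 0)))))))))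

def ptsPart20 : ATree (ℕ × ℕ) :=
  .node (.node (.node (.node (.node (.node (.node (.node (.leaf (20, 10)) (.leaf (749, 6))) (.node (.leaf (2068, 8)) (.leaf (0, 0)))) (.node (.node (.leaf (1042, 10)) (.leaf (5140, 10))) (.node (.leaf (910, 7)) (.leaf (0, 0))))) (.node (.node (.node (.leaf (532, 10)) (.leaf (4628, 6))) (.node (.leaf (1592, 8)) (.leaf (0, 0)))) (.node (.node (.leaf (1556, 4)) (.leaf (0, 0))) (.node (.leaf (3604, 10)) (.leaf (0, 0)))))) (.node (.node (.node (.node (.leaf (276, 11)) (.leaf (1950, 7))) (.node (.leaf (2324, 7)) (.leaf (0, 0)))) (.node (.node (.leaf (1300, 5)) (.leaf (0, 0))) (.node (.leaf (3111, 7)) (.leaf (0, 0))))) (.node (.node (.node (.leaf (595, 10)) (.leaf (2608, 4))) (.node (.leaf (2834, 7)) (.leaf (0, 0)))) (.node (.node (.leaf (1803, 1)) (.leaf (0, 0))) (.node (.leaf (3860, 6)) (.leaf (0, 0))))))) (.node (.node (.node (.node (.node (.leaf (148, 8)) (.leaf (4244, 7))) (.node (.leaf (2196, 8))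 (.leaf (0, 0)))) (.node (.node (.leaf (1172, 11)) (.leaf (0, 0))) (.node (.leaf (3220, 6)) (.leaf (0, 0))))) (.node (.node (.node (.leaf (656, 7)) (.leaf (4756, 11))) (.node (.leaf (2443, 5)) (.leaf (0, 0)))) (.node (.node (.leaf (1684, 5)) (.leaf (0, 0))) (.node (.leaf (3732, 6)) (.leaf (0, 0)))))) (.node (.node (.node (.node (.leaf (396, 8)) (.leaf (4496, 10))) (.node (.leaf (788, 5)) (.leaf (0, 0)))) (.node (.node (.leaf (1428, 5)) (.leaf (0, 0))) (.node (.leaf (3476, 4)) (.leaf (0, 0))))) (.node (.node (.node (.leaf (830, 6)) (.leaf (5012, 5))) (.node (.leaf (2841, 6)) (.leaf (0, 0)))) (.node (.node (.leaf (1940, 8)) (.leaf (0, 0))) (.node (.leaf (3988, 4)) (.leaf (0, 0)))))))) (.node (.node (.node (.node (.node (.node (.leaf (84, 8)) (.leaf (3330, 6))) (.node (.leaf (2123, 10)) (.leaf (0, 0)))) (.node (.node (.leaf (1108, 7)) (.leaf (5204, 4))) (.node (.leaf (2979, 11)) (.leaf (0, 0))))) (.node (.node (.node (.leaf (596, 10))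 (.leaf (4578, 5))) (.node (.leaf (2644, 3)) (.leaf (0, 0)))) (.node (.node (.leaf (501, 11)) (.leaf (0, 0))) (.node (.leaf (3668, 4)) (.leaf (0, 0)))))) (.node (.node (.node (.node (.leaf (254, 7)) (.leaf (4436, 7))) (.node (.leaf (2289, 6)) (.leaf (0, 0)))) (.node (.node (.leaf (1364, 5)) (.leaf (0, 0))) (.node (.leaf (2651, 7)) (.leaf (0, 0))))) (.node (.node (.node (.leaf (832, 5)) (.leaf (1753, 10))) (.node (.leaf (2900, 6)) (.leaf (0, 0)))) (.node (.node (.leaf (1876, 2)) (.leaf (0, 0))) (.node (.leaf (3910, 8)) (.leaf (0, 0))))))) (.node (.node (.node (.node (.node (.leaf (212, 2)) (.leaf (4308, 6))) (.node (.leaf (2260, 3)) (.leaf (0, 0)))) (.node (.node (.leaf (1236, 7)) (.leaf (0, 0))) (.node (.leaf (620, 8)) (.leaf (0, 0))))) (.node (.node (.node (.leaf (702, 6)) (.leaf (4820, 1))) (.node (.leaf (177, 9)) (.leaf (0, 0)))) (.node (.node (.leaf (1748, 0)) (.leaf (0, 0))) (.node (.leaf (964, 8)) (.leaf (0, 0)))))) (.node (.node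 (.node (.node (.leaf (468, 4)) (.leaf (4564, 6))) (.node (.leaf (2259, 10)) (.leaf (0, 0)))) (.node (.node (.leaf (1492, 2)) (.leaf (0, 0))) (.node (.leaf (3540, 3)) (.leaf (0, 0))))) (.node (.node (.node (.leaf (438, 9)) (.leaf (5076, 7))) (.node (.leaf (872, 11)) (.leaf (0, 0)))) (.node (.node (.leaf (2004, 8)) (.leaf (0, 0))) (.node (.leaf (4052, 8)) (.leaf (0, 0))))))))) (.node (.node (.node (.node (.node (.node (.node (.leaf (52, 4)) (.leaf (4148, 5))) (.node (.leaf (1938, 4)) (.leaf (0, 0)))) (.node (.node (.leaf (1076, 5)) (.leaf (5172, 7))) (.node (.leaf (3124, 9)) (.leaf (0, 0))))) (.node (.node (.node (.leaf (564, 2)) (.leaf (4660, 5))) (.node (.leaf (2612, 6)) (.leaf (0, 0)))) (.node (.node (.leaf (1588, 4)) (.leaf (0, 0))) (.node (.leaf (405, 9)) (.leaf (0, 0)))))) (.node (.node (.node (.node (.leaf (308, 6)) (.leaf (4396, 5))) (.node (.leaf (2356, 10)) (.leaf (0, 0)))) (.node (.node (.leaf (1332, 1)) (.leaf (0, 0)))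 (.node (.leaf (3380, 5)) (.leaf (0, 0))))) (.node (.node (.node (.leaf (820, 7)) (.leaf (2486, 4))) (.node (.leaf (2868, 6)) (.leaf (0, 0)))) (.node (.node (.leaf (1844, 2)) (.leaf (0, 0))) (.node (.leaf (3892, 8)) (.leaf (0, 0))))))) (.node (.node (.node (.node (.node (.leaf (180, 8)) (.leaf (4276, 4))) (.node (.leaf (2228, 7)) (.leaf (0, 0)))) (.node (.node (.leaf (1204, 5)) (.leaf (0, 0))) (.node (.leaf (3252, 10)) (.leaf (0, 0))))) (.node (.node (.node (.leaf (598, 6)) (.leaf (3248, 5))) (.node (.leaf (2740, 5)) (.leaf (0, 0)))) (.node (.node (.leaf (1716, 10)) (.leaf (0, 0))) (.node (.leaf (3752, 7)) (.leaf (0, 0)))))) (.node (.node (.node (.node (.leaf (436, 4)) (.leaf (2654, 7))) (.node (.leaf (2484, 7)) (.leaf (0, 0)))) (.node (.node (.leaf (1460, 8)) (.leaf (0, 0))) (.node (.leaf (3508, 4)) (.leaf (0, 0))))) (.node (.node (.node (.leaf (872, 7)) (.leaf (2656, 1))) (.node (.leaf (2996, 3)) (.leaf (0, 0)))) (.node (.node (.leaf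 (1972, 5)) (.leaf (0, 0))) (.node (.leaf (4018, 7)) (.leaf (0, 0)))))))) (.node (.node (.node (.node (.node (.node (.leaf (116, 5)) (.leaf (4087, 7))) (.node (.leaf (255, 5)) (.leaf (0, 0)))) (.node (.node (.leaf (1140, 5)) (.leaf (0, 0))) (.node (.leaf (250, 9)) (.leaf (0, 0))))) (.node (.node (.node (.leaf (628, 7)) (.leaf (4724, 4))) (.node (.leaf (2676, 6)) (.leaf (0, 0)))) (.node (.node (.leaf (1652, 11)) (.leaf (0, 0))) (.node (.leaf (3699, 7)) (.leaf (0, 0)))))) (.node (.node (.node (.node (.leaf (372, 6)) (.leaf (4468, 6))) (.node (.leaf (581, 1)) (.leaf (0, 0)))) (.node (.node (.leaf (1396, 5)) (.leaf (0, 0))) (.node (.leaf (3425, 7)) (.leaf (0, 0))))) (.node (.node (.node (.leaf (884, 5)) (.leaf (2363, 11))) (.node (.leaf (2932, 7)) (.leaf (0, 0)))) (.node (.node (.leaf (1908, 6)) (.leaf (0, 0))) (.node (.leaf (3610, 3)) (.leaf (0, 0))))))) (.node (.node (.node (.node (.node (.leaf (244, 10)) (.leaf (4340, 7))) (.node (.leaf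 (2292, 5)) (.leaf (0, 0)))) (.node (.node (.leaf (1268, 3)) (.leaf (0, 0))) (.node (.leaf (825, 7)) (.leaf (0, 0))))) (.node (.node (.node (.leaf (756, 10)) (.leaf (4852, 9))) (.node (.leaf (2804, 7)) (.leaf (0, 0)))) (.node (.node (.leaf (1780, 5)) (.leaf (0, 0))) (.node (.leaf (3828, 6)) (.leaf (0, 0)))))) (.node (.node (.node (.node (.leaf (459, 10)) (.leaf (4593, 10))) (.node (.leaf (2536, 9)) (.leaf (0, 0)))) (.node (.node (.leaf (1524, 10)) (.leaf (0, 0))) (.node (.leaf (3572, 6)) (.leaf (0, 0))))) (.node (.node (.node (.leaf (1012, 5)) (.leaf (5108, 11))) (.node (.leaf (2134, 9)) (.leaf (0, 0)))) (.node (.node (.leaf (2036, 4)) (.leaf (0, 0))) (.node (.leaf (4084, 4)) (.leaf (0, 0)))))))))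

def ptsPart21 : ATree (ℕ × ℕ) :=
  .node (.node (.node (.node (.node (.node (.node (.node (.leaf (21, 5)) (.leaf (4117, 7))) (.node (.leaf (2069, 5)) (.leaf (0, 0)))) (.node (.node (.leaf (1045, 7)) (.leaf (5141, 5))) (.node (.leaf (836, 10)) (.leaf (0, 0))))) (.node (.node (.node (.leaf (352, 7)) (.leaf (4629, 5))) (.node (.leaf (1586, 8)) (.leaf (0, 0)))) (.node (.node (.leaf (1557, 3)) (.leaf (0, 0))) (.node (.leaf (3605, 7)) (.leaf (0, 0)))))) (.node (.node (.node (.node (.leaf (277, 7)) (.leaf (4373, 6))) (.node (.leaf (2325, 6)) (.leaf (0, 0)))) (.node (.node (.leaf (1301, 4)) (.leaf (0, 0))) (.node (.leaf (3349, 6)) (.leaf (0, 0))))) (.node (.node (.node (.leaf (701, 11)) (.leaf (4885, 7))) (.node (.leaf (17, 9)) (.leaf (0, 0)))) (.node (.node (.leaf (1813, 7)) (.leaf (0, 0))) (.node (.leaf (3861, 5)) (.leaf (0, 0))))))) (.node (.node (.node (.node (.node (.leaf (98, 7)) (.leaf (3506, 5))) (.node (.leaf (2197, 5)) (.leaf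 (0, 0)))) (.node (.node (.leaf (1173, 5)) (.leaf (0, 0))) (.node (.leaf (3221, 5)) (.leaf (0, 0))))) (.node (.node (.node (.leaf (656, 5)) (.leaf (4757, 7))) (.node (.leaf (2709, 6)) (.leaf (0, 0)))) (.node (.node (.leaf (1685, 4)) (.leaf (0, 0))) (.node (.leaf (108, 9)) (.leaf (0, 0)))))) (.node (.node (.node (.node (.leaf (395, 10)) (.leaf (4501, 5))) (.node (.leaf (791, 6)) (.leaf (0, 0)))) (.node (.node (.leaf (1429, 7)) (.leaf (0, 0))) (.node (.leaf (3473, 11)) (.leaf (0, 0))))) (.node (.node (.node (.leaf (831, 9)) (.leaf (5013, 4))) (.node (.leaf (209, 9)) (.leaf (0, 0)))) (.node (.node (.leaf (1941, 5)) (.leaf (0, 0))) (.node (.leaf (3989, 7)) (.leaf (0, 0)))))))) (.node (.node (.node (.node (.node (.node (.leaf (84, 6)) (.leaf (2723, 7))) (.node (.leaf (621, 8)) (.leaf (0, 0)))) (.node (.node (.leaf (1109, 6)) (.leaf (0, 0))) (.node (.leaf (3157, 5)) (.leaf (0, 0))))) (.node (.node (.node (.leaf (597, 5)) (.leaf (4693, 6)))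 (.node (.leaf (2645, 9)) (.leaf (0, 0)))) (.node (.node (.leaf (520, 6)) (.leaf (0, 0))) (.node (.leaf (3669, 3)) (.leaf (0, 0)))))) (.node (.node (.node (.node (.leaf (341, 6)) (.leaf (4437, 6))) (.node (.leaf (2290, 6)) (.leaf (0, 0)))) (.node (.node (.leaf (1365, 4)) (.leaf (0, 0))) (.node (.leaf (3413, 6)) (.leaf (0, 0))))) (.node (.node (.node (.leaf (853, 9)) (.leaf (4949, 5))) (.node (.leaf (2901, 7)) (.leaf (0, 0)))) (.node (.node (.leaf (1877, 1)) (.leaf (0, 0))) (.node (.leaf (2498, 9)) (.leaf (0, 0))))))) (.node (.node (.node (.node (.node (.leaf (213, 10)) (.leaf (4309, 5))) (.node (.leaf (2261, 2)) (.leaf (0, 0)))) (.node (.node (.leaf (1231, 5)) (.leaf (0, 0))) (.node (.leaf (2133, 7)) (.leaf (0, 0))))) (.node (.node (.node (.leaf (586, 6)) (.leaf (4821, 9))) (.node (.leaf (2773, 7)) (.leaf (0, 0)))) (.node (.node (.leaf (645, 1)) (.leaf (0, 0))) (.node (.leaf (965, 8)) (.leaf (0, 0)))))) (.node (.node (.node (.node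 (.leaf (469, 10)) (.leaf (4565, 5))) (.node (.leaf (2517, 11)) (.leaf (0, 0)))) (.node (.node (.leaf (1493, 7)) (.leaf (0, 0))) (.node (.leaf (3541, 7)) (.leaf (0, 0))))) (.node (.node (.node (.leaf (981, 7)) (.leaf (5077, 8))) (.node (.leaf (3029, 7)) (.leaf (0, 0)))) (.node (.node (.leaf (2005, 5)) (.leaf (0, 0))) (.node (.leaf (4053, 5)) (.leaf (0, 0))))))))) (.node (.node (.node (.node (.node (.node (.node (.leaf (45, 3)) (.leaf (4149, 4))) (.node (.leaf (2101, 3)) (.leaf (0, 0)))) (.node (.node (.leaf (1059, 5)) (.leaf (3764, 5))) (.node (.leaf (609, 8)) (.leaf (0, 0))))) (.node (.node (.node (.leaf (565, 10)) (.leaf (4661, 4))) (.node (.leaf (1747, 10)) (.leaf (0, 0)))) (.node (.node (.leaf (1589, 3)) (.leaf (0, 0))) (.node (.leaf (2667, 9)) (.leaf (0, 0)))))) (.node (.node (.node (.node (.leaf (309, 8)) (.leaf (4405, 7))) (.node (.leaf (1156, 6)) (.leaf (0, 0)))) (.node (.node (.leaf (24, 5)) (.leaf (0, 0))) (.node (.leaf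 (3381, 10)) (.leaf (0, 0))))) (.node (.node (.node (.leaf (496, 8)) (.leaf (2348, 4))) (.node (.leaf (2869, 7)) (.leaf (0, 0)))) (.node (.node (.leaf (1845, 1)) (.leaf (0, 0))) (.node (.leaf (824, 8)) (.leaf (0, 0))))))) (.node (.node (.node (.node (.node (.leaf (181, 5)) (.leaf (1952, 6))) (.node (.leaf (2229, 6)) (.leaf (0, 0)))) (.node (.node (.leaf (1205, 6)) (.leaf (0, 0))) (.node (.leaf (1968, 7)) (.leaf (0, 0))))) (.node (.node (.node (.leaf (689, 10)) (.leaf (4789, 7))) (.node (.leaf (2741, 4)) (.leaf (0, 0)))) (.node (.node (.leaf (1717, 5)) (.leaf (0, 0))) (.node (.leaf (3754, 6)) (.leaf (0, 0)))))) (.node (.node (.node (.node (.leaf (437, 3)) (.leaf (4533, 6))) (.node (.leaf (1725, 5)) (.leaf (0, 0)))) (.node (.node (.leaf (246, 6)) (.leaf (0, 0))) (.node (.leaf (3509, 7)) (.leaf (0, 0))))) (.node (.node (.node (.leaf (869, 9)) (.leaf (5045, 9))) (.node (.leaf (358, 9)) (.leaf (0, 0)))) (.node (.node (.leaf (1083, 4))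 (.leaf (0, 0))) (.node (.leaf (382, 5)) (.leaf (0, 0)))))))) (.node (.node (.node (.node (.node (.node (.leaf (114, 2)) (.leaf (4213, 6))) (.node (.leaf (2165, 7)) (.leaf (0, 0)))) (.node (.node (.leaf (1141, 4)) (.leaf (0, 0))) (.node (.leaf (3189, 10)) (.leaf (0, 0))))) (.node (.node (.node (.leaf (629, 6)) (.leaf (4725, 3))) (.node (.leaf (2645, 2)) (.leaf (0, 0)))) (.node (.node (.leaf (10, 7)) (.leaf (0, 0))) (.node (.leaf (3701, 6)) (.leaf (0, 0)))))) (.node (.node (.node (.node (.leaf (373, 5)) (.leaf (941, 7))) (.node (.leaf (554, 1)) (.leaf (0, 0)))) (.node (.node (.leaf (1397, 7)) (.leaf (0, 0))) (.node (.leaf (2691, 7)) (.leaf (0, 0))))) (.node (.node (.node (.leaf (877, 9)) (.leaf (4915, 11))) (.node (.leaf (2931, 7)) (.leaf (0, 0)))) (.node (.node (.leaf (1828, 2)) (.leaf (0, 0))) (.node (.leaf (3957, 7)) (.leaf (0, 0))))))) (.node (.node (.node (.node (.node (.leaf (245, 5)) (.leaf (2645, 10))) (.node (.leaf (1008,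 5)) (.leaf (0, 0)))) (.node (.node (.leaf (1269, 10)) (.leaf (0, 0))) (.node (.leaf (853, 7)) (.leaf (0, 0))))) (.node (.node (.node (.leaf (757, 5)) (.leaf (4853, 10))) (.node (.leaf (2789, 9)) (.leaf (0, 0)))) (.node (.node (.leaf (1071, 11)) (.leaf (0, 0))) (.node (.leaf (3092, 8)) (.leaf (0, 0)))))) (.node (.node (.node (.node (.leaf (355, 5)) (.leaf (4581, 10))) (.node (.leaf (2549, 10)) (.leaf (0, 0)))) (.node (.node (.leaf (1525, 7)) (.leaf (0, 0))) (.node (.leaf (3573, 5)) (.leaf (0, 0))))) (.node (.node (.node (.leaf (1013, 10)) (.leaf (5109, 5))) (.node (.leaf (2135, 9)) (.leaf (0, 0)))) (.node (.node (.leaf (2037, 3)) (.leaf (0, 0))) (.node (.leaf (4085, 3)) (.leaf (0, 0)))))))))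

def ptsPart22 : ATree (ℕ × ℕ) :=
  .node (.node (.node (.node (.node (.node (.node (.node (.leaf (22, 7)) (.leaf (4118, 6))) (.node (.leaf (2070, 4)) (.leaf (0, 0)))) (.node (.node (.leaf (1046, 6)) (.leaf (5142, 6))) (.node (.leaf (3094, 11)) (.leaf (0, 0))))) (.node (.node (.node (.leaf (469, 7)) (.leaf (4630, 4))) (.node (.leaf (2537, 1)) (.leaf (0, 0)))) (.node (.node (.leaf (1558, 2)) (.leaf (0, 0))) (.node (.leaf (3606, 6)) (.leaf (0, 0)))))) (.node (.node (.node (.node (.leaf (278, 6)) (.leaf (4374, 5))) (.node (.leaf (1495, 10)) (.leaf (0, 0)))) (.node (.node (.leaf (1302, 3)) (.leaf (0, 0))) (.node (.leaf (3238, 7)) (.leaf (0, 0))))) (.node (.node (.node (.leaf (789, 5)) (.leaf (4886, 6))) (.node (.leaf (2838, 7)) (.leaf (0, 0)))) (.node (.node (.leaf (54, 2)) (.leaf (0, 0))) (.node (.leaf (3610, 7)) (.leaf (0, 0))))))) (.node (.node (.node (.node (.node (.leaf (79, 10)) (.leaf (4246, 6))) (.node (.leaf (2198, 10)) (.leaf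 (0, 0)))) (.node (.node (.leaf (1174, 4)) (.leaf (0, 0))) (.node (.leaf (3222, 4)) (.leaf (0, 0))))) (.node (.node (.node (.leaf (662, 7)) (.leaf (4758, 6))) (.node (.leaf (2690, 9)) (.leaf (0, 0)))) (.node (.node (.leaf (1162, 4)) (.leaf (0, 0))) (.node (.leaf (3734, 7)) (.leaf (0, 0)))))) (.node (.node (.node (.node (.leaf (406, 7)) (.leaf (4502, 6))) (.node (.leaf (597, 11)) (.leaf (0, 0)))) (.node (.node (.leaf (1430, 6)) (.leaf (0, 0))) (.node (.leaf (3478, 7)) (.leaf (0, 0))))) (.node (.node (.node (.leaf (859, 6)) (.leaf (5014, 3))) (.node (.leaf (2966, 7)) (.leaf (0, 0)))) (.node (.node (.leaf (1939, 8)) (.leaf (0, 0))) (.node (.leaf (3990, 6)) (.leaf (0, 0)))))))) (.node (.node (.node (.node (.node (.node (.leaf (86, 8)) (.leaf (4182, 6))) (.node (.leaf (2134, 5)) (.leaf (0, 0)))) (.node (.node (.leaf (1110, 8)) (.leaf (0, 0))) (.node (.leaf (3158, 7)) (.leaf (0, 0))))) (.node (.node (.node (.leaf (532, 4)) (.leaf (4577,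 5))) (.node (.leaf (2646, 10)) (.leaf (0, 0)))) (.node (.node (.leaf (505, 11)) (.leaf (0, 0))) (.node (.leaf (3040, 4)) (.leaf (0, 0)))))) (.node (.node (.node (.node (.leaf (342, 5)) (.leaf (4438, 5))) (.node (.leaf (1005, 5)) (.leaf (0, 0)))) (.node (.node (.leaf (1366, 3)) (.leaf (0, 0))) (.node (.leaf (3414, 8)) (.leaf (0, 0))))) (.node (.node (.node (.leaf (547, 8)) (.leaf (4934, 7))) (.node (.leaf (2902, 6)) (.leaf (0, 0)))) (.node (.node (.leaf (1878, 10)) (.leaf (0, 0))) (.node (.leaf (3926, 10)) (.leaf (0, 0))))))) (.node (.node (.node (.node (.node (.leaf (214, 11)) (.leaf (4310, 4))) (.node (.leaf (2262, 9)) (.leaf (0, 0)))) (.node (.node (.leaf (1238, 6)) (.leaf (0, 0))) (.node (.leaf (2132, 7)) (.leaf (0, 0))))) (.node (.node (.node (.leaf (588, 6)) (.leaf (4822, 7))) (.node (.leaf (158, 9)) (.leaf (0, 0)))) (.node (.node (.leaf (601, 1)) (.leaf (0, 0))) (.node (.leaf (415, 7)) (.leaf (0, 0)))))) (.node (.node (.node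 (.node (.leaf (470, 5)) (.leaf (772, 9))) (.node (.leaf (513, 8)) (.leaf (0, 0)))) (.node (.node (.leaf (1390, 1)) (.leaf (0, 0))) (.node (.leaf (3542, 6)) (.leaf (0, 0))))) (.node (.node (.node (.leaf (982, 6)) (.leaf (1108, 6))) (.node (.leaf (3030, 6)) (.leaf (0, 0)))) (.node (.node (.leaf (2006, 4)) (.leaf (0, 0))) (.node (.leaf (4054, 7)) (.leaf (0, 0))))))))) (.node (.node (.node (.node (.node (.node (.node (.leaf (54, 10)) (.leaf (4150, 10))) (.node (.leaf (2091, 5)) (.leaf (0, 0)))) (.node (.node (.leaf (1078, 4)) (.leaf (5174, 7))) (.node (.leaf (3126, 9)) (.leaf (0, 0))))) (.node (.node (.node (.leaf (563, 10)) (.leaf (4662, 3))) (.node (.leaf (2614, 5)) (.leaf (0, 0)))) (.node (.node (.leaf (243, 7)) (.leaf (0, 0))) (.node (.leaf (3638, 10)) (.leaf (0, 0)))))) (.node (.node (.node (.node (.leaf (310, 5)) (.leaf (4406, 6))) (.node (.leaf (1768, 2)) (.leaf (0, 0)))) (.node (.node (.leaf (1334, 4)) (.leaf (0, 0))) (.node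 (.leaf (2523, 5)) (.leaf (0, 0))))) (.node (.node (.node (.leaf (822, 9)) (.leaf (1731, 10))) (.node (.leaf (2870, 6)) (.leaf (0, 0)))) (.node (.node (.leaf (1846, 7)) (.leaf (0, 0))) (.node (.leaf (827, 8)) (.leaf (0, 0))))))) (.node (.node (.node (.node (.node (.leaf (182, 7)) (.leaf (4278, 5))) (.node (.leaf (2230, 5)) (.leaf (0, 0)))) (.node (.node (.leaf (1206, 7)) (.leaf (0, 0))) (.node (.leaf (3254, 6)) (.leaf (0, 0))))) (.node (.node (.node (.leaf (685, 3)) (.leaf (4790, 6))) (.node (.leaf (2742, 10)) (.leaf (0, 0)))) (.node (.node (.leaf (1705, 5)) (.leaf (0, 0))) (.node (.leaf (805, 8)) (.leaf (0, 0)))))) (.node (.node (.node (.node (.leaf (438, 2)) (.leaf (4534, 5))) (.node (.leaf (1603, 5)) (.leaf (0, 0)))) (.node (.node (.leaf (1462, 7)) (.leaf (0, 0))) (.node (.leaf (3501, 5)) (.leaf (0, 0))))) (.node (.node (.node (.leaf (950, 10)) (.leaf (5046, 0))) (.node (.leaf (2998, 10)) (.leaf (0, 0)))) (.node (.node (.leaf (1974,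 7)) (.leaf (0, 0))) (.node (.leaf (3062, 7)) (.leaf (0, 0)))))))) (.node (.node (.node (.node (.node (.node (.leaf (118, 7)) (.leaf (4214, 5))) (.node (.leaf (2166, 6)) (.leaf (0, 0)))) (.node (.node (.leaf (1142, 7)) (.leaf (0, 0))) (.node (.leaf (3190, 11)) (.leaf (0, 0))))) (.node (.node (.node (.leaf (630, 5)) (.leaf (4726, 10))) (.node (.leaf (2678, 9)) (.leaf (0, 0)))) (.node (.node (.leaf (1654, 6)) (.leaf (0, 0))) (.node (.leaf (3698, 7)) (.leaf (0, 0)))))) (.node (.node (.node (.node (.leaf (374, 10)) (.leaf (4470, 6))) (.node (.leaf (552, 1)) (.leaf (0, 0)))) (.node (.node (.leaf (1398, 6)) (.leaf (0, 0))) (.node (.leaf (3446, 6)) (.leaf (0, 0))))) (.node (.node (.node (.leaf (886, 10)) (.leaf (1775, 5))) (.node (.leaf (2610, 0)) (.leaf (0, 0)))) (.node (.node (.leaf (1910, 10)) (.leaf (0, 0))) (.node (.leaf (3958, 6)) (.leaf (0, 0))))))) (.node (.node (.node (.node (.node (.leaf (246, 7)) (.leaf (4342, 5))) (.node (.leaf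 (2278, 10)) (.leaf (0, 0)))) (.node (.node (.leaf (1270, 5)) (.leaf (0, 0))) (.node (.leaf (3318, 6)) (.leaf (0, 0))))) (.node (.node (.node (.leaf (758, 6)) (.leaf (4719, 10))) (.node (.leaf (2806, 7)) (.leaf (0, 0)))) (.node (.node (.leaf (1782, 5)) (.leaf (0, 0))) (.node (.leaf (955, 8)) (.leaf (0, 0)))))) (.node (.node (.node (.node (.leaf (502, 10)) (.leaf (4594, 3))) (.node (.leaf (2550, 11)) (.leaf (0, 0)))) (.node (.node (.leaf (1526, 6)) (.leaf (0, 0))) (.node (.leaf (3573, 8)) (.leaf (0, 0))))) (.node (.node (.node (.leaf (394, 11)) (.leaf (5110, 6))) (.node (.leaf (3062, 10)) (.leaf (0, 0)))) (.node (.node (.leaf (2038, 2)) (.leaf (0, 0))) (.node (.leaf (2675, 11)) (.leaf (0, 0)))))))))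

def ptsPart23 : ATree (ℕ × ℕ) :=
  .node (.node (.node (.node (.node (.node (.node (.node (.leaf (23, 6)) (.leaf (4119, 8))) (.node (.leaf (1970, 6)) (.leaf (0, 0)))) (.node (.node (.leaf (1047, 5)) (.leaf (2897, 10))) (.node (.leaf (862, 6)) (.leaf (0, 0))))) (.node (.node (.node (.leaf (530, 2)) (.leaf (4631, 3))) (.node (.leaf (2583, 9)) (.leaf (0, 0)))) (.node (.node (.leaf (1559, 10)) (.leaf (0, 0))) (.node (.leaf (3607, 5)) (.leaf (0, 0)))))) (.node (.node (.node (.node (.leaf (279, 8)) (.leaf (4375, 4))) (.node (.leaf (2327, 11)) (.leaf (0, 0)))) (.node (.node (.leaf (1303, 10)) (.leaf (0, 0))) (.node (.leaf (3351, 6)) (.leaf (0, 0))))) (.node (.node (.node (.leaf (587, 11)) (.leaf (1662, 11))) (.node (.leaf (210, 9)) (.leaf (0, 0)))) (.node (.node (.leaf (1815, 1)) (.leaf (0, 0))) (.node (.leaf (3863, 6)) (.leaf (0, 0))))))) (.node (.node (.node (.node (.node (.leaf (108, 7)) (.leaf (4247, 4))) (.node (.leaf (2199, 11))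 (.leaf (0, 0)))) (.node (.node (.leaf (40, 6)) (.leaf (0, 0))) (.node (.leaf (251, 10)) (.leaf (0, 0))))) (.node (.node (.node (.leaf (102, 5)) (.leaf (4759, 5))) (.node (.leaf (2711, 10)) (.leaf (0, 0)))) (.node (.node (.leaf (1464, 5)) (.leaf (0, 0))) (.node (.leaf (153, 9)) (.leaf (0, 0)))))) (.node (.node (.node (.node (.leaf (407, 6)) (.leaf (2680, 11))) (.node (.leaf (2455, 5)) (.leaf (0, 0)))) (.node (.node (.leaf (1368, 11)) (.leaf (0, 0))) (.node (.leaf (3479, 6)) (.leaf (0, 0))))) (.node (.node (.node (.leaf (853, 4)) (.leaf (5015, 2))) (.node (.leaf (2848, 9)) (.leaf (0, 0)))) (.node (.node (.leaf (1935, 8)) (.leaf (0, 0))) (.node (.leaf (3858, 7)) (.leaf (0, 0)))))))) (.node (.node (.node (.node (.node (.node (.leaf (71, 10)) (.leaf (3140, 7))) (.node (.leaf (2135, 10)) (.leaf (0, 0)))) (.node (.node (.leaf (1111, 5)) (.leaf (0, 0))) (.node (.leaf (3159, 6)) (.leaf (0, 0))))) (.node (.node (.node (.leaf (599, 3)) (.leaf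 (3512, 10))) (.node (.leaf (2647, 5)) (.leaf (0, 0)))) (.node (.node (.leaf (1124, 7)) (.leaf (0, 0))) (.node (.leaf (3671, 3)) (.leaf (0, 0)))))) (.node (.node (.node (.node (.leaf (343, 4)) (.leaf (4439, 4))) (.node (.leaf (2391, 6)) (.leaf (0, 0)))) (.node (.node (.leaf (1367, 10)) (.leaf (0, 0))) (.node (.leaf (3415, 5)) (.leaf (0, 0))))) (.node (.node (.node (.leaf (833, 7)) (.leaf (4951, 6))) (.node (.leaf (2903, 5)) (.leaf (0, 0)))) (.node (.node (.leaf (1879, 5)) (.leaf (0, 0))) (.node (.leaf (3927, 7)) (.leaf (0, 0))))))) (.node (.node (.node (.node (.node (.leaf (215, 7)) (.leaf (4311, 10))) (.node (.leaf (2263, 10)) (.leaf (0, 0)))) (.node (.node (.leaf (1239, 4)) (.leaf (0, 0))) (.node (.leaf (2143, 7)) (.leaf (0, 0))))) (.node (.node (.node (.leaf (589, 6)) (.leaf (4823, 6))) (.node (.leaf (2775, 10)) (.leaf (0, 0)))) (.node (.node (.leaf (1160, 1)) (.leaf (0, 0))) (.node (.leaf (443, 9)) (.leaf (0, 0)))))) (.node (.node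 (.node (.node (.leaf (471, 6)) (.leaf (4567, 7))) (.node (.leaf (509, 8)) (.leaf (0, 0)))) (.node (.node (.leaf (1495, 9)) (.leaf (0, 0))) (.node (.leaf (3543, 5)) (.leaf (0, 0))))) (.node (.node (.node (.leaf (983, 5)) (.leaf (5079, 4))) (.node (.leaf (3031, 5)) (.leaf (0, 0)))) (.node (.node (.leaf (2007, 3)) (.leaf (0, 0))) (.node (.leaf (4055, 6)) (.leaf (0, 0))))))))) (.node (.node (.node (.node (.node (.node (.node (.leaf (55, 11)) (.leaf (4151, 5))) (.node (.leaf (2103, 4)) (.leaf (0, 0)))) (.node (.node (.leaf (1079, 10)) (.leaf (3749, 5))) (.node (.leaf (845, 9)) (.leaf (0, 0))))) (.node (.node (.node (.leaf (564, 10)) (.leaf (3846, 3))) (.node (.leaf (2601, 0)) (.leaf (0, 0)))) (.node (.node (.leaf (1591, 6)) (.leaf (0, 0))) (.node (.leaf (3639, 7)) (.leaf (0, 0)))))) (.node (.node (.node (.node (.leaf (311, 4)) (.leaf (4407, 5))) (.node (.leaf (2359, 10)) (.leaf (0, 0)))) (.node (.node (.leaf (1335, 3)) (.leaf (0, 0)))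 (.node (.leaf (3383, 4)) (.leaf (0, 0))))) (.node (.node (.node (.leaf (823, 7)) (.leaf (2612, 4))) (.node (.leaf (2871, 5)) (.leaf (0, 0)))) (.node (.node (.leaf (1763, 5)) (.leaf (0, 0))) (.node (.leaf (830, 8)) (.leaf (0, 0))))))) (.node (.node (.node (.node (.node (.leaf (180, 5)) (.leaf (4279, 4))) (.node (.leaf (2217, 0)) (.leaf (0, 0)))) (.node (.node (.leaf (1207, 6)) (.leaf (0, 0))) (.node (.leaf (3255, 5)) (.leaf (0, 0))))) (.node (.node (.node (.leaf (685, 10)) (.leaf (4791, 5))) (.node (.leaf (2743, 5)) (.leaf (0, 0)))) (.node (.node (.leaf (1706, 5)) (.leaf (0, 0))) (.node (.leaf (3767, 5)) (.leaf (0, 0)))))) (.node (.node (.node (.node (.leaf (439, 9)) (.leaf (4535, 10))) (.node (.leaf (2472, 9)) (.leaf (0, 0)))) (.node (.node (.leaf (1463, 6)) (.leaf (0, 0))) (.node (.leaf (3511, 4)) (.leaf (0, 0))))) (.node (.node (.node (.leaf (951, 7)) (.leaf (5047, 10))) (.node (.leaf (2999, 7)) (.leaf (0, 0)))) (.node (.node (.leaf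 (1975, 6)) (.leaf (0, 0))) (.node (.leaf (4023, 6)) (.leaf (0, 0)))))))) (.node (.node (.node (.node (.node (.node (.leaf (119, 6)) (.leaf (4215, 10))) (.node (.leaf (2167, 8)) (.leaf (0, 0)))) (.node (.node (.leaf (1143, 6)) (.leaf (0, 0))) (.node (.leaf (3191, 7)) (.leaf (0, 0))))) (.node (.node (.node (.leaf (631, 10)) (.leaf (4727, 7))) (.node (.leaf (2679, 10)) (.leaf (0, 0)))) (.node (.node (.leaf (1655, 5)) (.leaf (0, 0))) (.node (.leaf (372, 8)) (.leaf (0, 0)))))) (.node (.node (.node (.node (.leaf (101, 8)) (.leaf (941, 10))) (.node (.leaf (730, 1)) (.leaf (0, 0)))) (.node (.node (.leaf (1399, 8)) (.leaf (0, 0))) (.node (.leaf (2056, 11)) (.leaf (0, 0))))) (.node (.node (.node (.leaf (887, 11)) (.leaf (4983, 4))) (.node (.leaf (2935, 7)) (.leaf (0, 0)))) (.node (.node (.leaf (1911, 5)) (.leaf (0, 0))) (.node (.leaf (3959, 5)) (.leaf (0, 0))))))) (.node (.node (.node (.node (.node (.leaf (247, 6)) (.leaf (4343, 6))) (.node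 (.leaf (2294, 7)) (.leaf (0, 0)))) (.node (.node (.leaf (1271, 6)) (.leaf (0, 0))) (.node (.leaf (920, 7)) (.leaf (0, 0))))) (.node (.node (.node (.leaf (309, 5)) (.leaf (4719, 7))) (.node (.leaf (138, 8)) (.leaf (0, 0)))) (.node (.node (.leaf (1717, 11)) (.leaf (0, 0))) (.node (.leaf (915, 6)) (.leaf (0, 0)))))) (.node (.node (.node (.node (.leaf (270, 5)) (.leaf (4599, 10))) (.node (.leaf (2551, 7)) (.leaf (0, 0)))) (.node (.node (.leaf (1162, 6)) (.leaf (0, 0))) (.node (.leaf (3575, 5)) (.leaf (0, 0))))) (.node (.node (.node (.leaf (716, 8)) (.leaf (2624, 6))) (.node (.leaf (974, 11)) (.leaf (0, 0)))) (.node (.node (.leaf (1222, 11)) (.leaf (0, 0))) (.node (.leaf (4083, 7)) (.leaf (0, 0)))))))))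

def ptsPart24 : ATree (ℕ × ℕ) :=
  .node (.node (.node (.node (.node (.node (.node (.node (.leaf (24, 8)) (.leaf (4120, 5))) (.node (.leaf (2072, 5)) (.leaf (0, 0)))) (.node (.node (.leaf (268, 6)) (.leaf (5144, 5))) (.node (.leaf (3096, 5)) (.leaf (0, 0))))) (.node (.node (.node (.leaf (75, 11)) (.leaf (4632, 10))) (.node (.leaf (2584, 0)) (.leaf (0, 0)))) (.node (.node (.leaf (1549, 7)) (.leaf (0, 0))) (.node (.leaf (3608, 4)) (.leaf (0, 0)))))) (.node (.node (.node (.node (.leaf (280, 5)) (.leaf (4376, 3))) (.node (.leaf (2328, 5)) (.leaf (0, 0)))) (.node (.node (.leaf (1304, 5)) (.leaf (0, 0))) (.node (.leaf (3352, 5)) (.leaf (0, 0))))) (.node (.node (.node (.leaf (792, 5)) (.leaf (171, 11))) (.node (.leaf (2840, 7)) (.leaf (0, 0)))) (.node (.node (.leaf (1816, 7)) (.leaf (0, 0))) (.node (.leaf (3864, 5)) (.leaf (0, 0))))))) (.node (.node (.node (.node (.node (.leaf (106, 8)) (.leaf (4248, 7))) (.node (.leaf (2194, 11)) (.leaf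 (0, 0)))) (.node (.node (.leaf (1176, 7)) (.leaf (0, 0))) (.node (.leaf (3224, 11)) (.leaf (0, 0))))) (.node (.node (.node (.leaf (664, 10)) (.leaf (4760, 10))) (.node (.leaf (2712, 5)) (.leaf (0, 0)))) (.node (.node (.leaf (1688, 10)) (.leaf (0, 0))) (.node (.leaf (369, 7)) (.leaf (0, 0)))))) (.node (.node (.node (.node (.leaf (408, 8)) (.leaf (4504, 5))) (.node (.leaf (789, 11)) (.leaf (0, 0)))) (.node (.node (.leaf (1432, 5)) (.leaf (0, 0))) (.node (.leaf (3480, 5)) (.leaf (0, 0))))) (.node (.node (.node (.leaf (920, 9)) (.leaf (5016, 10))) (.node (.leaf (251, 9)) (.leaf (0, 0)))) (.node (.node (.leaf (442, 7)) (.leaf (0, 0))) (.node (.leaf (3992, 6)) (.leaf (0, 0)))))))) (.node (.node (.node (.node (.node (.node (.leaf (88, 5)) (.leaf (960, 7))) (.node (.leaf (189, 11)) (.leaf (0, 0)))) (.node (.node (.leaf (1112, 4)) (.leaf (0, 0))) (.node (.leaf (938, 1)) (.leaf (0, 0))))) (.node (.node (.node (.leaf (600, 2)) (.leaf (4696,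 5))) (.node (.leaf (2648, 4)) (.leaf (0, 0)))) (.node (.node (.leaf (1121, 4)) (.leaf (0, 0))) (.node (.leaf (3544, 4)) (.leaf (0, 0)))))) (.node (.node (.node (.node (.leaf (344, 10)) (.leaf (4440, 10))) (.node (.leaf (1988, 5)) (.leaf (0, 0)))) (.node (.node (.leaf (1368, 5)) (.leaf (0, 0))) (.node (.leaf (3416, 10)) (.leaf (0, 0))))) (.node (.node (.node (.leaf (540, 8)) (.leaf (2912, 5))) (.node (.leaf (2904, 4)) (.leaf (0, 0)))) (.node (.node (.leaf (1880, 6)) (.leaf (0, 0))) (.node (.leaf (3928, 6)) (.leaf (0, 0))))))) (.node (.node (.node (.node (.node (.leaf (216, 6)) (.leaf (3067, 7))) (.node (.leaf (2264, 11)) (.leaf (0, 0)))) (.node (.node (.leaf (1240, 5)) (.leaf (0, 0))) (.node (.leaf (2125, 2)) (.leaf (0, 0))))) (.node (.node (.node (.leaf (690, 10)) (.leaf (4822, 10))) (.node (.leaf (2776, 7)) (.leaf (0, 0)))) (.node (.node (.leaf (1752, 0)) (.leaf (0, 0))) (.node (.leaf (3768, 10)) (.leaf (0, 0)))))) (.node (.node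 (.node (.node (.leaf (472, 7)) (.leaf (4568, 6))) (.node (.leaf (212, 9)) (.leaf (0, 0)))) (.node (.node (.leaf (1496, 0)) (.leaf (0, 0))) (.node (.leaf (3544, 10)) (.leaf (0, 0))))) (.node (.node (.node (.leaf (984, 10)) (.leaf (5080, 7))) (.node (.leaf (946, 7)) (.leaf (0, 0)))) (.node (.node (.leaf (2008, 2)) (.leaf (0, 0))) (.node (.leaf (4053, 7)) (.leaf (0, 0))))))))) (.node (.node (.node (.node (.node (.node (.node (.leaf (56, 5)) (.leaf (439, 7))) (.node (.leaf (2104, 10)) (.leaf (0, 0)))) (.node (.node (.leaf (1050, 8)) (.leaf (3705, 10))) (.node (.leaf (3128, 7)) (.leaf (0, 0))))) (.node (.node (.node (.leaf (267, 7)) (.leaf (4664, 10))) (.node (.leaf (2616, 10)) (.leaf (0, 0)))) (.node (.node (.leaf (242, 7)) (.leaf (0, 0))) (.node (.leaf (3640, 6)) (.leaf (0, 0)))))) (.node (.node (.node (.node (.leaf (312, 9)) (.leaf (4408, 4))) (.node (.leaf (2360, 5)) (.leaf (0, 0)))) (.node (.node (.leaf (1336, 2)) (.leaf (0, 0)))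 (.node (.leaf (3384, 7)) (.leaf (0, 0))))) (.node (.node (.node (.leaf (492, 8)) (.leaf (4920, 7))) (.node (.leaf (2872, 10)) (.leaf (0, 0)))) (.node (.node (.leaf (1848, 4)) (.leaf (0, 0))) (.node (.leaf (862, 8)) (.leaf (0, 0))))))) (.node (.node (.node (.node (.node (.leaf (110, 4)) (.leaf (4280, 3))) (.node (.leaf (2232, 10)) (.leaf (0, 0)))) (.node (.node (.leaf (1208, 8)) (.leaf (0, 0))) (.node (.leaf (3256, 10)) (.leaf (0, 0))))) (.node (.node (.node (.leaf (695, 10)) (.leaf (4788, 10))) (.node (.leaf (374, 4)) (.leaf (0, 0)))) (.node (.node (.leaf (1698, 6)) (.leaf (0, 0))) (.node (.leaf (3768, 4)) (.leaf (0, 0)))))) (.node (.node (.node (.node (.leaf (440, 10)) (.leaf (2655, 7))) (.node (.leaf (2488, 10)) (.leaf (0, 0)))) (.node (.node (.leaf (1464, 8)) (.leaf (0, 0))) (.node (.leaf (3512, 3)) (.leaf (0, 0))))) (.node (.node (.node (.leaf (868, 9)) (.leaf (5048, 7))) (.node (.leaf (3000, 6)) (.leaf (0, 0)))) (.node (.node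 (.leaf (1976, 8)) (.leaf (0, 0))) (.node (.leaf (3061, 7)) (.leaf (0, 0)))))))) (.node (.node (.node (.node (.node (.node (.leaf (120, 5)) (.leaf (2131, 7))) (.node (.leaf (1834, 5)) (.leaf (0, 0)))) (.node (.node (.leaf (1144, 5)) (.leaf (0, 0))) (.node (.leaf (3192, 6)) (.leaf (0, 0))))) (.node (.node (.node (.leaf (631, 4)) (.leaf (4727, 11))) (.node (.leaf (2680, 5)) (.leaf (0, 0)))) (.node (.node (.leaf (1656, 10)) (.leaf (0, 0))) (.node (.leaf (3699, 4)) (.leaf (0, 0)))))) (.node (.node (.node (.node (.leaf (103, 9)) (.leaf (4472, 7))) (.node (.leaf (1709, 10)) (.leaf (0, 0)))) (.node (.node (.leaf (1243, 10)) (.leaf (0, 0))) (.node (.leaf (3448, 5)) (.leaf (0, 0))))) (.node (.node (.node (.leaf (876, 9)) (.leaf (1560, 11))) (.node (.leaf (2606, 0)) (.leaf (0, 0)))) (.node (.node (.leaf (1912, 6)) (.leaf (0, 0))) (.node (.leaf (3960, 10)) (.leaf (0, 0))))))) (.node (.node (.node (.node (.node (.leaf (248, 8)) (.leaf (4344,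 7))) (.node (.leaf (2296, 6)) (.leaf (0, 0)))) (.node (.node (.leaf (1272, 4)) (.leaf (0, 0))) (.node (.leaf (3320, 6)) (.leaf (0, 0))))) (.node (.node (.node (.leaf (760, 4)) (.leaf (4856, 6))) (.node (.leaf (2808, 9)) (.leaf (0, 0)))) (.node (.node (.leaf (1408, 1)) (.leaf (0, 0))) (.node (.leaf (3832, 8)) (.leaf (0, 0)))))) (.node (.node (.node (.node (.leaf (504, 10)) (.leaf (4600, 5))) (.node (.leaf (2552, 6)) (.leaf (0, 0)))) (.node (.node (.leaf (208, 5)) (.leaf (0, 0))) (.node (.leaf (2129, 7)) (.leaf (0, 0))))) (.node (.node (.node (.leaf (1016, 5)) (.leaf (128, 11))) (.node (.leaf (3064, 5)) (.leaf (0, 0)))) (.node (.node (.leaf (2040, 7)) (.leaf (0, 0))) (.node (.leaf (4083, 10)) (.leaf (0, 0)))))))))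

def ptsPart25 : ATree (ℕ × ℕ) :=
  .node (.node (.node (.node (.node (.node (.node (.node (.leaf (25, 5)) (.leaf (4121, 4))) (.node (.leaf (2073, 4)) (.leaf (0, 0)))) (.node (.node (.leaf (1049, 7)) (.leaf (5145, 6))) (.node (.leaf (930, 6)) (.leaf (0, 0))))) (.node (.node (.node (.leaf (537, 5)) (.leaf (3071, 7))) (.node (.leaf (2585, 7)) (.leaf (0, 0)))) (.node (.node (.leaf (1561, 6)) (.leaf (0, 0))) (.node (.leaf (3604, 4)) (.leaf (0, 0)))))) (.node (.node (.node (.node (.leaf (281, 4)) (.leaf (4377, 2))) (.node (.leaf (2329, 7)) (.leaf (0, 0)))) (.node (.node (.leaf (1305, 6)) (.leaf (0, 0))) (.node (.leaf (3140, 10)) (.leaf (0, 0))))) (.node (.node (.node (.leaf (697, 11)) (.leaf (2358, 4))) (.node (.leaf (2524, 7)) (.leaf (0, 0)))) (.node (.node (.leaf (1131, 2)) (.leaf (0, 0))) (.node (.leaf (3865, 10)) (.leaf (0, 0))))))) (.node (.node (.node (.node (.node (.leaf (109, 7)) (.leaf (2644, 9))) (.node (.leaf (2000, 7)) (.leaf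 (0, 0)))) (.node (.node (.leaf (1177, 6)) (.leaf (0, 0))) (.node (.leaf (3225, 5)) (.leaf (0, 0))))) (.node (.node (.node (.leaf (81, 4)) (.leaf (4760, 4))) (.node (.leaf (2713, 6)) (.leaf (0, 0)))) (.node (.node (.leaf (1689, 11)) (.leaf (0, 0))) (.node (.leaf (3737, 6)) (.leaf (0, 0)))))) (.node (.node (.node (.node (.leaf (409, 5)) (.leaf (2643, 9))) (.node (.leaf (2457, 5)) (.leaf (0, 0)))) (.node (.node (.leaf (1433, 6)) (.leaf (0, 0))) (.node (.leaf (3481, 4)) (.leaf (0, 0))))) (.node (.node (.node (.leaf (921, 7)) (.leaf (5017, 7))) (.node (.leaf (2969, 10)) (.leaf (0, 0)))) (.node (.node (.leaf (1945, 6)) (.leaf (0, 0))) (.node (.leaf (3854, 8)) (.leaf (0, 0)))))))) (.node (.node (.node (.node (.node (.node (.leaf (89, 4)) (.leaf (2139, 7))) (.node (.leaf (848, 11)) (.leaf (0, 0)))) (.node (.node (.leaf (1113, 10)) (.leaf (0, 0))) (.node (.leaf (3161, 10)) (.leaf (0, 0))))) (.node (.node (.node (.leaf (601, 10)) (.leaf (4275,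 4))) (.node (.leaf (451, 2)) (.leaf (0, 0)))) (.node (.node (.leaf (1625, 7)) (.leaf (0, 0))) (.node (.leaf (3648, 10)) (.leaf (0, 0)))))) (.node (.node (.node (.node (.leaf (345, 5)) (.leaf (4441, 5))) (.node (.leaf (2393, 6)) (.leaf (0, 0)))) (.node (.node (.leaf (1369, 6)) (.leaf (0, 0))) (.node (.leaf (3417, 7)) (.leaf (0, 0))))) (.node (.node (.node (.leaf (857, 9)) (.leaf (4953, 7))) (.node (.leaf (2587, 10)) (.leaf (0, 0)))) (.node (.node (.leaf (1881, 7)) (.leaf (0, 0))) (.node (.leaf (3929, 8)) (.leaf (0, 0))))))) (.node (.node (.node (.node (.node (.leaf (217, 5)) (.leaf (4313, 6))) (.node (.leaf (2265, 7)) (.leaf (0, 0)))) (.node (.node (.leaf (1241, 7)) (.leaf (0, 0))) (.node (.leaf (3289, 10)) (.leaf (0, 0))))) (.node (.node (.node (.leaf (675, 2)) (.leaf (4825, 7))) (.node (.leaf (2775, 7)) (.leaf (0, 0)))) (.node (.node (.leaf (1154, 1)) (.leaf (0, 0))) (.node (.leaf (2747, 8)) (.leaf (0, 0)))))) (.node (.node (.node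 (.node (.leaf (473, 6)) (.leaf (771, 9))) (.node (.leaf (2521, 10)) (.leaf (0, 0)))) (.node (.node (.leaf (1497, 10)) (.leaf (0, 0))) (.node (.leaf (3545, 11)) (.leaf (0, 0))))) (.node (.node (.node (.leaf (984, 4)) (.leaf (5081, 8))) (.node (.leaf (3033, 6)) (.leaf (0, 0)))) (.node (.node (.leaf (2009, 1)) (.leaf (0, 0))) (.node (.leaf (4051, 8)) (.leaf (0, 0))))))))) (.node (.node (.node (.node (.node (.node (.node (.leaf (57, 10)) (.leaf (4153, 6))) (.node (.leaf (2105, 5)) (.leaf (0, 0)))) (.node (.node (.leaf (131, 11)) (.leaf (5177, 7))) (.node (.leaf (959, 9)) (.leaf (0, 0))))) (.node (.node (.node (.leaf (569, 6)) (.leaf (4664, 2))) (.node (.leaf (2617, 5)) (.leaf (0, 0)))) (.node (.node (.leaf (722, 6)) (.leaf (0, 0))) (.node (.leaf (3641, 8)) (.leaf (0, 0)))))) (.node (.node (.node (.node (.leaf (313, 10)) (.leaf (4409, 3))) (.node (.leaf (2361, 6)) (.leaf (0, 0)))) (.node (.node (.leaf (1337, 1)) (.leaf (0, 0))) (.node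 (.leaf (3385, 6)) (.leaf (0, 0))))) (.node (.node (.node (.leaf (825, 9)) (.leaf (4921, 6))) (.node (.leaf (2085, 5)) (.leaf (0, 0)))) (.node (.node (.leaf (1849, 3)) (.leaf (0, 0))) (.node (.leaf (2750, 8)) (.leaf (0, 0))))))) (.node (.node (.node (.node (.node (.leaf (179, 8)) (.leaf (4281, 10))) (.node (.leaf (2233, 7)) (.leaf (0, 0)))) (.node (.node (.leaf (1209, 5)) (.leaf (0, 0))) (.node (.leaf (880, 7)) (.leaf (0, 0))))) (.node (.node (.node (.leaf (695, 2)) (.leaf (4291, 11))) (.node (.leaf (2745, 10)) (.leaf (0, 0)))) (.node (.node (.leaf (768, 5)) (.leaf (0, 0))) (.node (.leaf (3769, 7)) (.leaf (0, 0)))))) (.node (.node (.node (.node (.leaf (441, 11)) (.leaf (4537, 6))) (.node (.leaf (2489, 5)) (.leaf (0, 0)))) (.node (.node (.leaf (1465, 5)) (.leaf (0, 0))) (.node (.leaf (3513, 10)) (.leaf (0, 0))))) (.node (.node (.node (.leaf (952, 6)) (.leaf (5049, 6))) (.node (.leaf (3001, 5)) (.leaf (0, 0)))) (.node (.node (.leaf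 (1977, 5)) (.leaf (0, 0))) (.node (.leaf (3285, 9)) (.leaf (0, 0)))))))) (.node (.node (.node (.node (.node (.node (.leaf (7, 5)) (.leaf (4217, 6))) (.node (.leaf (2169, 7)) (.leaf (0, 0)))) (.node (.node (.leaf (1142, 10)) (.leaf (0, 0))) (.node (.leaf (3193, 5)) (.leaf (0, 0))))) (.node (.node (.node (.leaf (633, 10)) (.leaf (4729, 7))) (.node (.leaf (2681, 6)) (.leaf (0, 0)))) (.node (.node (.leaf (1657, 11)) (.leaf (0, 0))) (.node (.leaf (3705, 7)) (.leaf (0, 0)))))) (.node (.node (.node (.node (.leaf (109, 9)) (.leaf (4473, 6))) (.node (.leaf (1707, 5)) (.leaf (0, 0)))) (.node (.node (.leaf (1401, 5)) (.leaf (0, 0))) (.node (.leaf (3449, 4)) (.leaf (0, 0))))) (.node (.node (.node (.leaf (889, 7)) (.leaf (2449, 11))) (.node (.leaf (2937, 7)) (.leaf (0, 0)))) (.node (.node (.leaf (1361, 4)) (.leaf (0, 0))) (.node (.leaf (3562, 2)) (.leaf (0, 0))))))) (.node (.node (.node (.node (.node (.leaf (249, 5)) (.leaf (452, 11))) (.node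 (.leaf (2297, 5)) (.leaf (0, 0)))) (.node (.node (.leaf (1273, 5)) (.leaf (0, 0))) (.node (.leaf (3321, 5)) (.leaf (0, 0))))) (.node (.node (.node (.leaf (761, 10)) (.leaf (4857, 5))) (.node (.leaf (2787, 10)) (.leaf (0, 0)))) (.node (.node (.leaf (1785, 0)) (.leaf (0, 0))) (.node (.leaf (3077, 7)) (.leaf (0, 0)))))) (.node (.node (.node (.node (.leaf (266, 2)) (.leaf (1954, 11))) (.node (.leaf (2553, 5)) (.leaf (0, 0)))) (.node (.node (.leaf (1529, 4)) (.leaf (0, 0))) (.node (.leaf (3577, 6)) (.leaf (0, 0))))) (.node (.node (.node (.leaf (1017, 10)) (.leaf (2188, 3))) (.node (.leaf (436, 9)) (.leaf (0, 0)))) (.node (.node (.leaf (2041, 6)) (.leaf (0, 0))) (.node (.leaf (4089, 7)) (.leaf (0, 0)))))))))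

def ptsPart26 : ATree (ℕ × ℕ) :=
  .node (.node (.node (.node (.node (.node (.node (.node (.leaf (26, 4)) (.leaf (4122, 10))) (.node (.leaf (2068, 5)) (.leaf (0, 0)))) (.node (.node (.leaf (1050, 6)) (.leaf (3384, 10))) (.node (.leaf (3098, 5)) (.leaf (0, 0))))) (.node (.node (.node (.leaf (538, 10)) (.leaf (3068, 7))) (.node (.leaf (2382, 9)) (.leaf (0, 0)))) (.node (.node (.leaf (1562, 5)) (.leaf (0, 0))) (.node (.leaf (3610, 10)) (.leaf (0, 0)))))) (.node (.node (.node (.node (.leaf (282, 3)) (.leaf (4378, 10))) (.node (.leaf (2330, 6)) (.leaf (0, 0)))) (.node (.node (.leaf (1306, 7)) (.leaf (0, 0))) (.node (.leaf (583, 8)) (.leaf (0, 0))))) (.node (.node (.node (.leaf (694, 11)) (.leaf (2486, 6))) (.node (.leaf (2842, 6)) (.leaf (0, 0)))) (.node (.node (.leaf (1818, 1)) (.leaf (0, 0))) (.node (.leaf (3564, 6)) (.leaf (0, 0))))))) (.node (.node (.node (.node (.node (.leaf (109, 4)) (.leaf (4250, 10))) (.node (.leaf (2202, 6))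 (.leaf (0, 0)))) (.node (.node (.leaf (1178, 5)) (.leaf (0, 0))) (.node (.leaf (3226, 7)) (.leaf (0, 0))))) (.node (.node (.node (.leaf (92, 5)) (.leaf (4762, 10))) (.node (.leaf (2714, 7)) (.leaf (0, 0)))) (.node (.node (.leaf (1068, 10)) (.leaf (0, 0))) (.node (.leaf (3738, 8)) (.leaf (0, 0)))))) (.node (.node (.node (.node (.leaf (410, 9)) (.leaf (4506, 10))) (.node (.leaf (1415, 11)) (.leaf (0, 0)))) (.node (.node (.leaf (1434, 4)) (.leaf (0, 0))) (.node (.leaf (3482, 10)) (.leaf (0, 0))))) (.node (.node (.node (.leaf (922, 6)) (.leaf (5015, 10))) (.node (.leaf (2970, 7)) (.leaf (0, 0)))) (.node (.node (.leaf (1946, 8)) (.leaf (0, 0))) (.node (.leaf (3985, 8)) (.leaf (0, 0)))))))) (.node (.node (.node (.node (.node (.node (.leaf (90, 7)) (.leaf (438, 7))) (.node (.leaf (410, 10)) (.leaf (0, 0)))) (.node (.node (.leaf (1114, 5)) (.leaf (0, 0))) (.node (.leaf (3162, 7)) (.leaf (0, 0))))) (.node (.node (.node (.leaf (602, 5)) (.leaf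 (4258, 11))) (.node (.leaf (2650, 9)) (.leaf (0, 0)))) (.node (.node (.leaf (1626, 6)) (.leaf (0, 0))) (.node (.leaf (3556, 5)) (.leaf (0, 0)))))) (.node (.node (.node (.node (.leaf (346, 6)) (.leaf (4442, 6))) (.node (.leaf (1397, 4)) (.leaf (0, 0)))) (.node (.node (.leaf (1370, 4)) (.leaf (0, 0))) (.node (.leaf (3418, 6)) (.leaf (0, 0))))) (.node (.node (.node (.leaf (854, 7)) (.leaf (4954, 6))) (.node (.leaf (2906, 5)) (.leaf (0, 0)))) (.node (.node (.leaf (1882, 8)) (.leaf (0, 0))) (.node (.leaf (3930, 5)) (.leaf (0, 0))))))) (.node (.node (.node (.node (.node (.leaf (218, 4)) (.leaf (4314, 5))) (.node (.leaf (2266, 6)) (.leaf (0, 0)))) (.node (.node (.leaf (322, 2)) (.leaf (0, 0))) (.node (.leaf (3290, 7)) (.leaf (0, 0))))) (.node (.node (.node (.leaf (730, 10)) (.leaf (4826, 6))) (.node (.leaf (125, 8)) (.leaf (0, 0)))) (.node (.node (.leaf (1754, 0)) (.leaf (0, 0))) (.node (.leaf (2749, 8)) (.leaf (0, 0)))))) (.node (.node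 (.node (.node (.leaf (474, 5)) (.leaf (4570, 7))) (.node (.leaf (2522, 11)) (.leaf (0, 0)))) (.node (.node (.leaf (1498, 5)) (.leaf (0, 0))) (.node (.leaf (3536, 8)) (.leaf (0, 0))))) (.node (.node (.node (.leaf (986, 10)) (.leaf (4516, 8))) (.node (.leaf (3034, 5)) (.leaf (0, 0)))) (.node (.node (.leaf (2003, 8)) (.leaf (0, 0))) (.node (.leaf (4050, 10)) (.leaf (0, 0))))))))) (.node (.node (.node (.node (.node (.node (.node (.leaf (58, 7)) (.leaf (4154, 5))) (.node (.leaf (2106, 6)) (.leaf (0, 0)))) (.node (.node (.leaf (1057, 5)) (.leaf (2748, 8))) (.node (.leaf (3130, 7)) (.leaf (0, 0))))) (.node (.node (.node (.leaf (570, 5)) (.leaf (4666, 10))) (.node (.leaf (596, 1)) (.leaf (0, 0)))) (.node (.node (.leaf (760, 10)) (.leaf (0, 0))) (.node (.leaf (3642, 5)) (.leaf (0, 0)))))) (.node (.node (.node (.node (.leaf (314, 5)) (.leaf (4410, 10))) (.node (.leaf (1768, 10)) (.leaf (0, 0)))) (.node (.node (.leaf (1208, 5)) (.leaf (0, 0)))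 (.node (.leaf (3386, 5)) (.leaf (0, 0))))) (.node (.node (.node (.leaf (826, 7)) (.leaf (2935, 10))) (.node (.leaf (2283, 5)) (.leaf (0, 0)))) (.node (.node (.leaf (1850, 2)) (.leaf (0, 0))) (.node (.leaf (3898, 5)) (.leaf (0, 0))))))) (.node (.node (.node (.node (.node (.leaf (181, 7)) (.leaf (1950, 6))) (.node (.leaf (2234, 6)) (.leaf (0, 0)))) (.node (.node (.leaf (1210, 4)) (.leaf (0, 0))) (.node (.leaf (3258, 6)) (.leaf (0, 0))))) (.node (.node (.node (.leaf (698, 10)) (.leaf (4794, 7))) (.node (.leaf (935, 7)) (.leaf (0, 0)))) (.node (.node (.leaf (1722, 6)) (.leaf (0, 0))) (.node (.leaf (3770, 6)) (.leaf (0, 0)))))) (.node (.node (.node (.node (.leaf (407, 8)) (.leaf (4538, 5))) (.node (.leaf (2490, 7)) (.leaf (0, 0)))) (.node (.node (.leaf (1466, 4)) (.leaf (0, 0))) (.node (.leaf (3514, 11)) (.leaf (0, 0))))) (.node (.node (.node (.leaf (838, 7)) (.leaf (5050, 8))) (.node (.leaf (3002, 4)) (.leaf (0, 0)))) (.node (.node (.leaf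 (1929, 2)) (.leaf (0, 0))) (.node (.leaf (3700, 7)) (.leaf (0, 0)))))))) (.node (.node (.node (.node (.node (.node (.leaf (122, 4)) (.leaf (4218, 5))) (.node (.leaf (2170, 6)) (.leaf (0, 0)))) (.node (.node (.leaf (1146, 7)) (.leaf (0, 0))) (.node (.leaf (3194, 4)) (.leaf (0, 0))))) (.node (.node (.node (.leaf (633, 3)) (.leaf (4712, 5))) (.node (.leaf (2648, 6)) (.leaf (0, 0)))) (.node (.node (.leaf (244, 7)) (.leaf (0, 0))) (.node (.leaf (3706, 6)) (.leaf (0, 0)))))) (.node (.node (.node (.node (.leaf (378, 10)) (.leaf (938, 10))) (.node (.leaf (1771, 11)) (.leaf (0, 0)))) (.node (.node (.leaf (1402, 7)) (.leaf (0, 0))) (.node (.leaf (3450, 7)) (.leaf (0, 0))))) (.node (.node (.node (.leaf (473, 8)) (.leaf (4986, 5))) (.node (.leaf (2616, 7)) (.leaf (0, 0)))) (.node (.node (.leaf (1914, 7)) (.leaf (0, 0))) (.node (.leaf (3962, 7)) (.leaf (0, 0))))))) (.node (.node (.node (.node (.node (.leaf (250, 4)) (.leaf (4346, 5))) (.node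 (.leaf (2298, 10)) (.leaf (0, 0)))) (.node (.node (.leaf (1248, 5)) (.leaf (0, 0))) (.node (.leaf (3322, 10)) (.leaf (0, 0))))) (.node (.node (.node (.leaf (762, 5)) (.leaf (4858, 4))) (.node (.leaf (2810, 7)) (.leaf (0, 0)))) (.node (.node (.leaf (1786, 10)) (.leaf (0, 0))) (.node (.leaf (3834, 6)) (.leaf (0, 0)))))) (.node (.node (.node (.node (.leaf (506, 10)) (.leaf (4602, 7))) (.node (.leaf (2554, 4)) (.leaf (0, 0)))) (.node (.node (.leaf (1530, 3)) (.leaf (0, 0))) (.node (.leaf (3578, 8)) (.leaf (0, 0))))) (.node (.node (.node (.leaf (1018, 11)) (.leaf (4901, 5))) (.node (.leaf (3066, 10)) (.leaf (0, 0)))) (.node (.node (.leaf (2042, 8)) (.leaf (0, 0))) (.node (.leaf (4089, 11)) (.leaf (0, 0)))))))))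

def ptsPart27 : ATree (ℕ × ℕ) :=
  .node (.node (.node (.node (.node (.node (.node (.node (.leaf (27, 10)) (.leaf (4123, 5))) (.node (.leaf (2075, 4)) (.leaf (0, 0)))) (.node (.node (.leaf (1051, 8)) (.leaf (5045, 0))) (.node (.leaf (897, 6)) (.leaf (0, 0))))) (.node (.node (.node (.leaf (539, 7)) (.leaf (3048, 6))) (.node (.leaf (2587, 0)) (.leaf (0, 0)))) (.node (.node (.leaf (1563, 4)) (.leaf (0, 0))) (.node (.leaf (3611, 7)) (.leaf (0, 0)))))) (.node (.node (.node (.node (.leaf (283, 2)) (.leaf (4296, 2))) (.node (.leaf (1419, 6)) (.leaf (0, 0)))) (.node (.node (.leaf (1205, 7)) (.leaf (0, 0))) (.node (.leaf (3226, 10)) (.leaf (0, 0))))) (.node (.node (.node (.leaf (776, 7)) (.leaf (2631, 4))) (.node (.leaf (2244, 9)) (.leaf (0, 0)))) (.node (.node (.leaf (1819, 7)) (.leaf (0, 0))) (.node (.leaf (3867, 5)) (.leaf (0, 0))))))) (.node (.node (.node (.node (.node (.leaf (155, 7)) (.leaf (4251, 11))) (.node (.leaf (2203, 8)) (.leaf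 (0, 0)))) (.node (.node (.leaf (1179, 4)) (.leaf (0, 0))) (.node (.leaf (3227, 6)) (.leaf (0, 0))))) (.node (.node (.node (.leaf (135, 1)) (.leaf (4010, 6))) (.node (.leaf (2715, 6)) (.leaf (0, 0)))) (.node (.node (.leaf (1691, 11)) (.leaf (0, 0))) (.node (.leaf (3710, 7)) (.leaf (0, 0)))))) (.node (.node (.node (.node (.leaf (411, 10)) (.leaf (4507, 11))) (.node (.leaf (2459, 5)) (.leaf (0, 0)))) (.node (.node (.leaf (1435, 5)) (.leaf (0, 0))) (.node (.leaf (976, 8)) (.leaf (0, 0))))) (.node (.node (.node (.leaf (923, 5)) (.leaf (5019, 7))) (.node (.leaf (2971, 6)) (.leaf (0, 0)))) (.node (.node (.leaf (1947, 5)) (.leaf (0, 0))) (.node (.leaf (3859, 5)) (.leaf (0, 0)))))))) (.node (.node (.node (.node (.node (.node (.leaf (91, 6)) (.leaf (4187, 6))) (.node (.leaf (2139, 11)) (.leaf (0, 0)))) (.node (.node (.leaf (1115, 7)) (.leaf (0, 0))) (.node (.leaf (3163, 6)) (.leaf (0, 0))))) (.node (.node (.node (.leaf (528, 10)) (.leaf (4699,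 5))) (.node (.leaf (2651, 10)) (.leaf (0, 0)))) (.node (.node (.leaf (1627, 8)) (.leaf (0, 0))) (.node (.leaf (3675, 4)) (.leaf (0, 0)))))) (.node (.node (.node (.node (.leaf (347, 7)) (.leaf (4443, 7))) (.node (.leaf (2395, 7)) (.leaf (0, 0)))) (.node (.node (.leaf (1371, 5)) (.leaf (0, 0))) (.node (.leaf (3419, 5)) (.leaf (0, 0))))) (.node (.node (.node (.leaf (828, 4)) (.leaf (4851, 11))) (.node (.leaf (2907, 6)) (.leaf (0, 0)))) (.node (.node (.leaf (1869, 10)) (.leaf (0, 0))) (.node (.leaf (3931, 4)) (.leaf (0, 0))))))) (.node (.node (.node (.node (.node (.leaf (214, 7)) (.leaf (4315, 4))) (.node (.leaf (2267, 5)) (.leaf (0, 0)))) (.node (.node (.leaf (1243, 9)) (.leaf (0, 0))) (.node (.leaf (3289, 7)) (.leaf (0, 0))))) (.node (.node (.node (.leaf (688, 10)) (.leaf (4815, 7))) (.node (.leaf (157, 9)) (.leaf (0, 0)))) (.node (.node (.leaf (1755, 10)) (.leaf (0, 0))) (.node (.leaf (939, 7)) (.leaf (0, 0)))))) (.node (.node (.node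 (.node (.leaf (475, 4)) (.leaf (2127, 9))) (.node (.leaf (211, 9)) (.leaf (0, 0)))) (.node (.node (.leaf (1499, 7)) (.leaf (0, 0))) (.node (.leaf (412, 7)) (.leaf (0, 0))))) (.node (.node (.node (.leaf (987, 5)) (.leaf (2681, 7))) (.node (.leaf (3035, 10)) (.leaf (0, 0)))) (.node (.node (.leaf (1626, 8)) (.leaf (0, 0))) (.node (.leaf (4059, 7)) (.leaf (0, 0))))))))) (.node (.node (.node (.node (.node (.node (.node (.leaf (59, 6)) (.leaf (4155, 4))) (.node (.leaf (2094, 10)) (.leaf (0, 0)))) (.node (.node (.leaf (1083, 7)) (.leaf (5179, 7))) (.node (.leaf (835, 7)) (.leaf (0, 0))))) (.node (.node (.node (.leaf (571, 4)) (.leaf (4667, 5))) (.node (.leaf (2619, 10)) (.leaf (0, 0)))) (.node (.node (.leaf (720, 6)) (.leaf (0, 0))) (.node (.leaf (3643, 4)) (.leaf (0, 0)))))) (.node (.node (.node (.node (.leaf (315, 7)) (.leaf (4411, 5))) (.node (.leaf (2363, 5)) (.leaf (0, 0)))) (.node (.node (.leaf (1339, 4)) (.leaf (0, 0))) (.node (.leaf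 (3387, 10)) (.leaf (0, 0))))) (.node (.node (.node (.leaf (825, 5)) (.leaf (4923, 5))) (.node (.leaf (2875, 6)) (.leaf (0, 0)))) (.node (.node (.leaf (1851, 1)) (.leaf (0, 0))) (.node (.leaf (3080, 8)) (.leaf (0, 0))))))) (.node (.node (.node (.node (.node (.leaf (110, 10)) (.leaf (4283, 4))) (.node (.leaf (2235, 5)) (.leaf (0, 0)))) (.node (.node (.leaf (1211, 3)) (.leaf (0, 0))) (.node (.leaf (3259, 5)) (.leaf (0, 0))))) (.node (.node (.node (.leaf (568, 5)) (.leaf (4795, 6))) (.node (.leaf (2747, 6)) (.leaf (0, 0)))) (.node (.node (.leaf (1597, 5)) (.leaf (0, 0))) (.node (.leaf (923, 8)) (.leaf (0, 0)))))) (.node (.node (.node (.node (.leaf (433, 8)) (.leaf (4539, 10))) (.node (.leaf (21, 11)) (.leaf (0, 0)))) (.node (.node (.leaf (1467, 3)) (.leaf (0, 0))) (.node (.leaf (3515, 5)) (.leaf (0, 0))))) (.node (.node (.node (.leaf (955, 6)) (.leaf (5051, 7))) (.node (.leaf (3003, 10)) (.leaf (0, 0)))) (.node (.node (.leaf (1925, 5))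 (.leaf (0, 0))) (.node (.leaf (3902, 7)) (.leaf (0, 0)))))))) (.node (.node (.node (.node (.node (.node (.leaf (123, 3)) (.leaf (4219, 10))) (.node (.leaf (1837, 5)) (.leaf (0, 0)))) (.node (.node (.leaf (1147, 6)) (.leaf (0, 0))) (.node (.leaf (3195, 10)) (.leaf (0, 0))))) (.node (.node (.node (.leaf (635, 10)) (.leaf (4731, 6))) (.node (.leaf (2640, 6)) (.leaf (0, 0)))) (.node (.node (.leaf (1659, 6)) (.leaf (0, 0))) (.node (.leaf (370, 7)) (.leaf (0, 0)))))) (.node (.node (.node (.node (.leaf (379, 11)) (.leaf (4475, 7))) (.node (.leaf (1704, 4)) (.leaf (0, 0)))) (.node (.node (.leaf (1403, 6)) (.leaf (0, 0))) (.node (.leaf (3451, 6)) (.leaf (0, 0))))) (.node (.node (.node (.leaf (891, 9)) (.leaf (2430, 4))) (.node (.leaf (2603, 7)) (.leaf (0, 0)))) (.node (.node (.leaf (1915, 6)) (.leaf (0, 0))) (.node (.leaf (3963, 6)) (.leaf (0, 0))))))) (.node (.node (.node (.node (.node (.leaf (251, 3)) (.leaf (4347, 6))) (.node (.leaf (2294,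 6)) (.leaf (0, 0)))) (.node (.node (.leaf (1275, 4)) (.leaf (0, 0))) (.node (.leaf (926, 7)) (.leaf (0, 0))))) (.node (.node (.node (.leaf (724, 11)) (.leaf (4859, 3))) (.node (.leaf (2767, 7)) (.leaf (0, 0)))) (.node (.node (.leaf (1787, 5)) (.leaf (0, 0))) (.node (.leaf (3835, 8)) (.leaf (0, 0)))))) (.node (.node (.node (.node (.leaf (507, 5)) (.leaf (4603, 6))) (.node (.leaf (2555, 10)) (.leaf (0, 0)))) (.node (.node (.leaf (1531, 10)) (.leaf (0, 0))) (.node (.leaf (3579, 5)) (.leaf (0, 0))))) (.node (.node (.node (.leaf (1002, 10)) (.leaf (5115, 6))) (.node (.leaf (3067, 11)) (.leaf (0, 0)))) (.node (.node (.leaf (2043, 5)) (.leaf (0, 0))) (.node (.leaf (4091, 7)) (.leaf (0, 0)))))))))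

def ptsPart28 : ATree (ℕ × ℕ) :=
  .node (.node (.node (.node (.node (.node (.node (.node (.leaf (28, 11)) (.leaf (4124, 6))) (.node (.leaf (1966, 6)) (.leaf (0, 0)))) (.node (.node (.leaf (1052, 5)) (.leaf (399, 7))) (.node (.leaf (3100, 5)) (.leaf (0, 0))))) (.node (.node (.node (.leaf (540, 6)) (.leaf (3047, 6))) (.node (.leaf (2588, 7)) (.leaf (0, 0)))) (.node (.node (.leaf (1564, 3)) (.leaf (0, 0))) (.node (.leaf (3612, 6)) (.leaf (0, 0)))))) (.node (.node (.node (.node (.leaf (284, 7)) (.leaf (4380, 10))) (.node (.leaf (2332, 4)) (.leaf (0, 0)))) (.node (.node (.leaf (1308, 6)) (.leaf (0, 0))) (.node (.leaf (3356, 7)) (.leaf (0, 0))))) (.node (.node (.node (.leaf (796, 6)) (.leaf (2628, 4))) (.node (.leaf (2844, 7)) (.leaf (0, 0)))) (.node (.node (.leaf (1123, 5)) (.leaf (0, 0))) (.node (.leaf (3553, 7)) (.leaf (0, 0))))))) (.node (.node (.node (.node (.node (.leaf (126, 8)) (.leaf (4252, 7))) (.node (.leaf (2204, 5)) (.leaf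 (0, 0)))) (.node (.node (.leaf (1180, 3)) (.leaf (0, 0))) (.node (.leaf (3228, 5)) (.leaf (0, 0))))) (.node (.node (.node (.leaf (668, 2)) (.leaf (4764, 5))) (.node (.leaf (2716, 5)) (.leaf (0, 0)))) (.node (.node (.leaf (1069, 10)) (.leaf (0, 0))) (.node (.leaf (3711, 7)) (.leaf (0, 0)))))) (.node (.node (.node (.node (.leaf (412, 11)) (.leaf (2642, 9))) (.node (.leaf (1396, 11)) (.leaf (0, 0)))) (.node (.node (.leaf (1436, 7)) (.leaf (0, 0))) (.node (.leaf (3484, 5)) (.leaf (0, 0))))) (.node (.node (.node (.leaf (924, 10)) (.leaf (4725, 10))) (.node (.leaf (2972, 5)) (.leaf (0, 0)))) (.node (.node (.leaf (1945, 8)) (.leaf (0, 0))) (.node (.leaf (3996, 7)) (.leaf (0, 0)))))))) (.node (.node (.node (.node (.node (.node (.leaf (92, 8)) (.leaf (4188, 5))) (.node (.leaf (417, 10)) (.leaf (0, 0)))) (.node (.node (.leaf (1116, 6)) (.leaf (0, 0))) (.node (.leaf (3161, 9)) (.leaf (0, 0))))) (.node (.node (.node (.leaf (604, 11)) (.leaf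 (4700, 6))) (.node (.leaf (2652, 5)) (.leaf (0, 0)))) (.node (.node (.leaf (1628, 7)) (.leaf (0, 0))) (.node (.leaf (3554, 2)) (.leaf (0, 0)))))) (.node (.node (.node (.node (.leaf (98, 11)) (.leaf (4439, 10))) (.node (.leaf (2396, 6)) (.leaf (0, 0)))) (.node (.node (.leaf (1372, 7)) (.leaf (0, 0))) (.node (.leaf (2650, 1)) (.leaf (0, 0))))) (.node (.node (.node (.leaf (860, 9)) (.leaf (2591, 10))) (.node (.leaf (37, 1)) (.leaf (0, 0)))) (.node (.node (.leaf (1884, 5)) (.leaf (0, 0))) (.node (.leaf (3932, 7)) (.leaf (0, 0))))))) (.node (.node (.node (.node (.node (.leaf (220, 6)) (.leaf (3066, 7))) (.node (.leaf (2268, 4)) (.leaf (0, 0)))) (.node (.node (.leaf (1244, 10)) (.leaf (0, 0))) (.node (.leaf (3247, 2)) (.leaf (0, 0))))) (.node (.node (.node (.leaf (732, 11)) (.leaf (4828, 6))) (.node (.leaf (141, 8)) (.leaf (0, 0)))) (.node (.node (.leaf (1641, 8)) (.leaf (0, 0))) (.node (.leaf (3804, 8)) (.leaf (0, 0)))))) (.node (.node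 (.node (.node (.leaf (476, 10)) (.leaf (2128, 7))) (.node (.leaf (2524, 10)) (.leaf (0, 0)))) (.node (.node (.leaf (1500, 6)) (.leaf (0, 0))) (.node (.leaf (3548, 8)) (.leaf (0, 0))))) (.node (.node (.node (.leaf (988, 6)) (.leaf (5084, 8))) (.node (.leaf (948, 6)) (.leaf (0, 0)))) (.node (.node (.leaf (2001, 7)) (.leaf (0, 0))) (.node (.leaf (4060, 6)) (.leaf (0, 0))))))))) (.node (.node (.node (.node (.node (.node (.node (.leaf (60, 5)) (.leaf (4156, 3))) (.node (.leaf (2108, 5)) (.leaf (0, 0)))) (.node (.node (.leaf (1084, 6)) (.leaf (3810, 8))) (.node (.leaf (2722, 9)) (.leaf (0, 0))))) (.node (.node (.node (.leaf (572, 10)) (.leaf (3641, 5))) (.node (.leaf (2620, 5)) (.leaf (0, 0)))) (.node (.node (.leaf (757, 11)) (.leaf (0, 0))) (.node (.leaf (3644, 3)) (.leaf (0, 0)))))) (.node (.node (.node (.node (.leaf (316, 6)) (.leaf (4412, 6))) (.node (.leaf (2364, 6)) (.leaf (0, 0)))) (.node (.node (.leaf (1340, 3)) (.leaf (0, 0)))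 (.node (.leaf (3386, 8)) (.leaf (0, 0))))) (.node (.node (.node (.leaf (828, 9)) (.leaf (4924, 7))) (.node (.leaf (2313, 11)) (.leaf (0, 0)))) (.node (.node (.leaf (1501, 5)) (.leaf (0, 0))) (.node (.leaf (3900, 5)) (.leaf (0, 0))))))) (.node (.node (.node (.node (.node (.leaf (109, 10)) (.leaf (4284, 7))) (.node (.leaf (1612, 1)) (.leaf (0, 0)))) (.node (.node (.leaf (1212, 10)) (.leaf (0, 0))) (.node (.leaf (884, 7)) (.leaf (0, 0))))) (.node (.node (.node (.leaf (559, 10)) (.leaf (4796, 5))) (.node (.leaf (937, 7)) (.leaf (0, 0)))) (.node (.node (.leaf (1153, 10)) (.leaf (0, 0))) (.node (.leaf (3772, 5)) (.leaf (0, 0)))))) (.node (.node (.node (.node (.leaf (432, 6)) (.leaf (2650, 7))) (.node (.leaf (2492, 5)) (.leaf (0, 0)))) (.node (.node (.leaf (1468, 2)) (.leaf (0, 0))) (.node (.leaf (3516, 4)) (.leaf (0, 0))))) (.node (.node (.node (.leaf (837, 7)) (.leaf (5049, 8))) (.node (.leaf (3003, 3)) (.leaf (0, 0)))) (.node (.node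 (.leaf (1980, 4)) (.leaf (0, 0))) (.node (.leaf (4028, 6)) (.leaf (0, 0)))))))) (.node (.node (.node (.node (.node (.node (.leaf (124, 7)) (.leaf (4168, 10))) (.node (.leaf (1838, 5)) (.leaf (0, 0)))) (.node (.node (.leaf (37, 10)) (.leaf (0, 0))) (.node (.leaf (2824, 7)) (.leaf (0, 0))))) (.node (.node (.node (.leaf (635, 2)) (.leaf (4732, 7))) (.node (.leaf (1397, 6)) (.leaf (0, 0)))) (.node (.node (.leaf (1660, 5)) (.leaf (0, 0))) (.node (.leaf (3708, 6)) (.leaf (0, 0)))))) (.node (.node (.node (.node (.leaf (380, 7)) (.leaf (4476, 6))) (.node (.leaf (1551, 11)) (.leaf (0, 0)))) (.node (.node (.leaf (1385, 5)) (.leaf (0, 0))) (.node (.leaf (1720, 4)) (.leaf (0, 0))))) (.node (.node (.node (.leaf (886, 7)) (.leaf (2439, 10))) (.node (.leaf (2940, 6)) (.leaf (0, 0)))) (.node (.node (.leaf (1916, 8)) (.leaf (0, 0))) (.node (.leaf (3964, 5)) (.leaf (0, 0))))))) (.node (.node (.node (.node (.node (.leaf (252, 2)) (.leaf (4348, 7)))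 (.node (.leaf (2300, 7)) (.leaf (0, 0)))) (.node (.node (.leaf (1276, 3)) (.leaf (0, 0))) (.node (.leaf (900, 7)) (.leaf (0, 0))))) (.node (.node (.node (.leaf (723, 11)) (.leaf (4860, 2))) (.node (.leaf (2766, 9)) (.leaf (0, 0)))) (.node (.node (.leaf (1490, 7)) (.leaf (0, 0))) (.node (.leaf (3836, 5)) (.leaf (0, 0)))))) (.node (.node (.node (.node (.leaf (508, 7)) (.leaf (4604, 5))) (.node (.leaf (2556, 5)) (.leaf (0, 0)))) (.node (.node (.leaf (206, 6)) (.leaf (0, 0))) (.node (.leaf (3045, 8)) (.leaf (0, 0))))) (.node (.node (.node (.leaf (1020, 11)) (.leaf (1559, 1))) (.node (.leaf (357, 9)) (.leaf (0, 0)))) (.node (.node (.leaf (2044, 4)) (.leaf (0, 0))) (.node (.leaf (4091, 5)) (.leaf (0, 0)))))))))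

def ptsPart29 : ATree (ℕ × ℕ) :=
  .node (.node (.node (.node (.node (.node (.node (.node (.leaf (29, 5)) (.leaf (4125, 7))) (.node (.leaf (2077, 5)) (.leaf (0, 0)))) (.node (.node (.leaf (1053, 4)) (.leaf (5149, 6))) (.node (.leaf (896, 6)) (.leaf (0, 0))))) (.node (.node (.node (.leaf (541, 5)) (.leaf (4084, 10))) (.node (.leaf (2499, 2)) (.leaf (0, 0)))) (.node (.node (.leaf (1565, 2)) (.leaf (0, 0))) (.node (.leaf (3613, 5)) (.leaf (0, 0)))))) (.node (.node (.node (.node (.leaf (285, 6)) (.leaf (4338, 5))) (.node (.leaf (2333, 7)) (.leaf (0, 0)))) (.node (.node (.leaf (1309, 5)) (.leaf (0, 0))) (.node (.leaf (3357, 6)) (.leaf (0, 0))))) (.node (.node (.node (.leaf (797, 5)) (.leaf (2633, 4))) (.node (.leaf (2845, 6)) (.leaf (0, 0)))) (.node (.node (.leaf (1821, 4)) (.leaf (0, 0))) (.node (.leaf (3869, 6)) (.leaf (0, 0))))))) (.node (.node (.node (.node (.node (.leaf (157, 5)) (.leaf (4253, 6))) (.node (.leaf (2205, 10)) (.leaf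 (0, 0)))) (.node (.node (.leaf (1181, 10)) (.leaf (0, 0))) (.node (.leaf (3222, 10)) (.leaf (0, 0))))) (.node (.node (.node (.leaf (136, 1)) (.leaf (4765, 10))) (.node (.leaf (2717, 4)) (.leaf (0, 0)))) (.node (.node (.leaf (1693, 11)) (.leaf (0, 0))) (.node (.leaf (3709, 5)) (.leaf (0, 0)))))) (.node (.node (.node (.node (.leaf (413, 7)) (.leaf (2164, 10))) (.node (.leaf (2461, 5)) (.leaf (0, 0)))) (.node (.node (.leaf (1437, 8)) (.leaf (0, 0))) (.node (.leaf (3485, 4)) (.leaf (0, 0))))) (.node (.node (.node (.leaf (920, 3)) (.leaf (5021, 11))) (.node (.leaf (2973, 4)) (.leaf (0, 0)))) (.node (.node (.leaf (1932, 5)) (.leaf (0, 0))) (.node (.leaf (3997, 6)) (.leaf (0, 0)))))))) (.node (.node (.node (.node (.node (.node (.leaf (89, 7)) (.leaf (4189, 4))) (.node (.leaf (2141, 11)) (.leaf (0, 0)))) (.node (.node (.leaf (1105, 2)) (.leaf (0, 0))) (.node (.leaf (3165, 10)) (.leaf (0, 0))))) (.node (.node (.node (.leaf (503, 11)) (.leaf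 (4701, 7))) (.node (.leaf (2650, 10)) (.leaf (0, 0)))) (.node (.node (.leaf (1243, 1)) (.leaf (0, 0))) (.node (.leaf (3677, 7)) (.leaf (0, 0)))))) (.node (.node (.node (.node (.leaf (349, 5)) (.leaf (4350, 11))) (.node (.leaf (1360, 11)) (.leaf (0, 0)))) (.node (.node (.leaf (1373, 8)) (.leaf (0, 0))) (.node (.leaf (3421, 9)) (.leaf (0, 0))))) (.node (.node (.node (.leaf (861, 7)) (.leaf (4849, 10))) (.node (.leaf (2909, 9)) (.leaf (0, 0)))) (.node (.node (.leaf (1885, 6)) (.leaf (0, 0))) (.node (.leaf (3933, 6)) (.leaf (0, 0))))))) (.node (.node (.node (.node (.node (.leaf (221, 5)) (.leaf (4317, 6))) (.node (.leaf (2269, 10)) (.leaf (0, 0)))) (.node (.node (.leaf (1245, 5)) (.leaf (0, 0))) (.node (.leaf (3020, 2)) (.leaf (0, 0))))) (.node (.node (.node (.leaf (696, 11)) (.leaf (4816, 7))) (.node (.leaf (2781, 9)) (.leaf (0, 0)))) (.node (.node (.leaf (1757, 7)) (.leaf (0, 0))) (.node (.leaf (3804, 6)) (.leaf (0, 0)))))) (.node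 (.node (.node (.node (.leaf (477, 5)) (.leaf (4573, 6))) (.node (.leaf (2525, 11)) (.leaf (0, 0)))) (.node (.node (.leaf (1501, 8)) (.leaf (0, 0))) (.node (.leaf (3548, 6)) (.leaf (0, 0))))) (.node (.node (.node (.leaf (989, 7)) (.leaf (2115, 8))) (.node (.leaf (3037, 5)) (.leaf (0, 0)))) (.node (.node (.leaf (2013, 6)) (.leaf (0, 0))) (.node (.leaf (4061, 8)) (.leaf (0, 0))))))))) (.node (.node (.node (.node (.node (.node (.node (.leaf (57, 4)) (.leaf (4157, 10))) (.node (.leaf (2109, 6)) (.leaf (0, 0)))) (.node (.node (.leaf (1085, 8)) (.leaf (934, 1))) (.node (.leaf (3133, 7)) (.leaf (0, 0))))) (.node (.node (.node (.leaf (515, 4)) (.leaf (4669, 4))) (.node (.leaf (2411, 4)) (.leaf (0, 0)))) (.node (.node (.leaf (1158, 10)) (.leaf (0, 0))) (.node (.leaf (3645, 7)) (.leaf (0, 0)))))) (.node (.node (.node (.node (.leaf (317, 5)) (.leaf (2671, 7))) (.node (.leaf (707, 5)) (.leaf (0, 0)))) (.node (.node (.leaf (1341, 10)) (.leaf (0,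 0))) (.node (.leaf (3389, 5)) (.leaf (0, 0))))) (.node (.node (.node (.leaf (829, 7)) (.leaf (4925, 6))) (.node (.leaf (273, 10)) (.leaf (0, 0)))) (.node (.node (.leaf (1853, 4)) (.leaf (0, 0))) (.node (.leaf (3901, 10)) (.leaf (0, 0))))))) (.node (.node (.node (.node (.node (.leaf (189, 7)) (.leaf (4285, 6))) (.node (.leaf (2237, 0)) (.leaf (0, 0)))) (.node (.node (.leaf (1213, 11)) (.leaf (0, 0))) (.node (.leaf (3261, 6)) (.leaf (0, 0))))) (.node (.node (.node (.leaf (567, 5)) (.leaf (4797, 10))) (.node (.leaf (2749, 6)) (.leaf (0, 0)))) (.node (.node (.leaf (1725, 11)) (.leaf (0, 0))) (.node (.leaf (3773, 10)) (.leaf (0, 0)))))) (.node (.node (.node (.node (.leaf (445, 7)) (.leaf (4541, 6))) (.node (.leaf (703, 8)) (.leaf (0, 0)))) (.node (.node (.leaf (1469, 9)) (.leaf (0, 0))) (.node (.leaf (2657, 7)) (.leaf (0, 0))))) (.node (.node (.node (.leaf (957, 6)) (.leaf (5046, 10))) (.node (.leaf (3005, 10)) (.leaf (0, 0)))) (.node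 (.node (.leaf (1981, 3)) (.leaf (0, 0))) (.node (.leaf (4013, 6)) (.leaf (0, 0)))))))) (.node (.node (.node (.node (.node (.node (.leaf (125, 6)) (.leaf (4140, 10))) (.node (.leaf (1839, 5)) (.leaf (0, 0)))) (.node (.node (.leaf (1149, 5)) (.leaf (0, 0))) (.node (.leaf (3197, 6)) (.leaf (0, 0))))) (.node (.node (.node (.leaf (637, 10)) (.leaf (4733, 8))) (.node (.leaf (1389, 10)) (.leaf (0, 0)))) (.node (.node (.leaf (1661, 10)) (.leaf (0, 0))) (.node (.leaf (3709, 8)) (.leaf (0, 0)))))) (.node (.node (.node (.node (.leaf (381, 6)) (.leaf (4049, 10))) (.node (.leaf (2429, 5)) (.leaf (0, 0)))) (.node (.node (.leaf (1405, 4)) (.leaf (0, 0))) (.node (.leaf (3426, 7)) (.leaf (0, 0))))) (.node (.node (.node (.leaf (887, 7)) (.leaf (1666, 11))) (.node (.leaf (2594, 6)) (.leaf (0, 0)))) (.node (.node (.leaf (1917, 5)) (.leaf (0, 0))) (.node (.leaf (3962, 10)) (.leaf (0, 0))))))) (.node (.node (.node (.node (.node (.leaf (253, 9)) (.leaf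 (2678, 10))) (.node (.leaf (2301, 6)) (.leaf (0, 0)))) (.node (.node (.leaf (1277, 2)) (.leaf (0, 0))) (.node (.leaf (907, 7)) (.leaf (0, 0))))) (.node (.node (.node (.leaf (573, 11)) (.leaf (4861, 10))) (.node (.leaf (2759, 9)) (.leaf (0, 0)))) (.node (.node (.leaf (1506, 1)) (.leaf (0, 0))) (.node (.leaf (3837, 7)) (.leaf (0, 0)))))) (.node (.node (.node (.node (.leaf (509, 6)) (.leaf (4602, 5))) (.node (.leaf (2557, 6)) (.leaf (0, 0)))) (.node (.node (.leaf (1533, 7)) (.leaf (0, 0))) (.node (.leaf (3581, 5)) (.leaf (0, 0))))) (.node (.node (.node (.leaf (1003, 10)) (.leaf (5117, 10))) (.node (.leaf (3069, 10)) (.leaf (0, 0)))) (.node (.node (.leaf (2045, 3)) (.leaf (0, 0))) (.node (.leaf (4093, 7)) (.leaf (0, 0)))))))))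

def ptsPart30 : ATree (ℕ × ℕ) :=
  .node (.node (.node (.node (.node (.node (.node (.node (.leaf (30, 10)) (.leaf (2656, 7))) (.node (.leaf (2078, 4)) (.leaf (0, 0)))) (.node (.node (.leaf (1054, 3)) (.leaf (398, 7))) (.node (.leaf (3102, 5)) (.leaf (0, 0))))) (.node (.node (.node (.leaf (542, 4)) (.leaf (3595, 10))) (.node (.leaf (2590, 1)) (.leaf (0, 0)))) (.node (.node (.leaf (9, 7)) (.leaf (0, 0))) (.node (.leaf (3614, 4)) (.leaf (0, 0)))))) (.node (.node (.node (.node (.leaf (286, 5)) (.leaf (4382, 4))) (.node (.leaf (2334, 6)) (.leaf (0, 0)))) (.node (.node (.leaf (1310, 4)) (.leaf (0, 0))) (.node (.leaf (211, 10)) (.leaf (0, 0))))) (.node (.node (.node (.leaf (798, 4)) (.leaf (2404, 6))) (.node (.leaf (1554, 8)) (.leaf (0, 0)))) (.node (.node (.leaf (1822, 3)) (.leaf (0, 0))) (.node (.leaf (3870, 5)) (.leaf (0, 0))))))) (.node (.node (.node (.node (.node (.leaf (158, 10)) (.leaf (4254, 8))) (.node (.leaf (2206, 11)) (.leaf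 (0, 0)))) (.node (.node (.leaf (1182, 11)) (.leaf (0, 0))) (.node (.leaf (2989, 10)) (.leaf (0, 0))))) (.node (.node (.node (.leaf (667, 10)) (.leaf (747, 7))) (.node (.leaf (2577, 7)) (.leaf (0, 0)))) (.node (.node (.leaf (1694, 5)) (.leaf (0, 0))) (.node (.leaf (3742, 4)) (.leaf (0, 0)))))) (.node (.node (.node (.node (.leaf (409, 9)) (.leaf (1971, 5))) (.node (.leaf (1205, 4)) (.leaf (0, 0)))) (.node (.node (.leaf (1360, 7)) (.leaf (0, 0))) (.node (.leaf (3486, 10)) (.leaf (0, 0))))) (.node (.node (.node (.leaf (926, 9)) (.leaf (5022, 7))) (.node (.leaf (2974, 3)) (.leaf (0, 0)))) (.node (.node (.leaf (1950, 4)) (.leaf (0, 0))) (.node (.leaf (3998, 5)) (.leaf (0, 0)))))))) (.node (.node (.node (.node (.node (.node (.leaf (94, 6)) (.leaf (437, 7))) (.node (.leaf (2125, 10)) (.leaf (0, 0)))) (.node (.node (.leaf (1118, 9)) (.leaf (0, 0))) (.node (.leaf (3166, 7)) (.leaf (0, 0))))) (.node (.node (.node (.leaf (557, 10)) (.leaf (4702,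 8))) (.node (.leaf (2654, 5)) (.leaf (0, 0)))) (.node (.node (.leaf (1630, 0)) (.leaf (0, 0))) (.node (.leaf (3678, 6)) (.leaf (0, 0)))))) (.node (.node (.node (.node (.leaf (350, 4)) (.leaf (4446, 5))) (.node (.leaf (2398, 5)) (.leaf (0, 0)))) (.node (.node (.leaf (1254, 4)) (.leaf (0, 0))) (.node (.leaf (3422, 7)) (.leaf (0, 0))))) (.node (.node (.node (.leaf (836, 4)) (.leaf (4958, 11))) (.node (.leaf (2910, 10)) (.leaf (0, 0)))) (.node (.node (.leaf (1886, 7)) (.leaf (0, 0))) (.node (.leaf (2284, 7)) (.leaf (0, 0))))))) (.node (.node (.node (.node (.node (.leaf (222, 4)) (.leaf (435, 9))) (.node (.leaf (2270, 5)) (.leaf (0, 0)))) (.node (.node (.leaf (1246, 7)) (.leaf (0, 0))) (.node (.leaf (191, 11)) (.leaf (0, 0))))) (.node (.node (.node (.leaf (734, 5)) (.leaf (4830, 6))) (.node (.leaf (2782, 7)) (.leaf (0, 0)))) (.node (.node (.leaf (1495, 0)) (.leaf (0, 0))) (.node (.leaf (3806, 8)) (.leaf (0, 0)))))) (.node (.node (.node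 (.node (.leaf (468, 10)) (.leaf (4574, 5))) (.node (.leaf (2526, 7)) (.leaf (0, 0)))) (.node (.node (.leaf (1502, 5)) (.leaf (0, 0))) (.node (.leaf (3550, 8)) (.leaf (0, 0))))) (.node (.node (.node (.leaf (288, 10)) (.leaf (796, 8))) (.node (.leaf (3038, 10)) (.leaf (0, 0)))) (.node (.node (.leaf (2014, 8)) (.leaf (0, 0))) (.node (.leaf (4059, 11)) (.leaf (0, 0))))))))) (.node (.node (.node (.node (.node (.node (.node (.leaf (62, 10)) (.leaf (2678, 7))) (.node (.leaf (773, 3)) (.leaf (0, 0)))) (.node (.node (.leaf (1086, 5)) (.leaf (5182, 9))) (.node (.leaf (3134, 6)) (.leaf (0, 0))))) (.node (.node (.node (.leaf (574, 10)) (.leaf (4670, 3))) (.node (.leaf (1572, 4)) (.leaf (0, 0)))) (.node (.node (.leaf (1598, 11)) (.leaf (0, 0))) (.node (.leaf (3646, 6)) (.leaf (0, 0)))))) (.node (.node (.node (.node (.leaf (318, 4)) (.leaf (4414, 6))) (.node (.leaf (2366, 6)) (.leaf (0, 0)))) (.node (.node (.leaf (1342, 5)) (.leaf (0, 0))) (.node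 (.leaf (3390, 10)) (.leaf (0, 0))))) (.node (.node (.node (.leaf (491, 8)) (.leaf (4923, 7))) (.node (.leaf (2878, 11)) (.leaf (0, 0)))) (.node (.node (.leaf (1854, 3)) (.leaf (0, 0))) (.node (.leaf (3661, 10)) (.leaf (0, 0))))))) (.node (.node (.node (.node (.node (.leaf (104, 10)) (.leaf (4286, 5))) (.node (.leaf (2238, 10)) (.leaf (0, 0)))) (.node (.node (.leaf (1214, 5)) (.leaf (0, 0))) (.node (.leaf (3262, 5)) (.leaf (0, 0))))) (.node (.node (.node (.leaf (12, 7)) (.leaf (2554, 10))) (.node (.leaf (2734, 9)) (.leaf (0, 0)))) (.node (.node (.leaf (1726, 5)) (.leaf (0, 0))) (.node (.leaf (3774, 7)) (.leaf (0, 0)))))) (.node (.node (.node (.node (.leaf (446, 6)) (.leaf (4542, 5))) (.node (.leaf (14, 8)) (.leaf (0, 0)))) (.node (.node (.leaf (1470, 10)) (.leaf (0, 0))) (.node (.leaf (3518, 6)) (.leaf (0, 0))))) (.node (.node (.node (.leaf (556, 8)) (.leaf (5054, 7))) (.node (.leaf (949, 6)) (.leaf (0, 0)))) (.node (.node (.leaf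 (1982, 2)) (.leaf (0, 0))) (.node (.leaf (4030, 8)) (.leaf (0, 0)))))))) (.node (.node (.node (.node (.node (.node (.leaf (126, 5)) (.leaf (4149, 10))) (.node (.leaf (2174, 7)) (.leaf (0, 0)))) (.node (.node (.leaf (1150, 7)) (.leaf (0, 0))) (.node (.leaf (3198, 5)) (.leaf (0, 0))))) (.node (.node (.node (.leaf (628, 5)) (.leaf (2478, 9))) (.node (.leaf (2686, 11)) (.leaf (0, 0)))) (.node (.node (.leaf (1581, 10)) (.leaf (0, 0))) (.node (.leaf (3710, 5)) (.leaf (0, 0)))))) (.node (.node (.node (.node (.leaf (11, 7)) (.leaf (4478, 7))) (.node (.leaf (1767, 1)) (.leaf (0, 0)))) (.node (.node (.leaf (1406, 3)) (.leaf (0, 0))) (.node (.leaf (456, 7)) (.leaf (0, 0))))) (.node (.node (.node (.leaf (877, 10)) (.leaf (1677, 11))) (.node (.leaf (2596, 6)) (.leaf (0, 0)))) (.node (.node (.leaf (1918, 4)) (.leaf (0, 0))) (.node (.leaf (3562, 10)) (.leaf (0, 0))))))) (.node (.node (.node (.node (.node (.leaf (254, 10)) (.leaf (4350, 5))) (.node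 (.leaf (2302, 5)) (.leaf (0, 0)))) (.node (.node (.leaf (1278, 10)) (.leaf (0, 0))) (.node (.leaf (901, 7)) (.leaf (0, 0))))) (.node (.node (.node (.leaf (504, 4)) (.leaf (1997, 10))) (.node (.leaf (129, 8)) (.leaf (0, 0)))) (.node (.node (.leaf (1790, 7)) (.leaf (0, 0))) (.node (.leaf (3838, 6)) (.leaf (0, 0)))))) (.node (.node (.node (.node (.leaf (510, 5)) (.leaf (4606, 7))) (.node (.leaf (2558, 7)) (.leaf (0, 0)))) (.node (.node (.leaf (1534, 6)) (.leaf (0, 0))) (.node (.leaf (424, 7)) (.leaf (0, 0))))) (.node (.node (.node (.leaf (1022, 11)) (.leaf (1104, 9))) (.node (.leaf (3070, 11)) (.leaf (0, 0)))) (.node (.node (.leaf (2046, 2)) (.leaf (0, 0))) (.node (.leaf (4093, 4)) (.leaf (0, 0)))))))))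

def ptsPart31 : ATree (ℕ × ℕ) :=
  .node (.node (.node (.node (.node (.node (.node (.node (.leaf (31, 7)) (.leaf (4127, 6))) (.node (.leaf (1946, 5)) (.leaf (0, 0)))) (.node (.node (.leaf (1055, 9)) (.leaf (1017, 7))) (.node (.leaf (893, 6)) (.leaf (0, 0))))) (.node (.node (.node (.leaf (543, 3)) (.leaf (3571, 10))) (.node (.leaf (2591, 9)) (.leaf (0, 0)))) (.node (.node (.leaf (1567, 6)) (.leaf (0, 0))) (.node (.leaf (3611, 11)) (.leaf (0, 0)))))) (.node (.node (.node (.node (.leaf (257, 5)) (.leaf (4383, 3))) (.node (.leaf (2327, 5)) (.leaf (0, 0)))) (.node (.node (.leaf (1311, 3)) (.leaf (0, 0))) (.node (.leaf (3359, 11)) (.leaf (0, 0))))) (.node (.node (.node (.leaf (799, 3)) (.leaf (2444, 10))) (.node (.leaf (207, 8)) (.leaf (0, 0)))) (.node (.node (.leaf (1823, 2)) (.leaf (0, 0))) (.node (.leaf (3552, 7)) (.leaf (0, 0))))))) (.node (.node (.node (.node (.node (.leaf (124, 2)) (.leaf (4255, 5))) (.node (.leaf (1998, 10)) (.leaf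 (0, 0)))) (.node (.node (.leaf (1183, 5)) (.leaf (0, 0))) (.node (.leaf (3231, 11)) (.leaf (0, 0))))) (.node (.node (.node (.leaf (666, 10)) (.leaf (4767, 6))) (.node (.leaf (2719, 6)) (.leaf (0, 0)))) (.node (.node (.leaf (1695, 6)) (.leaf (0, 0))) (.node (.leaf (376, 9)) (.leaf (0, 0)))))) (.node (.node (.node (.node (.leaf (398, 9)) (.leaf (4511, 10))) (.node (.leaf (1419, 4)) (.leaf (0, 0)))) (.node (.node (.leaf (1439, 6)) (.leaf (0, 0))) (.node (.leaf (3487, 11)) (.leaf (0, 0))))) (.node (.node (.node (.leaf (927, 7)) (.leaf (4724, 10))) (.node (.leaf (2975, 2)) (.leaf (0, 0)))) (.node (.node (.leaf (1951, 7)) (.leaf (0, 0))) (.node (.leaf (3792, 5)) (.leaf (0, 0)))))))) (.node (.node (.node (.node (.node (.node (.leaf (95, 8)) (.leaf (4191, 6))) (.node (.leaf (2121, 3)) (.leaf (0, 0)))) (.node (.node (.leaf (1119, 10)) (.leaf (0, 0))) (.node (.leaf (3167, 6)) (.leaf (0, 0))))) (.node (.node (.node (.leaf (607, 11)) (.leaf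 (1388, 9))) (.node (.leaf (2111, 2)) (.leaf (0, 0)))) (.node (.node (.leaf (1631, 10)) (.leaf (0, 0))) (.node (.leaf (3679, 5)) (.leaf (0, 0)))))) (.node (.node (.node (.node (.leaf (351, 10)) (.leaf (591, 8))) (.node (.leaf (2399, 10)) (.leaf (0, 0)))) (.node (.node (.leaf (1369, 4)) (.leaf (0, 0))) (.node (.leaf (3423, 6)) (.leaf (0, 0))))) (.node (.node (.node (.leaf (863, 9)) (.leaf (2262, 10))) (.node (.leaf (2911, 11)) (.leaf (0, 0)))) (.node (.node (.leaf (1319, 2)) (.leaf (0, 0))) (.node (.leaf (3935, 6)) (.leaf (0, 0))))))) (.node (.node (.node (.node (.node (.leaf (223, 10)) (.leaf (4319, 7))) (.node (.leaf (2271, 6)) (.leaf (0, 0)))) (.node (.node (.leaf (1247, 6)) (.leaf (0, 0))) (.node (.leaf (3295, 7)) (.leaf (0, 0))))) (.node (.node (.node (.leaf (686, 11)) (.leaf (4821, 7))) (.node (.leaf (140, 8)) (.leaf (0, 0)))) (.node (.node (.leaf (1759, 10)) (.leaf (0, 0))) (.node (.leaf (3807, 7)) (.leaf (0, 0)))))) (.node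 (.node (.node (.node (.leaf (471, 7)) (.leaf (4575, 4))) (.node (.leaf (2527, 6)) (.leaf (0, 0)))) (.node (.node (.leaf (1503, 4)) (.leaf (0, 0))) (.node (.leaf (3551, 5)) (.leaf (0, 0))))) (.node (.node (.node (.leaf (343, 10)) (.leaf (775, 7))) (.node (.leaf (404, 5)) (.leaf (0, 0)))) (.node (.node (.leaf (2015, 5)) (.leaf (0, 0))) (.node (.leaf (4063, 7)) (.leaf (0, 0))))))))) (.node (.node (.node (.node (.node (.node (.node (.leaf (63, 7)) (.leaf (4159, 6))) (.node (.leaf (2111, 9)) (.leaf (0, 0)))) (.node (.node (.leaf (1087, 4)) (.leaf (5183, 7))) (.node (.leaf (2723, 9)) (.leaf (0, 0))))) (.node (.node (.node (.leaf (531, 7)) (.leaf (4671, 2))) (.node (.leaf (2413, 5)) (.leaf (0, 0)))) (.node (.node (.leaf (1599, 5)) (.leaf (0, 0))) (.node (.leaf (3647, 5)) (.leaf (0, 0)))))) (.node (.node (.node (.node (.leaf (319, 3)) (.leaf (4415, 5))) (.node (.leaf (705, 10)) (.leaf (0, 0)))) (.node (.node (.leaf (1343, 6)) (.leaf (0,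 0))) (.node (.leaf (3391, 7)) (.leaf (0, 0))))) (.node (.node (.node (.leaf (541, 8)) (.leaf (2601, 10))) (.node (.leaf (2505, 5)) (.leaf (0, 0)))) (.node (.node (.leaf (1855, 2)) (.leaf (0, 0))) (.node (.leaf (3661, 7)) (.leaf (0, 0))))))) (.node (.node (.node (.node (.node (.leaf (191, 7)) (.leaf (4287, 4))) (.node (.leaf (1546, 11)) (.leaf (0, 0)))) (.node (.node (.leaf (1215, 6)) (.leaf (0, 0))) (.node (.leaf (885, 7)) (.leaf (0, 0))))) (.node (.node (.node (.leaf (703, 6)) (.leaf (2543, 10))) (.node (.leaf (166, 8)) (.leaf (0, 0)))) (.node (.node (.leaf (1727, 4)) (.leaf (0, 0))) (.node (.leaf (3775, 6)) (.leaf (0, 0)))))) (.node (.node (.node (.node (.leaf (447, 8)) (.leaf (4543, 10))) (.node (.leaf (514, 8)) (.leaf (0, 0)))) (.node (.node (.leaf (1471, 7)) (.leaf (0, 0))) (.node (.leaf (3519, 5)) (.leaf (0, 0))))) (.node (.node (.node (.leaf (959, 5)) (.leaf (5055, 8))) (.node (.leaf (3007, 5)) (.leaf (0, 0)))) (.node (.node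 (.leaf (996, 2)) (.leaf (0, 0))) (.node (.leaf (4031, 5)) (.leaf (0, 0)))))))) (.node (.node (.node (.node (.node (.node (.leaf (127, 10)) (.leaf (750, 11))) (.node (.leaf (2175, 6)) (.leaf (0, 0)))) (.node (.node (.leaf (1151, 6)) (.leaf (0, 0))) (.node (.leaf (3199, 4)) (.leaf (0, 0))))) (.node (.node (.node (.leaf (639, 7)) (.leaf (4735, 10))) (.node (.leaf (2687, 5)) (.leaf (0, 0)))) (.node (.node (.leaf (1582, 10)) (.leaf (0, 0))) (.node (.leaf (3711, 4)) (.leaf (0, 0)))))) (.node (.node (.node (.node (.leaf (383, 6)) (.leaf (3983, 10))) (.node (.leaf (2431, 10)) (.leaf (0, 0)))) (.node (.node (.leaf (1407, 2)) (.leaf (0, 0))) (.node (.leaf (3455, 6)) (.leaf (0, 0))))) (.node (.node (.node (.leaf (881, 7)) (.leaf (4991, 5))) (.node (.leaf (2588, 10)) (.leaf (0, 0)))) (.node (.node (.leaf (1919, 3)) (.leaf (0, 0))) (.node (.leaf (3560, 10)) (.leaf (0, 0))))))) (.node (.node (.node (.node (.node (.leaf (255, 7)) (.leaf (4351,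 6))) (.node (.leaf (276, 5)) (.leaf (0, 0)))) (.node (.node (.leaf (1279, 5)) (.leaf (0, 0))) (.node (.leaf (3311, 7)) (.leaf (0, 0))))) (.node (.node (.node (.leaf (767, 10)) (.leaf (4863, 11))) (.node (.leaf (2815, 9)) (.leaf (0, 0)))) (.node (.node (.leaf (1522, 5)) (.leaf (0, 0))) (.node (.leaf (3539, 7)) (.leaf (0, 0)))))) (.node (.node (.node (.node (.leaf (511, 10)) (.leaf (4607, 6))) (.node (.leaf (2048, 11)) (.leaf (0, 0)))) (.node (.node (.leaf (1535, 5)) (.leaf (0, 0))) (.node (.leaf (3583, 6)) (.leaf (0, 0))))) (.node (.node (.node (.leaf (996, 10)) (.leaf (5119, 10))) (.node (.leaf (951, 11)) (.leaf (0, 0)))) (.node (.node (.leaf (332, 10)) (.leaf (0, 0))) (.node (.leaf (4095, 7)) (.leaf (0, 0)))))))))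

def ptsTree : ATree (ℕ × ℕ) :=
  (.node (.node (.node (.node (.node ptsPart0 ptsPart16) (.node ptsPart8 ptsPart24)) (.node (.node ptsPart4 ptsPart20) (.node ptsPart12 ptsPart28))) (.node (.node (.node ptsPart2 ptsPart18) (.node ptsPart10 ptsPart26)) (.node (.node ptsPart6 ptsPart22) (.node ptsPart14 ptsPart30)))) (.node (.node (.node (.node ptsPart1 ptsPart17) (.node ptsPart9 ptsPart25)) (.node (.node ptsPart5 ptsPart21) (.node ptsPart13 ptsPart29))) (.node (.node (.node ptsPart3 ptsPart19) (.node ptsPart11 ptsPart27)) (.node (.node ptsPart7 ptsPart23) (.node ptsPart15 ptsPart31)))))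

end CfsgLib.Fi24Mult
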