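import Cfsg.Agent.Lib.Presented.Fi24Mult.Words
import Cfsg.Agent.Lib.Presented.Fi24Mult.Points
import Cfsg.Agent.Lib.Presented.Fi24Mult.Facts0
import Cfsg.Agent.Lib.Presented.Fi24Mult.Facts1
import Cfsg.Agent.Lib.Presented.Fi24Mult.Facts2
import Cfsg.Agent.Lib.Presented.Fi24Mult.Facts3

/-! The certificate. -/
set_option autoImplicit false
set_option maxRecDepth 20000

namespace CfsgLib.Fi24Mult

open CfsgLib.Presented

/-- the facts -/
def factsTree : ATree TFact :=
  (.node (.node (.node (.node (.node (.node (.node (.node factsPart0 factsPart128) (.node factsPart64 factsPart192)) (.node (.node factsPart32 factsPart160) (.node factsPart96 factsPart224))) (.node (.node (.node factsPart16 factsPart144) (.node factsPart80 factsPart208)) (.node (.node factsPart48 factsPart176) (.node factsPart112 factsPart240)))) (.node (.node (.node (.node factsPart8 factsPart136) (.node factsPart72 factsPart200)) (.node (.node factsPart40 factsPart168) (.node factsPart104 factsPart232))) (.node (.node (.node factsPart24 factsPart152) (.node factsPart88 factsPart216)) (.node (.node factsPart56 factsPart184) (.node factsPart120 factsPart248))))) (.node (.node (.node (.node (.node factsPart4 factsPart132) (.node factsPart68 factsPart196)) (.node (.node factsPart36 factsPart164) (.node factsPart100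 factsPart228))) (.node (.node (.node factsPart20 factsPart148) (.node factsPart84 factsPart212)) (.node (.node factsPart52 factsPart180) (.node factsPart116 factsPart244)))) (.node (.node (.node (.node factsPart12 factsPart140) (.node factsPart76 factsPart204)) (.node (.node factsPart44 factsPart172) (.node factsPart108 factsPart236))) (.node (.node (.node factsPart28 factsPart156) (.node factsPart92 factsPart220)) (.node (.node factsPart60 factsPart188) (.node factsPart124 factsPart252)))))) (.node (.node (.node (.node (.node (.node factsPart2 factsPart130) (.node factsPart66 factsPart194)) (.node (.node factsPart34 factsPart162) (.node factsPart98 factsPart226))) (.node (.node (.node factsPart18 factsPart146) (.node factsPart82 factsPart210)) (.node (.node factsPart50 factsPart178) (.node factsPart114 factsPart242)))) (.node (.node (.node (.node factsPart10 factsPart138) (.node factsPart74 factsPart202)) (.node (.node factsPart42 factsPart170) (.node factsPart106 factsPart234))) (.node (.node (.node factsPart26 factsPart154) (.node factsPart90 factsPart218)) (.node (.node factsPart58 factsPart186) (.node factsPart122 factsPart250))))) (.node (.node (.node (.node (.node factsPart6 factsPart134) (.node factsPart70 factsPart198)) (.node (.node factsPart38 factsPart166)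 (.node factsPart102 factsPart230))) (.node (.node (.node factsPart22 factsPart150) (.node factsPart86 factsPart214)) (.node (.node factsPart54 factsPart182) (.node factsPart118 factsPart246)))) (.node (.node (.node (.node factsPart14 factsPart142) (.node factsPart78 factsPart206)) (.node (.node factsPart46 factsPart174) (.node factsPart110 factsPart238))) (.node (.node (.node factsPart30 factsPart158) (.node factsPart94 factsPart222)) (.node (.node factsPart62 factsPart190) (.node factsPart126 factsPart254))))))) (.node (.node (.node (.node (.node (.node (.node factsPart1 factsPart129) (.node factsPart65 factsPart193)) (.node (.node factsPart33 factsPart161) (.node factsPart97 factsPart225))) (.node (.node (.node factsPart17 factsPart145) (.node factsPart81 factsPart209)) (.node (.node factsPart49 factsPart177) (.node factsPart113 factsPart241)))) (.node (.node (.node (.node factsPart9 factsPart137) (.node factsPart73 factsPart201)) (.node (.node factsPart41 factsPart169) (.node factsPart105 factsPart233))) (.node (.node (.node factsPart25 factsPart153) (.node factsPart89 factsPart217)) (.node (.node factsPart57 factsPart185) (.node factsPart121 factsPart249))))) (.node (.node (.node (.node (.node factsPart5 factsPart133) (.node factsPart69 factsPart197)) (.node (.node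 factsPart37 factsPart165) (.node factsPart101 factsPart229))) (.node (.node (.node factsPart21 factsPart149) (.node factsPart85 factsPart213)) (.node (.node factsPart53 factsPart181) (.node factsPart117 factsPart245)))) (.node (.node (.node (.node factsPart13 factsPart141) (.node factsPart77 factsPart205)) (.node (.node factsPart45 factsPart173) (.node factsPart109 factsPart237))) (.node (.node (.node factsPart29 factsPart157) (.node factsPart93 factsPart221)) (.node (.node factsPart61 factsPart189) (.node factsPart125 factsPart253)))))) (.node (.node (.node (.node (.node (.node factsPart3 factsPart131) (.node factsPart67 factsPart195)) (.node (.node factsPart35 factsPart163) (.node factsPart99 factsPart227))) (.node (.node (.node factsPart19 factsPart147) (.node factsPart83 factsPart211)) (.node (.node factsPart51 factsPart179) (.node factsPart115 factsPart243)))) (.node (.node (.node (.node factsPart11 factsPart139) (.node factsPart75 factsPart203)) (.node (.node factsPart43 factsPart171) (.node factsPart107 factsPart235))) (.node (.node (.node factsPart27 factsPart155) (.node factsPart91 factsPart219)) (.node (.node factsPart59 factsPart187) (.node factsPart123 factsPart251))))) (.node (.node (.node (.node (.node factsPart7 factsPart135) (.node factsPart71 factsPart199))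 (.node (.node factsPart39 factsPart167) (.node factsPart103 factsPart231))) (.node (.node (.node factsPart23 factsPart151) (.node factsPart87 factsPart215)) (.node (.node factsPart55 factsPart183) (.node factsPart119 factsPart247)))) (.node (.node (.node (.node factsPart15 factsPart143) (.node factsPart79 factsPart207)) (.node (.node factsPart47 factsPart175) (.node factsPart111 factsPart239))) (.node (.node (.node factsPart31 factsPart159) (.node factsPart95 factsPart223)) (.node (.node factsPart63 factsPart191) (.node factsPart127 factsPart255))))))))

/-- the certificate, for letters inverting or centralizing values -/
def tcert (inv : Bool) : TCert := ⟨inv, 12, trels, ptsTree, factsTree⟩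

end CfsgLib.Fi24Mult
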