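import Cfsg.Agent.Lib.Presented.Fi24Mult.Cert

/-! Generated checks of the certificate. -/
set_option autoImplicit false
set_option maxRecDepth 20000

namespace CfsgLib.Fi24Mult

open CfsgLib.Presented

theorem okI_0 : (tcert true).chkRange 0 1000 = true := by decide +kernel

theorem okI_1 : (tcert true).chkRange 1000 1000 = true := by decide +kernel

theorem okI_2 : (tcert true).chkRange 2000 1000 = true := by decide +kernel

theorem okI_3 : (tcert true).chkRange 3000 1000 = true := by decide +kernel

theorem okI_4 : (tcert true).chkRange 4000 1000 = true := by decide +kernel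

theorem okI_5 : (tcert true).chkRange 5000 1000 = true := by decide +kernel

theorem okI_6 : (tcert true).chkRange 6000 1000 = true := by decide +kernel

theorem okI_7 : (tcert true).chkRange 7000 1000 = true := by decide +kernel

theorem okI_8 : (tcert true).chkRange 8000 1000 = true := by decide +kernel

theorem okI_9 : (tcert true).chkRange 9000 1000 = true := by decide +kernel

theorem okI_10 : (tcert true).chkRange 10000 1000 = true := by decide +kernel

theorem okI_11 : (tcert true).chkRange 11000 1000 = true := by decide +kernel

theorem okI_12 : (tcert true).chkRange 12000 1000 = true := by decide +kernel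

theorem okI_13 : (tcert true).chkRange 13000 1000 = true := by decide +kernel

theorem okI_14 : (tcert true).chkRange 14000 1000 = true := by decide +kernel

theorem okI_15 : (tcert true).chkRange 15000 736 = true := by decide +kernel

theorem uptoI_1 : (tcert true).chkRange 0 2000 = true := by
  have h := TCert.chkRange_append (C := tcert true) (lo := 0) (n := 1000) (m := 1000) okI_0 (by rw [Nat.zero_add]; exact okI_1)
  rwa [show 1000 + 1000 = 2000 from rfl] at h

theorem uptoI_2 : (tcert true).chkRange 0 3000 = true := by
  have h := TCert.chkRange_append (C := tcert true) (lo := 0) (n := 2000) (m := 1000) uptoI_1 (by rw [Nat.zero_add]; exact okI_2)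
  rwa [show 2000 + 1000 = 3000 from rfl] at h

theorem uptoI_3 : (tcert true).chkRange 0 4000 = true := by
  have h := TCert.chkRange_append (C := tcert true) (lo := 0) (n := 3000) (m := 1000) uptoI_2 (by rw [Nat.zero_add]; exact okI_3)
  rwa [show 3000 + 1000 = 4000 from rfl] at h

theorem uptoI_4 : (tcert true).chkRange 0 5000 = true := by
  have h := TCert.chkRange_append (C := tcert true) (lo := 0) (n := 4000) (m := 1000) uptoI_3 (by rw [Nat.zero_add]; exact okI_4)
  rwa [show 4000 + 1000 = 5000 from rfl] at h

theorem uptoI_5 : (tcert true).chkRange 0 6000 = true := by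
  have h := TCert.chkRange_append (C := tcert true) (lo := 0) (n := 5000) (m := 1000) uptoI_4 (by rw [Nat.zero_add]; exact okI_5)
  rwa [show 5000 + 1000 = 6000 from rfl] at h

theorem uptoI_6 : (tcert true).chkRange 0 7000 = true := by
  have h := TCert.chkRange_append (C := tcert true) (lo := 0) (n := 6000) (m := 1000) uptoI_5 (by rw [Nat.zero_add]; exact okI_6)
  rwa [show 6000 + 1000 = 7000 from rfl] at h

theorem uptoI_7 : (tcert true).chkRange 0 8000 = true := by
  have h := TCert.chkRange_append (C := tcert true) (lo := 0) (n := 7000) (m := 1000) uptoI_6 (by rw [Nat.zero_add]; exact okI_7)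
  rwa [show 7000 + 1000 = 8000 from rfl] at h

theorem uptoI_8 : (tcert true).chkRange 0 9000 = true := by
  have h := TCert.chkRange_append (C := tcert true) (lo := 0) (n := 8000) (m := 1000) uptoI_7 (by rw [Nat.zero_add]; exact okI_8)
  rwa [show 8000 + 1000 = 9000 from rfl] at h

theorem uptoI_9 : (tcert true).chkRange 0 10000 = true := by
  have h := TCert.chkRange_append (C := tcert true) (lo := 0) (n := 9000) (m := 1000) uptoI_8 (by rw [Nat.zero_add]; exact okI_9)
  rwa [show 9000 + 1000 = 10000 from rfl] at h

theorem uptoI_10 : (tcert true).chkRange 0 11000 = true := by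
  have h := TCert.chkRange_append (C := tcert true) (lo := 0) (n := 10000) (m := 1000) uptoI_9 (by rw [Nat.zero_add]; exact okI_10)
  rwa [show 10000 + 1000 = 11000 from rfl] at h

theorem uptoI_11 : (tcert true).chkRange 0 12000 = true := by
  have h := TCert.chkRange_append (C := tcert true) (lo := 0) (n := 11000) (m := 1000) uptoI_10 (by rw [Nat.zero_add]; exact okI_11)
  rwa [show 11000 + 1000 = 12000 from rfl] at h

theorem uptoI_12 : (tcert true).chkRange 0 13000 = true := by
  have h := TCert.chkRange_append (C := tcert true) (lo := 0) (n := 12000) (m := 1000) uptoI_11 (by rw [Nat.zero_add]; exact okI_12)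
  rwa [show 12000 + 1000 = 13000 from rfl] at h

theorem uptoI_13 : (tcert true).chkRange 0 14000 = true := by
  have h := TCert.chkRange_append (C := tcert true) (lo := 0) (n := 13000) (m := 1000) uptoI_12 (by rw [Nat.zero_add]; exact okI_13)
  rwa [show 13000 + 1000 = 14000 from rfl] at h

theorem uptoI_14 : (tcert true).chkRange 0 15000 = true := by
  have h := TCert.chkRange_append (C := tcert true) (lo := 0) (n := 14000) (m := 1000) uptoI_13 (by rw [Nat.zero_add]; exact okI_14)
  rwa [show 14000 + 1000 = 15000 from rfl] at h

theorem okI : (tcert true).chkRange 0 15736 = true := by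
  have h := TCert.chkRange_append (C := tcert true) (lo := 0) (n := 15000) (m := 736) uptoI_14 (by rw [Nat.zero_add]; exact okI_15)
  rwa [show 15000 + 736 = 15736 from rfl] at h

theorem eqnI_a : (tcert true).chkEqn 15736 11 36 [200, 272, 200, 272, 200, 272] 3 (-3) = true := by
  decide +kernel

theorem eqnI_b : (tcert true).chkEqn 15736 66 74 [294, 320, 366, 376, 812, 817, 825, 832, 838, 845, 860, 866, 462, 868, 878, 880, 892, 897, 903, 908, 1214, 1249, 1227, 1260, 1225, 1268, 1276, 1284, 1292, 1294, 1310, 1313, 1328, 1337, 1344, 1348, 1347, 1366, 419, 407, 416, 1380, 1392, 1394, 1400, 1406, 1408, 1413, 1421, 1426, 1419, 844, 1431, 1436, 1442, 1450, 1459, 1460, 1464, 1468, 1472, 1476, 1480, 1490] 1 0 = true := by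
  decide +kernel

theorem eqnI_seed : (tcert true).chkEqn 15736 76 68 [190, 190] 0 0 = true := by
  decide +kernel

theorem loopI : (tcert true).chkLoop 15736 (wpow w14 17) 219 [1537, 1538, 1540, 1570, 1588, 1590, 1592, 1594, 1690, 6503, 6515, 6527, 6604, 6525, 6633, 6642, 6644, 6752, 6812, 6854, 6866, 6865, 6949, 6986, 7036, 7054, 7064, 7066, 7088, 7218, 7087, 7227, 7328, 7340, 7339, 7347, 7430, 7500, 8012, 8360, 8419, 8427, 8447, 8529, 10999, 11105, 11840, 11287, 11911, 11941, 12748, 11294, 12752, 12754, 12758, 12777, 12778, 12804, 12808, 12864, 12877, 12902, 18057, 18128, 18164, 19239, 18183, 18181, 18179, 18177, 19252, 19342, 19463, 19491, 19522, 19542, 19556, 20334, 20359, 20380, 20392, 20416, 20430, 20432, 20454, 20456, 20471, 20498, 20508, 20510, 20512, 20514, 20560, 20764, 20801, 20833, 20834, 20854, 20872, 20874, 25299, 25297, 24625, 21446, 25309, 27952, 27980, 28037, 30199, 30211, 30223, 30250, 30254, 30258, 30262, 30312, 30340, 30339, 30344, 30468, 30466, 30494, 30505, 30509, 30522, 30531, 30543, 30544, 30548, 30574, 25377, 25355, 30594, 30600, 30606, 30627, 30800,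 30816, 30818, 30902, 30934, 30321, 30959, 30939, 30953, 29499, 30961, 30964, 14479, 14475, 3031, 3029, 3027, 3025, 2318, 2247, 3336, 23332, 5379, 30966, 30968, 30976, 30980, 30989, 30996, 31006, 31024, 31026, 31039, 31056, 31033, 31060, 31062, 31064, 31082, 31089, 31100, 31110, 31120, 31125, 22097, 31128, 21810, 31135, 31148, 31162, 31170, 31143, 31172, 31188, 31214, 31228, 31258, 31266, 31277, 31280, 31292, 31296, 31306, 31314, 31295, 19269, 31317, 19243, 31329, 31334, 31340, 31346, 31352, 30804, 31354, 31363, 14981, 14978, 14935, 9833, 9846, 9848, 31364, 16164, 14752, 14680, 15662, 14184, 16220, 16219, 16175, 31374, 31380, 26084, 26086, 26088, 31394, 31413, 31424, 31458, 31460, 31471] 77 (-1) = true := by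
  decide +kernel

end CfsgLib.Fi24Mult
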