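import Cfsg.Agent.Lib.Presented.Fi24Mult.Facts
import Cfsg.Agent.Lib.Presented.Fi24Mult.CheckC
import Cfsg.Agent.Lib.Presented.Fi24Mult.CheckI
import Mathlib.GroupTheory.QuotientGroup.Basic
import Mathlib.GroupTheory.GroupAction.Quotient

/-!
The kernel of an extension of Fi24 with good lifts of the letters: it is generated by two values, bound by
the equations of the enumeration certificate.
-/
set_option autoImplicit false
set_option maxRecDepth 8000

namespace CfsgLib.Fi24Mult

open CfsgLib.Presented Cfsg.Spor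
open CfsgLib.Fi23Mult (Holds edgesY wordE7 spider)

variable {E : Type*} [Group E]

/-- Good lifts of the letters in an extension. -/
structure Good (π : E →* Cfsg.Spor.Fi24) (inv : Bool) (T : ℕ → E) : Prop where
  lift : ∀ x < 12, π (T x) = ev x
  sq : ∀ x < 12, T x * T x = 1
  cox : ∀ w ∈ coxW, evW T w = 1
  usq : evW T uW * evW T uW = 1
  act : ∀ a, π a = 1 → ∀ x < 12, T x * a = cond inv a⁻¹ a * T x
  comm : ∀ a b, π a = 1 → π b = 1 → Commute a b
  gen : Subgroup.closure (T '' Set.Iio 12) = ⊤

theorem map_evW {G : Type*} [Group G] (π : E →* G) {T : ℕ → E} {f : ℕ → G} :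
    ∀ {w : List ℕ}, (∀ x ∈ w, π (T x) = f x) → π (evW T w) = evW f w
  | [], _ => by simp
  | x :: w, h => by
    rw [evW_cons, evW_cons, map_mul, h x List.mem_cons_self,
      map_evW π fun y hy => h y (List.mem_cons_of_mem _ hy)]

theorem evW_congr {G : Type*} [Group G] {f g : ℕ → G} {w : List ℕ} (h : ∀ x ∈ w, f x = g x) :
    evW f w = evW g w := by
  rw [evW, evW, List.map_congr_left h]

theorem fi23_gen : Subgroup.closure (Fi23Cosets.ev '' Set.Iio 10) = ⊤ := Fi23Cosets.gen_top

variable {π : E →* Cfsg.Spor.Fi24} {inv : Bool} {T : ℕ → E}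

theorem Good.u_ker (G0 : Good π inv T) : π (evW T uW) = 1 := by
  rw [map_evW π fun x hx => G0.lift x (lt_of_mem (w := uW) (by simp) x hx), uW_one]

theorem Good.u_comm (G0 : Good π inv T) {x : ℕ} (hx : x < 12) : Commute (evW T uW) (T x) := by
  have h := G0.act _ G0.u_ker x hx
  rw [show cond inv (evW T uW)⁻¹ (evW T uW) = evW T uW by
    cases inv
    · rfl
    · exact inv_eq_of_mul_eq_one_right G0.usq] at h
  exact h.symm

theorem Good.zero_comm (G0 : Good π inv T) {x : ℕ} (hx : x < 10) : Commute (T 0) (T (x + 2)) := by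
  have h : ∀ y : Fin 10, CfsgLib.Fi23Mult.adjB edgesT 0 ((y : ℕ) + 2) = false := by decide +kernel
  exact comm_of_cox G0.sq G0.cox (by decide) (by omega) (by omega) (h ⟨x, hx⟩)

/-- The lift of Fi23 into the preimage of the centralizer of the first letter. -/
theorem Good.exists_hat (G0 : Good π inv T) {θ : Cfsg.Spor.Fi23 →* Cfsg.Spor.Fi24}
    (hθ : ∀ x < 10, θ (Fi23Cosets.ev x) = ev (x + 2) * ev 0) (hinj : Function.Injective θ) :
    ∃ χ : Cfsg.Spor.Fi23 →* E, (∀ x < 10, χ (Fi23Cosets.ev x) = T (x + 2) * (T 0 * evW T uW)) ∧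
      ∀ h, π (χ h) = θ h := by
  set u := evW T uW with hu
  set z := T 0 * u with hzdef
  have hu0 : Commute u (T 0) := G0.u_comm (by decide)
  have hz : z * z = 1 := by
    rw [hzdef, hu0.mul_mul_mul_comm, G0.sq 0 (by decide), G0.usq, one_mul]
  have hzc : ∀ x < 10, Commute z (T (x + 2)) := fun x hx =>
    (G0.zero_comm hx).mul_left (G0.u_comm (by omega))
  have H := holds_shift G0.sq G0.cox hz hzc
  obtain ⟨e7, l7, m7, es, ls, ms⟩ := shift_words
  have hπy : ∀ x < 10, π (T (x + 2) * z) = ev (x + 2) * ev 0 := fun x hx => by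
    rw [hzdef, map_mul, map_mul, hu, G0.u_ker, mul_one, G0.lift _ (by omega), G0.lift 0 (by decide)]
  have h7 : evW (fun x => T (x + 2) * z) wordE7 ^ 9 = 1 := by
    rw [← evW_wpow, evW_shift _ fun x hx => hzc x (m7 x (by
        simp only [wpow, List.mem_flatten, List.mem_replicate] at hx
        obtain ⟨l, ⟨-, rfl⟩, hl⟩ := hx
        exact hl)),
      show (wpow wordE7 9).map (· + 2) = wpow [2, 3, 4, 5, 6, 7, 10] 9 by decide +kernel,
      show (wpow wordE7 9).length = 2 * 31 + 1 by decide, pow_succ, pow_mul, pow_two, hz, one_pow, one_mul]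
    have h : u = T 0 * evW T (wpow [2, 3, 4, 5, 6, 7, 10] 9) := by rw [hu, uW, evW_cons]
    rw [show evW T (wpow [2, 3, 4, 5, 6, 7, 10] 9) = z by
      rw [hzdef, h, ← mul_assoc, G0.sq 0 (by decide), one_mul], hz]
  -- the relation of length ninety, through the preimage of the image of Fi23
  let Γ : Subgroup E := θ.range.comap π
  let σ : Γ →* Cfsg.Spor.Fi23 := (MonoidHom.ofInjective hinj).symm.toMonoidHom.comp
    ((π.comp Γ.subtype).codRestrict θ.range fun g => g.2)
  have hσ : ∀ g : Γ, θ (σ g) = π g := fun g => MonoidHom.apply_ofInjective_symm hinj _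
  have hcen : σ.ker ≤ Subgroup.center Γ := by
    intro a ha
    have ha1 : π a = 1 := by rw [← hσ, MonoidHom.mem_ker.1 ha, map_one]
    have hle : θ.range ≤ (Subgroup.centralizer {(a : E)}).map π := by
      rw [MonoidHom.range_eq_map, ← fi23_gen, MonoidHom.map_closure, Subgroup.closure_le]
      rintro _ ⟨_, ⟨x, hx, rfl⟩, rfl⟩
      refine ⟨T (x + 2) * z, Subgroup.mem_centralizer_singleton_iff.2 ?_, ?_⟩
      · have hx' : x < 10 := hx
        have e1 := G0.act (a : E) ha1 (x + 2) (by omega)
        have e2 := G0.act (a : E) ha1 0 (by decide)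
        have e3 : Commute (a : E) u := G0.comm _ _ ha1 G0.u_ker
        have e4 : T (x + 2) * T 0 * (a : E) = (a : E) * (T (x + 2) * T 0) := by
          rw [mul_assoc, e2, ← mul_assoc]
          cases inv
          · simp only [cond_false] at e1 e2 ⊢
            rw [e1, mul_assoc]
          · simp only [cond_true] at e1 e2 ⊢
            have e5 := G0.act (a : E)⁻¹ (by rw [map_inv, ha1, inv_one]) (x + 2) (by omega)
            simp only [cond_true, inv_inv] at e5
            rw [e5, mul_assoc]
        rw [show T (x + 2) * z * (a : E) = T (x + 2) * T 0 * (u * a) by simp only [hzdef, mul_assoc],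
          ← e3.eq, ← mul_assoc, e4]
        simp only [hzdef, mul_assoc]
      · rw [hπy x hx, hθ x hx]
    refine Subgroup.mem_center_iff.2 fun g => Subtype.ext ?_
    obtain ⟨c, hc, hcg⟩ := hle g.2
    have hk : π (c⁻¹ * (g : E)) = 1 := by rw [map_mul, map_inv, hcg, inv_mul_cancel]
    show (g : E) * a = a * g
    rw [show (g : E) = c * (c⁻¹ * g) from (mul_inv_cancel_left _ _).symm, mul_assoc,
      (G0.comm _ _ hk ha1).eq, ← mul_assoc, Subgroup.mem_centralizer_singleton_iff.1 hc, mul_assoc]
  have hmem : ∀ x < 10, T (x + 2) * z ∈ Γ := fun x hx => ⟨Fi23Cosets.ev x, by rw [hθ x hx, hπy x hx]⟩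
  let S : ℕ → Γ := fun x => if h : x < 10 then ⟨T (x + 2) * z, hmem x h⟩ else 1
  have hS : ∀ x < 10, (S x : E) = T (x + 2) * z := fun x hx => by simp [S, dif_pos hx]
  have HS : Holds edgesY S 1 := by
    refine ⟨fun x hx => ?_, fun g => Commute.one_left g, fun x hx y hy hne ha => ?_, fun x hx y hy ha => ?_⟩
    · exact Subtype.ext (by rw [Subgroup.coe_mul, hS x hx]; exact H.sq x hx)
    · exact Subtype.ext (by rw [Subgroup.coe_mul, Subgroup.coe_mul, hS x hx, hS y hy]; exact H.comm x hx y hy hne ha)
    · exact Subtype.ext (by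
        rw [Subgroup.coe_mul, Subgroup.coe_mul, Subgroup.coe_mul, Subgroup.coe_mul, hS x hx, hS y hy]
        exact H.braid x hx y hy ha)
  have hsp : evW S spider ^ 10 = 1 :=
    Fi23Mult.spider_one hcen (fun x hx => hinj (by rw [hσ, hS x hx, hπy x hx, hθ x hx])) HS
  have hs : evW (fun x => T (x + 2) * z) spider ^ 10 = 1 := by
    have := congrArg Γ.subtype hsp
    rw [map_pow, map_one, map_evW Γ.subtype fun x hx => hS x (ms x hx)] at this
    exact this
  obtain ⟨χ, hχ⟩ := exists_hom_of_good H h7 hs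
  refine ⟨χ, fun x hx => hχ x hx, fun h => DFunLike.congr_fun (MonoidHom.eq_of_eqOn_dense fi23_gen
    (f := π.comp χ) (g := θ) ?_) h⟩
  rintro _ ⟨x, hx, rfl⟩
  show π (χ _) = _
  rw [hχ x hx, hπy x hx, hθ x hx]

/-- The kernel is generated by two values satisfying the certified equations. -/
theorem Good.core (I : Input) (G0 : Good π inv T) : ∃ v : E, π v = 1 ∧
    (∀ a, π a = 1 → a ∈ Subgroup.closure {evW T uW, v}) ∧
    (inv = false → v * v = 1 ∧ evW T uW ^ 3 * v ^ 3 = 1 ∧ (evW T uW ^ 15 : E) = 1) ∧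
    (inv = true → evW T uW ^ 3 * (v ^ 3)⁻¹ = 1) := by
  obtain ⟨θ, hθ, hinj⟩ := exists_theta I
  obtain ⟨χ, hχ, hπχ⟩ := G0.exists_hat hθ hinj
  set u := evW T uW with hu
  have huk := G0.u_ker
  have hu0 : Commute u (T 0) := G0.u_comm (by decide)
  have hu_inv : u⁻¹ = u := inv_eq_of_mul_eq_one_right G0.usq
  have hT0inv : (T 0)⁻¹ = T 0 := inv_eq_of_mul_eq_one_right (G0.sq 0 (by decide))
  have hc0 : ∀ h, Commute (T 0) (χ h) := by
    intro h
    have hh : h ∈ (Subgroup.centralizer {T 0}).comap χ := by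
      refine (Subgroup.closure_le _).2 ?_ (fi23_gen.ge (Subgroup.mem_top h))
      rintro _ ⟨x, hx, rfl⟩
      show χ _ ∈ Subgroup.centralizer {T 0}
      rw [hχ x hx, Subgroup.mem_centralizer_singleton_iff]
      exact (((G0.zero_comm hx).mul_right ((Commute.refl (T 0)).mul_right hu0.symm))).eq.symm
    exact (Subgroup.mem_centralizer_singleton_iff.1 hh).symm
  let K : Subgroup E :=
    { carrier := {g | ∃ h, g = χ h ∨ g = T 0 * χ h}
      one_mem' := ⟨1, Or.inl (map_one χ).symm⟩
      mul_mem' := by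
        rintro _ _ ⟨h, rfl | rfl⟩ ⟨h', rfl | rfl⟩
        · exact ⟨h * h', Or.inl (map_mul χ h h').symm⟩
        · exact ⟨h * h', Or.inr (by rw [map_mul, ← mul_assoc, ← (hc0 h).eq, mul_assoc])⟩
        · exact ⟨h * h', Or.inr (by rw [map_mul, mul_assoc])⟩
        · exact ⟨h * h', Or.inl (by
            rw [map_mul, mul_assoc, ← mul_assoc (χ h) (T 0), ← (hc0 h).eq, ← mul_assoc, ← mul_assoc,
              G0.sq 0 (by decide), one_mul])⟩
      inv_mem' := by
        rintro _ ⟨h, rfl | rfl⟩
        · exact ⟨h⁻¹, Or.inl (map_inv χ h).symm⟩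
        · exact ⟨h⁻¹, Or.inr (by rw [mul_inv_rev, hT0inv, map_inv, ((hc0 h).inv_right).eq])⟩ }
  have hKT0 : T 0 ∈ K := ⟨1, Or.inr (by rw [map_one, mul_one])⟩
  have hKχ : ∀ h, χ h ∈ K := fun h => ⟨h, Or.inl rfl⟩
  obtain ⟨sg, hsg⟩ := exists_sgn
  have hfree : ∀ a : E, π a = 1 → a ∈ K → a = 1 := by
    rintro _ ha ⟨h, rfl | rfl⟩
    · rw [hπχ] at ha
      rw [hinj (ha.trans (map_one θ).symm), map_one]
    · exfalso
      rw [map_mul, hπχ, G0.lift 0 (by decide)] at ha
      have h1 : sg (θ h) = 1 := by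
        refine DFunLike.congr_fun (MonoidHom.eq_of_eqOn_dense fi23_gen (f := sg.comp θ) (g := 1) ?_) h
        rintro _ ⟨x, hx, rfl⟩
        have hx' : x < 10 := hx
        show sg (θ _) = 1
        rw [hθ x hx', map_mul, hsg _ (by omega), hsg 0 (by decide)]
        decide
      have h2 := congrArg sg ha
      rw [map_mul, h1, mul_one, map_one, hsg 0 (by decide)] at h2
      exact absurd h2 (by decide)
  have hH : Subgroup.closure (ev '' {x | x ∈ hX}) ≤ K.map π := by
    rw [Subgroup.closure_le]
    rintro _ ⟨x, hx, rfl⟩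
    rcases eq_or_ne x 0 with rfl | h0
    · exact ⟨T 0, hKT0, G0.lift 0 (by decide)⟩
    · have hb : ∀ y ∈ hX, y ≠ 0 → 2 ≤ y ∧ y < 12 := by decide
      obtain ⟨h2, h12⟩ := hb x hx h0
      refine ⟨χ (Fi23Cosets.ev (x - 2)) * T 0, K.mul_mem (hKχ _) hKT0, ?_⟩
      rw [map_mul, hπχ, hθ _ (by omega), G0.lift 0 (by decide), show x - 2 + 2 = x by omega, mul_assoc,
        ev_sq (by decide), mul_one]
  obtain ⟨k, hk, hkw⟩ := hH I.seed_mem
  set v := evW T seedW * k⁻¹ with hvdef
  have hv : π v = 1 := by
    rw [hvdef, map_mul, map_inv, hkw, map_evW π fun x hx => G0.lift x (lt_of_mem (w := seedW) (by simp) x hx),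
      mul_inv_cancel]
  have huv : Commute u v := G0.comm u v huk hv
  let ψ : ℤ × ℤ → E := fun c => u ^ c.1 * v ^ c.2
  have hψk : ∀ c, π (ψ c) = 1 := fun c => by
    show π (u ^ c.1 * v ^ c.2) = 1
    rw [map_mul, map_zpow, map_zpow, show π u = 1 from huk, hv, one_zpow, one_zpow, one_mul]
  have hψadd : ∀ c d : ℤ × ℤ, ψ (c + d) = ψ c * ψ d := fun c d => by
    show u ^ (c.1 + d.1) * v ^ (c.2 + d.2) = u ^ c.1 * v ^ c.2 * (u ^ d.1 * v ^ d.2)
    rw [zpow_add, zpow_add, ((huv.symm.zpow_zpow c.2 d.1)).mul_mul_mul_comm]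
  let X := E ⧸ K
  let base : X := ((1 : E) : E ⧸ K)
  have hfix : ∀ g : E, g • base = base ↔ g ∈ K := fun g => by
    show ((g * 1 : E) : E ⧸ K) = ((1 : E) : E ⧸ K) ↔ _
    rw [QuotientGroup.eq]
    simp
  have hI : (tcert inv).Interp T ψ base := by
    refine ⟨G0.sq, hψadd, fun x hx c => ?_, fun c hc => hfree _ (hψk c) ((hfix _).1 hc), fun r hr => ?_⟩
    · rw [G0.act _ (hψk c) x hx]
      congr 1
      cases inv
      · rfl
      · show (ψ c)⁻¹ = u ^ (-c.1) * v ^ (-c.2)
        show (u ^ c.1 * v ^ c.2)⁻¹ = _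
        rw [(huv.zpow_zpow c.1 c.2).mul_inv, zpow_neg, zpow_neg]
    · have hsh := List.all_eq_true.1 trels_shape r hr
      unfold shapeOK at hsh
      have hbv : ∀ (g : E), g * (ψ (r.va, r.vb)) ∈ K → evW T r.word = g⁻¹ →
          evW T r.word • base = ψ (r.va, r.vb) • base := by
        intro g hg e
        show ((evW T r.word * 1 : E) : E ⧸ K) = ((ψ (r.va, r.vb) * 1 : E) : E ⧸ K)
        rw [mul_one, mul_one, QuotientGroup.eq, e, inv_inv]
        exact hg
      cases hb : r.based
      · rw [hb] at hsh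
        simp only [Bool.false_eq_true, if_false, Bool.or_eq_true, Bool.and_eq_true, beq_iff_eq,
          List.any_eq_true, List.mem_range, List.contains_iff_mem] at hsh
        have heq : evW T r.word = ψ (r.va, r.vb) := by
          rcases hsh with ⟨⟨hw, ha⟩, hb'⟩ | ⟨⟨hw, ha⟩, hb'⟩
          · rw [hw, ha, hb']
            show u = u ^ (1 : ℤ) * v ^ (0 : ℤ)
            simp
          · rw [ha, hb', show ψ (0, 0) = 1 by simp [ψ]]
            rcases hw with ((hw | hw) | hw) | ⟨x, hx, hw⟩
            · exact G0.cox _ hw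
            · have hall : ∀ x ∈ spider, x < 10 := shift_words.2.2.2.2.2
              have hzc : ∀ x < 10, Commute (T 0 * u) (T (x + 2)) := fun x hx =>
                (G0.zero_comm hx).mul_left (G0.u_comm (by omega))
              have h1 : evW (fun x => T (x + 2) * (T 0 * u)) (wpow spider 10) =
                  χ (evW Fi23Cosets.ev (wpow spider 10)) := by
                rw [map_evW χ (f := fun x => T (x + 2) * (T 0 * u)) fun x hx => hχ x (hall x (by
                  simp only [wpow, List.mem_flatten, List.mem_replicate] at hx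
                  obtain ⟨l, ⟨-, rfl⟩, hl⟩ := hx
                  exact hl))]
              rw [evW_shift _ fun x hx => hzc x (hall x (by
                  simp only [wpow, List.mem_flatten, List.mem_replicate] at hx
                  obtain ⟨l, ⟨-, rfl⟩, hl⟩ := hx
                  exact hl)),
                Fi23Cosets.rels_hold _ (List.contains_iff_mem.1 Fi23Mult.spider_contains), map_one,
                show (wpow spider 10).map (· + 2) = spiderW by decide +kernel,
                show (wpow spider 10).length = 2 * 45 by decide, pow_mul, pow_two, hu0.mul_mul_mul_comm,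
                G0.sq 0 (by decide), G0.usq, one_mul, one_pow, mul_one] at h1
              rw [hw, h1]
            · rw [hw, evW_nil]
            · rw [hw, evW_cons, evW_cons, evW_nil, mul_one, G0.sq x hx]
        exact ⟨fun _ => heq, by rw [heq]⟩
      · refine ⟨fun h => absurd h (by simp), ?_⟩
        rw [hb] at hsh
        simp only [if_true, Bool.or_eq_true, Bool.and_eq_true, beq_iff_eq, List.any_eq_true,
          List.mem_range] at hsh
        rcases hsh with (⟨⟨hw, ha⟩, hb'⟩ | ⟨x, hx, ⟨hw, ha⟩, hb'⟩) | ⟨⟨hw, ha⟩, hb'⟩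
        · refine hbv (T 0) ?_ (by rw [hw, hT0inv]; simp)
          rw [ha, hb']
          simpa [ψ] using hKT0
        · refine hbv (T (x + 2)) ?_ (by
            rw [hw, inv_eq_of_mul_eq_one_right (G0.sq (x + 2) (by omega))]; simp)
          rw [ha, hb']
          show T (x + 2) * (u ^ (1 : ℤ) * v ^ (0 : ℤ)) ∈ K
          rw [zpow_one, zpow_zero, mul_one,
            show T (x + 2) * u = χ (Fi23Cosets.ev x) * T 0 by
              rw [hχ x hx, mul_assoc, mul_assoc, hu0.eq, ← mul_assoc (T 0), G0.sq 0 (by decide), one_mul]]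
          exact K.mul_mem (hKχ _) hKT0
        · refine hbv (evW T seedW)⁻¹ ?_ (by rw [hw, inv_inv])
          rw [ha, hb']
          show (evW T seedW)⁻¹ * (u ^ (0 : ℤ) * v ^ (1 : ℤ)) ∈ K
          rw [zpow_zero, one_mul, zpow_one, hvdef, ← mul_assoc, inv_mul_cancel, one_mul]
          exact K.inv_mem hk
  have hpts : ((tcert inv).pts.all fun e => Nat.blt e.2 (tcert inv).nL) = true := pts_ok
  have hok : (tcert inv).chkRange 0 15736 = true := by
    cases inv
    · exact okC
    · exact okI
  refine ⟨v, hv, ?_, ?_, ?_⟩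
  · -- the quotient by the two values satisfies all relations
    let B : Subgroup E := Subgroup.closure {u, v}
    have hBu : u ∈ B := Subgroup.subset_closure (by simp)
    have hBv : v ∈ B := Subgroup.subset_closure (by simp)
    have hBle : B ≤ π.ker := (Subgroup.closure_le _).2 (by
      rintro a (rfl | rfl)
      · exact huk
      · exact hv)
    have hBn : B.Normal := by
      rw [← Subgroup.normalizer_eq_top_iff, eq_top_iff, ← G0.gen, Subgroup.closure_le]
      rintro _ ⟨x, hx, rfl⟩
      have key : ∀ a ∈ B, T x * a * (T x)⁻¹ ∈ B := fun a ha => by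
        rw [G0.act a (hBle ha) x hx, mul_inv_cancel_right]
        cases inv
        · exact ha
        · exact inv_mem ha
      refine Subgroup.mem_normalizer_iff.2 fun a => ⟨key a, fun ha => ?_⟩
      have hxx := inv_eq_of_mul_eq_one_right (G0.sq x hx)
      have := key _ ha
      rwa [show T x * (T x * a * (T x)⁻¹) * (T x)⁻¹ = (T x * T x) * a * (T x * T x)⁻¹ by group,
        G0.sq x hx, one_mul, inv_one, mul_one] at this
    have hW : evW T (wpow w14 17) ∈ B := by
      have hlw := lt_of_mem (w := wpow w14 17) (by simp)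
      obtain ⟨la, lb, p, refs, hloop⟩ : ∃ la lb p refs,
          (tcert inv).chkLoop 15736 (wpow w14 17) p refs la lb = true := by
        cases inv
        · exact ⟨_, _, _, _, loopC⟩
        · exact ⟨_, _, _, _, loopI⟩
      have e := TCert.loop_sound hI hok hloop
      have hker : π (evW T (wpow w14 17)) = 1 := by
        rw [map_evW π fun x hx => G0.lift x (hlw x hx)]
        exact rels_hold _ (by simp)
      have h1 : (ψ (la, lb))⁻¹ * evW T (wpow w14 17) = 1 := by
        refine TCert.eq_one_of_fix (C := tcert inv) (ev := T) (base := base) (A := {a : E | π a = 1})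
          (fun x hx a ha => ⟨(T x)⁻¹ * a * T x, ?_, by group⟩)
          (fun a ha h => hfree a ha ((hfix a).1 h)) hpts p _ ?_ ?_
        · show π _ = 1
          rw [map_mul, map_mul, ha, mul_one, map_inv, inv_mul_cancel]
        · show π _ = 1
          rw [map_mul, map_inv, hψk, inv_one, one_mul, hker]
        · rw [mul_smul, e, inv_smul_smul]
      rw [← inv_mul_eq_one.1 h1]
      exact mul_mem (B.zpow_mem hBu _) (B.zpow_mem hBv _)
    let f : Fi24.Gen → E ⧸ B := fun g => QuotientGroup.mk' B (T (idxOf g))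
    have hidx : ∀ g : Fi24.Gen, idxOf g < 12 := fun g => by cases g <;> decide
    have hf : ∀ g ∈ letters.nodes, f g * f g = 1 := fun g _ => by
      rw [← map_mul, G0.sq _ (hidx g), map_one]
    have hback : ∀ y : Fin 12, idxOf (genOf y).1 = y ∧ (genOf y).2 = true := by decide +kernel
    have hev : ∀ x < 12, letters.ev f x = QuotientGroup.mk' B (T x) := fun x hx => by
      show (if x < 12 then cond (genOf x).2 (f (genOf x).1) (f (genOf x).1)⁻¹ else 1) = _
      rw [if_pos hx, (hback ⟨x, hx⟩).2, cond_true]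
      show QuotientGroup.mk' B (T (idxOf (genOf x).1)) = _
      rw [(hback ⟨x, hx⟩).1]
    have hmk : ∀ w, (∀ x ∈ w, x < 12) → evW (letters.ev f) w = QuotientGroup.mk' B (evW T w) :=
      fun w hw => (map_evW (QuotientGroup.mk' B) fun x hx => (hev x (hw x hx)).symm).symm
    have hkills := Letters.kills (extra := Fi24.extra) letters_valid nodes_valid full hf
      (fun w hw => by
        rw [coxW_eq] at hw
        rw [hmk w fun x hx => lt_of_mem (List.mem_append_left _ hw) x hx, G0.cox w hw, map_one])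
      (fun w hw => by
        rw [extraW_eq] at hw
        simp only [List.mem_cons, List.not_mem_nil, or_false] at hw
        rcases hw with rfl | rfl
        · have hlu := lt_of_mem (w := uW) (by simp)
          rw [hmk _ (fun x hx => by
            rcases List.mem_cons.1 hx with rfl | hx
            · decide
            · exact hlu x (List.mem_cons_of_mem _ (List.mem_reverse.1 hx)))]
          refine (QuotientGroup.eq_one_iff _).2 ?_
          rw [evW_cons, evW_reverse fun x hx => G0.sq x (hlu x (List.mem_cons_of_mem _ hx)),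
            show evW T (wpow [2, 3, 4, 5, 6, 7, 10] 9) = T 0 * u by
              rw [hu, uW, evW_cons, ← mul_assoc, G0.sq 0 (by decide), one_mul],
            mul_inv_rev, hu_inv, hT0inv, hu0.eq, ← mul_assoc, G0.sq 0 (by decide), one_mul]
          exact hBu
        · rw [hmk _ (lt_of_mem (by simp))]
          exact (QuotientGroup.eq_one_iff _).2 hW)
    let sec : Cfsg.Spor.Fi24 →* E ⧸ B := PresentedGroup.toGroup hkills
    have hsec : sec.comp π = QuotientGroup.mk' B := by
      refine MonoidHom.eq_of_eqOn_dense G0.gen ?_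
      rintro _ ⟨x, hx, rfl⟩
      show sec (π (T x)) = _
      rw [G0.lift x hx]
      show sec (if x < 12 then cond (genOf x).2 _ _ else 1) = _
      rw [if_pos (show x < 12 from hx), (hback ⟨x, hx⟩).2, cond_true]
      show PresentedGroup.toGroup hkills _ = _
      rw [PresentedGroup.toGroup.of]
      show QuotientGroup.mk' B (T (idxOf (genOf x).1)) = _
      rw [(hback ⟨x, hx⟩).1]
    intro a ha
    refine (QuotientGroup.eq_one_iff a).1 ?_
    show QuotientGroup.mk' B a = 1
    rw [← hsec, MonoidHom.comp_apply, ha, map_one]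
  · rintro rfl
    have h1 := TCert.eqn_sound hI hok hpts eqnC_seed
    have h2 := TCert.eqn_sound hI hok hpts eqnC_a
    have h3 := TCert.eqn_sound hI hok hpts eqnC_b
    refine ⟨?_, ?_, ?_⟩
    · simpa [ψ, ← pow_two, zpow_ofNat] using h1
    · simpa [ψ, zpow_ofNat] using h2
    · simpa [ψ, zpow_neg, zpow_ofNat] using h3
  · rintro rfl
    simpa [ψ, zpow_neg, zpow_ofNat] using TCert.eqn_sound hI hok hpts eqnI_a

end CfsgLib.Fi24Mult
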