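import Cfsg.Agent.Lib.Presented.Fi24Mult.Core
import Cfsg.Agent.Lib.Schur.Criteria

/-!
Good lifts of the letters of Fi24 to a central extension in which the first letter lifts to an involution.
-/
set_option autoImplicit false
set_option maxRecDepth 8000

namespace CfsgLib.Fi24Mult

open CfsgLib.Presented Cfsg.Spor
open CfsgLib.Fi23Mult (adjB edgesY wordE7)
open scoped commutatorElement

/-- moves of commutators along edges -/
def moves : List (ℕ × ℕ × ℕ) :=
  [(2, 3, 0), (3, 4, 0), (0, 1, 3), (4, 5, 0), (0, 1, 4), (5, 6, 0), (5, 10, 0), (0, 1, 5), (1, 2, 4), (6, 7, 0),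
   (0, 1, 6), (10, 11, 0), (0, 1, 10), (1, 2, 5), (7, 8, 0), (0, 1, 7), (1, 2, 6), (0, 1, 11), (1, 2, 10),
   (2, 3, 5), (8, 9, 0), (0, 1, 8), (1, 2, 7), (2, 3, 6), (1, 2, 11), (2, 3, 10), (0, 1, 9), (1, 2, 8),
   (2, 3, 7), (3, 4, 6), (2, 3, 11), (3, 4, 10), (1, 2, 9), (2, 3, 8), (3, 4, 7), (3, 4, 11), (2, 3, 9),
   (3, 4, 8), (4, 5, 7), (4, 5, 11), (3, 4, 9), (4, 5, 8), (5, 10, 7), (5, 6, 11), (4, 5, 9), (5, 6, 8),
   (5, 10, 8), (10, 11, 7), (7, 6, 10), (5, 6, 9), (5, 10, 9), (10, 11, 8), (6, 7, 9), (10, 11, 9)]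

/-- run the moves on a list of known pairs -/
def runMoves : List (ℕ × ℕ × ℕ) → List (ℕ × ℕ) → Option (List (ℕ × ℕ))
  | [], known => some known
  | (x, y, z) :: ms, known =>
    if known.contains (x, z) && adjB edgesT x y && decide (x < 12 ∧ y < 12 ∧ z < 12 ∧ x ≠ z ∧ y ≠ z) &&
        !adjB edgesT x z && !adjB edgesT y z then
      runMoves ms ((y, z) :: (z, y) :: known)
    else none

/-- all pairs of letters not joined are reached -/
def movesOK : Bool :=
  match runMoves moves [(0, 2), (2, 0)] with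
  | some known => (List.range 12).all fun x => (List.range 12).all fun y =>
      x == y || adjB edgesT x y || known.contains (x, y)
  | none => false

theorem moves_ok : movesOK = true := by decide +kernel

theorem runMoves_sound {P : ℕ → ℕ → Prop}
    (step : ∀ x y z, x < 12 → y < 12 → z < 12 → x ≠ z → y ≠ z → adjB edgesT x y = true →
      adjB edgesT x z = false → adjB edgesT y z = false → P x z → P y z ∧ P z y) :
    ∀ (ms : List (ℕ × ℕ × ℕ)) (known res : List (ℕ × ℕ)), runMoves ms known = some res →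
      (∀ q ∈ known, P q.1 q.2) → ∀ q ∈ res, P q.1 q.2
  | [], known, res, h, hk => by
    simp only [runMoves, Option.some.injEq] at h
    exact h ▸ hk
  | (x, y, z) :: ms, known, res, h, hk => by
    rw [runMoves] at h
    split at h
    · next hc =>
      simp only [Bool.and_eq_true, decide_eq_true_eq, Bool.not_eq_true', List.contains_iff_mem] at hc
      obtain ⟨⟨⟨⟨h1, h2⟩, h3, h4, h5, h6, h7⟩, h8⟩, h9⟩ := hc
      obtain ⟨p1, p2⟩ := step x y z h3 h4 h5 h6 h7 h2 h8 h9 (hk _ h1)
      refine runMoves_sound step ms _ res h fun q hq => ?_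
      rcases List.mem_cons.1 hq with rfl | hq
      · exact p1
      · rcases List.mem_cons.1 hq with rfl | hq
        · exact p2
        · exact hk q hq
    · simp at h

variable {E : Type*} [Group E] {π : E →* Cfsg.Spor.Fi24}

/-- A lift of a neighbour, an involution satisfying the braid relation. -/
theorem step_lift (hsur : Function.Surjective π) (hc : π.ker ≤ Subgroup.center E) {x y : ℕ} (hx : x < 12)
    (hy : y < 12) (ha : adjB edgesT x y = true) {tx : E} (htx : π tx = ev x ∧ tx * tx = 1) :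
    ∃ ty, (π ty = ev y ∧ ty * ty = 1) ∧ tx * ty * tx = ty * tx * ty := by
  obtain ⟨ty', hty'⟩ := hsur (ev y)
  set u := tx * ty'
  have hσu : π (u * tx * u⁻¹) = ev y := by
    simp only [u, map_mul, map_inv, htx.1, hty']
    rw [braid_of_cox (fun _ => ev_sq) (fun _ => cox_one) hx hy ha, mul_assoc (ev y) (ev x) (ev y),
      mul_inv_cancel_right]
  refine ⟨u * tx * u⁻¹, ⟨hσu, ?_⟩, ?_⟩
  · rw [show u * tx * u⁻¹ * (u * tx * u⁻¹) = u * (tx * tx) * u⁻¹ by group, htx.2, mul_one, mul_inv_cancel]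
  · have hz : π (ty'⁻¹ * (u * tx * u⁻¹)) = 1 := by rw [map_mul, map_inv, hty', hσu, inv_mul_cancel]
    set z := ty'⁻¹ * (u * tx * u⁻¹)
    have hzc : ∀ g, Commute z g := fun g => (Subgroup.mem_center_iff.1 (hc hz) g).symm
    have e : u * tx * u⁻¹ = ty' * z := (mul_inv_cancel_left _ _).symm
    calc tx * (u * tx * u⁻¹) * tx = u * (z * tx) := by rw [e]; simp only [u, mul_assoc]
      _ = u * tx * z := by rw [(hzc tx).eq, ← mul_assoc]
      _ = (u * tx * u⁻¹) * u * z := by group
      _ = (u * tx * u⁻¹) * tx * (u * tx * u⁻¹) := by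
          conv_rhs => arg 2; rw [e]
          simp only [u, mul_assoc]

theorem exists_good_central (hsur : Function.Surjective π) (hc : π.ker ≤ Subgroup.center E) {t : E}
    (ht : π t = ev 0) (ht2 : t * t = 1)
    (hgen : ∀ M : Subgroup E, M ⊔ π.ker = ⊤ → t ∈ M → M = ⊤) : ∃ T : ℕ → E, Good π false T := by
  obtain ⟨t1, f1, b01⟩ := step_lift hsur hc (x := 0) (y := 1) (by decide) (by decide) (by decide) ⟨ht, ht2⟩
  obtain ⟨t2, f2, b12⟩ := step_lift hsur hc (x := 1) (y := 2) (by decide) (by decide) (by decide) f1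
  obtain ⟨t3, f3, b23⟩ := step_lift hsur hc (x := 2) (y := 3) (by decide) (by decide) (by decide) f2
  obtain ⟨t4, f4, b34⟩ := step_lift hsur hc (x := 3) (y := 4) (by decide) (by decide) (by decide) f3
  obtain ⟨t5, f5, b45⟩ := step_lift hsur hc (x := 4) (y := 5) (by decide) (by decide) (by decide) f4
  obtain ⟨t6, f6, b56⟩ := step_lift hsur hc (x := 5) (y := 6) (by decide) (by decide) (by decide) f5
  obtain ⟨t7, f7, b67⟩ := step_lift hsur hc (x := 6) (y := 7) (by decide) (by decide) (by decide) f6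
  obtain ⟨t8, f8, b78⟩ := step_lift hsur hc (x := 7) (y := 8) (by decide) (by decide) (by decide) f7
  obtain ⟨t9, f9, b89⟩ := step_lift hsur hc (x := 8) (y := 9) (by decide) (by decide) (by decide) f8
  obtain ⟨t10, f10, b510⟩ := step_lift hsur hc (x := 5) (y := 10) (by decide) (by decide) (by decide) f5
  obtain ⟨t11, f11, b1011⟩ := step_lift hsur hc (x := 10) (y := 11) (by decide) (by decide) (by decide) f10
  let T : ℕ → E := fun x => [t, t1, t2, t3, t4, t5, t6, t7, t8, t9, t10, t11].getD x 1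
  have hT : ∀ x < 12, π (T x) = ev x ∧ T x * T x = 1 := by
    intro x hx
    interval_cases x
    exacts [⟨ht, ht2⟩, f1, f2, f3, f4, f5, f6, f7, f8, f9, f10, f11]
  have hlift : ∀ x < 12, π (T x) = ev x := fun x hx => (hT x hx).1
  have hsq : ∀ x < 12, T x * T x = 1 := fun x hx => (hT x hx).2
  have hbr : ∀ x < 12, ∀ y < 12, adjB edgesT x y = true → T x * T y * T x = T y * T x * T y := by
    intro x hx y hy ha
    have hm : (x, y) ∈ edgesT ∨ (y, x) ∈ edgesT := by simpa [adjB] using ha
    simp only [edgesT, List.mem_cons, List.not_mem_nil, or_false, Prod.mk.injEq] at hm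
    rcases hm with h | h <;>
      (rcases h with ⟨rfl, rfl⟩ | ⟨rfl, rfl⟩ | ⟨rfl, rfl⟩ | ⟨rfl, rfl⟩ | ⟨rfl, rfl⟩ | ⟨rfl, rfl⟩ |
        ⟨rfl, rfl⟩ | ⟨rfl, rfl⟩ | ⟨rfl, rfl⟩ | ⟨rfl, rfl⟩ | ⟨rfl, rfl⟩ <;>
      first | assumption | exact Eq.symm (by assumption))
  have hcen : ∀ a, π a = 1 → ∀ g, Commute a g := fun a ha g => (Subgroup.mem_center_iff.1 (hc ha) g).symm
  set ε := ⁅T 0, T 2⁆ with hεdef
  have hεk : π ε = 1 := by
    rw [hεdef, map_commutatorElement, hlift 0 (by decide), hlift 2 (by decide)]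
    exact commutatorElement_eq_one_iff_mul_comm.2
      (comm_of_cox (fun _ => ev_sq) (fun _ => cox_one) (by decide) (by decide) (by decide) (by decide))
  have hεc := hcen ε hεk
  have hε2 : ε * ε = 1 := by
    have h1 : ⁅T 0 * T 0, T 2⁆ = 1 := by rw [hsq 0 (by decide), commutatorElement_one_left]
    rwa [show ⁅T 0 * T 0, T 2⁆ = T 0 * ⁅T 0, T 2⁆ * (T 0)⁻¹ * ⁅T 0, T 2⁆ by
      simp only [commutatorElement_def]; group, ← hεdef, ← (hεc (T 0)).eq, mul_inv_cancel_right] at h1
  have hswap : ∀ a b : ℕ, ⁅T a, T b⁆ = ε → ⁅T b, T a⁆ = ε := fun a b h => by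
    rw [← commutatorElement_inv, h]
    exact inv_eq_of_mul_eq_one_right hε2
  obtain ⟨known, hknown, hall⟩ : ∃ known, runMoves moves [(0, 2), (2, 0)] = some known ∧
      ((List.range 12).all fun x => (List.range 12).all fun y =>
        x == y || adjB edgesT x y || known.contains (x, y)) = true := by
    have h := moves_ok
    unfold movesOK at h
    cases hr : runMoves moves [(0, 2), (2, 0)] with
    | none => simp [hr] at h
    | some known => exact ⟨known, rfl, by simpa only [hr] using h⟩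
  have hpairs : ∀ q ∈ known, ⁅T q.1, T q.2⁆ = ε := by
    refine runMoves_sound (P := fun a b => ⁅T a, T b⁆ = ε) (fun x y z hx hy hz hxz hyz ha nxz nyz h => ?_)
      moves _ known hknown (fun q hq => ?_)
    · have h1 : ⁅T y, T z⁆ = ε := by
        set u := T x * T y
        have e1 : T y = u * T x * u⁻¹ := by
          rw [eq_mul_inv_iff_mul_eq, ← mul_assoc]
          exact (hbr x hx y hy ha).symm
        have e2 : π (T z) = π (u * T z * u⁻¹) := by
          simp only [u, map_mul, map_inv, hlift x hx, hlift y hy, hlift z hz]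
          rw [eq_mul_inv_iff_mul_eq, ← mul_assoc,
            ← comm_of_cox (fun _ => ev_sq) (fun _ => cox_one) hx hz hxz nxz, mul_assoc,
            ← comm_of_cox (fun _ => ev_sq) (fun _ => cox_one) hy hz hyz nyz, ← mul_assoc]
        rw [e1, CfsgLib.Schur.commutator_congr hc (rfl : π (u * T x * u⁻¹) = _) e2,
          show ⁅u * T x * u⁻¹, u * T z * u⁻¹⁆ = u * ⁅T x, T z⁆ * u⁻¹ by
            simp only [commutatorElement_def]; group, h, ← (hεc u).eq, mul_inv_cancel_right]
      exact ⟨h1, hswap y z h1⟩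
    · simp only [List.mem_cons, List.not_mem_nil, or_false] at hq
      rcases hq with rfl | rfl
      · rfl
      · exact hswap 0 2 rfl
  have hcomm' : ∀ x < 12, ∀ y < 12, x ≠ y → adjB edgesT x y = false → ⁅T x, T y⁆ = ε := by
    intro x hx y hy hne ha
    have h := List.all_eq_true.1 (List.all_eq_true.1 hall x (List.mem_range.2 hx)) y (List.mem_range.2 hy)
    simp only [Bool.or_eq_true, beq_iff_eq, ha, Bool.false_eq_true, or_false, List.contains_iff_mem] at h
    exact hpairs (x, y) (h.resolve_left hne)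
  have huk : π (evW T uW) = 1 := by
    rw [map_evW π fun x hx => hlift x (lt_of_mem (w := uW) (by simp) x hx), uW_one]
  have hε : ε = 1 := by
    set W := evW T (wpow [2, 3, 4, 5, 6, 7, 10] 9) with hW
    have hpass : ∀ x ∈ wpow [2, 3, 4, 5, 6, 7, 10] 9, T x * T 0 = T 0 * T x * ε := by
      have e : ∀ y ∈ wpow [2, 3, 4, 5, 6, 7, 10] 9, y < 12 ∧ y ≠ 0 ∧ adjB edgesT y 0 = false := by
        decide +kernel
      intro x hx
      obtain ⟨h1, h2, h3⟩ := e x hx
      rw [← (hεc (T 0 * T x)).eq, ← hcomm' x h1 0 (by decide) h2 h3, commutatorElement_def]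
      group
    have h := CfsgLib.Fi23Mult.pass_word hεc hpass
    have hWu : W = T 0 * evW T uW := by
      rw [uW, evW_cons, ← mul_assoc, hsq 0 (by decide), one_mul]
    rw [← hW, hWu, mul_assoc (T 0) (evW T uW) (T 0), (hcen _ huk (T 0)).eq] at h
    have h1 := mul_eq_left.1 h.symm
    rw [show (wpow [2, 3, 4, 5, 6, 7, 10] 9).length = 2 * 31 + 1 by decide, pow_succ, pow_mul, pow_two, hε2,
      one_pow, one_mul] at h1
    exact h1
  have hcomm : ∀ x < 12, ∀ y < 12, x ≠ y → adjB edgesT x y = false → T x * T y = T y * T x :=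
    fun x hx y hy hne ha => commutatorElement_eq_one_iff_mul_comm.1 ((hcomm' x hx y hy hne ha).trans hε)
  have hcox := cox_of_rels hsq hcomm hbr
  have h0c : ∀ x < 10, Commute (T 0) (T (x + 2)) := fun x hx => by
    have h : ∀ y : Fin 10, adjB edgesT 0 ((y : ℕ) + 2) = false := by decide +kernel
    exact hcomm 0 (by decide) (x + 2) (by omega) (by omega) (h ⟨x, hx⟩)
  have H := holds_shift (z := (1 : E)) hsq hcox (one_mul 1) fun x _ => Commute.one_left _
  have hu2 : evW T uW * evW T uW = 1 := by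
    set S : ℕ → E := fun x => T (x + 2) * 1
    set P := evW S wordE7
    set Pr := evW S wordE7.reverse
    have hpp : Pr * P = 1 := by
      obtain ⟨k, -, e⟩ := H.run_sound _ CfsgLib.Fi23Mult.cancel_ok
      rwa [evW_append, evW_nil, mul_one, one_pow] at e
    have hP9 : P ^ 9 = T 0 * evW T uW := by
      rw [← evW_wpow, evW_shift _ fun x _ => Commute.one_left _, one_pow, mul_one,
        show (wpow wordE7 9).map (· + 2) = wpow [2, 3, 4, 5, 6, 7, 10] 9 by decide +kernel,
        uW, evW_cons, ← mul_assoc, hsq 0 (by decide), one_mul]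
    have e := H.eq_of_sameW CfsgLib.Fi23Mult.rev_ok (by simp [wordE7])
    rw [evW_append, evW_append] at e
    set g := evW S [0, 1, 0, 2, 1, 0, 3, 2, 1, 0, 8, 4, 3, 2, 1, 0]
    have hg : Commute (T 0 * evW T uW) g := by
      refine (Commute.mul_left ?_ (hcen _ huk g))
      refine Commute.list_prod_right _ _ fun b hb => ?_
      simp only [List.mem_map] at hb
      obtain ⟨x, hx, rfl⟩ := hb
      have : x < 10 := by
        simp only [List.mem_cons, List.not_mem_nil, or_false] at hx
        omega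
      exact (h0c x this).mul_right (Commute.one_right _)
    have hrev : Pr = g * P * g⁻¹ := eq_mul_inv_iff_mul_eq.2 e
    have e9 : (P ^ 9)⁻¹ = P ^ 9 := by
      rw [← inv_pow, ← eq_inv_of_mul_eq_one_left hpp, hrev, conj_pow, hP9, hg.symm.eq, mul_inv_cancel_right]
    rw [hP9, inv_eq_iff_mul_eq_one, (hcen _ huk (T 0)).mul_mul_mul_comm, hsq 0 (by decide), one_mul] at e9
    exact e9
  refine ⟨T, hlift, hsq, hcox, hu2, fun a ha x _ => ((hcen a ha (T x)).eq).symm, fun a b ha _ => hcen a ha b, ?_⟩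
  refine hgen _ ?_ (Subgroup.subset_closure ⟨0, by decide, rfl⟩)
  rw [eq_top_iff]
  intro g _
  have hg : π g ∈ (Subgroup.closure (T '' Set.Iio 12)).map π := by
    rw [MonoidHom.map_closure, Set.image_image,
      Set.image_congr (s := Set.Iio 12) (g := ev) (fun x (hx : x ∈ Set.Iio 12) => hlift x hx), gen_top]
    exact Subgroup.mem_top _
  obtain ⟨m, hm, hmg⟩ := hg
  rw [show g = m * (m⁻¹ * g) from (mul_inv_cancel_left _ _).symm]
  exact Subgroup.mul_mem_sup hm (by rw [MonoidHom.mem_ker, map_mul, map_inv, hmg, inv_mul_cancel])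

end CfsgLib.Fi24Mult
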