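import Cfsg.Agent.Lib.Presented.Fi24Mult.Core

/-!
Good lifts of the letters of Fi24 to an extension by an abelian group of odd order inverted by every lift
of a letter.
-/
set_option autoImplicit false
set_option maxRecDepth 8000

namespace CfsgLib.Fi24Mult

open CfsgLib.Presented Cfsg.Spor
open CfsgLib.Fi23Mult (adjB)
open scoped commutatorElement

variable {E : Type*} [Group E] {π : E →* Cfsg.Spor.Fi24}

theorem adj_table : (∀ y : Fin 12, (y : ℕ) ≠ 0 → (y : ℕ) ≠ 1 → adjB edgesT 0 y = false) ∧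
    adjB edgesT 1 4 = false ∧ adjB edgesT 4 1 = false ∧
    (∀ y : Fin 12, (y : ℕ) ≠ 0 → (y : ℕ) ≠ 1 → (y : ℕ) ≠ 2 →
      (y : ℕ) = 4 ∨ adjB edgesT 4 y = false ∨ ((y : ℕ) = 3 ∧ adjB edgesT 3 6 = false ∧ adjB edgesT 1 6 = false) ∨
        ((y : ℕ) = 5 ∧ adjB edgesT 5 8 = false ∧ adjB edgesT 1 8 = false)) := by decide +kernel

theorem exists_good_inverted (hsur : Function.Surjective π) {t : E} (ht : π t = ev 0) (ht2 : t * t = 1)
    (hodd : ∀ a, π a = 1 → a * a = 1 → a = 1) (hroot : ∀ a, π a = 1 → ∃ b, π b = 1 ∧ b * b = a)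
    (hact : ∀ x < 12, ∀ g, π g = ev x → ∀ a, π a = 1 → g * a = a⁻¹ * g)
    (hker : ∀ a b, π a = 1 → π b = 1 → Commute a b)
    (hgen : ∀ M : Subgroup E, M ⊔ π.ker = ⊤ → t ∈ M → M = ⊤) : ∃ T : ℕ → E, Good π true T := by
  have hinvol : ∀ x < 12, ∀ g, π g = ev x → g * g = 1 := by
    intro x hx g hg
    have hk : π (g * g) = 1 := by rw [map_mul, hg, ev_sq hx]
    have h := hact x hx g hg _ hk
    have h2 : g * (g * g) = g * g * g := (mul_assoc g g g).symm
    exact hodd _ hk (mul_eq_one_iff_eq_inv.2 (mul_right_cancel (h2.symm.trans h)))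
  have hadjust : ∀ x < 12, ∀ z < 12, ∀ tz, π tz = ev z → ev x * ev z = ev z * ev x →
      ∃ tx, π tx = ev x ∧ Commute tx tz := by
    intro x hx z hz tz htz hc
    obtain ⟨g, hg⟩ := hsur (ev x)
    have hk : π ⁅tz, g⁆ = 1 := by
      rw [map_commutatorElement, htz, hg]
      exact commutatorElement_eq_one_iff_mul_comm.2 hc.symm
    obtain ⟨b, hb, hbb⟩ := hroot _ hk
    refine ⟨b * g, by rw [map_mul, hb, hg, one_mul], ?_⟩
    have h1 : tz * g = b * b * (g * tz) := by rw [hbb, commutatorElement_def]; group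
    have h2 := hact z hz tz htz b hb
    show b * g * tz = tz * (b * g)
    rw [← mul_assoc tz, h2, mul_assoc b⁻¹, h1, ← mul_assoc, ← mul_assoc b⁻¹, inv_mul_cancel, one_mul,
      mul_assoc]
  have hfix : ∀ x < 12, ∀ g, π g = ev x → ∀ a, π a = 1 → Commute g a → a = 1 := by
    intro x hx g hg a ha hc
    refine hodd a ha ?_
    have h := hact x hx g hg a ha
    rw [hc.eq] at h
    have h' := mul_right_cancel h
    exact mul_eq_one_iff_eq_inv.2 h'
  obtain ⟨hadj0, hadj14, hadj41, hadjk⟩ := adj_table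
  have hev0 : ∀ x, 2 ≤ x → x < 12 → ev x * ev 0 = ev 0 * ev x := fun x h2 hx =>
    (comm_of_cox (fun _ => ev_sq) (fun _ => cox_one) (x := 0) (y := x) (by decide) hx (by omega)
      (hadj0 ⟨x, hx⟩ (by simp; omega) (by simp; omega))).symm
  have hsome : ∀ x, ∃ g : E, 2 ≤ x → x < 12 → π g = ev x ∧ Commute g t := by
    intro x
    by_cases h : 2 ≤ x ∧ x < 12
    · obtain ⟨g, hg⟩ := hadjust x h.2 0 (by decide) t ht (hev0 x h.1 h.2)
      exact ⟨g, fun _ _ => hg⟩
    · exact ⟨1, fun a b => absurd ⟨a, b⟩ h⟩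
  choose f hf using hsome
  obtain ⟨t1, ht1, hc14⟩ := hadjust 1 (by decide) 4 (by decide) (f 4) (hf 4 (by decide) (by decide)).1
    (comm_of_cox (fun _ => ev_sq) (fun _ => cox_one) (by decide) (by decide) (by decide) hadj14)
  let T : ℕ → E := fun x => if x = 0 then t else if x = 1 then t1 else f x
  have hlift : ∀ x < 12, π (T x) = ev x := by
    intro x hx
    rcases eq_or_ne x 0 with rfl | h0
    · exact ht
    rcases eq_or_ne x 1 with rfl | h1
    · exact ht1
    simp only [T, if_neg h0, if_neg h1]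
    exact (hf x (by omega) hx).1
  have hsq : ∀ x < 12, T x * T x = 1 := fun x hx => hinvol x hx _ (hlift x hx)
  have h0c : ∀ x, 2 ≤ x → x < 12 → Commute (T x) (T 0) := by
    intro x h2 hx
    simp only [T, if_pos rfl, if_neg (show x ≠ 0 by omega), if_neg (show x ≠ 1 by omega)]
    exact (hf x h2 hx).2
  have h14 : Commute (T 1) (T 4) := hc14
  -- commuting lifts are detected by a witness commuting with both
  have witness : ∀ x y z, x < 12 → y < 12 → z < 12 → x ≠ y → adjB edgesT x y = false →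
      Commute (T x) (T z) → Commute (T y) (T z) → Commute (T x) (T y) := by
    intro x y z hx hy hz hne ha h1 h2
    refine commutatorElement_eq_one_iff_commute.1 ?_
    have hk : π ⁅T x, T y⁆ = 1 := by
      rw [map_commutatorElement, hlift x hx, hlift y hy]
      exact commutatorElement_eq_one_iff_mul_comm.2
        (comm_of_cox (fun _ => ev_sq) (fun _ => cox_one) hx hy hne ha)
    refine hfix z hz _ (hlift z hz) _ hk ?_
    rw [commutatorElement_def]
    exact (((h1.symm.mul_right h2.symm).mul_right h1.symm.inv_right).mul_right h2.symm.inv_right)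
  have hC : ∀ x y, 2 ≤ x → 2 ≤ y → x < 12 → y < 12 → x ≠ y → adjB edgesT x y = false →
      Commute (T x) (T y) := fun x y h2 h2' hx hy hne ha =>
    witness x y 0 hx hy (by decide) hne ha (h0c x h2 hx) (h0c y h2' hy)
  have hk_comm : ∀ y, 2 ≤ y → y < 12 → adjB edgesT 1 y = false → Commute (T 1) (T y) := by
    intro y h2 hy ha
    have hy2 : y ≠ 2 := by
      rintro rfl
      exact absurd ha (by decide)
    rcases hadjk ⟨y, hy⟩ (by simp; omega) (by simp; omega) (by simpa using hy2) with h | h | ⟨h, h36, h16⟩ | ⟨h, h58, h18⟩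
    · obtain rfl : y = 4 := h
      exact h14
    · by_cases h4 : y = 4
      · subst h4; exact h14
      · exact witness 1 y 4 (by decide) hy (by decide) (by omega) ha h14
          (hC 4 y (by decide) h2 (by decide) hy (Ne.symm h4) h).symm
    · obtain rfl : y = 3 := h
      exact witness 1 3 6 (by decide) (by decide) (by decide) (by decide) ha
        (witness 1 6 4 (by decide) (by decide) (by decide) (by decide) h16 h14
          (hC 4 6 (by decide) (by decide) (by decide) (by decide) (by decide) (by decide)).symm)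
        (hC 3 6 (by decide) (by decide) (by decide) (by decide) (by decide) h36)
    · obtain rfl : y = 5 := h
      exact witness 1 5 8 (by decide) (by decide) (by decide) (by decide) ha
        (witness 1 8 4 (by decide) (by decide) (by decide) (by decide) h18 h14
          (hC 4 8 (by decide) (by decide) (by decide) (by decide) (by decide) (by decide)).symm)
        (hC 5 8 (by decide) (by decide) (by decide) (by decide) (by decide) h58)
  have hcomm : ∀ x < 12, ∀ y < 12, x ≠ y → adjB edgesT x y = false → T x * T y = T y * T x := by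
    intro x hx y hy hne ha
    have ha' : adjB edgesT y x = false := (adj_symm ⟨x, hx⟩ ⟨y, hy⟩).1 ▸ ha
    have h01 : adjB edgesT 0 1 = true := by decide
    have h10 : adjB edgesT 1 0 = true := by decide
    rcases eq_or_ne x 0 with rfl | hx0
    · rcases eq_or_ne y 1 with rfl | hy1
      · rw [h01] at ha; simp at ha
      · exact (h0c y (by omega) hy).eq.symm
    rcases eq_or_ne x 1 with rfl | hx1
    · rcases eq_or_ne y 0 with rfl | hy0
      · rw [h10] at ha; simp at ha
      · exact (hk_comm y (by omega) hy ha).eq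
    rcases eq_or_ne y 0 with rfl | hy0
    · exact (h0c x (by omega) hx).eq
    rcases eq_or_ne y 1 with rfl | hy1
    · exact (hk_comm x (by omega) hx ha').eq.symm
    exact (hC x y (by omega) (by omega) hx hy hne ha).eq
  have hbr : ∀ x < 12, ∀ y < 12, adjB edgesT x y = true → T x * T y * T x = T y * T x * T y := by
    have braid_w : ∀ x y z, x < 12 → y < 12 → z < 12 → adjB edgesT x y = true → Commute (T x) (T z) →
        Commute (T y) (T z) → T x * T y * T x = T y * T x * T y := by
      intro x y z hx hy hz ha h1 h2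
      refine mul_inv_eq_one.1 (hfix z hz _ (hlift z hz) _ ?_ ?_)
      · simp only [map_mul, map_inv, hlift x hx, hlift y hy]
        exact mul_inv_eq_one.2 (braid_of_cox (fun _ => ev_sq) (fun _ => cox_one) hx hy ha)
      · exact ((h1.symm.mul_right h2.symm).mul_right h1.symm).mul_right
          ((h2.symm.mul_right h1.symm).mul_right h2.symm).inv_right
    have b01 := braid_w 0 1 4 (by decide) (by decide) (by decide) (by decide)
      (h0c 4 (by decide) (by decide)).symm h14
    have b12 := braid_w 1 2 4 (by decide) (by decide) (by decide) (by decide) h14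
      (hC 2 4 (by decide) (by decide) (by decide) (by decide) (by decide) (by decide))
    intro x hx y hy ha
    have hcase : ∀ a : Fin 12, ∀ b : Fin 12, adjB edgesT a b = true →
        (2 ≤ (a : ℕ) ∧ 2 ≤ (b : ℕ)) ∨ ((a : ℕ) = 0 ∧ (b : ℕ) = 1) ∨ ((a : ℕ) = 1 ∧ (b : ℕ) = 0) ∨
          ((a : ℕ) = 1 ∧ (b : ℕ) = 2) ∨ ((a : ℕ) = 2 ∧ (b : ℕ) = 1) := by decide +kernel
    rcases hcase ⟨x, hx⟩ ⟨y, hy⟩ ha with ⟨h, h'⟩ | ⟨h, h'⟩ | ⟨h, h'⟩ | ⟨h, h'⟩ | ⟨h, h'⟩
    · exact braid_w x y 0 hx hy (by decide) ha (h0c x h hx) (h0c y h' hy)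
    · obtain ⟨rfl, rfl⟩ : x = 0 ∧ y = 1 := ⟨h, h'⟩
      exact b01
    · obtain ⟨rfl, rfl⟩ : x = 1 ∧ y = 0 := ⟨h, h'⟩
      exact b01.symm
    · obtain ⟨rfl, rfl⟩ : x = 1 ∧ y = 2 := ⟨h, h'⟩
      exact b12
    · obtain ⟨rfl, rfl⟩ : x = 2 ∧ y = 1 := ⟨h, h'⟩
      exact b12.symm
  have huk : π (evW T uW) = 1 := by
    rw [map_evW π fun x hx => hlift x (lt_of_mem (w := uW) (by simp) x hx), uW_one]
  have hu : evW T uW = 1 := by
    refine hfix 0 (by decide) _ (hlift 0 (by decide)) _ huk ?_
    refine Commute.list_prod_right _ _ fun b hb => ?_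
    simp only [List.mem_map] at hb
    obtain ⟨x, hx, rfl⟩ := hb
    have hlt := lt_of_mem (w := uW) (by simp) x hx
    have hne1 : ∀ y ∈ uW, y ≠ 1 := by decide +kernel
    have h1 := hne1 x hx
    rcases eq_or_ne x 0 with rfl | h0
    · exact Commute.refl _
    · exact (h0c x (by omega) hlt).symm
  refine ⟨T, hlift, hsq, cox_of_rels hsq hcomm hbr, by rw [hu, one_mul],
    fun a ha x hx => hact x hx _ (hlift x hx) a ha, hker, ?_⟩
  refine hgen _ ?_ (Subgroup.subset_closure ⟨0, by decide, rfl⟩)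
  rw [eq_top_iff]
  intro g _
  have hg : π g ∈ (Subgroup.closure (T '' Set.Iio 12)).map π := by
    rw [MonoidHom.map_closure, Set.image_image,
      Set.image_congr (s := Set.Iio 12) (g := ev) (fun x (hx : x ∈ Set.Iio 12) => hlift x hx), gen_top]
    exact Subgroup.mem_top _
  obtain ⟨m, hm, hmg⟩ := hg
  rw [show g = m * (m⁻¹ * g) from (mul_inv_cancel_left _ _).symm]
  exact Subgroup.mul_mem_sup hm (by rw [MonoidHom.mem_ker, map_mul, map_inv, hmg, inv_mul_cancel])

end CfsgLib.Fi24Mult
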