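import Cfsg.Prelude.Def_KGroupFacts
import Cfsg.Agent.Lib.Presented.Fi23Order
import Cfsg.Agent.Lib.Presented.Fi24Mult.LiftsC
import Cfsg.Agent.Lib.Presented.Fi24Mult.LiftsI

/-!
The kernel of a stem extension of Fi24' is generated by one element of order dividing three.

The extension is doubled along the conjugation by the first letter and extended by the swap; this gives
an extension of Fi24 in which that letter lifts to an involution.  Modulo the commutators with the swap it
is central, hence trivial; so the swap inverts the kernel, which then has odd order and is cyclic.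
-/
set_option autoImplicit false
set_option maxRecDepth 8000
set_option linter.constructorNameAsVariable false

namespace CfsgLib.Fi24Mult

open CfsgLib.Presented Cfsg.Spor
open CfsgLib.Fi23Mult (adjB)
open scoped commutatorElement

theorem ev_mul_zero_mem {x : ℕ} (hx : x < 12) : ev x * ev 0 ∈ commutator Cfsg.Spor.Fi24 := by
  have hb : ∀ a b : ℕ, a < 12 → b < 12 → adjB edgesT a b = true →
      ev a * ev b ∈ commutator Cfsg.Spor.Fi24 := by
    intro a b ha hb h
    refine (QuotientGroup.eq_one_iff _).1 ?_
    show (Abelianization.of (ev a * ev b) : Abelianization Cfsg.Spor.Fi24) = 1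
    have e := congrArg (Abelianization.of (G := Cfsg.Spor.Fi24))
      (braid_of_cox (fun _ => ev_sq) (fun _ => cox_one) ha hb h)
    rw [map_mul, map_mul, map_mul, map_mul, mul_comm (Abelianization.of (ev b)) (Abelianization.of (ev a))] at e
    rw [map_mul, mul_left_cancel e, ← map_mul, ev_sq hb, map_one]
  have htrans : ∀ a b : ℕ, b < 12 → ev a * ev b ∈ commutator Cfsg.Spor.Fi24 →
      ev b * ev 0 ∈ commutator Cfsg.Spor.Fi24 → ev a * ev 0 ∈ commutator Cfsg.Spor.Fi24 := by
    intro a b hb' h1 h2
    have h := mul_mem h1 h2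
    rwa [mul_assoc, ← mul_assoc (ev b), ev_sq hb', one_mul] at h
  have step : ∀ a b : ℕ, a < 12 → b < 12 → adjB edgesT a b = true →
      ev b * ev 0 ∈ commutator Cfsg.Spor.Fi24 → ev a * ev 0 ∈ commutator Cfsg.Spor.Fi24 :=
    fun a b ha hb' h => htrans a b hb' (hb a b ha hb' h)
  have h0 : ev 0 * ev 0 ∈ commutator Cfsg.Spor.Fi24 := by rw [ev_sq (by decide)]; exact one_mem _
  have h1 := step 1 0 (by decide) (by decide) (by decide) h0
  have h2 := step 2 1 (by decide) (by decide) (by decide) h1
  have h3 := step 3 2 (by decide) (by decide) (by decide) h2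
  have h4 := step 4 3 (by decide) (by decide) (by decide) h3
  have h5 := step 5 4 (by decide) (by decide) (by decide) h4
  have h6 := step 6 5 (by decide) (by decide) (by decide) h5
  have h7 := step 7 6 (by decide) (by decide) (by decide) h6
  have h8 := step 8 7 (by decide) (by decide) (by decide) h7
  have h9 := step 9 8 (by decide) (by decide) (by decide) h8
  have h10 := step 10 5 (by decide) (by decide) (by decide) h5
  have h11 := step 11 10 (by decide) (by decide) (by decide) h10
  interval_cases x <;> assumption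

/-- Every element lies in the commutator subgroup or in its coset of the first letter. -/
theorem mem_or (g : Cfsg.Spor.Fi24) :
    g ∈ commutator Cfsg.Spor.Fi24 ∨ g * ev 0 ∈ commutator Cfsg.Spor.Fi24 := by
  have hnorm : (commutator Cfsg.Spor.Fi24).Normal := inferInstance
  have hg : g ∈ Subgroup.closure (ev '' Set.Iio 12) := by rw [gen_top]; trivial
  induction hg using Subgroup.closure_induction with
  | mem y hy =>
    obtain ⟨x, hx, rfl⟩ := hy
    exact Or.inr (ev_mul_zero_mem hx)
  | one => exact Or.inl (one_mem _)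
  | mul a b _ _ iha ihb =>
    rcases iha with ha | ha <;> rcases ihb with hb | hb
    · exact Or.inl (mul_mem ha hb)
    · exact Or.inr (by rw [mul_assoc]; exact mul_mem ha hb)
    · refine Or.inr ?_
      have h := mul_mem ha (hnorm.conj_mem b hb (ev 0)⁻¹)
      rwa [inv_inv, ← mul_assoc, ← mul_assoc, mul_inv_cancel_right] at h
    · refine Or.inl ?_
      have h := mul_mem ha (hnorm.conj_mem (b * ev 0) hb (ev 0)⁻¹)
      rwa [inv_inv, ← mul_assoc, ← mul_assoc, ← mul_assoc, mul_inv_cancel_right, mul_assoc,
        ev_sq (by decide), mul_one] at h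
  | inv a _ iha =>
    rcases iha with ha | ha
    · exact Or.inl (inv_mem ha)
    · refine Or.inr ?_
      have h := hnorm.conj_mem _ (inv_mem ha) (ev 0)⁻¹
      rw [mul_inv_rev, inv_inv, ← mul_assoc, mul_assoc (_ * (ev 0)⁻¹), ] at h
      rw [inv_eq_of_mul_eq_one_right (ev_sq (by decide : (0 : ℕ) < 12))] at h
      rwa [ev_sq (by decide), one_mul] at h

/-- The commutator subgroup is perfect. -/
theorem derived_perfect (I : Input) :
    ⁅commutator Cfsg.Spor.Fi24, commutator Cfsg.Spor.Fi24⁆ = commutator Cfsg.Spor.Fi24 := by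
  refine le_antisymm (Subgroup.commutator_le_self _) ?_
  set N := ⁅commutator Cfsg.Spor.Fi24, commutator Cfsg.Spor.Fi24⁆ with hN
  obtain ⟨θ, hθ, hinj⟩ := exists_theta I
  have := Fi23Simple.simple
  have hperf : commutator Cfsg.Spor.Fi23 = ⊤ := by
    refine (Subgroup.Normal.eq_bot_or_eq_top inferInstance).resolve_left fun h => ?_
    have hc : ∀ a b : Cfsg.Spor.Fi23, Commute a b := fun a b => by
      rw [← commutatorElement_eq_one_iff_commute]
      exact (Subgroup.eq_bot_iff_forall _).1 h _ (by
        rw [commutator_def]; exact Subgroup.commutator_mem_commutator trivial trivial)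
    let _ : CommGroup Cfsg.Spor.Fi23 :=
      { (inferInstance : Group Cfsg.Spor.Fi23) with mul_comm := fun a b => (hc a b).eq }
    have hp : (Nat.card Cfsg.Spor.Fi23).Prime := IsSimpleGroup.prime_card
    rw [Fi23Order.card_eq] at hp
    rcases hp.eq_two_or_odd with h' | h' <;> omega
  have hrange : θ.range ≤ N := by
    have h1 : θ.range ≤ commutator Cfsg.Spor.Fi24 := by
      rw [MonoidHom.range_eq_map, ← hperf, commutator_def, Subgroup.map_commutator, commutator_def]
      exact Subgroup.commutator_mono le_top le_top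
    calc θ.range = Subgroup.map θ ⁅(⊤ : Subgroup Cfsg.Spor.Fi23), ⊤⁆ := by
          rw [← commutator_def, hperf, ← MonoidHom.range_eq_map]
      _ = ⁅θ.range, θ.range⁆ := by rw [Subgroup.map_commutator, ← MonoidHom.range_eq_map]
      _ ≤ N := Subgroup.commutator_mono h1 h1
  let q := QuotientGroup.mk' N
  have hx : ∀ x, 2 ≤ x → x < 12 → q (ev x) = q (ev 0) := by
    intro x h2 hx
    obtain ⟨y, rfl⟩ : ∃ y, x = y + 2 := ⟨x - 2, by omega⟩
    have h : q (θ (Fi23Cosets.ev y)) = 1 := (QuotientGroup.eq_one_iff _).2 (hrange ⟨_, rfl⟩)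
    rw [hθ y (by omega), map_mul, mul_eq_one_iff_eq_inv, ← map_inv,
      inv_eq_of_mul_eq_one_right (ev_sq (by decide : (0 : ℕ) < 12))] at h
    exact h
  have h1 : q (ev 1) = q (ev 0) := by
    have hc : q (ev 1) * q (ev 0) = q (ev 0) * q (ev 1) := by
      rw [← hx 3 (by decide) (by decide), ← map_mul, ← map_mul,
        comm_of_cox (x := 1) (y := 3) (fun _ => ev_sq) (fun _ => cox_one) (by decide) (by decide) (by decide)
          (by decide)]
    have e := congrArg q (braid_of_cox (x := 1) (y := 0) (fun _ => ev_sq) (fun _ => cox_one) (by decide)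
      (by decide) (by decide))
    simp only [map_mul] at e
    rw [hc] at e
    exact mul_left_cancel (e.trans (by rw [mul_assoc, hc, ← mul_assoc]))
  have hall : ∀ x < 12, q (ev x) = q (ev 0) := by
    intro x hx'
    rcases (show x = 0 ∨ x = 1 ∨ 2 ≤ x by omega) with rfl | rfl | h
    · rfl
    · exact h1
    · exact hx x h hx'
  have hcomm : ∀ g, g ∈ Subgroup.zpowers (q (ev 0)) := by
    intro g
    obtain ⟨g, rfl⟩ := QuotientGroup.mk'_surjective N g
    have hg : g ∈ (Subgroup.zpowers (q (ev 0))).comap q := by
      refine (Subgroup.closure_le _).2 ?_ (gen_top.ge (Subgroup.mem_top g))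
      rintro _ ⟨x, hx', rfl⟩
      rw [SetLike.mem_coe, Subgroup.mem_comap]
      rw [hall x hx']
      exact Subgroup.mem_zpowers _
    exact hg
  rw [commutator_def, Subgroup.commutator_le]
  intro a _ b _
  refine (QuotientGroup.eq_one_iff _).1 ?_
  show q ⁅a, b⁆ = 1
  rw [map_commutatorElement, commutatorElement_eq_one_iff_mul_comm]
  obtain ⟨m, hm⟩ := hcomm (q a)
  obtain ⟨n, hn⟩ := hcomm (q b)
  rw [← hm, ← hn]
  exact (zpow_mul_comm _ _ _)

end CfsgLib.Fi24Mult
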