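import Mathlib.GroupTheory.SemidirectProduct
import Cfsg.Agent.Lib.Presented.Fi24Mult.Upper

/-!
An extension of the whole group out of a stem extension of its commutator subgroup, and the bound on
the kernel of the latter.
-/
set_option autoImplicit false
set_option maxRecDepth 8000
set_option linter.constructorNameAsVariable false

namespace CfsgLib.Fi24Mult

open CfsgLib.Presented Cfsg.Spor
open scoped commutatorElement

/-- A homomorphism out of the group with two elements. -/
def invHom {M : Type*} [Group M] (t : M) (ht : t * t = 1) : Multiplicative (ZMod 2) →* M where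
  toFun a := if a = 1 then 1 else t
  map_one' := if_pos rfl
  map_mul' a b := by
    have h : ∀ c : Multiplicative (ZMod 2), c = 1 ∨ c = Multiplicative.ofAdd 1 := by decide
    have h1 : (Multiplicative.ofAdd 1 : Multiplicative (ZMod 2)) ≠ 1 := by decide
    have h2 : (Multiplicative.ofAdd 1 * Multiplicative.ofAdd 1 : Multiplicative (ZMod 2)) = 1 := by decide
    rcases h a with rfl | rfl <;> rcases h b with rfl | rfl
    · simp
    · simp [h1]
    · simp [h1]
    · rw [h2, if_pos rfl, if_neg h1, ht]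

theorem invHom_swap {M : Type*} [Group M] (t : M) (ht : t * t = 1) :
    invHom t ht (Multiplicative.ofAdd 1) = t := by
  show (if (Multiplicative.ofAdd (1 : ZMod 2)) = 1 then (1 : M) else t) = t
  exact if_neg (by decide)

/-- In a group with two cases: trivial or the swap. -/
theorem two_cases (c : Multiplicative (ZMod 2)) : c = 1 ∨ c = Multiplicative.ofAdd 1 := by
  revert c; decide

/-- The abstract bound. -/
theorem ker_bound (I : Input) {U : Type*} [Group U] [Finite U] (hU : commutator U = ⊤)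
    (p : U →* Cfsg.Spor.Fi24) (hp : p.range = commutator Cfsg.Spor.Fi24) (hpc : p.ker ≤ Subgroup.center U)
    (τ : MulAut U) (hτ : τ * τ = 1) (hpτ : ∀ u, p (τ u) = ev 0 * p u * ev 0) :
    ∃ z : U, p z = 1 ∧ z ^ 3 = 1 ∧ ∀ a, p a = 1 → a ∈ Subgroup.zpowers z := by
  obtain ⟨sgn, hsgn⟩ := exists_sgn
  have hl : ev 0 * ev 0 = 1 := ev_sq (by decide)
  have hττ : ∀ u, τ (τ u) = u := fun u => by rw [← MulAut.mul_apply, hτ, MulAut.one_apply]
  let φ : Multiplicative (ZMod 2) →* MulAut U := invHom τ hτ
  have hφ : φ (Multiplicative.ofAdd 1) = τ := invHom_swap τ hτ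
  let π : U ⋊[φ] Multiplicative (ZMod 2) →* Cfsg.Spor.Fi24 := SemidirectProduct.lift p (invHom (ev 0) hl) (by
    intro g
    refine MonoidHom.ext fun u => ?_
    rcases two_cases g with rfl | rfl
    · simp
    · show p (φ _ u) = invHom (ev 0) hl _ * p u * (invHom (ev 0) hl _)⁻¹
      rw [hφ, invHom_swap, inv_eq_of_mul_eq_one_right hl, hpτ])
  let t : U ⋊[φ] Multiplicative (ZMod 2) := SemidirectProduct.inr (Multiplicative.ofAdd 1)
  have ht : π t = ev 0 := by
    show π (SemidirectProduct.inr _) = _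
    rw [SemidirectProduct.lift_inr, invHom_swap]
  have ht2 : t * t = 1 := by
    show SemidirectProduct.inr _ * SemidirectProduct.inr _ = _
    rw [← map_mul, show (Multiplicative.ofAdd 1 * Multiplicative.ofAdd 1 : Multiplicative (ZMod 2)) = 1 by decide,
      map_one]
  have htconj : ∀ u : U, t * SemidirectProduct.inl u = SemidirectProduct.inl (τ u) * t := by
    intro u
    rw [← hφ, SemidirectProduct.inl_aut, map_inv]
    exact (inv_mul_cancel_right _ _).symm
  have hpi : ∀ u : U, π (SemidirectProduct.inl u) = p u := fun u => SemidirectProduct.lift_inl _ _ _ u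
  have hodd_ev : sgn (ev 0) = Multiplicative.ofAdd 1 := hsgn 0 (by decide)
  have heven : ∀ u, sgn (p u) = 1 := fun u => by
    have h : p u ∈ commutator Cfsg.Spor.Fi24 := hp ▸ ⟨u, rfl⟩
    exact Abelianization.commutator_subset_ker sgn h
  have hform : ∀ g, ∃ u, g = SemidirectProduct.inl u ∨ g = SemidirectProduct.inl u * t := by
    intro g
    refine ⟨g.left, ?_⟩
    rcases two_cases g.right with h | h
    · left
      have e := SemidirectProduct.inl_left_mul_inr_right g
      rw [h, map_one, mul_one] at e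
      exact e.symm
    · right
      have e := SemidirectProduct.inl_left_mul_inr_right g
      rw [h] at e
      exact e.symm
  have hker : ∀ g, π g = 1 → ∃ u, p u = 1 ∧ g = SemidirectProduct.inl u := by
    intro g hg
    obtain ⟨u, rfl | rfl⟩ := hform g
    · exact ⟨u, (hpi u).symm.trans hg, rfl⟩
    · exfalso
      have h := congrArg sgn hg
      rw [map_mul, hpi, ht, map_mul, heven, one_mul, hodd_ev, map_one sgn] at h
      exact absurd h (by decide : (Multiplicative.ofAdd 1 : Multiplicative (ZMod 2)) ≠ 1)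
  have hlift : ∀ g x, x < 12 → π g = ev x → ∃ u, g = SemidirectProduct.inl u * t := by
    intro g x hx hg
    obtain ⟨u, rfl | rfl⟩ := hform g
    · exfalso
      have h := congrArg sgn hg
      rw [hpi, heven, hsgn x hx] at h
      exact absurd h (by decide : (1 : Multiplicative (ZMod 2)) ≠ Multiplicative.ofAdd 1)
    · exact ⟨u, rfl⟩
  have hsur : Function.Surjective π := by
    intro g
    rcases mem_or g with h | h
    · obtain ⟨u, hu⟩ := (hp ▸ h : g ∈ p.range)
      exact ⟨_, (hpi u).trans hu⟩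
    · obtain ⟨u, hu⟩ := (hp ▸ h : g * ev 0 ∈ p.range)
      exact ⟨SemidirectProduct.inl u * t, by rw [map_mul, hpi, hu, ht, mul_assoc, hl, mul_one]⟩
  have hgen : ∀ M : Subgroup (U ⋊[φ] Multiplicative (ZMod 2)), M ⊔ π.ker = ⊤ → t ∈ M → M = ⊤ := by
    intro M hM htM
    have hA : ∀ u, ∃ m a, SemidirectProduct.inl m ∈ M ∧ p a = 1 ∧ u = m * a := by
      intro u
      have h : (SemidirectProduct.inl u : U ⋊[φ] Multiplicative (ZMod 2)) ∈
          (↑(M ⊔ π.ker) : Set (U ⋊[φ] Multiplicative (ZMod 2))) := by rw [hM]; trivial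
      rw [Subgroup.mul_normal] at h
      obtain ⟨m, hm, k, hk, e⟩ := h
      obtain ⟨a, ha, rfl⟩ := hker k hk
      refine ⟨u * a⁻¹, a, ?_, ha, (inv_mul_cancel_right u a).symm⟩
      rw [map_mul, map_inv, ← e, mul_inv_cancel_right]
      exact hm
    have hall : ∀ u : U, SemidirectProduct.inl u ∈ M := by
      intro u
      have hle : commutator U ≤ M.comap SemidirectProduct.inl := by
        rw [commutator_def, Subgroup.commutator_le]
        intro a _ b _
        obtain ⟨m, c, hm, hc, rfl⟩ := hA a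
        obtain ⟨n, d, hn, hd, rfl⟩ := hA b
        have hc' := fun g => Subgroup.mem_center_iff.1 (hpc hc) g
        have hd' := fun g => Subgroup.mem_center_iff.1 (hpc hd) g
        have e : ⁅m * c, n * d⁆ = ⁅m, n⁆ := CfsgLib.Schur.commutator_congr hpc
          (by rw [map_mul, hc, mul_one]) (by rw [map_mul, hd, mul_one])
        rw [e, Subgroup.mem_comap, map_commutatorElement, commutatorElement_def]
        exact mul_mem (mul_mem (mul_mem hm hn) (inv_mem hm)) (inv_mem hn)
      exact hle (hU ▸ Subgroup.mem_top u)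
    rw [eq_top_iff]
    intro g _
    obtain ⟨u, rfl | rfl⟩ := hform g
    · exact hall u
    · exact mul_mem (hall u) htM
  -- the commutators with the swap
  let δ : p.ker →* U ⋊[φ] Multiplicative (ZMod 2) :=
    { toFun := fun a => SemidirectProduct.inl (τ a.1 * a.1⁻¹)
      map_one' := by simp
      map_mul' := fun a b => by
        rw [← map_mul SemidirectProduct.inl (τ a.1 * a.1⁻¹) (τ b.1 * b.1⁻¹)]
        refine congrArg SemidirectProduct.inl ?_
        rw [Subgroup.coe_mul, map_mul, mul_inv_rev, mul_assoc, ← mul_assoc (τ b.1),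
          Subgroup.mem_center_iff.1 (hpc (inv_mem a.2)) (τ b.1 * b.1⁻¹), ← mul_assoc] }
  have hτker : ∀ a, p a = 1 → p (τ a) = 1 := fun a ha => by rw [hpτ, ha, mul_one, hl]
  have hδmem : ∀ a : p.ker, p (τ a.1 * a.1⁻¹) = 1 := fun a => by
    rw [map_mul, hτker _ a.2, map_inv, MonoidHom.mem_ker.1 a.2, inv_one, mul_one]
  have hN : δ.range.Normal := by
    refine ⟨fun n hn g => ?_⟩
    obtain ⟨a, rfl⟩ := hn
    have hcent : ∀ (u : U) (a : p.ker),
        SemidirectProduct.inl u * δ a * (SemidirectProduct.inl u)⁻¹ = δ a := fun u a => by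
      show SemidirectProduct.inl u * SemidirectProduct.inl _ * _ = SemidirectProduct.inl _
      rw [← map_mul, Subgroup.mem_center_iff.1 (hpc (hδmem a)) u, map_mul, mul_inv_cancel_right]
    obtain ⟨u, rfl | rfl⟩ := hform g
    · rw [hcent u a]; exact ⟨a, rfl⟩
    · have h1 : t * δ a * t⁻¹ = δ a⁻¹ := by
        show t * SemidirectProduct.inl (τ a.1 * a.1⁻¹) * t⁻¹ = _
        rw [htconj, mul_inv_cancel_right]
        show _ = SemidirectProduct.inl (τ (a⁻¹ : p.ker).1 * (a⁻¹ : p.ker).1⁻¹)
        refine congrArg _ ?_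
        rw [map_mul, hττ, Subgroup.coe_inv, map_inv, inv_inv,
          Subgroup.mem_center_iff.1 (hpc a.2) (τ a.1)⁻¹]
      rw [mul_inv_rev, ← mul_assoc, mul_assoc (SemidirectProduct.inl u), mul_assoc (SemidirectProduct.inl u), h1]
      exact ⟨a⁻¹, (hcent u a⁻¹).symm⟩
  have hNle : δ.range ≤ π.ker := by
    rintro _ ⟨a, rfl⟩
    exact (hpi _).trans (hδmem a)
  let π₁ := QuotientGroup.lift δ.range π hNle
  let mk := QuotientGroup.mk' δ.range
  have hsur₁ : Function.Surjective π₁ := fun g => by
    obtain ⟨e, he⟩ := hsur g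
    exact ⟨mk e, he⟩
  have hc₁ : π₁.ker ≤ Subgroup.center _ := by
    intro k hk
    rw [Subgroup.mem_center_iff]
    intro g
    obtain ⟨k, rfl⟩ := QuotientGroup.mk'_surjective δ.range k
    obtain ⟨g, rfl⟩ := QuotientGroup.mk'_surjective δ.range g
    obtain ⟨a, ha, rfl⟩ := hker k hk
    have hu : ∀ u : U, Commute (SemidirectProduct.inl u) (SemidirectProduct.inl a : U ⋊[φ] Multiplicative (ZMod 2)) :=
      fun u => (show Commute u a from Subgroup.mem_center_iff.1 (hpc ha) u).map _
    have htc : Commute (mk t) (mk (SemidirectProduct.inl a)) := by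
      have e : mk (SemidirectProduct.inl (τ a * a⁻¹)) = 1 :=
        (QuotientGroup.eq_one_iff _).2 ⟨⟨a, ha⟩, rfl⟩
      rw [map_mul SemidirectProduct.inl, map_mul, map_inv, map_inv, mul_inv_eq_one] at e
      show mk t * _ = _
      rw [← map_mul, htconj, map_mul, e]
    obtain ⟨u, rfl | rfl⟩ := hform g
    · exact ((hu u).map mk).eq
    · rw [map_mul]
      exact (((hu u).map mk).mul_left htc).eq
  have hgen₁ : ∀ M, M ⊔ π₁.ker = ⊤ → mk t ∈ M → M = ⊤ := by
    intro M hM htM
    have h := hgen (M.comap mk) ?_ htM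
    · rw [← Subgroup.map_comap_eq_self_of_surjective (QuotientGroup.mk'_surjective δ.range) M, h]
      exact Subgroup.map_top_of_surjective _ (QuotientGroup.mk'_surjective δ.range)
    · have e : π.ker = π₁.ker.comap mk := rfl
      rw [e, Subgroup.comap_sup_eq mk _ _ (QuotientGroup.mk'_surjective δ.range), hM, Subgroup.comap_top]
  obtain ⟨T₁, G₁⟩ := exists_good_central hsur₁ hc₁ (t := mk t) ht (by rw [← map_mul, ht2, map_one]) hgen₁
  obtain ⟨v, -, hspan, hv, -⟩ := G₁.core I
  obtain ⟨hv2, huv, hu15⟩ := hv rfl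
  have hu1 : evW T₁ uW = 1 := by
    rw [show (15 : ℕ) = 2 * 7 + 1 from rfl, pow_succ, pow_mul, pow_two, G₁.usq, one_pow, one_mul] at hu15
    exact hu15
  rw [hu1, one_pow, one_mul, pow_succ, pow_two, hv2, one_mul] at huv
  have htriv : ∀ a, p a = 1 → SemidirectProduct.inl a ∈ δ.range := by
    intro a ha
    refine (QuotientGroup.eq_one_iff _).1 ?_
    have h := hspan (mk (SemidirectProduct.inl a)) ((hpi a).trans ha)
    rw [hu1, huv, Set.pair_eq_singleton, Subgroup.mem_closure_singleton] at h
    obtain ⟨n, hn⟩ := h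
    exact hn.symm.trans (one_zpow n)
  have hinvτ : ∀ a, p a = 1 → τ a = a⁻¹ := by
    intro a ha
    obtain ⟨⟨b, hb⟩, hab⟩ := htriv a ha
    have e : τ b * b⁻¹ = a := SemidirectProduct.inl_injective hab
    rw [← e, map_mul, hττ, mul_inv_rev, inv_inv, map_inv]
  have hroot : ∀ a, p a = 1 → ∃ b, p b = 1 ∧ b * b = a := by
    intro a ha
    obtain ⟨⟨b, hb⟩, hab⟩ := htriv a ha
    have e : τ b * b⁻¹ = a := SemidirectProduct.inl_injective hab
    refine ⟨b⁻¹, by rw [map_inv, MonoidHom.mem_ker.1 hb, inv_one], ?_⟩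
    rw [← e, hinvτ b (MonoidHom.mem_ker.1 hb)]
  have hodd : ∀ a, p a = 1 → a * a = 1 → a = 1 := by
    have hsurj : Function.Surjective fun a : p.ker => (⟨a.1 * a.1, mul_mem a.2 a.2⟩ : p.ker) := fun a => by
      obtain ⟨b, hb, e⟩ := hroot a.1 a.2
      exact ⟨⟨b, hb⟩, Subtype.ext e⟩
    intro a ha h
    have hinj := Finite.injective_iff_surjective.2 hsurj
    exact congrArg Subtype.val (hinj (a₁ := ⟨a, ha⟩) (a₂ := 1) (Subtype.ext (by simpa using h)))
  have hkcomm : ∀ a b, π a = 1 → π b = 1 → Commute a b := by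
    intro a b ha hb
    obtain ⟨x, hx, rfl⟩ := hker a ha
    obtain ⟨y, hy, rfl⟩ := hker b hb
    exact (show Commute x y from Subgroup.mem_center_iff.1 (hpc hy) x).map _
  obtain ⟨T, G0⟩ := exists_good_inverted hsur ht ht2
    (fun g hg h => by
      obtain ⟨a, ha, rfl⟩ := hker g hg
      rw [← map_mul] at h
      rw [hodd a ha (SemidirectProduct.inl_injective (h.trans (map_one _).symm)), map_one])
    (fun g hg => by
      obtain ⟨a, ha, rfl⟩ := hker g hg
      obtain ⟨b, hb, e⟩ := hroot a ha
      exact ⟨_, (hpi b).trans hb, by rw [← map_mul, e]⟩)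
    (fun x hx g hg k hk => by
      obtain ⟨u, rfl⟩ := hlift g x hx hg
      obtain ⟨a, ha, rfl⟩ := hker k hk
      rw [mul_assoc, htconj, hinvτ a ha, ← mul_assoc, ← map_mul,
        Subgroup.mem_center_iff.1 (hpc (inv_mem ha)) u, map_mul, mul_assoc, map_inv])
    hkcomm hgen
  obtain ⟨v, hv, hspan, -, hrel⟩ := G0.core I
  have hu : evW T uW = 1 := by
    obtain ⟨a, ha, e⟩ := hker _ G0.u_ker
    have h := G0.usq
    rw [e, ← map_mul] at h
    rw [e, hodd a ha (SemidirectProduct.inl_injective (h.trans (map_one _).symm)), map_one]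
  obtain ⟨z, hz, rfl⟩ := hker v hv
  have hz3 := hrel rfl
  rw [hu, one_pow, one_mul, inv_eq_one, ← map_pow] at hz3
  refine ⟨z, hz, SemidirectProduct.inl_injective (hz3.trans (map_one _).symm), fun a ha => ?_⟩
  have h := hspan _ ((hpi a).trans ha)
  rw [hu] at h
  have hle : Subgroup.closure {1, SemidirectProduct.inl z} ≤
      (Subgroup.zpowers z).map (SemidirectProduct.inl : U →* U ⋊[φ] Multiplicative (ZMod 2)) := by
    rw [Subgroup.closure_le]
    rintro _ (rfl | rfl)
    · exact one_mem _
    · exact ⟨z, Subgroup.mem_zpowers z, rfl⟩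
  obtain ⟨w, hw, e⟩ := hle h
  exact SemidirectProduct.inl_injective e ▸ hw

end CfsgLib.Fi24Mult
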