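import Cfsg.Agent.Lib.Presented.Fi23Mult.Main
import Cfsg.Agent.Lib.Presented.Fi23Simple

/-!
Maps out of Fi23 given on its ten letters, and shifted letters.
-/
set_option autoImplicit false
set_option maxRecDepth 8000

namespace CfsgLib.Fi24Mult

open CfsgLib.Presented
open CfsgLib.Fi23Mult (Holds edgesY wordE7 spider relWord_one idx_lt adjB)

variable {Γ : Type*} [Group Γ]

/-- Involutions with the Coxeter relations and the two further relations define a map. -/
theorem exists_hom_of_good {S : ℕ → Γ} (H : Holds edgesY S 1) (h7 : evW S wordE7 ^ 9 = 1)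
    (hs : evW S spider ^ 10 = 1) :
    ∃ θ : Cfsg.Spor.Fi23 →* Γ, ∀ x < 10, θ (Fi23Cosets.ev x) = S x := by
  let f : Cfsg.Spor.Fi23.Gen → Γ := fun g => S (Fi23Cosets.idxOf g)
  have hf : ∀ g ∈ Fi23Cosets.letters.nodes, f g * f g = 1 := fun g _ => H.sq _ (idx_lt g)
  have hidx : ∀ y : Fin 10,
      Fi23Cosets.idxOf (Fi23Cosets.genOf y).1 = y ∧ (Fi23Cosets.genOf y).2 = true := by decide +kernel
  have hev : ∀ x < 10, Fi23Cosets.letters.ev f x = S x := fun x hx => by
    obtain ⟨h1, h2⟩ := hidx ⟨x, hx⟩
    show (if x < 10 then cond (Fi23Cosets.genOf x).2 (f (Fi23Cosets.genOf x).1)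
      (f (Fi23Cosets.genOf x).1)⁻¹ else 1) = _
    rw [if_pos hx, h2, cond_true]
    exact congrArg S h1
  have hone : ∀ w ∈ Fi23Cert.relWords, evW (Fi23Cosets.letters.ev f) w = 1 := fun w hw => by
    have hl : ∀ x ∈ w, x < 10 := by
      have e : (Fi23Cert.relWords.all fun w => w.all fun x => Nat.blt x 10) = true := by decide +kernel
      intro x hx
      have := List.all_eq_true.1 (List.all_eq_true.1 e w hw) x hx
      rwa [Nat.blt_eq] at this
    rw [evW, List.map_congr_left fun x hx => hev x (hl x hx)]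
    exact relWord_one H h7 hs hw
  have hkills := Letters.kills (extra := Cfsg.Spor.Fi23.extra) Fi23Cosets.letters_valid Fi23Cosets.nodes_valid
    Fi23Cosets.full hf
    (fun w hw => hone w (Fi23Cosets.relWords_eq ▸ List.mem_append.2 (Or.inl hw)))
    (fun w hw => hone w (Fi23Cosets.relWords_eq ▸ List.mem_append.2 (Or.inr hw)))
  refine ⟨PresentedGroup.toGroup hkills, fun x hx => ?_⟩
  obtain ⟨h1, h2⟩ := hidx ⟨x, hx⟩
  have e : Fi23Cosets.ev x = PresentedGroup.of (Fi23Cosets.genOf x).1 := by
    show (if x < 10 then cond (Fi23Cosets.genOf x).2 (PresentedGroup.of (Fi23Cosets.genOf x).1)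
      (PresentedGroup.of (Fi23Cosets.genOf x).1)⁻¹ else 1) = _
    rw [if_pos hx, h2, cond_true]
  rw [e, PresentedGroup.toGroup.of]
  exact congrArg S h1

/-- A word in shifted letters times a common commuting element. -/
theorem evW_shift {S : ℕ → Γ} {z : Γ} : ∀ w : List ℕ, (∀ x ∈ w, Commute z (S (x + 2))) →
    evW (fun x => S (x + 2) * z) w = evW S (w.map (· + 2)) * z ^ w.length
  | [], _ => by simp
  | a :: l, h => by
    have hl : Commute z (evW S (l.map (· + 2))) := by
      refine Commute.list_prod_right _ _ fun g hg => ?_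
      simp only [List.map_map, List.mem_map, Function.comp] at hg
      obtain ⟨x, hx, rfl⟩ := hg
      exact h x (List.mem_cons_of_mem _ hx)
    rw [evW_cons, evW_shift l fun x hx => h x (List.mem_cons_of_mem _ hx), List.map_cons, evW_cons,
      List.length_cons, pow_succ', hl.mul_mul_mul_comm]

end CfsgLib.Fi24Mult
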