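import Cfsg.Agent.Lib.Presented.Fi24Mult.Twist

/-! Generated relator words with values for the extensions of Fi24. -/
set_option autoImplicit false
set_option maxRecDepth 20000

namespace CfsgLib.Fi24Mult

open CfsgLib.Presented

/-- the word whose 17th power is the last relator -/
def w14 : List ℕ := [5, 4, 3, 2, 1, 0, 5, 6, 7, 8, 9, 5, 10, 11]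

/-- relator words with values, then the words fixing the base point -/
def trels : List TRel := [
  ⟨[0, 1, 0, 1, 0, 1], 0, 0, false⟩,
  ⟨[0, 2, 0, 2], 0, 0, false⟩,
  ⟨[0, 3, 0, 3], 0, 0, false⟩,
  ⟨[0, 4, 0, 4], 0, 0, false⟩,
  ⟨[0, 5, 0, 5], 0, 0, false⟩,
  ⟨[0, 6, 0, 6], 0, 0, false⟩,
  ⟨[0, 7, 0, 7], 0, 0, false⟩,
  ⟨[0, 8, 0, 8], 0, 0, false⟩,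
  ⟨[0, 9, 0, 9], 0, 0, false⟩,
  ⟨[0, 10, 0, 10], 0, 0, false⟩,
  ⟨[0, 11, 0, 11], 0, 0, false⟩,
  ⟨[1, 2, 1, 2, 1, 2], 0, 0, false⟩,
  ⟨[1, 3, 1, 3], 0, 0, false⟩,
  ⟨[1, 4, 1, 4], 0, 0, false⟩,
  ⟨[1, 5, 1, 5], 0, 0, false⟩,
  ⟨[1, 6, 1, 6], 0, 0, false⟩,
  ⟨[1, 7, 1, 7], 0, 0, false⟩,
  ⟨[1, 8, 1, 8], 0, 0, false⟩,
  ⟨[1, 9, 1, 9], 0, 0, false⟩,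
  ⟨[1, 10, 1, 10], 0, 0, false⟩,
  ⟨[1, 11, 1, 11], 0, 0, false⟩,
  ⟨[2, 3, 2, 3, 2, 3], 0, 0, false⟩,
  ⟨[2, 4, 2, 4], 0, 0, false⟩,
  ⟨[2, 5, 2, 5], 0, 0, false⟩,
  ⟨[2, 6, 2, 6], 0, 0, false⟩,
  ⟨[2, 7, 2, 7], 0, 0, false⟩,
  ⟨[2, 8, 2, 8], 0, 0, false⟩,
  ⟨[2, 9, 2, 9], 0, 0, false⟩,
  ⟨[2, 10, 2, 10], 0, 0, false⟩,
  ⟨[2, 11, 2, 11], 0, 0, false⟩,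
  ⟨[3, 4, 3, 4, 3, 4], 0, 0, false⟩,
  ⟨[3, 5, 3, 5], 0, 0, false⟩,
  ⟨[3, 6, 3, 6], 0, 0, false⟩,
  ⟨[3, 7, 3, 7], 0, 0, false⟩,
  ⟨[3, 8, 3, 8], 0, 0, false⟩,
  ⟨[3, 9, 3, 9], 0, 0, false⟩,
  ⟨[3, 10, 3, 10], 0, 0, false⟩,
  ⟨[3, 11, 3, 11], 0, 0, false⟩,
  ⟨[4, 5, 4, 5, 4, 5], 0, 0, false⟩,
  ⟨[4, 6, 4, 6], 0, 0, false⟩,
  ⟨[4, 7, 4, 7], 0, 0, false⟩,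
  ⟨[4, 8, 4, 8], 0, 0, false⟩,
  ⟨[4, 9, 4, 9], 0, 0, false⟩,
  ⟨[4, 10, 4, 10], 0, 0, false⟩,
  ⟨[4, 11, 4, 11], 0, 0, false⟩,
  ⟨[5, 6, 5, 6, 5, 6], 0, 0, false⟩,
  ⟨[5, 7, 5, 7], 0, 0, false⟩,
  ⟨[5, 8, 5, 8], 0, 0, false⟩,
  ⟨[5, 9, 5, 9], 0, 0, false⟩,
  ⟨[5, 10, 5, 10, 5, 10], 0, 0, false⟩,
  ⟨[5, 11, 5, 11], 0, 0, false⟩,
  ⟨[6, 7, 6, 7, 6, 7], 0, 0, false⟩,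
  ⟨[6, 8, 6, 8], 0, 0, false⟩,
  ⟨[6, 9, 6, 9], 0, 0, false⟩,
  ⟨[6, 10, 6, 10], 0, 0, false⟩,
  ⟨[6, 11, 6, 11], 0, 0, false⟩,
  ⟨[7, 8, 7, 8, 7, 8], 0, 0, false⟩,
  ⟨[7, 9, 7, 9], 0, 0, false⟩,
  ⟨[7, 10, 7, 10], 0, 0, false⟩,
  ⟨[7, 11, 7, 11], 0, 0, false⟩,
  ⟨[8, 9, 8, 9, 8, 9], 0, 0, false⟩,
  ⟨[8, 10, 8, 10], 0, 0, false⟩,
  ⟨[8, 11, 8, 11], 0, 0, false⟩,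
  ⟨[9, 10, 9, 10], 0, 0, false⟩,
  ⟨[9, 11, 9, 11], 0, 0, false⟩,
  ⟨[10, 11, 10, 11, 10, 11], 0, 0, false⟩,
  ⟨[0, 2, 3, 4, 5, 6, 7, 10, 2, 3, 4, 5, 6, 7, 10, 2, 3, 4, 5, 6, 7, 10, 2, 3, 4, 5, 6, 7, 10, 2, 3, 4, 5, 6, 7, 10, 2, 3, 4, 5, 6, 7, 10, 2, 3, 4, 5, 6, 7, 10, 2, 3, 4, 5, 6, 7, 10, 2, 3, 4, 5, 6, 7, 10], 1, 0, false⟩,
  ⟨[], 0, 0, false⟩,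
  ⟨[5, 4, 3, 5, 6, 7, 5, 10, 11, 5, 4, 3, 5, 6, 7, 5, 10, 11, 5, 4, 3, 5, 6, 7, 5, 10, 11, 5, 4, 3, 5, 6, 7, 5, 10, 11, 5, 4, 3, 5, 6, 7, 5, 10, 11, 5, 4, 3, 5, 6, 7, 5, 10, 11, 5, 4, 3, 5, 6, 7, 5, 10, 11, 5, 4, 3, 5, 6, 7, 5, 10, 11, 5, 4, 3, 5, 6, 7, 5, 10, 11, 5, 4, 3, 5, 6, 7, 5, 10, 11], 0, 0, false⟩,
  ⟨[0, 0], 0, 0, false⟩,
  ⟨[1, 1], 0, 0, false⟩,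
  ⟨[2, 2], 0, 0, false⟩,
  ⟨[3, 3], 0, 0, false⟩,
  ⟨[4, 4], 0, 0, false⟩,
  ⟨[5, 5], 0, 0, false⟩,
  ⟨[6, 6], 0, 0, false⟩,
  ⟨[7, 7], 0, 0, false⟩,
  ⟨[8, 8], 0, 0, false⟩,
  ⟨[9, 9], 0, 0, false⟩,
  ⟨[10, 10], 0, 0, false⟩,
  ⟨[11, 11], 0, 0, false⟩,
  ⟨[0], 0, 0, true⟩,
  ⟨[2], 1, 0, true⟩,
  ⟨[3], 1, 0, true⟩,
  ⟨[4], 1, 0, true⟩,
  ⟨[5], 1, 0, true⟩,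
  ⟨[6], 1, 0, true⟩,
  ⟨[7], 1, 0, true⟩,
  ⟨[8], 1, 0, true⟩,
  ⟨[9], 1, 0, true⟩,
  ⟨[10], 1, 0, true⟩,
  ⟨[11], 1, 0, true⟩,
  ⟨[1, 2, 3, 4, 5, 6, 10, 11, 5, 4, 3, 10, 5, 7, 6, 8, 5, 4, 3, 2, 9, 10, 5, 7, 6, 8, 5, 4, 3, 10, 11, 5, 4, 10, 5, 6, 7, 6, 5, 10, 4, 5, 11, 10, 3, 4, 5, 8, 6, 7, 5, 10, 9, 2, 3, 4, 5, 8, 6, 7, 5, 10, 3, 4, 5, 11, 10, 6, 5, 4, 3, 2, 1], 0, 1, true⟩]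

end CfsgLib.Fi24Mult
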