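import Cfsg.Prelude.Def_Spor_Fi24
import Cfsg.Agent.Lib.Presented.Cox
import Cfsg.Agent.Lib.Presented.Fi24Mult.Words
import Cfsg.Agent.Lib.Presented.Fi24Mult.Hom23

/-!
Elementary facts about the presented group Fi24: letters, relators, parity, and the map from Fi23
into the centralizer of the first letter.
-/
set_option autoImplicit false
set_option maxRecDepth 8000

namespace CfsgLib.Fi24Mult

open CfsgLib.Presented Cfsg.Spor
open CfsgLib.Fi23Mult (Holds edgesY wordE7 spider adjB)

/-- twelve involutory letters -/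
def alphabet : Alphabet := ⟨12, (.leaf 0xc2ca2481c61440c2040)⟩

/-- generator numbering -/
def idxOf : Fi24.Gen → ℕ
  | .l => 0 | .k => 1 | .a => 2 | .b => 3 | .c => 4 | .d => 5
  | .e => 6 | .f => 7 | .g => 8 | .j => 9 | .h => 10 | .i => 11

/-- reading letters back -/
def genOf : ℕ → Fi24.Gen × Bool
  | 0 => (.l, true) | 1 => (.k, true) | 2 => (.a, true) | 3 => (.b, true) | 4 => (.c, true) | 5 => (.d, true)
  | 6 => (.e, true) | 7 => (.f, true) | 8 => (.g, true) | 9 => (.j, true) | 10 => (.h, true) | _ => (.i, true)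

/-- the letters -/
def letters : Letters Fi24.Gen :=
  ⟨alphabet, idxOf, genOf, [.l, .k, .a, .b, .c, .d, .e, .f, .g, .j, .h, .i]⟩

theorem letters_valid : letters.valid = true := by decide +kernel

theorem nodes_valid : letters.nodesValid Fi24.edges = true := by decide +kernel

theorem full : letters.Full := fun g => by cases g <;> decide

/-- values of the letters -/
noncomputable abbrev ev : ℕ → Cfsg.Spor.Fi24 :=
  letters.ev fun g => PresentedGroup.of g

/-- the edges of the diagram -/
def edgesT : List (ℕ × ℕ) :=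
  [(0, 1), (1, 2), (2, 3), (3, 4), (4, 5), (5, 6), (5, 10), (6, 7), (7, 8), (8, 9), (10, 11)]

/-- the Coxeter words -/
def coxW : List (List ℕ) := (trels.take 66).map TRel.word

/-- the E7 word with the first letter -/
def uW : List ℕ := 0 :: wpow [2, 3, 4, 5, 6, 7, 10] 9

/-- the spider word -/
def spiderW : List ℕ := wpow [5, 4, 3, 5, 6, 7, 5, 10, 11] 10

/-- the word whose value is the second unknown -/
def seedW : List ℕ := (trels.getD 92 ⟨[], 0, 0, false⟩).word

/-- the letters of the point stabiliser -/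
def hX : List ℕ := [0, 2, 3, 4, 5, 6, 7, 8, 9, 10, 11]

theorem coxW_eq : letters.coxWords Fi24.edges = coxW := by decide +kernel

theorem extraW_eq : letters.extraWords Fi24.extra = [0 :: (wpow [2, 3, 4, 5, 6, 7, 10] 9).reverse, wpow w14 17] := by
  decide +kernel

theorem words_lt : ((coxW ++ [uW, wpow w14 17, spiderW, seedW]).all fun w => w.all fun x => Nat.blt x 12) = true := by
  decide +kernel

theorem lt_of_mem {w : List ℕ} (hw : w ∈ coxW ++ [uW, wpow w14 17, spiderW, seedW]) : ∀ x ∈ w, x < 12 := by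
  intro x hx
  have := List.all_eq_true.1 (List.all_eq_true.1 words_lt w hw) x hx
  rwa [Nat.blt_eq] at this

/-- the shape of the relator table -/
def shapeOK (r : TRel) : Bool :=
  if r.based then
    (r.word == [0] && r.va == 0 && r.vb == 0) ||
    ((List.range 10).any fun x => r.word == [x + 2] && r.va == 1 && r.vb == 0) ||
    (r.word == seedW && r.va == 0 && r.vb == 1)
  else
    (r.word == uW && r.va == 1 && r.vb == 0) ||
    ((coxW.contains r.word || r.word == spiderW || r.word == [] ||
      (List.range 12).any fun x => r.word == [x, x]) && r.va == 0 && r.vb == 0)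

theorem trels_shape : (trels.all shapeOK) = true := by decide +kernel

theorem ev_sq {x : ℕ} (hx : x < 12) : ev x * ev x = 1 := by
  have h := Letters.ev_inv letters_valid (f := fun g => (PresentedGroup.of g : Cfsg.Spor.Fi24))
    (Letters.of_sq nodes_valid) x hx
  have e : ∀ y : Fin 12, alphabet.invl y = y := by decide +kernel
  rwa [show letters.A = alphabet from rfl, e ⟨x, hx⟩] at h

theorem rels_hold : ∀ w ∈ coxW ++ [0 :: (wpow [2, 3, 4, 5, 6, 7, 10] 9).reverse, wpow w14 17], evW ev w = 1 := by
  rw [← coxW_eq, ← extraW_eq]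
  exact Letters.rels_hold letters_valid nodes_valid full

theorem gen_top : Subgroup.closure (ev '' Set.Iio 12) = ⊤ :=
  Letters.gen_top letters_valid nodes_valid full

theorem cox_one {w : List ℕ} (hw : w ∈ coxW) : evW ev w = 1 := rels_hold w (List.mem_append_left _ hw)

theorem adj_symm : ∀ x : Fin 12, ∀ y : Fin 12, adjB edgesT x y = adjB edgesT y x ∧ adjB edgesT x x = false := by
  decide +kernel

theorem cox_tables : ∀ x : Fin 12, ∀ y : Fin 12, (x : ℕ) < y →
    coxW.contains (if adjB edgesT x y then [(x : ℕ), y, x, y, x, y] else [(x : ℕ), y, x, y]) = true := by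
  decide +kernel

theorem cox_shape : (coxW.all fun w => (List.range 12).any fun x => (List.range 12).any fun y =>
    !(x == y) && w == (if adjB edgesT x y then [x, y, x, y, x, y] else [x, y, x, y])) = true := by
  decide +kernel

section relations

variable {G : Type*} [Group G] {T : ℕ → G} (hsq : ∀ x < 12, T x * T x = 1) (hcox : ∀ w ∈ coxW, evW T w = 1)
include hsq hcox

theorem comm_of_cox {x y : ℕ} (hx : x < 12) (hy : y < 12) (hne : x ≠ y) (ha : adjB edgesT x y = false) :
    T x * T y = T y * T x := by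
  have key : ∀ a b : ℕ, a < 12 → b < 12 → a < b → adjB edgesT a b = false → T a * T b = T b * T a := by
    intro a b ha' hb' hlt h
    have hm := List.contains_iff_mem.1 (cox_tables ⟨a, ha'⟩ ⟨b, hb'⟩ hlt)
    simp only [h, Bool.false_eq_true, if_false] at hm
    have h1 := hcox _ hm
    simp only [evW_cons, evW_nil, mul_one] at h1
    rw [← mul_assoc] at h1
    rw [eq_inv_of_mul_eq_one_left h1, mul_inv_rev, inv_eq_of_mul_eq_one_right (hsq a ha'),
      inv_eq_of_mul_eq_one_right (hsq b hb')]
  rcases Nat.lt_or_gt_of_ne hne with h | h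
  · exact key x y hx hy h ha
  · exact (key y x hy hx h ((adj_symm ⟨x, hx⟩ ⟨y, hy⟩).1 ▸ ha)).symm

theorem braid_of_cox {x y : ℕ} (hx : x < 12) (hy : y < 12) (ha : adjB edgesT x y = true) :
    T x * T y * T x = T y * T x * T y := by
  have key : ∀ a b : ℕ, a < 12 → b < 12 → a < b → adjB edgesT a b = true →
      T a * T b * T a = T b * T a * T b := by
    intro a b ha' hb' hlt h
    have hm := List.contains_iff_mem.1 (cox_tables ⟨a, ha'⟩ ⟨b, hb'⟩ hlt)
    simp only [h, if_true] at hm
    have h1 := hcox _ hm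
    simp only [evW_cons, evW_nil, mul_one] at h1
    have h2 : (T a * T b * T a) * (T b * T a * T b) = 1 := by simpa [mul_assoc] using h1
    rw [eq_inv_of_mul_eq_one_left h2, mul_inv_rev, mul_inv_rev, inv_eq_of_mul_eq_one_right (hsq a ha'),
      inv_eq_of_mul_eq_one_right (hsq b hb'), mul_assoc]
  have hne : x ≠ y := by
    rintro rfl
    rw [(adj_symm ⟨x, hx⟩ ⟨x, hx⟩).2] at ha
    simp at ha
  rcases Nat.lt_or_gt_of_ne hne with h | h
  · exact key x y hx hy h ha
  · exact (key y x hy hx h ((adj_symm ⟨x, hx⟩ ⟨y, hy⟩).1 ▸ ha)).symm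

end relations

theorem cox_of_rels {G : Type*} [Group G] {T : ℕ → G} (hsq : ∀ x < 12, T x * T x = 1)
    (hcomm : ∀ x < 12, ∀ y < 12, x ≠ y → adjB edgesT x y = false → T x * T y = T y * T x)
    (hbr : ∀ x < 12, ∀ y < 12, adjB edgesT x y = true → T x * T y * T x = T y * T x * T y) :
    ∀ w ∈ coxW, evW T w = 1 := by
  intro w hw
  have h := List.all_eq_true.1 cox_shape w hw
  simp only [List.any_eq_true, Bool.and_eq_true, beq_iff_eq, List.mem_range, Bool.not_eq_true',
    beq_eq_false_iff_ne] at h
  obtain ⟨x, hx, y, hy, hne, rfl⟩ := h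
  split
  · next ha =>
    calc evW T [x, y, x, y, x, y] = T x * T y * T x * (T y * T x * T y) := by simp [mul_assoc]
      _ = T x * T y * T x * (T x * T y * T x) := by rw [hbr x hx y hy ha]
      _ = T x * T y * (T x * T x) * T y * T x := by simp only [mul_assoc]
      _ = 1 := by rw [hsq x hx, mul_one, mul_assoc (T x) (T y), hsq y hy, mul_one, hsq x hx]
  · next ha =>
    calc evW T [x, y, x, y] = T x * T y * (T x * T y) := by simp [mul_assoc]
      _ = T x * T y * (T y * T x) := by rw [hcomm x hx y hy hne (Bool.eq_false_iff.2 ha)]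
      _ = T x * (T y * T y) * T x := by simp only [mul_assoc]
      _ = 1 := by rw [hsq y hy, mul_one, hsq x hx]

/-- A word and its reverse in involutions. -/
theorem evW_reverse {G : Type*} [Group G] {T : ℕ → G} :
    ∀ {w : List ℕ}, (∀ x ∈ w, T x * T x = 1) → evW T w.reverse = (evW T w)⁻¹
  | [], _ => by simp
  | x :: w, h => by
    rw [List.reverse_cons, evW_append, evW_cons, evW_nil, mul_one, evW_cons, mul_inv_rev,
      evW_reverse fun y hy => h y (List.mem_cons_of_mem _ hy),
      inv_eq_of_mul_eq_one_right (h x List.mem_cons_self)]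

theorem uW_one : evW ev uW = 1 := by
  have h : evW ev (0 :: (wpow [2, 3, 4, 5, 6, 7, 10] 9).reverse) = 1 := rels_hold _ (by simp)
  rw [evW_cons, evW_reverse fun x hx => ev_sq (lt_of_mem (w := uW) (by simp) x (List.mem_cons_of_mem _ hx)),
    mul_inv_eq_one] at h
  rw [uW, evW_cons, ← h]
  exact ev_sq (by decide)

/-- The parity. -/
theorem exists_sgn : ∃ s : Cfsg.Spor.Fi24 →* Multiplicative (ZMod 2),
    ∀ x < 12, s (ev x) = Multiplicative.ofAdd 1 := by
  let a : Multiplicative (ZMod 2) := Multiplicative.ofAdd 1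
  have ha : a * a = 1 := by decide
  let f : Fi24.Gen → Multiplicative (ZMod 2) := fun _ => a
  have hf : ∀ g ∈ letters.nodes, f g * f g = 1 := fun _ _ => ha
  have hidx : ∀ y : Fin 12, idxOf (genOf y).1 = y ∧ (genOf y).2 = true := by decide +kernel
  have hev : ∀ x < 12, letters.ev f x = a := fun x hx => by
    show (if x < 12 then cond (genOf x).2 a a⁻¹ else 1) = a
    rw [if_pos hx, (hidx ⟨x, hx⟩).2, cond_true]
  have hlen : ((coxW ++ [0 :: (wpow [2, 3, 4, 5, 6, 7, 10] 9).reverse, wpow w14 17]).all fun w =>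
      (w.length % 2 == 0) && w.all fun x => Nat.blt x 12) = true := by decide +kernel
  have hone : ∀ w ∈ coxW ++ [0 :: (wpow [2, 3, 4, 5, 6, 7, 10] 9).reverse, wpow w14 17],
      evW (letters.ev f) w = 1 := fun w hw => by
    have h := List.all_eq_true.1 hlen w hw
    simp only [Bool.and_eq_true, List.all_eq_true, Nat.blt_eq, beq_iff_eq] at h
    rw [evW, List.map_congr_left fun x hx => hev x (h.2 x hx), List.map_const', List.prod_replicate]
    obtain ⟨k, hk⟩ : ∃ k, w.length = 2 * k := ⟨w.length / 2, by omega⟩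
    rw [hk, pow_mul, sq, ha, one_pow]
  refine ⟨PresentedGroup.toGroup (Letters.kills (extra := Fi24.extra) letters_valid nodes_valid full hf
    (fun w hw => hone w (List.mem_append_left _ (coxW_eq ▸ hw)))
    (fun w hw => hone w (List.mem_append_right _ (extraW_eq ▸ hw)))), fun x hx => ?_⟩
  show PresentedGroup.toGroup _ (if x < 12 then cond (genOf x).2 _ _ else 1) = a
  rw [if_pos hx, (hidx ⟨x, hx⟩).2, cond_true, PresentedGroup.toGroup.of]

/-- The two facts taken from the coset table. -/
structure Input : Prop where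
  spider_one : evW ev spiderW = 1
  seed_mem : evW ev seedW ∈ Subgroup.closure (ev '' {x | x ∈ hX})
  a_ne_l : ev 2 ≠ ev 0

/-- The letters of the centralizer, shifted, times a commuting element. -/
theorem holds_shift {G : Type*} [Group G] {T : ℕ → G} {z : G} (hsq : ∀ x < 12, T x * T x = 1)
    (hcox : ∀ w ∈ coxW, evW T w = 1) (hz : z * z = 1) (hzc : ∀ x < 10, Commute z (T (x + 2))) :
    Holds edgesY (fun x => T (x + 2) * z) 1 := by
  have hadj : ∀ x : Fin 10, ∀ y : Fin 10, adjB edgesT ((x : ℕ) + 2) ((y : ℕ) + 2) = adjB edgesY x y := by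
    decide +kernel
  refine ⟨fun x hx => ?_, fun g => Commute.one_left g, fun x hx y hy hne ha => ?_, fun x hx y hy ha => ?_⟩
  · show T (x + 2) * z * (T (x + 2) * z) = 1
    rw [(hzc x hx).mul_mul_mul_comm, hsq _ (by omega), hz, one_mul]
  · show T (x + 2) * z * (T (y + 2) * z) = T (y + 2) * z * (T (x + 2) * z)
    rw [(hzc y hy).mul_mul_mul_comm, (hzc x hx).mul_mul_mul_comm,
      comm_of_cox (x := x + 2) (y := y + 2) hsq hcox (by omega) (by omega) (by omega) ((hadj ⟨x, hx⟩ ⟨y, hy⟩).trans ha)]
  · show T (x + 2) * z * (T (y + 2) * z) * (T (x + 2) * z) = T (y + 2) * z * (T (x + 2) * z) * (T (y + 2) * z)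
    rw [(hzc y hy).mul_mul_mul_comm, (hzc x hx).mul_mul_mul_comm (a := T (x + 2) * T (y + 2)) |> fun _ =>
      (((hzc x hx).mul_left (hzc x hx))).mul_mul_mul_comm,
      braid_of_cox (x := x + 2) (y := y + 2) hsq hcox (by omega) (by omega) ((hadj ⟨x, hx⟩ ⟨y, hy⟩).trans ha),
      (hzc x hx).mul_mul_mul_comm, ((hzc y hy).mul_left (hzc y hy)).mul_mul_mul_comm]

theorem shift_words : wordE7.map (· + 2) = [2, 3, 4, 5, 6, 7, 10] ∧ wordE7.length = 7 ∧
    (∀ x ∈ wordE7, x < 10) ∧ spider.map (· + 2) = [5, 4, 3, 5, 6, 7, 5, 10, 11] ∧ spider.length = 9 ∧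
    (∀ x ∈ spider, x < 10) := by decide +kernel

theorem ev_zero_comm {x : ℕ} (hx : x < 10) : Commute (ev 0) (ev (x + 2)) := by
  have h : ∀ y : Fin 10, adjB edgesT 0 ((y : ℕ) + 2) = false := by decide +kernel
  exact comm_of_cox (fun _ => ev_sq) (fun _ => cox_one) (by decide) (by omega) (by omega) (h ⟨x, hx⟩)

/-- Fi23 inside the centralizer of the first letter. -/
theorem exists_theta (I : Input) : ∃ θ : Cfsg.Spor.Fi23 →* Cfsg.Spor.Fi24,
    (∀ x < 10, θ (Fi23Cosets.ev x) = ev (x + 2) * ev 0) ∧ Function.Injective θ := by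
  obtain ⟨e7, l7, m7, es, ls, ms⟩ := shift_words
  have H := holds_shift (T := ev) (z := ev 0) (fun _ => ev_sq) (fun _ => cox_one) (ev_sq (by decide))
    fun x hx => ev_zero_comm hx
  obtain ⟨θ, hθ⟩ := exists_hom_of_good H (by
      rw [← evW_wpow, evW_shift _ fun x hx => ev_zero_comm (m7 x (by
        simp only [wpow, List.mem_flatten, List.mem_replicate] at hx
        obtain ⟨l, ⟨-, rfl⟩, hl⟩ := hx
        exact hl))]
      have h := uW_one
      rw [uW, evW_cons] at h
      rw [show (wpow wordE7 9).map (· + 2) = wpow [2, 3, 4, 5, 6, 7, 10] 9 by decide +kernel,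
        show (wpow wordE7 9).length = 2 * 31 + 1 by decide, pow_succ, pow_mul, sq, ev_sq (by decide),
        one_pow, one_mul, mul_eq_one_comm.1 h]) (by
      rw [← evW_wpow, evW_shift _ fun x hx => ev_zero_comm (ms x (by
        simp only [wpow, List.mem_flatten, List.mem_replicate] at hx
        obtain ⟨l, ⟨-, rfl⟩, hl⟩ := hx
        exact hl)),
        show (wpow spider 10).map (· + 2) = spiderW by decide +kernel,
        show (wpow spider 10).length = 2 * 45 by decide, pow_mul, sq, ev_sq (by decide), one_pow, mul_one,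
        I.spider_one])
  refine ⟨θ, hθ, ?_⟩
  have := Fi23Simple.simple
  rcases θ.normal_ker.eq_bot_or_eq_top with h | h
  · exact θ.ker_eq_bot_iff.1 h
  exfalso
  have h0 := hθ 0 (by decide)
  rw [MonoidHom.mem_ker.1 (h.symm ▸ Subgroup.mem_top (Fi23Cosets.ev 0))] at h0
  refine I.a_ne_l ?_
  rw [eq_inv_of_mul_eq_one_left h0.symm]
  exact inv_eq_of_mul_eq_one_right (ev_sq (by decide))

end CfsgLib.Fi24Mult
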