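import Cfsg.Agent.Lib.Presented.Shift
import Cfsg.Agent.Lib.Presented.Fi24.Table
import Cfsg.Agent.Lib.Presented.Fi24Mult.Facts
import Cfsg.Agent.Lib.Presented.Fi24Mult.Planes

/-! The relators of Fi24 on the twisted lift of its table. -/
set_option autoImplicit false
set_option Elab.async false
set_option maxRecDepth 8000

namespace CfsgLib.Fi24Mult

open CfsgLib.Presented
open CfsgLib.Presented.Fi24Cert (rep)

/-- a list of words has zero shift -/
noncomputable def zeroShift (ws : List (List ℕ)) : Bool :=
  ws.all fun w => Shift.chk rep alphaList w (0, 0) (0, 0)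

theorem sq_shift0 : zeroShift ((List.range 12).map fun x => [x, x]) = true := by decide +kernel

theorem cox_shift0 : zeroShift ((coxW.drop 0).take 11) = true := by decide +kernel

theorem cox_shift1 : zeroShift ((coxW.drop 11).take 11) = true := by decide +kernel

theorem cox_shift2 : zeroShift ((coxW.drop 22).take 11) = true := by decide +kernel

theorem cox_shift3 : zeroShift ((coxW.drop 33).take 11) = true := by decide +kernel

theorem cox_shift4 : zeroShift ((coxW.drop 44).take 11) = true := by decide +kernel

theorem cox_shift5 : zeroShift ((coxW.drop 55).take 11) = true := by decide +kernel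

theorem urev_shift : Shift.chk rep alphaList (0 :: (wpow [2, 3, 4, 5, 6, 7, 10] 9).reverse) (0, 0) (0, 0) = true := by
  decide +kernel

theorem z_shift0 : Shift.chk rep alphaList (wpow w14 6) (0, 0) (mid6A, mid6B) = true := by decide +kernel

theorem z_shift1 : Shift.chk rep alphaList (wpow w14 6) (mid6A, mid6B) (mid12A, mid12B) = true := by decide +kernel

theorem z_shift2 : Shift.chk rep alphaList (wpow w14 5) (mid12A, mid12B) (0, Vec.ones rep.N) = true := by
  decide +kernel

end CfsgLib.Fi24Mult
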