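import Cfsg.Prelude.Def_KGroupFacts
import Cfsg.Agent.Lib.Presented.Fi24Mult.Upper

/-!
A stem extension of Fi24' with kernel of order three, from a twisted action on three copies of a set.
-/
set_option autoImplicit false
set_option maxRecDepth 8000
set_option linter.constructorNameAsVariable false

namespace CfsgLib.Fi24Mult

open CfsgLib.Presented Cfsg.Spor
open CfsgLib.Fi23Mult (adjB)
open scoped commutatorElement

/-- Involutions satisfying the relators up to one element of order three give a triple cover. -/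
theorem exists_triple_of (I : Input) [Finite Cfsg.Spor.Fi24] {X : Type} [Finite X] (F : ℕ → Equiv.Perm X)
    (hsq : ∀ x < 12, F x * F x = 1) (hcox : ∀ w ∈ coxW, evW F w = 1)
    (hu : evW F (0 :: (wpow [2, 3, 4, 5, 6, 7, 10] 9).reverse) = 1)
    (hz3 : evW F (wpow w14 17) ^ 3 = 1) (hz1 : evW F (wpow w14 17) ≠ 1)
    (hinv : ∀ x < 12, F x * evW F (wpow w14 17) * F x = (evW F (wpow w14 17))⁻¹) :
    ∃ (Γ : Type) (_ : Group Γ) (_ : Finite Γ) (σ : Γ →* Cfsg.Spor.Fi24'), Cfsg.IsStemExtension σ ∧
      Nonempty (σ.ker ≃* Multiplicative (ZMod 3)) := by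
  let Tp : ℕ → Cfsg.Spor.Fi24 × Equiv.Perm X := fun x => (ev x, F x)
  let W : Subgroup (Cfsg.Spor.Fi24 × Equiv.Perm X) := Subgroup.closure (Tp '' Set.Iio 12)
  let T : ℕ → W := fun x => if h : x < 12 then ⟨Tp x, Subgroup.subset_closure ⟨x, h, rfl⟩⟩ else 1
  have hT : ∀ x, x < 12 → (T x : Cfsg.Spor.Fi24 × Equiv.Perm X) = (ev x, F x) := fun x hx => by simp [T, hx, Tp]
  let pr : W →* Cfsg.Spor.Fi24 := (MonoidHom.fst _ _).comp W.subtype
  let pr2 : W →* Equiv.Perm X := (MonoidHom.snd _ _).comp W.subtype
  have hpT : ∀ x, x < 12 → pr (T x) = ev x := fun x hx => congrArg Prod.fst (hT x hx)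
  have hqT : ∀ x, x < 12 → pr2 (T x) = F x := fun x hx => congrArg Prod.snd (hT x hx)
  have hext : ∀ a b : W, pr a = pr b → pr2 a = pr2 b → a = b := fun a b h1 h2 => Subtype.ext (Prod.ext h1 h2)
  have hone : ∀ w : List ℕ, (∀ x ∈ w, x < 12) → evW ev w = 1 → evW F w = 1 → evW T w = 1 := by
    intro w hw h1 h2
    refine hext _ _ ?_ ?_
    · rw [map_evW pr fun x hx => hpT x (hw x hx), h1, map_one]
    · rw [map_evW pr2 fun x hx => hqT x (hw x hx), h2, map_one]
  have hlw : ∀ x ∈ wpow w14 17, x < 12 := lt_of_mem (by simp)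
  set z : W := evW T (wpow w14 17) with hzdef
  have hzp : pr z = 1 := by
    rw [hzdef, map_evW pr fun x hx => hpT x (hlw x hx)]
    exact rels_hold _ (by simp)
  have hzq : pr2 z = evW F (wpow w14 17) := by rw [hzdef, map_evW pr2 fun x hx => hqT x (hlw x hx)]
  have hTsq : ∀ x < 12, T x * T x = 1 := fun x hx =>
    hext _ _ (by rw [map_mul, hpT x hx, ev_sq hx, map_one]) (by rw [map_mul, hqT x hx, hsq x hx, map_one])
  have hTinv : ∀ x < 12, T x * z * T x = z⁻¹ := fun x hx =>
    hext _ _ (by rw [map_mul, map_mul, hzp, mul_one, map_inv, hzp, hpT x hx, ev_sq hx, inv_one])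
      (by rw [map_mul, map_mul, map_inv, hzq, hqT x hx, hinv x hx])
  have hTcox : ∀ w ∈ coxW, evW T w = 1 := fun w hw =>
    hone w (lt_of_mem (List.mem_append_left _ hw)) (cox_one hw) (hcox w hw)
  have hW : Subgroup.closure (T '' Set.Iio 12) = ⊤ := by
    refine Subgroup.map_injective W.subtype_injective ?_
    rw [MonoidHom.map_closure, ← MonoidHom.range_eq_map, Subgroup.range_subtype, Set.image_image]
    exact congrArg _ (Set.image_congr fun x hx => hT x hx)
  let Z : Subgroup W := Subgroup.zpowers z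
  have hconj : ∀ g : W, g * z * g⁻¹ = z ∨ g * z * g⁻¹ = z⁻¹ := by
    intro g
    have hg : g ∈ Subgroup.closure (T '' Set.Iio 12) := by rw [hW]; trivial
    induction hg using Subgroup.closure_induction with
    | mem y hy =>
      obtain ⟨x, hx, rfl⟩ := hy
      refine Or.inr ?_
      rw [inv_eq_of_mul_eq_one_right (hTsq x hx)]
      exact hTinv x hx
    | one => exact Or.inl (by group)
    | mul a b _ _ iha ihb =>
      have e : a * b * z * (a * b)⁻¹ = a * (b * z * b⁻¹) * a⁻¹ := by group
      have e' : a * z⁻¹ * a⁻¹ = (a * z * a⁻¹)⁻¹ := by group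
      rcases ihb with h | h
      · rw [e, h]; exact iha
      · rw [e, h, e']
        rcases iha with h' | h'
        · exact Or.inr (by rw [h'])
        · exact Or.inl (by rw [h', inv_inv])
    | inv a _ iha =>
      rcases iha with h | h
      · refine Or.inl ?_
        conv_lhs => rw [← h]
        group
      · refine Or.inr ?_
        have h' : z = a * z⁻¹ * a⁻¹ := by
          rw [show a * z⁻¹ * a⁻¹ = (a * z * a⁻¹)⁻¹ by group, h, inv_inv]
        conv_lhs => rw [h']
        group
  have hZn : Z.Normal := ⟨fun n hn g => by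
    obtain ⟨m, rfl⟩ := hn
    rw [show g * z ^ m * g⁻¹ = (g * z * g⁻¹) ^ m from (conj_zpow).symm]
    rcases hconj g with h | h <;> rw [h]
    · exact Subgroup.zpow_mem _ (Subgroup.mem_zpowers z) m
    · exact Subgroup.zpow_mem _ (inv_mem (Subgroup.mem_zpowers z)) m⟩
  have hsur : Function.Surjective pr := by
    intro g
    have h : g ∈ (⊤ : Subgroup W).map pr := by
      rw [← hW, MonoidHom.map_closure, Set.image_image,
        Set.image_congr (s := Set.Iio 12) (g := ev) (fun x hx => hpT x hx), gen_top]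
      trivial
    obtain ⟨a, -, ha⟩ := h
    exact ⟨a, ha⟩
  have hker : pr.ker = Z := by
    refine le_antisymm ?_ (Subgroup.zpowers_le.2 hzp)
    let f : Fi24.Gen → W ⧸ Z := fun g => QuotientGroup.mk' Z (T (idxOf g))
    have hidx : ∀ g : Fi24.Gen, idxOf g < 12 := fun g => by cases g <;> decide
    have hf : ∀ g ∈ letters.nodes, f g * f g = 1 := fun g _ => by
      rw [← map_mul, hTsq _ (hidx g), map_one]
    have hback : ∀ y : Fin 12, idxOf (genOf y).1 = y ∧ (genOf y).2 = true := by decide +kernel
    have hev : ∀ x < 12, letters.ev f x = QuotientGroup.mk' Z (T x) := fun x hx => by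
      show (if x < 12 then cond (genOf x).2 (f (genOf x).1) (f (genOf x).1)⁻¹ else 1) = _
      rw [if_pos hx, (hback ⟨x, hx⟩).2, cond_true]
      show QuotientGroup.mk' Z (T (idxOf (genOf x).1)) = _
      rw [(hback ⟨x, hx⟩).1]
    have hmk : ∀ w, (∀ x ∈ w, x < 12) → evW (letters.ev f) w = QuotientGroup.mk' Z (evW T w) :=
      fun w hw => (map_evW (QuotientGroup.mk' Z) fun x hx => (hev x (hw x hx)).symm).symm
    have hkills := Letters.kills (extra := Fi24.extra) letters_valid nodes_valid full hf
      (fun w hw => by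
        rw [coxW_eq] at hw
        rw [hmk w fun x hx => lt_of_mem (List.mem_append_left _ hw) x hx, hTcox w hw, map_one])
      (fun w hw => by
        rw [extraW_eq] at hw
        simp only [List.mem_cons, List.not_mem_nil, or_false] at hw
        rcases hw with rfl | rfl
        · have hlu : ∀ x ∈ 0 :: (wpow [2, 3, 4, 5, 6, 7, 10] 9).reverse, x < 12 := by decide +kernel
          rw [hmk _ hlu, hone _ hlu (rels_hold _ (by simp)) hu, map_one]
        · rw [hmk _ hlw]
          exact (QuotientGroup.eq_one_iff _).2 (Subgroup.mem_zpowers z))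
    let sec : Cfsg.Spor.Fi24 →* W ⧸ Z := PresentedGroup.toGroup hkills
    have hsec : sec.comp pr = QuotientGroup.mk' Z := by
      refine MonoidHom.eq_of_eqOn_dense hW ?_
      rintro _ ⟨x, hx, rfl⟩
      show sec (pr (T x)) = _
      rw [hpT x hx]
      show sec (if x < 12 then cond (genOf x).2 _ _ else 1) = _
      rw [if_pos (show x < 12 from hx), (hback ⟨x, hx⟩).2, cond_true]
      show PresentedGroup.toGroup hkills _ = _
      rw [PresentedGroup.toGroup.of]
      show QuotientGroup.mk' Z (T (idxOf (genOf x).1)) = _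
      rw [(hback ⟨x, hx⟩).1]
    intro a ha
    refine (QuotientGroup.eq_one_iff a).1 ?_
    show QuotientGroup.mk' Z a = 1
    rw [← hsec, MonoidHom.comp_apply, MonoidHom.mem_ker.1 ha, map_one]
  let P : Subgroup W := (commutator Cfsg.Spor.Fi24).comap pr
  let σ : P →* Cfsg.Spor.Fi24' := (pr.comp P.subtype).codRestrict (commutator Cfsg.Spor.Fi24) fun g => g.2
  have hzP : z ∈ P := show pr z ∈ commutator Cfsg.Spor.Fi24 by rw [hzp]; exact one_mem _
  have hσsur : Function.Surjective σ := by
    intro q
    obtain ⟨g, hg⟩ := hsur q.1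
    exact ⟨⟨g, show pr g ∈ commutator _ by rw [hg]; exact q.2⟩, Subtype.ext hg⟩
  have hσker : σ.ker = Subgroup.zpowers (⟨z, hzP⟩ : P) := by
    ext g
    rw [MonoidHom.mem_ker, Subgroup.mem_zpowers_iff]
    constructor
    · intro h
      have hg : pr g.1 = 1 := congrArg Subtype.val h
      obtain ⟨k, hk⟩ := hker.le hg
      exact ⟨k, Subtype.ext (by simpa using hk)⟩
    · rintro ⟨k, rfl⟩
      rw [map_zpow, show σ ⟨z, hzP⟩ = 1 from Subtype.ext hzp, one_zpow]
  have hcent : ∀ g ∈ commutator W, Commute g z := by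
    intro g hg
    have h : commutator W ≤ Subgroup.centralizer {z} := by
      rw [commutator_def, Subgroup.commutator_le]
      intro a _ b _
      rw [Subgroup.mem_centralizer_singleton_iff]
      have e : ⁅a, b⁆ * z * ⁅a, b⁆⁻¹ = z := by
        have key : ∀ c : W, c * z⁻¹ * c⁻¹ = (c * z * c⁻¹)⁻¹ := fun c => by group
        have e' : ⁅a, b⁆ * z * ⁅a, b⁆⁻¹ = a * (b * (a⁻¹ * (b⁻¹ * z * b⁻¹⁻¹) * a⁻¹⁻¹) * b⁻¹) * a⁻¹ := by
          rw [commutatorElement_def]; group
        have flip : ∀ c : W, (c * z * c⁻¹ = z → c⁻¹ * z * c⁻¹⁻¹ = z) ∧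
            (c * z * c⁻¹ = z⁻¹ → c⁻¹ * z * c⁻¹⁻¹ = z⁻¹) := fun c => by
          constructor
          · intro h
            conv_lhs => rw [← h]
            group
          · intro h
            have h' : z = c * z⁻¹ * c⁻¹ := by rw [key, h, inv_inv]
            conv_lhs => rw [h']
            group
        rw [e']
        rcases hconj a with ha | ha <;> rcases hconj b with hb | hb
        · rw [(flip b).1 hb, (flip a).1 ha, hb, ha]
        · rw [(flip b).2 hb, key, (flip a).1 ha, key, hb, inv_inv, ha]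
        · rw [(flip b).1 hb, (flip a).2 ha, key, hb, key, ha, inv_inv]
        · rw [(flip b).2 hb, key, (flip a).2 ha, inv_inv, hb, key, ha, inv_inv]
      exact mul_inv_eq_iff_eq_mul.1 e
    exact Subgroup.mem_centralizer_singleton_iff.1 (h hg)
  have hstemC : σ.ker ≤ Subgroup.center P := by
    rw [hσker, Subgroup.zpowers_le, Subgroup.mem_center_iff]
    intro g
    obtain ⟨a, ha, e⟩ : ∃ a ∈ commutator W, pr a = pr g.1 := by
      have h : pr g.1 ∈ (commutator W).map pr := by
        rw [commutator_def, Subgroup.map_commutator, Subgroup.map_top_of_surjective _ hsur]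
        exact g.2
      exact h
    obtain ⟨k, hk⟩ := hker.le (show a⁻¹ * g.1 ∈ pr.ker by rw [MonoidHom.mem_ker, map_mul, map_inv, e, inv_mul_cancel])
    refine Subtype.ext (show g.1 * z = z * g.1 from ?_)
    rw [show g.1 = a * z ^ k by rw [show z ^ k = a⁻¹ * g.1 from hk, mul_inv_cancel_left]]
    exact ((hcent a ha).mul_left (Commute.zpow_self z k)).eq
  have hstemD : σ.ker ≤ commutator P := by
    rw [hσker, Subgroup.zpowers_le]
    have hPn : P.Normal := inferInstance
    set D : Subgroup W := ⁅P, P⁆ with hD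
    let q := QuotientGroup.mk' D
    have hPq : ∀ g ∈ P, ∃ k : ℤ, q g = q z ^ k := by
      intro g hg
      have h : pr g ∈ D.map pr := by
        rw [hD, Subgroup.map_commutator, Subgroup.map_comap_eq_self_of_surjective hsur, derived_perfect I]
        exact hg
      obtain ⟨d, hd, e⟩ := h
      obtain ⟨k, hk⟩ := hker.le (show d⁻¹ * g ∈ pr.ker by rw [MonoidHom.mem_ker, map_mul, map_inv, e, inv_mul_cancel])
      refine ⟨k, ?_⟩
      rw [← map_zpow, show z ^ k = d⁻¹ * g from hk, map_mul, map_inv, show q d = 1 from (QuotientGroup.eq_one_iff _).2 hd, inv_one, one_mul]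
    have hz3' : z ^ 3 = 1 := hext _ _ (by rw [map_pow, hzp, one_pow, map_one]) (by rw [map_pow, hzq, hz3, map_one])
    have hsame : ∀ x y, x < 12 → y < 12 → x ≠ y → adjB edgesT x y = false → q (T x) = q (T y) := by
      intro x y hx hy hne ha
      have hmem : T x * T y ∈ P := by
        show pr (T x * T y) ∈ commutator _
        have h := mul_mem (ev_mul_zero_mem hx) (inv_mem (ev_mul_zero_mem hy))
        rwa [mul_inv_rev, ← mul_assoc, mul_inv_cancel_right, inv_eq_of_mul_eq_one_right (ev_sq hy),
          ← hpT x hx, ← hpT y hy, ← map_mul] at h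
      obtain ⟨k, hk⟩ := hPq _ hmem
      have hc := comm_of_cox hTsq hTcox hx hy hne ha
      have h2 : q (T x * T y) * q (T x * T y) = 1 := by
        rw [← map_mul, show T x * T y * (T x * T y) = 1 by
          nth_rewrite 2 [hc]
          rw [mul_assoc, ← mul_assoc (T y), hTsq y hy, one_mul, hTsq x hx], map_one]
      have h3 : q (T x * T y) ^ 3 = 1 := by
        rw [hk, ← zpow_natCast, ← zpow_mul, mul_comm, zpow_mul, zpow_natCast, ← map_pow, hz3', map_one, one_zpow]
      rw [pow_succ, pow_two, h2, one_mul, map_mul] at h3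
      rw [eq_inv_of_mul_eq_one_left h3, ← map_inv, inv_eq_of_mul_eq_one_right (hTsq y hy)]
    have hall : ∀ x < 12, q (T x) = q (T 0) := by
      have h0 : ∀ x, 2 ≤ x → x < 12 → q (T x) = q (T 0) := fun x h2 hx =>
        hsame x 0 hx (by decide) (by omega) (by
          have h : ∀ y : Fin 12, 2 ≤ (y : ℕ) → adjB edgesT y 0 = false := by decide +kernel
          exact h ⟨x, hx⟩ h2)
      intro x hx
      rcases (show x = 0 ∨ x = 1 ∨ 2 ≤ x by omega) with rfl | rfl | h
      · rfl
      · rw [hsame 1 3 (by decide) (by decide) (by decide) (by decide)]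
        exact h0 3 (by decide) (by decide)
      · exact h0 x h hx
    have hzD : z ∈ D := by
      refine (QuotientGroup.eq_one_iff z).1 ?_
      show q z = 1
      rw [hzdef, map_evW q fun x hx => hall x (hlw x hx), evW, List.map_const', List.prod_replicate,
        show (wpow w14 17).length = 2 * 119 by decide +kernel, pow_mul, pow_two, ← map_mul,
        hTsq 0 (by decide), map_one, one_pow]
    have hDle : D ≤ (commutator P).map P.subtype := by
      rw [commutator_def, Subgroup.map_commutator, ← MonoidHom.range_eq_map, Subgroup.range_subtype]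
    obtain ⟨d, hd, e⟩ := hDle hzD
    exact (show (⟨z, hzP⟩ : P) = d from Subtype.ext e.symm) ▸ hd
  refine ⟨P, inferInstance, inferInstance, σ, ⟨hσsur, hstemC, hstemD⟩, ?_⟩
  have hord : orderOf (⟨z, hzP⟩ : P) = 3 := by
    rw [← Subgroup.orderOf_coe]
    have := Fact.mk Nat.prime_three
    refine orderOf_eq_prime (hext _ _ (by rw [map_pow, hzp, one_pow, map_one]) (by
      rw [map_pow, hzq, hz3, map_one])) fun h => hz1 ?_
    rw [← hzq, show z = 1 from h, map_one]
  have hcard : Nat.card σ.ker = 3 := by rw [hσker, Nat.card_zpowers, hord]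
  have hcyc : IsCyclic σ.ker := isCyclic_of_prime_card (hp := ⟨Nat.prime_three⟩) hcard
  exact ⟨(zmodCyclicMulEquiv hcyc).symm.trans
    (AddEquiv.toMultiplicative (ZMod.ringEquivCongr hcard).toAddEquiv)⟩

end CfsgLib.Fi24Mult
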