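import Cfsg.Agent.Lib.Presented.Fi24.RelsOK
import Cfsg.Agent.Lib.Presented.Fi24.Valid
import Cfsg.Agent.Lib.Presented.Fi24Mult.ShiftChecks
import Cfsg.Agent.Lib.Presented.Fi24Mult.Triple

/-!
The triple cover of Fi24': the table of Fi24 on the cosets of 2 × Fi23 lifted to three copies of its
points, each letter inverting the copy index.
-/
set_option autoImplicit false
set_option maxRecDepth 8000
set_option linter.constructorNameAsVariable false

namespace CfsgLib.Fi24Mult

open CfsgLib.Presented Cfsg.Spor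
open CfsgLib.Presented.Fi24Cert (rep rep_valid relWords rels_ok)

theorem word_tables : (coxW.all fun w => relWords.contains w && w.length % 2 == 0) = true ∧
    relWords.contains (0 :: (wpow [2, 3, 4, 5, 6, 7, 10] 9).reverse) = true ∧
    relWords.contains (wpow w14 17) = true ∧ coxW.length = 66 ∧ rep.A.eps = 12 ∧
    ((List.range 12).all fun x => rep.A.invl x == x) = true ∧
    wpow w14 6 ++ [] = wpow w14 6 ∧ wpow w14 5 ++ (wpow w14 6 ++ wpow w14 6) = wpow w14 17 ∧
    Nat.blt 0 rep.N = true := by decide +kernel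

/-- The lift of a letter. -/
def lift3 (x : ℕ) : Equiv.Perm (Fin rep.N × ZMod 3) :=
  Shift.letter (al := alphaList) rep_valid x

theorem table_one {w : List ℕ} (hw : w ∈ relWords) : evW (rep.perm rep_valid) w = 1 :=
  Rep.evW_eq_one rep_valid rels_ok hw

theorem letters_ok {w : List ℕ} (hw : ∀ x ∈ w, x < 12) : ∀ x ∈ w, x < rep.A.eps ∧ rep.A.invl x = x :=
  fun x hx => ⟨word_tables.2.2.2.2.1 ▸ hw x hx,
    by simpa using List.all_eq_true.1 word_tables.2.2.2.2.2.1 x (List.mem_range.2 (hw x hx))⟩

theorem val_of_chk {w : List ℕ} (h : Shift.chk rep alphaList w (0, 0) (0, 0) = true) (r : Fin rep.N) :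
    Shift.val (al := alphaList) rep_valid w r = 0 := by
  have e := Shift.chk_sound rep_valid h (Shift.val_zero rep_valid) r
  rw [List.append_nil] at e
  rw [← e]
  simp [Shift.planeVal, Shift.bitVal]

theorem lift3_one {w : List ℕ} (hw : w ∈ relWords) (hlt : ∀ x ∈ w, x < 12) (hlen : w.length % 2 = 0)
    (h : Shift.chk rep alphaList w (0, 0) (0, 0) = true) : evW lift3 w = 1 := by
  refine Equiv.ext fun q => ?_
  show evW (Shift.letter (al := alphaList) rep_valid) w q = q
  rw [Shift.evW_letter rep_valid (letters_ok hlt), table_one hw, val_of_chk h,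
    Even.neg_one_pow (Nat.even_iff.2 hlen)]
  simp

theorem lift3_sq {x : ℕ} (hx : x < 12) : lift3 x * lift3 x = 1 := by
  refine Equiv.ext fun q => ?_
  have h := List.all_eq_true.1 sq_shift0 [x, x] (List.mem_map.2 ⟨x, List.mem_range.2 hx, rfl⟩)
  have hw : ∀ y ∈ [x, x], y < 12 := by simpa using hx
  have e : lift3 x * lift3 x = evW (Shift.letter (al := alphaList) rep_valid) [x, x] := by
    simp [lift3, evW]
  have hs : evW (rep.perm rep_valid) [x, x] = 1 := Equiv.ext fun r => by
    obtain ⟨h1, h2⟩ := letters_ok hw x List.mem_cons_self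
    simpa [evW] using Shift.perm_perm rep_valid h1 h2 r
  rw [e, Shift.evW_letter rep_valid (letters_ok hw), hs, val_of_chk h]
  simp

theorem lift3_cox {w : List ℕ} (hw : w ∈ coxW) : evW lift3 w = 1 := by
  have h := List.all_eq_true.1 word_tables.1 w hw
  simp only [Bool.and_eq_true, beq_iff_eq, List.contains_iff_mem] at h
  refine lift3_one h.1 (lt_of_mem (List.mem_append_left _ hw)) h.2 ?_
  have hcover : coxW = coxW.take 11 ++ (coxW.drop 11).take 11 ++ (coxW.drop 22).take 11 ++
      (coxW.drop 33).take 11 ++ (coxW.drop 44).take 11 ++ (coxW.drop 55).take 11 := by decide +kernel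
  have hall : zeroShift coxW = true := by
    rw [hcover]
    simp only [zeroShift, List.all_append, Bool.and_eq_true]
    exact ⟨⟨⟨⟨⟨cox_shift0, cox_shift1⟩, cox_shift2⟩, cox_shift3⟩, cox_shift4⟩, cox_shift5⟩
  exact List.all_eq_true.1 hall w hw

theorem planeVal_ones {n i : ℕ} (h : i < n) : Shift.planeVal (0, Vec.ones n) i = 2 := by
  simp [Shift.planeVal, Shift.bitVal, Vec.testBit_ones, h]

theorem lift3_z (q : Fin rep.N × ZMod 3) : evW lift3 (wpow w14 17) q = (q.1, q.2 + 2) := by
  obtain ⟨-, -, hmem, -, -, -, -, happ, -⟩ := word_tables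
  have hlt := lt_of_mem (w := wpow w14 17) (by simp)
  have s0 := Shift.chk_sound rep_valid z_shift0 (Shift.val_zero rep_valid)
  simp only [List.append_nil] at s0
  have s1 := Shift.chk_sound rep_valid z_shift1 s0
  have s2 := Shift.chk_sound rep_valid z_shift2 s1
  rw [happ] at s2
  have key : ∀ w : List ℕ, w ∈ relWords → (∀ x ∈ w, x < 12) → Even w.length →
      (∀ r : Fin rep.N, Shift.planeVal (0, Vec.ones rep.N) r = Shift.val (al := alphaList) rep_valid w r) →
      evW lift3 w q = (q.1, q.2 + 2) := by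
    intro w hw hlw hev hv
    show evW (Shift.letter (al := alphaList) rep_valid) w q = _
    rw [Shift.evW_letter rep_valid (letters_ok hlw), table_one hw, hev.neg_one_pow, one_mul,
      Equiv.Perm.one_apply, ← hv, planeVal_ones q.1.2]
  exact key _ (List.contains_iff_mem.1 hmem) hlt (by decide +kernel) s2

theorem shift_cube {X : Type} (g : Equiv.Perm (X × ZMod 3)) (h : ∀ q, g q = (q.1, q.2 + 2)) : g ^ 3 = 1 := by
  refine Equiv.ext fun q => ?_
  simp only [pow_succ, pow_zero, one_mul, Equiv.Perm.mul_apply, h, Equiv.Perm.one_apply]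
  refine Prod.ext rfl ?_
  show q.2 + 2 + 2 + 2 = q.2
  rw [add_assoc, add_assoc, show (2 + (2 + 2) : ZMod 3) = 0 by decide, add_zero]

/-- The triple cover. -/
theorem exists_triple (I : Input) [Finite Cfsg.Spor.Fi24] :
    ∃ (Γ : Type) (_ : Group Γ) (_ : Finite Γ) (σ : Γ →* Cfsg.Spor.Fi24'), Cfsg.IsStemExtension σ ∧
      Nonempty (σ.ker ≃* Multiplicative (ZMod 3)) := by
  obtain ⟨-, hu, -, -, -, -, -, -, hN⟩ := word_tables
  refine exists_triple_of I lift3 (fun _ => lift3_sq) (fun _ => lift3_cox)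
    (lift3_one (List.contains_iff_mem.1 hu) (by decide +kernel) (by decide +kernel) urev_shift) ?_ ?_ ?_
  · exact shift_cube _ lift3_z
  · intro h
    have := congrArg Prod.snd ((lift3_z (⟨0, Nat.blt_eq.mp hN⟩, 0)).symm.trans (by rw [h]))
    rw [Equiv.Perm.one_apply] at this
    exact absurd (show (0 + 2 : ZMod 3) = 0 from this) (by decide)
  · intro x hx
    refine eq_inv_of_mul_eq_one_left (Equiv.ext fun q => ?_)
    have e := DFunLike.congr_fun (lift3_sq hx) q
    rw [Equiv.Perm.mul_apply] at e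
    simp only [Equiv.Perm.mul_apply, lift3_z, Equiv.Perm.one_apply]
    have lin : ∀ p : Fin rep.N × ZMod 3, ∀ c : ZMod 3,
        lift3 x (p.1, p.2 + c) = ((lift3 x p).1, (lift3 x p).2 - c) := by
      intro p c
      refine Prod.ext rfl ?_
      show _ - (p.2 + c) = _ - p.2 - c
      ring
    rw [lin (lift3 x (q.1, q.2 + 2)) 2, lin q 2]
    have e2 : lift3 x ((lift3 x q).1, (lift3 x q).2 - 2) = (q.1, q.2 + 2) := by
      rw [sub_eq_add_neg, lin (lift3 x q) (-2), e, sub_neg_eq_add, Equiv.Perm.one_apply]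
    rw [e2]
    refine Prod.ext rfl ?_
    show q.2 + 2 - 2 = q.2
    ring

end CfsgLib.Fi24Mult
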