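import Cfsg.Agent.Lib.Presented.Fi24Cosets
import Cfsg.Agent.Lib.Presented.Fi23Order
import Cfsg.Agent.Lib.Presented.Fi24Mult.Bound
import Cfsg.Agent.Lib.Presented.Fi24Mult.Lower

/-!
The Schur multiplier of Fi24' is cyclic of order three.
-/
set_option autoImplicit false
set_option maxRecDepth 8000
set_option linter.constructorNameAsVariable false

namespace CfsgLib.Fi24Mult

open CfsgLib.Presented Cfsg.Spor
open CfsgLib.Presented.Fi24Cert (rep rep_valid)
open CfsgLib.Presented.Fi24Cosets (H hl)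

theorem table_checks : (Vec.applyNet (rep.netW seedW) 1).testBit 0 = true ∧
    (seedW.all fun x => Nat.blt x Fi24Cert.alphabet.eps) = true ∧
    (Vec.applyNet (rep.net 0) (Nat.shiftLeft 1 9)).testBit 9 = true ∧
    (Vec.applyNet (rep.net 2) (Nat.shiftLeft 1 9)).testBit 9 = false ∧
    Nat.blt 9 rep.N = true ∧ Fi24Cert.spiderWord = spiderW ∧ hl = hX := by decide +kernel

theorem ev_eq : Fi24Base.ev = ev := rfl

/-- A word fixing the first bit fixes the base point. -/
theorem fix_of_bit {R : Rep} (h : R.valid = true) (hN : 0 < R.N) {w : List ℕ}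
    (hb : (Vec.applyNet (R.netW w) 1).testBit 0 = true) : evW (R.perm h) w ⟨0, hN⟩ = ⟨0, hN⟩ := by
  apply Fin.ext
  rw [Rep.netW_perm h]
  rw [Vec.testBit_applyNet (Rep.netOk_netW h w)] at hb
  exact VCert.one_bit hb

theorem input : Input := by
  obtain ⟨hseed, hslt, hl0, ha0, h9, hsp, hhl⟩ := table_checks
  refine ⟨?_, ?_, ?_⟩
  · rw [← hsp, ← ev_eq]
    exact Fi24Base.spider_eq_one
  · have hfix : Fi24Base.phi (evW Fi24Base.ev seedW) Fi24Base.pt0 = Fi24Base.pt0 := by
      rw [Fi24Base.phi_evW fun x hx => Nat.blt_eq.mp (List.all_eq_true.1 hslt x hx)]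
      have h1 := @fix_of_bit rep rep_valid Fi24Base.N_pos seedW
      have h2 := h1 hseed
      with_reducible exact h2
    have h := Fi24Cosets.mem_H_of_fix hfix
    rw [Fi24Cosets.H_eq_genBy, genBy, hhl] at h
    exact h
  · intro h
    have e := congrArg (fun g => (Fi24Base.phi g ⟨9, Nat.blt_eq.mp h9⟩ : ℕ)) (ev_eq.symm ▸ h :)
    rw [Fi24Base.phi_ev 2 (by decide), Fi24Base.phi_ev 0 (by decide), Rep.perm_val, Rep.perm_val] at e
    obtain ⟨-, -, hok, -, -⟩ := Rep.valid_spec rep_valid
    rw [Vec.testBit_applyNet (hok 0)] at hl0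
    rw [Vec.testBit_applyNet (hok 2), e, hl0] at ha0
    exact Bool.noConfusion ha0

theorem finite_fi24 : Finite Cfsg.Spor.Fi24 := by
  obtain ⟨θ, hθ, -⟩ := exists_theta input
  have : Finite Cfsg.Spor.Fi23 := Nat.finite_of_card_ne_zero (by rw [Fi23Order.card_eq]; decide)
  have hl0 : ev 0 * ev 0 = 1 := ev_sq (by decide)
  have hc : ∀ h, Commute (ev 0) (θ h) := by
    intro h
    have hh : h ∈ (Subgroup.centralizer {ev 0}).comap θ := by
      refine (Subgroup.closure_le _).2 ?_ (fi23_gen.ge (Subgroup.mem_top h))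
      rintro _ ⟨x, hx, rfl⟩
      rw [SetLike.mem_coe, Subgroup.mem_comap, hθ x hx, Subgroup.mem_centralizer_singleton_iff]
      exact (((ev_zero_comm hx).mul_right (Commute.refl (ev 0)))).eq.symm
    exact (Subgroup.mem_centralizer_singleton_iff.1 hh).symm
  have hmem : ∀ g ∈ H, ∃ h, g = θ h ∨ g = ev 0 * θ h := by
    intro g hg
    rw [Fi24Cosets.H_eq_genBy, genBy, table_checks.2.2.2.2.2.2, ev_eq] at hg
    induction hg using Subgroup.closure_induction with
    | mem y hy =>
      obtain ⟨x, hx, rfl⟩ := hy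
      have hcases : x = 0 ∨ (2 ≤ x ∧ x < 12) := by
        have e : ∀ y ∈ hX, y = 0 ∨ (2 ≤ y ∧ y < 12) := by decide
        exact e x hx
      rcases hcases with rfl | ⟨h2, h12⟩
      · exact ⟨1, Or.inr (by rw [map_one, mul_one])⟩
      · obtain ⟨y, rfl⟩ : ∃ y, x = y + 2 := ⟨x - 2, by omega⟩
        refine ⟨Fi23Cosets.ev y, Or.inr ?_⟩
        rw [hθ y (by omega), ← mul_assoc, (ev_zero_comm (show y < 10 by omega)).eq, mul_assoc, hl0, mul_one]
    | one => exact ⟨1, Or.inl (map_one θ).symm⟩
    | mul a b _ _ iha ihb =>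
      obtain ⟨s, ha⟩ := iha
      obtain ⟨r, hb⟩ := ihb
      refine ⟨s * r, ?_⟩
      rcases ha with rfl | rfl <;> rcases hb with rfl | rfl
      · exact Or.inl (map_mul θ s r).symm
      · exact Or.inr (by rw [map_mul, ← mul_assoc, ← (hc s).eq, mul_assoc])
      · exact Or.inr (by rw [map_mul, mul_assoc])
      · exact Or.inl (by
          rw [map_mul, mul_assoc, ← mul_assoc (θ s), ← (hc s).eq, ← mul_assoc, ← mul_assoc, hl0, one_mul])
    | inv a _ iha =>
      obtain ⟨s, rfl | rfl⟩ := iha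
      · exact ⟨s⁻¹, Or.inl (map_inv θ s).symm⟩
      · refine ⟨s⁻¹, Or.inr ?_⟩
        rw [mul_inv_rev, map_inv, inv_eq_of_mul_eq_one_right hl0]
        exact ((hc s).inv_right).eq.symm
  have : Finite H := by
    have hsur : Function.Surjective fun q : Bool × Cfsg.Spor.Fi23 =>
        (⟨cond q.1 (ev 0) 1 * θ q.2, by
          refine mul_mem ?_ ?_
          · cases q.1
            · exact one_mem _
            · rw [Fi24Cosets.H_eq_genBy, genBy, table_checks.2.2.2.2.2.2, ev_eq]
              exact Subgroup.subset_closure ⟨0, by decide, rfl⟩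
          · have hθr : θ.range ≤ H := by
              rw [MonoidHom.range_eq_map, ← fi23_gen, MonoidHom.map_closure, Subgroup.closure_le,
                Fi24Cosets.H_eq_genBy, genBy, table_checks.2.2.2.2.2.2, ev_eq]
              rintro _ ⟨_, ⟨x, hx, rfl⟩, rfl⟩
              rw [hθ x hx, SetLike.mem_coe]
              have e : ∀ y : Fin 10, (y : ℕ) + 2 ∈ hX := by decide
              exact mul_mem (Subgroup.subset_closure ⟨x + 2, e ⟨x, hx⟩, rfl⟩)
                (Subgroup.subset_closure ⟨0, by decide, rfl⟩)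
            exact hθr ⟨_, rfl⟩⟩ : H) := fun g => by
      obtain ⟨h, e | e⟩ := hmem g.1 g.2
      · exact ⟨(false, h), Subtype.ext (by simp [e])⟩
      · exact ⟨(true, h), Subtype.ext (by simp [e])⟩
    exact Finite.of_surjective _ hsur
  refine Nat.finite_of_card_ne_zero ?_
  rw [← Subgroup.card_mul_index H, Fi24Cosets.index_eq]
  exact Nat.mul_ne_zero Nat.card_pos.ne' (by decide)

/-- The Schur multiplier. -/
theorem fi24_multiplier : Cfsg.HasCyclicSchurMultiplier Cfsg.Spor.Fi24' 3 := by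
  have := finite_fi24
  exact ⟨exists_triple input, fun Γ _ _ σ hσ => stem_bound input σ hσ⟩

end CfsgLib.Fi24Mult
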