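import Cfsg.Agent.Lib.Presented.Word
import Mathlib.GroupTheory.GroupAction.Defs
import Mathlib.Algebra.Group.Action.Basic

/-!
Short certificates of coset enumerations in an extension: every fact carries a value, a pair of
integers naming an element of the kernel, which each letter either centralizes or inverts.
-/
set_option autoImplicit false

namespace CfsgLib.Fi24Mult

open CfsgLib.Presented

/-- A fact: the letter `x` sends the point `src` to the point `dst` times a value (`(ca, cb)` when the
letters centralize values, `(ia, ib)` when they invert them), and the reason. -/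
structure TFact where
  x : ℕ
  src : ℕ
  dst : ℕ
  ca : ℤ
  cb : ℤ
  ia : ℤ
  ib : ℤ
  r : ℕ
  i : ℕ
  p : ℕ
  refs : List ℕ

/-- A word with its value, valid everywhere or only at the base point. -/
structure TRel where
  word : List ℕ
  va : ℤ
  vb : ℤ
  based : Bool

/-- A certificate: `inverted` tells how the letters act on values, `pts` names the points. -/
structure TCert where
  inverted : Bool
  nL : ℕ
  rels : List TRel
  pts : ATree (ℕ × ℕ)
  facts : ATree TFact

/-- the action of a letter on values -/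
def TCert.sv (C : TCert) (c : ℤ × ℤ) : ℤ × ℤ := cond C.inverted (-c.1, -c.2) c

/-- the relation used by a fact or equation -/
def TCert.rel (C : TCert) (r : ℕ) : TRel := C.rels.getD r ⟨[], 0, 0, false⟩

/-- the value of a fact -/
def TCert.fval (C : TCert) (f : TFact) : ℤ × ℤ := cond C.inverted (f.ia, f.ib) (f.ca, f.cb)

/-- one fact read forwards (even reference) or backwards (odd reference) -/
noncomputable def TCert.hop (C : TCert) (h : ℕ) : ℕ × ℕ × (ℤ × ℤ) :=
  cond (Nat.beq (h % 2) 0)
    ((C.facts.get (h / 2)).src, (C.facts.get (h / 2)).dst, C.fval (C.facts.get (h / 2)))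
    ((C.facts.get (h / 2)).dst, (C.facts.get (h / 2)).src, -C.sv (C.fval (C.facts.get (h / 2))))

/-- follow earlier facts along letters given in order of application -/
noncomputable def TCert.walk (C : TCert) (k : ℕ) : List ℕ → List ℕ → ℕ × (ℤ × ℤ) → Option (ℕ × (ℤ × ℤ))
  | [], _, st => some st
  | _ :: _, [], _ => none
  | y :: u, h :: hs, st =>
    cond (Nat.blt (h / 2) k && Nat.beq (C.facts.get (h / 2)).x y && Nat.beq (C.hop h).1 st.1)
      (C.walk k u hs ((C.hop h).2.1,
        ((C.sv st.2).1 + (C.hop h).2.2.1, (C.sv st.2).2 + (C.hop h).2.2.2)))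
      none

/-- a defining fact -/
noncomputable def TCert.chkDef (C : TCert) (f : TFact) : Bool :=
  Nat.blt f.x C.nL && Nat.blt 0 f.dst && Nat.blt f.src f.dst && Nat.beq (C.pts.get (f.dst - 1)).1 f.src && Nat.beq (C.pts.get (f.dst - 1)).2 f.x &&
    decide (C.fval f = (0, 0))

/-- a deduced fact -/
noncomputable def TCert.chkDed (C : TCert) (k : ℕ) (f : TFact) : Bool :=
  match (C.rel f.r).word.drop f.i with
  | [] => false
  | x :: suf =>
    Nat.beq x f.x && (C.rel f.r).word.all (fun y => Nat.blt y C.nL) &&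
      cond (C.rel f.r).based (Nat.beq f.p 0) true &&
      match C.walk k suf.reverse (f.refs.take suf.length) (f.p, (0, 0)),
        C.walk k ((C.rel f.r).word.take f.i) (f.refs.drop suf.length) (f.p, ((C.rel f.r).va, (C.rel f.r).vb)) with
      | some (q, b1), some (d, b2) =>
        Nat.beq q f.src && Nat.beq d f.dst && decide ((C.fval f).1 = b2.1 - (C.sv b1).1) &&
          decide ((C.fval f).2 = b2.2 - (C.sv b1).2)
      | _, _ => false

/-- the fact `k` is justified by earlier ones -/
noncomputable def TCert.chkFact (C : TCert) (k : ℕ) : Bool :=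
  cond (Nat.beq (C.facts.get k).r C.rels.length) (C.chkDef (C.facts.get k)) (C.chkDed k (C.facts.get k))

/-- facts `lo ≤ k < lo + n` are justified -/
noncomputable def TCert.chkRange (C : TCert) (lo n : ℕ) : Bool :=
  (List.range n).all fun j => C.chkFact (lo + j)

/-- a closed path along a word -/
noncomputable def TCert.chkLoop (C : TCert) (n : ℕ) (w : List ℕ) (p : ℕ) (refs : List ℕ) (la lb : ℤ) : Bool :=
  match C.walk n w.reverse refs (p, (0, 0)) with
  | some (q, b) => Nat.beq q p && decide (la = b.1) && decide (lb = b.2)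
  | none => false

/-- a closed path giving the value `(ea, eb)` of the trivial element -/
noncomputable def TCert.chkEqn (C : TCert) (n r p : ℕ) (refs : List ℕ) (ea eb : ℤ) : Bool :=
  (C.rel r).word.all (fun y => Nat.blt y C.nL) && cond (C.rel r).based (Nat.beq p 0) true &&
    match C.walk n (C.rel r).word.reverse refs (p, (0, 0)) with
    | some (q, b) => Nat.beq q p && decide (ea = b.1 - (C.rel r).va) && decide (eb = b.2 - (C.rel r).vb)
    | none => false

theorem TCert.chkRange_append {C : TCert} {lo n m : ℕ} (h1 : C.chkRange lo n = true)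
    (h2 : C.chkRange (lo + n) m = true) : C.chkRange lo (n + m) = true := by
  simp only [TCert.chkRange, List.all_eq_true, List.mem_range] at h1 h2 ⊢
  intro j hj
  rcases Nat.lt_or_ge j n with h | h
  · exact h1 j h
  · have := h2 (j - n) (by omega)
    rwa [show lo + n + (j - n) = lo + j by omega] at this

section Sound

variable {G : Type*} [Group G] {X : Type*} [MulAction G X]

/-- The hypotheses making a certificate meaningful. -/
structure TCert.Interp (C : TCert) (ev : ℕ → G) (ψ : ℤ × ℤ → G) (base : X) : Prop where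
  invol : ∀ x, x < C.nL → ev x * ev x = 1
  add : ∀ c d : ℤ × ℤ, ψ (c + d) = ψ c * ψ d
  conj : ∀ x, x < C.nL → ∀ c, ev x * ψ c = ψ (C.sv c) * ev x
  free : ∀ c, ψ c • base = base → ψ c = 1
  rels : ∀ r ∈ C.rels, (r.based = false → evW ev r.word = ψ (r.va, r.vb)) ∧
    evW ev r.word • base = ψ (r.va, r.vb) • base

/-- The named points. -/
noncomputable def TCert.pt (C : TCert) (ev : ℕ → G) (base : X) (n : ℕ) : X :=
  if h : 0 < n ∧ (C.pts.get (n - 1)).1 < n then
    ev (C.pts.get (n - 1)).2 • C.pt ev base (C.pts.get (n - 1)).1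
  else base
termination_by n
decreasing_by exact h.2

variable {C : TCert} {ev : ℕ → G} {ψ : ℤ × ℤ → G} {base : X}

theorem TCert.pt_zero : C.pt ev base 0 = base := by
  rw [TCert.pt]; simp

theorem TCert.sv_sv (c : ℤ × ℤ) : C.sv (C.sv c) = c := by
  cases h : C.inverted <;> simp [TCert.sv, h]

theorem TCert.sv_neg (c : ℤ × ℤ) : C.sv (-c) = -C.sv c := by
  cases h : C.inverted <;> simp [TCert.sv, h, Prod.ext_iff]

theorem TCert.psi_zero (hI : C.Interp ev ψ base) : ψ 0 = 1 := by
  have := hI.add 0 0
  rw [add_zero] at this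
  exact mul_eq_left.1 this.symm

theorem TCert.psi_neg (hI : C.Interp ev ψ base) (c : ℤ × ℤ) : ψ (-c) = (ψ c)⁻¹ := by
  refine eq_inv_of_mul_eq_one_left ?_
  rw [← hI.add, neg_add_cancel, TCert.psi_zero hI]

/-- Statement of a fact. -/
def TCert.Holds (C : TCert) (ev : ℕ → G) (ψ : ℤ × ℤ → G) (base : X) (k : ℕ) : Prop :=
  (C.facts.get k).x < C.nL ∧ ev (C.facts.get k).x • C.pt ev base (C.facts.get k).src =
    ψ (C.fval (C.facts.get k)) • C.pt ev base (C.facts.get k).dst

theorem TCert.hop_sound (hI : C.Interp ev ψ base) {h : ℕ} (hh : C.Holds ev ψ base (h / 2)) :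
    (C.facts.get (h / 2)).x < C.nL ∧ ev (C.facts.get (h / 2)).x • C.pt ev base (C.hop h).1 =
      ψ (C.hop h).2.2 • C.pt ev base (C.hop h).2.1 := by
  refine ⟨hh.1, ?_⟩
  obtain ⟨hx, hf⟩ := hh
  unfold TCert.hop
  cases Nat.beq (h % 2) 0
  · rw [cond_false]
    dsimp only
    have e := congrArg (fun z => ev (C.facts.get (h / 2)).x • z) hf
    simp only [smul_smul, hI.invol _ hx, one_smul, hI.conj _ hx] at e
    rw [mul_smul] at e
    rw [e, TCert.psi_neg hI, inv_smul_smul]
  · rw [cond_true]
    exact hf

theorem TCert.walk_sound (hI : C.Interp ev ψ base) {k : ℕ} (ih : ∀ j < k, C.Holds ev ψ base j) :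
    ∀ {u hs : List ℕ} {cur : ℕ} {b : ℤ × ℤ} {res : ℕ × (ℤ × ℤ)}, C.walk k u hs (cur, b) = some res →
      evW ev u.reverse • ψ b • C.pt ev base cur = ψ res.2 • C.pt ev base res.1
  | [], hs, cur, b, res, h => by
    simp only [TCert.walk, Option.some.injEq] at h
    subst h
    simp
  | y :: u, [], cur, b, res, h => by simp [TCert.walk] at h
  | y :: u, h0 :: hs, cur, b, res, h => by
    rw [TCert.walk] at h
    cases hc : (Nat.blt (h0 / 2) k && Nat.beq (C.facts.get (h0 / 2)).x y && Nat.beq (C.hop h0).1 cur)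
    · simp [hc] at h
    rw [hc, cond_true] at h
    simp only [Bool.and_eq_true, Nat.blt_eq] at hc
    obtain ⟨⟨hlt, hy⟩, hs'⟩ := hc
    obtain ⟨hx, hf⟩ := TCert.hop_sound hI (ih _ hlt)
    have := TCert.walk_sound hI ih h
    rw [List.reverse_cons, evW_append, mul_smul, evW_cons, evW_nil, mul_one, ← Nat.eq_of_beq_eq_true hy,
      ← Nat.eq_of_beq_eq_true hs', smul_smul (ev _), hI.conj _ hx, mul_smul, hf, smul_smul (ψ _), ← hI.add]
    exact this

theorem TCert.word_inv (hI : C.Interp ev ψ base) :
    ∀ {w : List ℕ}, (∀ y ∈ w, y < C.nL) → evW ev w.reverse * evW ev w = 1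
  | [], _ => by simp
  | y :: w, h => by
    rw [List.reverse_cons, evW_append, evW_cons, evW_nil, mul_one, evW_cons, mul_assoc,
      ← mul_assoc (ev y), hI.invol y (h y List.mem_cons_self), one_mul,
      TCert.word_inv hI fun z hz => h z (List.mem_cons_of_mem _ hz)]

theorem TCert.rel_smul (hI : C.Interp ev ψ base) (r : ℕ) {p : ℕ}
    (hp : cond (C.rel r).based (Nat.beq p 0) true = true) :
    evW ev (C.rel r).word • C.pt ev base p = ψ ((C.rel r).va, (C.rel r).vb) • C.pt ev base p := by
  unfold TCert.rel at hp ⊢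
  rw [List.getD_eq_getElem?_getD] at hp ⊢
  cases hr : C.rels[r]? with
  | none =>
    simp only [Option.getD_none, evW_nil]
    rw [show ((0 : ℤ), (0 : ℤ)) = (0 : ℤ × ℤ) from rfl, TCert.psi_zero hI]
  | some e =>
    rw [hr] at hp
    simp only [Option.getD_some] at hp ⊢
    obtain ⟨h1, h2⟩ := hI.rels e (List.mem_of_getElem? hr)
    cases hb : e.based
    · rw [h1 hb]
    · rw [hb, cond_true] at hp
      rw [Nat.eq_of_beq_eq_true hp, TCert.pt_zero]
      exact h2

theorem TCert.holds_of_ok (hI : C.Interp ev ψ base) {n : ℕ} (h : C.chkRange 0 n = true) :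
    ∀ k, k < n → C.Holds ev ψ base k := by
  intro k
  induction k using Nat.strong_induction_on with
  | _ k IH =>
    intro hk
    have ih : ∀ j < k, C.Holds ev ψ base j := fun j hj => IH j hj (hj.trans hk)
    simp only [TCert.chkRange, List.all_eq_true, List.mem_range] at h
    have hf := h k hk
    rw [Nat.zero_add] at hf
    unfold TCert.chkFact at hf
    unfold TCert.Holds
    generalize C.facts.get k = f at hf
    cases hd : Nat.beq f.r C.rels.length
    · rw [hd, cond_false] at hf
      unfold TCert.chkDed at hf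
      cases hw : (C.rel f.r).word.drop f.i with
      | nil => simp [hw] at hf
      | cons x suf =>
        simp only [hw, Bool.and_eq_true, List.all_eq_true, Nat.blt_eq] at hf
        obtain ⟨⟨⟨hx, hlt⟩, hp⟩, hm⟩ := hf
        have hsplit : (C.rel f.r).word = (C.rel f.r).word.take f.i ++ f.x :: suf := by
          conv_lhs => rw [← List.take_append_drop f.i (C.rel f.r).word, hw, Nat.eq_of_beq_eq_true hx]
        have hfx : f.x < C.nL := hlt _ (by rw [hsplit]; simp)
        refine ⟨hfx, ?_⟩
        have hpre : ∀ y ∈ (C.rel f.r).word.take f.i, y < C.nL := fun y hy => hlt y (List.mem_of_mem_take hy)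
        cases h1 : C.walk k suf.reverse (f.refs.take suf.length) (f.p, (0, 0)) with
        | none => simp [h1] at hm
        | some res1 =>
          obtain ⟨q, b1⟩ := res1
          cases h2 : C.walk k ((C.rel f.r).word.take f.i) (f.refs.drop suf.length)
              (f.p, ((C.rel f.r).va, (C.rel f.r).vb)) with
          | none => simp [h1, h2] at hm
          | some res2 =>
            obtain ⟨d, b2⟩ := res2
            simp only [h1, h2, Bool.and_eq_true, decide_eq_true_eq] at hm
            obtain ⟨⟨⟨hq, hd'⟩, ha⟩, hb⟩ := hm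
            rw [← Nat.eq_of_beq_eq_true hq, ← Nat.eq_of_beq_eq_true hd']
            have e1 := TCert.walk_sound hI ih h1
            have e2 := TCert.walk_sound hI ih h2
            rw [List.reverse_reverse, show ((0 : ℤ), (0 : ℤ)) = (0 : ℤ × ℤ) from rfl, TCert.psi_zero hI,
              one_smul] at e1
            dsimp only at e1 e2
            have e3 := TCert.rel_smul hI f.r hp
            rw [← e3, smul_smul (evW ev (List.reverse _))] at e2
            conv_lhs at e2 => arg 1; arg 2; rw [hsplit]
            rw [evW_append, evW_cons, ← mul_assoc, TCert.word_inv hI hpre, one_mul, mul_smul, e1,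
              smul_smul, hI.conj _ hfx, mul_smul] at e2
            have e4 := congrArg (fun z => (ψ (C.sv b1))⁻¹ • z) e2
            simp only [inv_smul_smul] at e4
            rw [e4, ← TCert.psi_neg hI, smul_smul, ← hI.add]
            congr 2
            rw [Prod.ext_iff]
            simp only [Prod.fst_add, Prod.snd_add, Prod.fst_neg, Prod.snd_neg]
            constructor <;> omega
    · rw [hd, cond_true] at hf
      simp only [TCert.chkDef, Bool.and_eq_true, Nat.blt_eq, decide_eq_true_eq] at hf
      obtain ⟨⟨⟨⟨⟨hx, hd0⟩, hsd⟩, hp1⟩, hp2⟩, hv⟩ := hf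
      refine ⟨hx, ?_⟩
      rw [hv, show ((0 : ℤ), (0 : ℤ)) = (0 : ℤ × ℤ) from rfl, TCert.psi_zero hI, one_smul]
      conv_rhs => rw [TCert.pt]
      have e : C.pts.get (f.dst - 1) = (f.src, f.x) :=
        Prod.ext (Nat.eq_of_beq_eq_true hp1) (Nat.eq_of_beq_eq_true hp2)
      rw [dif_pos (by rw [e]; exact ⟨hd0, hsd⟩), e]

theorem TCert.eq_one_of_fix {A : Set G}
    (hconj : ∀ x, x < C.nL → ∀ a ∈ A, ∃ b ∈ A, a * ev x = ev x * b) (hfree : ∀ a ∈ A, a • base = base → a = 1)
    (hpts : (C.pts.all fun e => Nat.blt e.2 C.nL) = true) :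
    ∀ (p : ℕ) (a : G), a ∈ A → a • C.pt ev base p = C.pt ev base p → a = 1 := by
  intro p
  induction p using Nat.strong_induction_on with
  | _ p IH =>
    intro a ha hfix
    rw [TCert.pt] at hfix
    by_cases h : 0 < p ∧ (C.pts.get (p - 1)).1 < p
    · rw [dif_pos h] at hfix
      have hy := ATree.all_get hpts (p - 1)
      rw [Nat.blt_eq] at hy
      obtain ⟨b, hb, e⟩ := hconj _ hy a ha
      rw [smul_smul, e, mul_smul, smul_left_cancel_iff] at hfix
      rw [IH _ h.2 b hb hfix, mul_one] at e
      exact mul_eq_right.1 e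
    · rw [dif_neg h] at hfix
      exact hfree a ha hfix

theorem TCert.psi_fix (hI : C.Interp ev ψ base) (hpts : (C.pts.all fun e => Nat.blt e.2 C.nL) = true)
    (p : ℕ) (c : ℤ × ℤ) (h : ψ c • C.pt ev base p = C.pt ev base p) : ψ c = 1 := by
  refine TCert.eq_one_of_fix (A := Set.range ψ) (fun x hx a ha => ?_) (fun a ha h => ?_) hpts p _ ⟨c, rfl⟩ h
  · obtain ⟨d, rfl⟩ := ha
    have hd := hI.conj x hx (C.sv d)
    rw [TCert.sv_sv] at hd
    exact ⟨_, ⟨C.sv d, rfl⟩, hd.symm⟩
  · obtain ⟨d, rfl⟩ := ha
    exact hI.free d h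

theorem TCert.loop_sound (hI : C.Interp ev ψ base) {n : ℕ} (hok : C.chkRange 0 n = true)
    {w : List ℕ} {p : ℕ} {refs : List ℕ} {la lb : ℤ} (h : C.chkLoop n w p refs la lb = true) :
    evW ev w • C.pt ev base p = ψ (la, lb) • C.pt ev base p := by
  unfold TCert.chkLoop at h
  cases hw : C.walk n w.reverse refs (p, (0, 0)) with
  | none => simp [hw] at h
  | some res =>
    obtain ⟨q, b⟩ := res
    simp only [hw, Bool.and_eq_true, decide_eq_true_eq] at h
    obtain ⟨⟨hq, ha⟩, hb⟩ := h
    have e := TCert.walk_sound hI (TCert.holds_of_ok hI hok) hw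
    rw [List.reverse_reverse, show ((0 : ℤ), (0 : ℤ)) = (0 : ℤ × ℤ) from rfl, TCert.psi_zero hI, one_smul,
      Nat.eq_of_beq_eq_true hq] at e
    rw [e, ha, hb]

theorem TCert.eqn_sound (hI : C.Interp ev ψ base) {n : ℕ} (hok : C.chkRange 0 n = true)
    (hpts : (C.pts.all fun e => Nat.blt e.2 C.nL) = true)
    {r p : ℕ} {refs : List ℕ} {ea eb : ℤ} (h : C.chkEqn n r p refs ea eb = true) : ψ (ea, eb) = 1 := by
  simp only [TCert.chkEqn, Bool.and_eq_true] at h
  obtain ⟨⟨-, hp⟩, hm⟩ := h
  cases hw : C.walk n (C.rel r).word.reverse refs (p, (0, 0)) with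
  | none => simp [hw] at hm
  | some res =>
    obtain ⟨q, b⟩ := res
    simp only [hw, Bool.and_eq_true, decide_eq_true_eq] at hm
    obtain ⟨⟨hq, ha⟩, hb⟩ := hm
    have e := TCert.walk_sound hI (TCert.holds_of_ok hI hok) hw
    rw [List.reverse_reverse, show ((0 : ℤ), (0 : ℤ)) = (0 : ℤ × ℤ) from rfl, TCert.psi_zero hI, one_smul,
      TCert.rel_smul hI r hp, Nat.eq_of_beq_eq_true hq] at e
    refine TCert.psi_fix hI hpts p _ ?_
    · have e' := congrArg (fun z => (ψ ((C.rel r).va, (C.rel r).vb))⁻¹ • z) e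
      simp only [inv_smul_smul] at e'
      rw [← TCert.psi_neg hI, smul_smul, ← hI.add] at e'
      conv_rhs => rw [e']
      congr 2
      rw [Prod.ext_iff]
      simp only [Prod.fst_add, Prod.snd_add, Prod.fst_neg, Prod.snd_neg]
      constructor <;> omega

end Sound

end CfsgLib.Fi24Mult
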